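import Cfsg.Agent.Lib.Leech.PSU62.Checks
import Cfsg.Agent.Lib.Leech.Co2Simple
import Cfsg.Agent.Lib.Leech.MinCensus
import Cfsg.Agent.Lib.Leech.Census552

/-!
# The stabiliser of two minimal vectors of product `-16` is `PSU(6,2)`

* `nonempty_mulEquiv_psu62`
-/

set_option autoImplicit false

open scoped Matrix

namespace Cfsg.Agent.Leech

open MulAction StabCert

theorem exists_hom_psu62 {F : Type} [Field F] [Fintype F] (hF : Fintype.card F = 2 ^ 2) :
    ∃ φ : Quad 2 1 1 →+* F, ∀ z, φ (star z) = φ z ^ 2 := by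
  classical
  have : Fact (Nat.Prime 2) := ⟨by norm_num⟩
  have : CharP F 2 := charP_of_card_eq_prime_pow hF
  have h2 : (2 : F) = 0 := by exact_mod_cast CharP.cast_eq_zero F 2
  obtain ⟨ω, hω⟩ : ∃ ω : F, ω ∉ ({0, 1} : Finset F) := by
    by_contra h
    push Not at h
    have := Finset.card_le_card (s := Finset.univ) (fun x _ => h x)
    have h2' := Finset.card_le_two (a := (0 : F)) (b := 1)
    rw [Finset.card_univ, hF] at this
    omega
  simp only [Finset.mem_insert, Finset.mem_singleton, not_or] at hω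
  have h4 : ω ^ 4 = ω := by
    have := FiniteField.pow_card ω
    rw [hF] at this
    simpa using this
  have h3 : ω * (ω - 1) * (ω ^ 2 + ω + 1) = 0 := by linear_combination h4
  have hq : ω ^ 2 + ω + 1 = 0 :=
    (mul_eq_zero.1 h3).resolve_left (mul_ne_zero hω.1 (sub_ne_zero.2 hω.2))
  refine Quad.exists_hom hF ω ?_ ?_
  · push_cast
    linear_combination hq - (ω + 1) * h2
  · push_cast
    linear_combination hq - h2

theorem co2_orbit_neg : {y | ∃ a ∈ co2Group, a • baseW = y} =
    {y : leechLattice | sqNorm (y : GolayPt → ℤ) = 32 ∧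
      dotInt (baseU : GolayPt → ℤ) (y : GolayPt → ℤ) = -16} := by
  have hW : sqNorm (baseW : GolayPt → ℤ) = 32 := by decide +kernel
  have hUW : dotInt (baseU : GolayPt → ℤ) (baseW : GolayPt → ℤ) = -16 := by decide +kernel
  ext y
  constructor
  · rintro ⟨a, ha, rfl⟩
    refine ⟨by rw [sqNorm_smul]; exact hW, ?_⟩
    rw [dotInt_comm, dotInt_smul_of_eq (co2_fix ha), dotInt_comm]
    exact hUW
  · rintro ⟨a, b⟩
    obtain ⟨g, g1, g2⟩ := exists_normal_two sqNorm_baseU a b
    exact ⟨g⁻¹, mem_stabilizer_iff.2 (inv_smul_eq_iff.2 g1.symm), inv_smul_eq_iff.2 g2.symm⟩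

theorem natCard_co2PairStab :
    Nat.card (co2Group ⊓ stabilizer Co0 baseW : Subgroup Co0) = 9196830720 := by
  have h := ncard_orbit_mul co2Group baseW
  rw [co2_orbit_neg,
    ncard_subtype (fun x => sqNorm x = 32 ∧ dotInt (baseU : GolayPt → ℤ) x = -16),
    cnt_eq_ncard, (min_census baseU.2 sqNorm_baseU).1, natCard_co2Group] at h
  omega

/-- The isomorphism. -/
theorem nonempty_mulEquiv_psu62 {F : Type} [Field F] [Fintype F] (hF : Fintype.card F = 4) :
    Nonempty ((co2Group ⊓ stabilizer Co0 baseW : Subgroup Co0) ≃* Cfsg.PSU 6 F 2) := by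
  have hF' : Fintype.card F = 2 ^ 2 := hF.trans (by norm_num)
  obtain ⟨φ, hφ⟩ := exists_hom_psu62 hF'
  refine PSUData.nonempty_mulEquiv (D := PSU62.data) hF' φ hφ PSU62.data_ok
    (Or.inl (by norm_num)) (Quad.hom_injective (by decide +kernel) φ) _ ?_ ?_ ?_
  · intro g hg
    have e : ∀ i < 893, ((PSU62.data.leftV i : leechLattice) : GolayPt → ℤ) =
        vOf (PSU62.data.left i) := fun i hi => (PSUData.leftV_val PSU62.data_ok hi).1
    have e0 : PSU62.data.leftV 0 = baseW := Subtype.ext ((e 0 (by norm_num)).trans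
      (by decide +kernel))
    have e1 : PSU62.data.leftV 871 = baseU := Subtype.ext ((e 871 (by norm_num)).trans
      (by decide +kernel))
    refine ⟨?_, ?_⟩
    · exact mem_stabilizer_iff.2 (e1 ▸ hg 871 (by decide +kernel))
    · exact mem_stabilizer_iff.2 (e0 ▸ hg 0 (by decide +kernel))
  · rw [natCard_co2PairStab]
    decide +kernel
  · have h := Unitary.card_PSU (n := 6) hF' (by norm_num)
    have e : (PSU62.data.chain.map fun L => L.words.length).prod = 9196830720 := by decide +kernel
    rw [e]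
    simp [Finset.prod_range_succ, Nat.even_iff] at h
    omega

end Cfsg.Agent.Leech
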