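import Cfsg.Agent.Lib.Leech.PSU62.Data

/-!
# The checks of the certificate: a stabiliser of order 9196830720 in Co2 and PSU(6,2)
-/

set_option autoImplicit false
set_option maxRecDepth 100000
set_option Elab.async false

namespace Cfsg.Agent.Leech.PSU62

theorem gen_ok0 : data.genOKk 0 = true := by decide +kernel

theorem gen_ok1 : data.genOKk 1 = true := by decide +kernel

theorem gen_ok2 : data.genOKk 2 = true := by decide +kernel

theorem gen_ok3 : data.genOKk 3 = true := by decide +kernel

theorem gen_ok4 : data.genOKk 4 = true := by decide +kernel

theorem gen_ok5 : data.genOKk 5 = true := by decide +kernel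

theorem gen_ok6 : data.genOKk 6 = true := by decide +kernel

theorem lefts_ok : data.leftsOK = true := by decide +kernel

theorem rights_ok : data.rightsOK = true := by decide +kernel

theorem ltab_ok0 : data.leftTabOK 0 = true := by decide +kernel

theorem ltab_ok1 : data.leftTabOK 1 = true := by decide +kernel

theorem ltab_ok2 : data.leftTabOK 2 = true := by decide +kernel

theorem ltab_ok3 : data.leftTabOK 3 = true := by decide +kernel

theorem ltab_ok4 : data.leftTabOK 4 = true := by decide +kernel

theorem ltab_ok5 : data.leftTabOK 5 = true := by decide +kernel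

theorem ltab_ok6 : data.leftTabOK 6 = true := by decide +kernel

theorem rtab_ok0 : data.rightTabOK 0 = true := by decide +kernel

theorem rtab_ok1 : data.rightTabOK 1 = true := by decide +kernel

theorem rtab_ok2 : data.rightTabOK 2 = true := by decide +kernel

theorem rtab_ok3 : data.rightTabOK 3 = true := by decide +kernel

theorem rtab_ok4 : data.rightTabOK 4 = true := by decide +kernel

theorem rtab_ok5 : data.rightTabOK 5 = true := by decide +kernel

theorem rtab_ok6 : data.rightTabOK 6 = true := by decide +kernel

theorem rel_ok0 : data.relationTab 0 = true := by decide +kernel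

theorem rel_ok1 : data.relationTab 1 = true := by decide +kernel

theorem rel_ok2 : data.relationTab 2 = true := by decide +kernel

theorem rel_ok3 : data.relationTab 3 = true := by decide +kernel

theorem rel_ok4 : data.relationTab 4 = true := by decide +kernel

theorem rel_ok5 : data.relationTab 5 = true := by decide +kernel

theorem rel_ok6 : data.relationTab 6 = true := by decide +kernel

theorem relBase_ok : data.relationBase = true := by decide +kernel

theorem base_ok : data.baseOK = true := by decide +kernel

theorem lev_ok0 : StabCert.levOK data.w (data.dL + data.dR) data.m data.tab data.cmp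
    (StabCert.nextGens [lev1, lev2, lev3, lev4]) lev0 = true := by decide +kernel

theorem lev_ok1 : StabCert.levOK data.w (data.dL + data.dR) data.m data.tab data.cmp
    (StabCert.nextGens [lev2, lev3, lev4]) lev1 = true := by decide +kernel

theorem lev_ok2 : StabCert.levOK data.w (data.dL + data.dR) data.m data.tab data.cmp
    (StabCert.nextGens [lev3, lev4]) lev2 = true := by decide +kernel

theorem lev_ok3 : StabCert.levOK data.w (data.dL + data.dR) data.m data.tab data.cmp
    (StabCert.nextGens [lev4]) lev3 = true := by decide +kernel

theorem lev_ok4 : StabCert.levOK data.w (data.dL + data.dR) data.m data.tab data.cmp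
    (StabCert.nextGens []) lev4 = true := by decide +kernel

theorem chain_ok :
    StabCert.chainOK data.w (data.dL + data.dR) data.m data.tab data.cmp data.chain = true := by
  show StabCert.chainOK data.w (data.dL + data.dR) data.m data.tab data.cmp
    [lev0, lev1, lev2, lev3, lev4] = true
  simp only [StabCert.chainOK, Bool.and_eq_true, lev_ok0, lev_ok1, lev_ok2, lev_ok3, lev_ok4,
    and_self]

theorem m_eq : data.m = 7 := by decide +kernel

theorem data_ok : data.OK where
  gens k hk := by
    rw [m_eq] at hk
    interval_cases k
    exacts [gen_ok0, gen_ok1, gen_ok2, gen_ok3, gen_ok4, gen_ok5, gen_ok6]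
  lefts := lefts_ok
  rights := rights_ok
  ltab k hk := by
    rw [m_eq] at hk
    interval_cases k
    exacts [ltab_ok0, ltab_ok1, ltab_ok2, ltab_ok3, ltab_ok4, ltab_ok5, ltab_ok6]
  rtab k hk := by
    rw [m_eq] at hk
    interval_cases k
    exacts [rtab_ok0, rtab_ok1, rtab_ok2, rtab_ok3, rtab_ok4, rtab_ok5, rtab_ok6]
  base := base_ok
  chain := chain_ok
  rel := Or.inr ⟨relBase_ok, fun k hk => by
    rw [m_eq] at hk
    interval_cases k
    exacts [rel_ok0, rel_ok1, rel_ok2, rel_ok3, rel_ok4, rel_ok5, rel_ok6]⟩

end Cfsg.Agent.Leech.PSU62
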