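import Cfsg.Agent.Lib.Leech.PSUCert

/-!
# Certificate data: a stabiliser of order 9196830720 in Co2 and PSU(6,2)
-/

set_option autoImplicit false
set_option maxRecDepth 10000
set_option maxHeartbeats 1000000

namespace Cfsg.Agent.Leech.PSU62

/-- The matrices, times eight. -/
noncomputable def mats : List (List (List ℤ)) :=
  [[[ep6, em2, em2, ep0, ep2, ep0, ep0, ep0, ep0, ep0, ep0, ep0, ep0, em2, ep0, ep0, em2, ep0, ep0, ep0, ep0, ep0, em2, ep2], [em2, ep6, em2, ep0, ep2, ep0, ep0, ep0, ep0, ep0, ep0, ep0, ep0, em2, ep0, ep0, em2, ep0, ep0, ep0, ep0, ep0, em2, ep2], [ep0, ep0, ep0, em2, ep0, ep2, em2, ep2, ep2, ep2, em2, ep2, em2, ep0, ep2, ep2, ep0, ep2, ep2, em2, ep2, em2, ep0, ep0], [ep0, ep0, ep0, ep2, ep0, em2, ep2, ep2, ep2, ep2, em2, ep2, ep2, ep0, ep2, em2, ep0, ep2, em2, em2, em2, ep2, ep0, ep0], [ep0, ep0, ep0, ep2, ep0, em2, em2, ep2, ep2, em2, ep2, ep2, em2, ep0, em2, em2, ep0, em2, ep2, em2, em2, em2, ep0, ep0], [ep0, ep0, ep0, em2, ep0, em2, ep2, ep2, em2, em2, em2, ep2, em2, ep0, em2,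 ep2, ep0, ep2, em2, ep2, em2, em2, ep0, ep0], [ep2, ep2, ep2, ep0, em2, ep0, ep0, ep0, ep0, ep0, ep0, ep0, ep0, ep2, ep0, ep0, em6, ep0, ep0, ep0, ep0, ep0, ep2, em2], [ep0, ep0, ep0, em2, ep0, ep2, ep2, ep2, em2, ep2, em2, em2, em2, ep0, em2, em2, ep0, em2, ep2, em2, em2, ep2, ep0, ep0], [ep0, ep0, ep0, ep2, ep0, ep2, em2, ep2, ep2, ep2, ep2, em2, em2, ep0, em2, ep2, ep0, ep2, em2, ep2, em2, ep2, ep0, ep0], [ep0, ep0, ep0, em2, ep0, ep2, em2, em2, ep2, ep2, em2, ep2, ep2, ep0, em2, em2, ep0, em2, em2, ep2, em2, em2, ep0, ep0], [ep0, ep0, ep0, em2, ep0, em2, em2, em2, ep2, em2, em2, em2, ep2, ep0, em2, ep2, ep0, ep2, ep2, em2, em2, ep2, ep0, ep0], [ep2, ep2, ep2, ep0, ep6, ep0, ep0, ep0, ep0, ep0, ep0, ep0, ep0, ep2, ep0, ep0, ep2, ep0, ep0, ep0, ep0, ep0, ep2, em2], [ep0, ep0, ep0, em2, ep0, em2, em2, em2, em2, ep2, ep2, ep2, em2, ep0, em2, em2, ep0, ep2, em2, em2, ep2, ep2, ep0, ep0], [ep0, ep0, ep0, em2, ep0, ep2, ep2, em2, ep2, em2, ep2, ep2, em2, ep0, ep2, em2, ep0, ep2, ep2, ep2, em2, ep2, ep0,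 ep0], [ep2, ep2, ep2, ep0, em2, ep0, ep0, ep0, ep0, ep0, ep0, ep0, ep0, ep2, ep0, ep0, ep2, ep0, ep0, ep0, ep0, ep0, em6, em2], [ep2, ep2, ep2, ep0, em2, ep0, ep0, ep0, ep0, ep0, ep0, ep0, ep0, em6, ep0, ep0, ep2, ep0, ep0, ep0, ep0, ep0, ep2, em2], [ep2, ep2, em6, ep0, em2, ep0, ep0, ep0, ep0, ep0, ep0, ep0, ep0, ep2, ep0, ep0, ep2, ep0, ep0, ep0, ep0, ep0, ep2, em2], [ep0, ep0, ep0, ep2, ep0, ep2, em2, ep2, em2, em2, em2, ep2, ep2, ep0, em2, em2, ep0, ep2, ep2, ep2, ep2, ep2, ep0, ep0], [ep0, ep0, ep0, ep2, ep0, em2, em2, em2, em2, ep2, em2, em2, em2, ep0, ep2, em2, ep0, ep2, ep2, ep2, em2, em2, ep0, ep0], [ep0, ep0, ep0, em2, ep0, em2, ep2, ep2, ep2, ep2, ep2, em2, ep2, ep0, em2, em2, ep0, ep2, ep2, ep2, ep2, em2, ep0, ep0], [ep0, ep0, ep0, em2, ep0, em2, em2, ep2, ep2, em2, em2, em2, em2, ep0, ep2, em2, ep0, em2, em2, ep2, ep2, ep2, ep0, ep0], [ep0, ep0, ep0, em2, ep0, em2, em2, ep2, em2, ep2, ep2, ep2, ep2, ep0, ep2, ep2, ep0, em2, ep2, ep2, em2, ep2, ep0, ep0], [ep0, ep0, ep0, ep2, ep0, em2,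 ep2, em2, ep2, ep2, em2, ep2, em2, ep0, em2, ep2, ep0, em2, ep2, ep2, ep2, ep2, ep0, ep0], [ep2, ep2, ep2, ep0, em2, ep0, ep0, ep0, ep0, ep0, ep0, ep0, ep0, ep2, ep0, ep0, ep2, ep0, ep0, ep0, ep0, ep0, ep2, ep6]],
   [[ep5, em3, ep1, ep1, em1, ep1, ep1, ep1, ep1, em1, em1, em1, ep1, ep1, ep1, ep1, ep1, em1, ep1, ep1, em1, em1, ep1, ep3], [em3, ep5, ep1, ep1, em1, ep1, ep1, ep1, ep1, em1, em1, em1, ep1, ep1, ep1, ep1, ep1, em1, ep1, ep1, em1, em1, ep1, ep3], [ep1, ep1, ep1, ep1, em1, em3, ep1, ep1, ep1, ep3, em1, ep3, ep1, em3, ep1, ep1, ep1, em1, ep1, ep1, em1, ep3, ep1, em1], [em1, em1, em1, em1, ep1, em1, em1, ep3, em1, ep1, em3, em3, em1, em1, em1, em1, em1, em3, em1, em1, ep1, ep1, ep3, ep1], [em1, em1, em1, ep3, ep1, em1, em1, em1, em1, ep1, ep1, ep1, ep3, em1, em1, ep3, em1, ep1, em1, em1, ep1, em3, ep3, ep1], [ep1, ep1, ep1, ep1, em1, ep1, em3, ep1, ep1, em1, em1, ep3, ep1, ep1, em3, em3, em3, em1, ep1, ep1, em1, em1, ep1, em1], [em1, em1, em1, ep3, ep1, em1, ep3, em1, ep3, ep1, em3, ep1, em1,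 ep3, em1, em1, em1, ep1, em1, em1, ep1, ep1, em1, ep1], [ep1, ep1, ep1, ep1, em1, ep1, ep1, ep1, ep1, em1, em1, em1, ep1, em3, ep1, em3, ep1, ep3, em3, em3, em1, em1, ep1, em1], [em1, em1, ep3, em1, ep1, em1, em1, em1, em1, em3, em3, ep1, em1, em1, em1, ep3, em1, ep1, em1, em1, em3, ep1, em1, ep1], [em1, em1, ep3, ep3, ep1, ep3, em1, em1, em1, ep1, ep1, ep1, em1, em1, ep3, em1, em1, em3, em1, em1, ep1, ep1, em1, ep1], [ep1, ep1, ep1, ep1, em1, em3, ep1, ep1, ep1, em1, ep3, em1, em3, ep1, ep1, ep1, em3, em1, ep1, em3, em1, em1, ep1, em1], [em1, em1, em1, em1, ep1, em1, em1, em1, ep3, em3, ep1, ep1, em1, em1, ep3, em1, em1, ep1, em1, ep3, ep1, ep1, ep3, ep1], [ep1, ep1, ep1, em3, em1, ep1, ep1, em3, ep1, ep3, em1, em1, ep1, ep1, ep1, ep1, em3, em1, em3, ep1, em1, em1, ep1, em1], [ep1, ep1, ep1, ep1, ep3, ep1, ep1, ep1, ep1, em1, ep3, em1, ep1, ep1, em3, ep1, ep1, em1, em3, ep1, em1, ep3, ep1, em1], [ep1, ep1, em3, ep1, em1, ep1, ep1, ep1, em3, em1, em1, ep3, em3, ep1, ep1, ep1, ep1, em1, em3, ep1, em1,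 em1, ep1, em1], [em1, em1, em1, em1, em3, ep3, em1, ep3, ep3, ep1, ep1, ep1, em1, em1, em1, ep3, em1, ep1, em1, em1, ep1, ep1, em1, ep1], [ep1, ep1, ep1, ep1, em1, ep1, ep1, ep1, em3, em1, em1, em1, ep1, ep1, ep1, ep1, em3, ep3, ep1, ep1, ep3, ep3, ep1, em1], [ep1, ep1, ep1, em3, ep3, ep1, ep1, ep1, ep1, em1, em1, ep3, ep1, ep1, ep1, ep1, ep1, em1, ep1, em3, ep3, em1, ep1, em1], [em1, em1, em1, em1, em3, em1, ep3, em1, em1, em3, ep1, ep1, ep3, em1, em1, em1, em1, em3, em1, em1, ep1, ep1, em1, ep1], [em1, em1, ep3, em1, em3, em1, em1, em1, em1, ep1, ep1, ep1, em1, ep3, em1, em1, ep3, ep1, em1, em1, ep1, ep1, ep3, ep1], [em1, em1, em1, em1, ep1, ep3, ep3, em1, em1, ep1, ep1, ep1, em1, em1, em1, em1, em1, ep1, ep3, em1, em3, ep1, ep3, ep1], [em1, em1, em1, em1, ep1, em1, em1, ep3, em1, ep1, ep1, ep1, ep3, ep3, ep3, em1, em1, ep1, em1, em1, em3, ep1, em1, ep1], [ep1, ep1, em3, ep1, em1, ep1, em3, em3, ep1, em1, em1, em1, ep1, ep1, ep1, ep1, ep1, em1, ep1, em3, em1, ep3, ep1, em1], [ep3, ep3, em1, em1,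 ep1, em1, em1, em1, em1, ep1, ep1, ep1, em1, em1, em1, em1, em1, ep1, em1, em1, ep1, ep1, em1, ep5]],
   [[ep6, em2, ep0, ep0, ep0, em2, ep0, ep0, ep0, ep2, ep0, em2, ep0, em2, ep0, ep0, ep0, ep0, ep0, ep0, ep0, em2, ep0, ep2], [em2, ep6, ep0, ep0, ep0, em2, ep0, ep0, ep0, ep2, ep0, em2, ep0, em2, ep0, ep0, ep0, ep0, ep0, ep0, ep0, em2, ep0, ep2], [ep0, ep0, ep2, ep2, ep2, ep0, em2, em2, ep2, ep0, ep2, ep0, em2, ep0, em2, ep2, em2, ep2, ep2, em2, ep2, ep0, ep2, ep0], [ep0, ep0, em2, ep2, em2, ep0, em2, em2, ep2, ep0, ep2, ep0, em2, ep0, em2, em2, ep2, em2, em2, ep2, ep2, ep0, em2, ep0], [ep0, ep0, ep2, ep2, ep2, ep0, ep2, ep2, ep2, ep0, em2, ep0, em2, ep0, ep2, em2, ep2, em2, ep2, em2, ep2, ep0, em2, ep0], [ep0, ep0, em2, ep2, em2, ep0, em2, ep2, ep2, ep0, ep2, ep0, ep2, ep0, ep2, ep2, ep2, ep2, ep2, em2, em2, ep0, em2, ep0], [ep0, ep0, ep2, ep2, em2, ep0, ep2, em2, em2, ep0, ep2, ep0, ep2, ep0, ep2, ep2, em2, em2, ep2, ep2, ep2, ep0, em2, ep0], [ep2, ep2, ep0, ep0, ep0, ep2, ep0, ep0, ep0, ep6, ep0,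 ep2, ep0, ep2, ep0, ep0, ep0, ep0, ep0, ep0, ep0, ep2, ep0, em2], [ep0, ep0, ep2, ep2, em2, ep0, em2, ep2, em2, ep0, em2, ep0, ep2, ep0, em2, em2, ep2, ep2, ep2, ep2, ep2, ep0, ep2, ep0], [ep0, ep0, em2, em2, ep2, ep0, ep2, ep2, ep2, ep0, ep2, ep0, ep2, ep0, em2, em2, em2, ep2, ep2, ep2, ep2, ep0, em2, ep0], [ep0, ep0, ep2, em2, ep2, ep0, em2, em2, em2, ep0, ep2, ep0, ep2, ep0, em2, em2, ep2, em2, ep2, em2, em2, ep0, em2, ep0], [ep0, ep0, ep2, ep2, em2, ep0, ep2, ep2, em2, ep0, ep2, ep0, em2, ep0, em2, em2, em2, ep2, em2, em2, em2, ep0, em2, ep0], [em2, em2, ep0, ep0, ep0, ep6, ep0, ep0, ep0, ep2, ep0, em2, ep0, em2, ep0, ep0, ep0, ep0, ep0, ep0, ep0, em2, ep0, ep2], [em2, em2, ep0, ep0, ep0, em2, ep0, ep0, ep0, ep2, ep0, ep6, ep0, em2, ep0, ep0, ep0, ep0, ep0, ep0, ep0, em2, ep0, ep2], [ep2, ep2, ep0, ep0, ep0, ep2, ep0, ep0, ep0, em2, ep0, ep2, ep0, em6, ep0, ep0, ep0, ep0, ep0, ep0, ep0, ep2, ep0, em2], [ep0, ep0, em2, ep2, ep2, ep0, ep2, ep2, em2, ep0, ep2, ep0, em2, ep0, em2, ep2, ep2, em2, ep2,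 ep2, em2, ep0, ep2, ep0], [ep0, ep0, em2, ep2, ep2, ep0, ep2, em2, em2, ep0, ep2, ep0, ep2, ep0, ep2, em2, ep2, ep2, em2, em2, ep2, ep0, ep2, ep0], [ep0, ep0, ep2, ep2, ep2, ep0, em2, ep2, ep2, ep0, ep2, ep0, ep2, ep0, ep2, em2, em2, em2, em2, ep2, em2, ep0, ep2, ep0], [ep0, ep0, em2, em2, em2, ep0, em2, ep2, em2, ep0, ep2, ep0, em2, ep0, ep2, em2, em2, em2, ep2, em2, ep2, ep0, ep2, ep0], [ep0, ep0, em2, ep2, ep2, ep0, em2, em2, em2, ep0, em2, ep0, em2, ep0, ep2, em2, em2, ep2, ep2, ep2, em2, ep0, em2, ep0], [ep2, ep2, ep0, ep0, ep0, ep2, ep0, ep0, ep0, em2, ep0, ep2, ep0, ep2, ep0, ep0, ep0, ep0, ep0, ep0, ep0, em6, ep0, em2], [ep0, ep0, em2, ep2, em2, ep0, ep2, em2, ep2, ep0, em2, ep0, ep2, ep0, em2, em2, em2, em2, ep2, em2, em2, ep0, ep2, ep0], [ep0, ep0, ep2, em2, em2, ep0, ep2, em2, ep2, ep0, ep2, ep0, em2, ep0, ep2, em2, ep2, ep2, ep2, ep2, em2, ep0, ep2, ep0], [ep2, ep2, ep0, ep0, ep0, ep2, ep0, ep0, ep0, em2, ep0, ep2, ep0, ep2, ep0, ep0, ep0, ep0, ep0, ep0, ep0, ep2, ep0, ep6]],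
   [[ep6, em2, ep0, em2, ep0, ep0, ep0, ep0, ep0, ep0, ep0, ep0, em2, ep0, ep0, ep2, ep0, ep0, ep0, ep0, ep0, ep2, ep2, ep2], [em2, ep6, ep0, em2, ep0, ep0, ep0, ep0, ep0, ep0, ep0, ep0, em2, ep0, ep0, ep2, ep0, ep0, ep0, ep0, ep0, ep2, ep2, ep2], [ep0, ep0, ep2, ep0, em2, em2, ep2, ep2, ep2, em2, em2, ep2, ep0, ep2, em2, ep0, em2, em2, em2, ep2, ep2, ep0, ep0, ep0], [em2, em2, ep0, ep6, ep0, ep0, ep0, ep0, ep0, ep0, ep0, ep0, em2, ep0, ep0, ep2, ep0, ep0, ep0, ep0, ep0, ep2, ep2, ep2], [ep0, ep0, ep2, ep0, ep2, ep2, em2, ep2, ep2, ep2, ep2, ep2, ep0, ep2, em2, ep0, ep2, ep2, em2, em2, ep2, ep0, ep0, ep0], [ep0, ep0, em2, ep0, em2, ep2, em2, ep2, em2, em2, ep2, ep2, ep0, em2, ep2, ep0, em2, ep2, em2, ep2, ep2, ep0, ep0, ep0], [ep0, ep0, em2, ep0, ep2, ep2, ep2, em2, em2, ep2, ep2, ep2, ep0, ep2, em2, ep0, em2, em2, em2, ep2, em2, ep0, ep0, ep0], [ep0, ep0, em2, ep0, em2, em2, ep2, ep2, ep2, ep2, ep2, ep2, ep0, em2, em2, ep0, em2, ep2, ep2, em2, em2, ep0, ep0, ep0], [ep0, ep0, em2, ep0, em2, ep2, em2,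 em2, ep2, ep2, em2, em2, ep0, em2, em2, ep0, em2, em2, em2, em2, ep2, ep0, ep0, ep0], [ep0, ep0, ep2, ep0, em2, ep2, em2, ep2, em2, ep2, em2, ep2, ep0, ep2, ep2, ep0, em2, em2, ep2, em2, em2, ep0, ep0, ep0], [ep0, ep0, ep2, ep0, em2, em2, ep2, em2, em2, ep2, ep2, em2, ep0, ep2, ep2, ep0, em2, ep2, em2, em2, ep2, ep0, ep0, ep0], [ep0, ep0, em2, ep0, ep2, em2, em2, em2, ep2, em2, ep2, ep2, ep0, ep2, ep2, ep0, em2, em2, ep2, em2, ep2, ep0, ep0, ep0], [ep2, ep2, ep0, ep2, ep0, ep0, ep0, ep0, ep0, ep0, ep0, ep0, ep2, ep0, ep0, em2, ep0, ep0, ep0, ep0, ep0, ep6, em2, em2], [ep0, ep0, em2, ep0, em2, ep2, ep2, ep2, em2, em2, ep2, em2, ep0, ep2, em2, ep0, ep2, em2, ep2, em2, ep2, ep0, ep0, ep0], [ep0, ep0, em2, ep0, ep2, ep2, ep2, ep2, ep2, em2, em2, em2, ep0, ep2, ep2, ep0, em2, ep2, em2, em2, em2, ep0, ep0, ep0], [em2, em2, ep0, em2, ep0, ep0, ep0, ep0, ep0, ep0, ep0, ep0, em2, ep0, ep0, ep2, ep0, ep0, ep0, ep0, ep0, ep2, em6, ep2], [ep0, ep0, ep2, ep0, em2, ep2, ep2, em2, ep2, em2, ep2, ep2, ep0, em2, ep2,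 ep0, ep2, em2, em2, em2, em2, ep0, ep0, ep0], [ep0, ep0, em2, ep0, em2, ep2, ep2, em2, ep2, ep2, em2, ep2, ep0, ep2, ep2, ep0, ep2, ep2, ep2, ep2, ep2, ep0, ep0, ep0], [ep0, ep0, ep2, ep0, ep2, ep2, ep2, ep2, ep2, ep2, ep2, em2, ep0, em2, ep2, ep0, em2, em2, ep2, ep2, ep2, ep0, ep0, ep0], [ep0, ep0, em2, ep0, em2, em2, em2, ep2, ep2, ep2, ep2, em2, ep0, ep2, ep2, ep0, ep2, em2, em2, ep2, em2, ep0, ep0, ep0], [ep0, ep0, em2, ep0, ep2, em2, ep2, ep2, em2, ep2, em2, ep2, ep0, em2, ep2, ep0, ep2, em2, em2, em2, ep2, ep0, ep0, ep0], [em2, em2, ep0, em2, ep0, ep0, ep0, ep0, ep0, ep0, ep0, ep0, em2, ep0, ep0, em6, ep0, ep0, ep0, ep0, ep0, ep2, ep2, ep2], [em2, em2, ep0, em2, ep0, ep0, ep0, ep0, ep0, ep0, ep0, ep0, ep6, ep0, ep0, ep2, ep0, ep0, ep0, ep0, ep0, ep2, ep2, ep2], [ep2, ep2, ep0, ep2, ep0, ep0, ep0, ep0, ep0, ep0, ep0, ep0, ep2, ep0, ep0, em2, ep0, ep0, ep0, ep0, ep0, em2, em2, ep6]],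
   [[ep5, em3, em1, ep1, ep1, em1, ep1, em1, em1, em1, ep1, em1, ep1, ep1, em1, ep1, em1, ep1, ep1, em1, em1, ep1, em1, ep3], [em3, ep5, em1, ep1, ep1, em1, ep1, em1, em1, em1, ep1, em1, ep1, ep1, em1, ep1, em1, ep1, ep1, em1, em1, ep1, em1, ep3], [ep1, ep1, em1, ep1, ep1, ep3, ep1, em1, em1, em1, em3, em1, em3, ep1, em1, ep1, ep3, ep1, ep1, ep3, em1, ep1, em1, em1], [ep1, ep1, em1, em3, ep1, em1, em3, em1, ep3, em1, em3, em1, ep1, em3, em1, ep1, em1, ep1, ep1, em1, em1, ep1, em1, em1], [ep1, ep1, em1, ep1, em3, ep3, ep1, ep3, ep3, em1, ep1, em1, ep1, ep1, em1, em3, em1, ep1, ep1, em1, em1, ep1, em1, em1], [ep1, ep1, em1, ep1, ep1, em1, ep1, ep3, em1, em1, em3, ep3, ep1, ep1, em1, ep1, em1, em3, ep1, em1, em1, ep1, ep3, em1], [ep1, ep1, em1, em3, em3, em1, ep1, em1, em1, em1, ep1, ep3, ep1, ep1, em1, ep1, em1, ep1, ep1, ep3, ep3, ep1, em1, em1], [em1, em1, em3, em1, em1, ep1, ep3, em3, ep1, ep1, em1, ep1, em1, em1, ep1, em1, ep1, em1, em1, em3, ep1, ep3, ep1, ep1], [em1, em1, ep1, ep3, em1, ep1, em1,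 em3, ep1, em3, em1, ep1, em1, em1, ep1, em1, em3, em1, ep3, ep1, ep1, em1, ep1, ep1], [em1, em1, ep1, em1, ep3, ep1, ep3, ep1, ep1, em3, em1, ep1, ep3, em1, ep1, em1, ep1, ep3, em1, ep1, ep1, em1, ep1, ep1], [ep1, ep1, em1, em3, ep1, em1, ep1, em1, em1, em1, ep1, em1, em3, ep1, em1, em3, em1, ep1, ep1, em1, em1, em3, ep3, em1], [em1, em1, ep1, em1, em1, ep1, em1, ep1, em3, ep1, em1, ep1, em1, em1, ep1, em1, em3, ep3, em1, ep1, em3, ep3, ep1, ep1], [em1, em1, em3, em1, ep3, ep1, em1, ep1, ep1, ep1, em1, ep1, em1, ep3, ep1, em1, em3, em1, em1, ep1, ep1, em1, em3, ep1], [ep1, ep1, ep3, em3, ep1, ep3, ep1, em1, em1, em1, ep1, em1, ep1, ep1, ep3, ep1, em1, em3, ep1, em1, em1, ep1, em1, em1], [ep1, ep1, ep3, ep1, ep1, em1, ep1, em1, em1, ep3, em3, em1, ep1, ep1, em1, em3, em1, ep1, ep1, em1, ep3, ep1, em1, em1], [em1, em1, ep1, em1, em1, ep1, em1, em3, ep1, ep1, em1, ep1, ep3, ep3, em3, em1, ep1, em1, em1, ep1, em3, em1, ep1, ep1], [em1, em1, ep1, em1, em1, em3, ep3, ep1, ep1, ep1, em1, ep1, em1, em1, ep1,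 em1, ep1, em1, ep3, ep1, em3, em1, em3, ep1], [em1, em1, ep1, em1, ep3, ep1, em1, ep1, ep1, ep1, ep3, ep1, em1, em1, em3, em1, ep1, em1, ep3, ep1, ep1, ep3, ep1, ep1], [ep1, ep1, em1, ep1, ep1, em1, em3, em1, em1, em1, ep1, ep3, ep1, ep1, ep3, em3, ep3, ep1, ep1, em1, em1, ep1, em1, em1], [em1, em1, ep1, em1, em1, ep1, em1, ep1, em3, em3, em1, ep1, em1, em1, em3, em1, ep1, em1, em1, em3, ep1, em1, em3, ep1], [em1, em1, em3, em1, em1, ep1, em1, ep1, em3, ep1, em1, em3, ep3, em1, ep1, em1, ep1, em1, ep3, ep1, ep1, em1, ep1, ep1], [em1, em1, ep1, em1, em1, ep1, em1, ep1, ep1, ep1, em1, ep1, em1, ep3, ep1, ep3, ep1, ep3, ep3, em3, ep1, em1, ep1, ep1], [ep1, ep1, em1, ep1, ep1, ep3, ep1, em1, em1, ep3, ep1, ep3, ep1, em3, em1, ep1, em1, ep1, ep1, em1, em1, em3, em1, em1], [ep3, ep3, ep1, em1, em1, ep1, em1, ep1, ep1, ep1, em1, ep1, em1, em1, ep1, em1, ep1, em1, em1, ep1, ep1, em1, ep1, ep5]],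
   [[ep4, em4, ep0, ep0, ep0, ep0, ep0, ep0, ep0, ep0, ep0, ep0, ep0, ep0, ep0, ep0, ep0, ep0, ep4, ep0, ep0, ep0, ep0, ep4], [em4, ep4, ep0, ep0, ep0, ep0, ep0, ep0, ep0, ep0, ep0, ep0, ep0, ep0, ep0, ep0, ep0, ep0, ep4, ep0, ep0, ep0, ep0, ep4], [ep0, ep0, em4, ep0, ep0, ep0, ep0, ep0, em4, ep0, ep0, ep4, em4, ep0, ep0, ep0, ep0, ep0, ep0, ep0, ep0, ep0, ep0, ep0], [ep0, ep0, ep0, em4, ep0, ep0, ep0, em4, ep0, em4, ep0, ep0, ep0, ep0, ep0, ep0, ep4, ep0, ep0, ep0, ep0, ep0, ep0, ep0], [ep0, ep0, ep0, ep0, em4, ep0, ep0, ep0, ep0, ep0, ep4, ep0, ep0, ep0, em4, ep0, ep0, ep0, ep0, ep0, ep0, em4, ep0, ep0], [ep0, ep0, ep0, ep0, ep0, em4, em4, ep0, ep0, ep0, ep0, ep0, ep0, ep0, ep0, ep0, ep0, ep0, ep0, ep0, em4, ep0, ep4, ep0], [ep0, ep0, ep0, ep0, ep0, em4, em4, ep0, ep0, ep0, ep0, ep0, ep0, ep0, ep0, ep0, ep0, ep0, ep0, ep0, ep4, ep0, em4, ep0], [ep0, ep0, ep0, em4, ep0, ep0, ep0, em4, ep0, ep4, ep0, ep0, ep0, ep0, ep0, ep0, em4, ep0, ep0, ep0, ep0, ep0, ep0, ep0], [ep0, ep0, em4, ep0, ep0, ep0, ep0,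 ep0, em4, ep0, ep0, em4, ep4, ep0, ep0, ep0, ep0, ep0, ep0, ep0, ep0, ep0, ep0, ep0], [ep0, ep0, ep0, em4, ep0, ep0, ep0, ep4, ep0, em4, ep0, ep0, ep0, ep0, ep0, ep0, em4, ep0, ep0, ep0, ep0, ep0, ep0, ep0], [ep0, ep0, ep0, ep0, ep4, ep0, ep0, ep0, ep0, ep0, em4, ep0, ep0, ep0, em4, ep0, ep0, ep0, ep0, ep0, ep0, em4, ep0, ep0], [ep0, ep0, ep4, ep0, ep0, ep0, ep0, ep0, em4, ep0, ep0, em4, em4, ep0, ep0, ep0, ep0, ep0, ep0, ep0, ep0, ep0, ep0, ep0], [ep0, ep0, em4, ep0, ep0, ep0, ep0, ep0, ep4, ep0, ep0, em4, em4, ep0, ep0, ep0, ep0, ep0, ep0, ep0, ep0, ep0, ep0, ep0], [ep0, ep0, ep0, ep0, ep0, ep0, ep0, ep0, ep0, ep0, ep0, ep0, ep0, em4, ep0, ep4, ep0, em4, ep0, em4, ep0, ep0, ep0, ep0], [ep0, ep0, ep0, ep0, em4, ep0, ep0, ep0, ep0, ep0, em4, ep0, ep0, ep0, em4, ep0, ep0, ep0, ep0, ep0, ep0, ep4, ep0, ep0], [ep0, ep0, ep0, ep0, ep0, ep0, ep0, ep0, ep0, ep0, ep0, ep0, ep0, ep4, ep0, em4, ep0, em4, ep0, em4, ep0, ep0, ep0, ep0], [ep0, ep0, ep0, ep4, ep0, ep0, ep0, em4, ep0, em4, ep0, ep0, ep0, ep0, ep0,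 ep0, em4, ep0, ep0, ep0, ep0, ep0, ep0, ep0], [ep0, ep0, ep0, ep0, ep0, ep0, ep0, ep0, ep0, ep0, ep0, ep0, ep0, em4, ep0, em4, ep0, em4, ep0, ep4, ep0, ep0, ep0, ep0], [ep4, ep4, ep0, ep0, ep0, ep0, ep0, ep0, ep0, ep0, ep0, ep0, ep0, ep0, ep0, ep0, ep0, ep0, ep4, ep0, ep0, ep0, ep0, em4], [ep0, ep0, ep0, ep0, ep0, ep0, ep0, ep0, ep0, ep0, ep0, ep0, ep0, em4, ep0, em4, ep0, ep4, ep0, em4, ep0, ep0, ep0, ep0], [ep0, ep0, ep0, ep0, ep0, em4, ep4, ep0, ep0, ep0, ep0, ep0, ep0, ep0, ep0, ep0, ep0, ep0, ep0, ep0, em4, ep0, em4, ep0], [ep0, ep0, ep0, ep0, em4, ep0, ep0, ep0, ep0, ep0, em4, ep0, ep0, ep0, ep4, ep0, ep0, ep0, ep0, ep0, ep0, em4, ep0, ep0], [ep0, ep0, ep0, ep0, ep0, ep4, em4, ep0, ep0, ep0, ep0, ep0, ep0, ep0, ep0, ep0, ep0, ep0, ep0, ep0, em4, ep0, em4, ep0], [ep4, ep4, ep0, ep0, ep0, ep0, ep0, ep0, ep0, ep0, ep0, ep0, ep0, ep0, ep0, ep0, ep0, ep0, em4, ep0, ep0, ep0, ep0, ep4]],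
   [[ep4, em4, ep0, ep0, ep0, ep0, ep0, ep0, ep0, ep0, ep0, em4, ep0, ep0, ep0, ep0, ep0, ep0, ep0, ep0, ep0, ep0, ep0, ep4], [em4, ep4, ep0, ep0, ep0, ep0, ep0, ep0, ep0, ep0, ep0, em4, ep0, ep0, ep0, ep0, ep0, ep0, ep0, ep0, ep0, ep0, ep0, ep4], [ep0, ep0, em4, ep0, ep0, ep0, ep0, ep0, ep4, ep0, ep0, ep0, em4, ep0, ep0, ep0, ep0, ep0, ep4, ep0, ep0, ep0, ep0, ep0], [ep0, ep0, ep0, em4, ep4, ep0, ep0, ep0, ep0, ep0, ep0, ep0, ep0, ep0, ep0, ep0, ep0, ep0, ep0, em4, ep4, ep0, ep0, ep0], [ep0, ep0, ep0, ep4, em4, ep0, ep0, ep0, ep0, ep0, ep0, ep0, ep0, ep0, ep0, ep0, ep0, ep0, ep0, em4, ep4, ep0, ep0, ep0], [ep0, ep0, ep0, ep0, ep0, em4, ep0, ep0, ep0, em4, ep0, ep0, ep0, ep4, ep0, ep0, ep0, ep0, ep0, ep0, ep0, ep4, ep0, ep0], [ep0, ep0, ep0, ep0, ep0, ep0, em4, ep0, ep0, ep0, ep0, ep0, ep0, ep0, ep4, em4, ep4, ep0, ep0, ep0, ep0, ep0, ep0, ep0], [ep0, ep0, ep0, ep0, ep0, ep0, ep0, em4, ep0, ep0, em4, ep0, ep0, ep0, ep0, ep0, ep0, em4, ep0, ep0, ep0, ep0, em4, ep0], [ep0, ep0, ep4, ep0, ep0, ep0, ep0,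 ep0, em4, ep0, ep0, ep0, em4, ep0, ep0, ep0, ep0, ep0, ep4, ep0, ep0, ep0, ep0, ep0], [ep0, ep0, ep0, ep0, ep0, em4, ep0, ep0, ep0, em4, ep0, ep0, ep0, em4, ep0, ep0, ep0, ep0, ep0, ep0, ep0, em4, ep0, ep0], [ep0, ep0, ep0, ep0, ep0, ep0, ep0, em4, ep0, ep0, em4, ep0, ep0, ep0, ep0, ep0, ep0, ep4, ep0, ep0, ep0, ep0, ep4, ep0], [em4, em4, ep0, ep0, ep0, ep0, ep0, ep0, ep0, ep0, ep0, ep4, ep0, ep0, ep0, ep0, ep0, ep0, ep0, ep0, ep0, ep0, ep0, ep4], [ep0, ep0, em4, ep0, ep0, ep0, ep0, ep0, em4, ep0, ep0, ep0, em4, ep0, ep0, ep0, ep0, ep0, em4, ep0, ep0, ep0, ep0, ep0], [ep0, ep0, ep0, ep0, ep0, ep4, ep0, ep0, ep0, em4, ep0, ep0, ep0, em4, ep0, ep0, ep0, ep0, ep0, ep0, ep0, ep4, ep0, ep0], [ep0, ep0, ep0, ep0, ep0, ep0, ep4, ep0, ep0, ep0, ep0, ep0, ep0, ep0, em4, em4, ep4, ep0, ep0, ep0, ep0, ep0, ep0, ep0], [ep0, ep0, ep0, ep0, ep0, ep0, em4, ep0, ep0, ep0, ep0, ep0, ep0, ep0, em4, em4, em4, ep0, ep0, ep0, ep0, ep0, ep0, ep0], [ep0, ep0, ep0, ep0, ep0, ep0, ep4, ep0, ep0, ep0, ep0, ep0, ep0, ep0, ep4,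 em4, em4, ep0, ep0, ep0, ep0, ep0, ep0, ep0], [ep0, ep0, ep0, ep0, ep0, ep0, ep0, em4, ep0, ep0, ep4, ep0, ep0, ep0, ep0, ep0, ep0, em4, ep0, ep0, ep0, ep0, ep4, ep0], [ep0, ep0, ep4, ep0, ep0, ep0, ep0, ep0, ep4, ep0, ep0, ep0, em4, ep0, ep0, ep0, ep0, ep0, em4, ep0, ep0, ep0, ep0, ep0], [ep0, ep0, ep0, em4, em4, ep0, ep0, ep0, ep0, ep0, ep0, ep0, ep0, ep0, ep0, ep0, ep0, ep0, ep0, em4, em4, ep0, ep0, ep0], [ep0, ep0, ep0, ep4, ep4, ep0, ep0, ep0, ep0, ep0, ep0, ep0, ep0, ep0, ep0, ep0, ep0, ep0, ep0, em4, em4, ep0, ep0, ep0], [ep0, ep0, ep0, ep0, ep0, ep4, ep0, ep0, ep0, em4, ep0, ep0, ep0, ep4, ep0, ep0, ep0, ep0, ep0, ep0, ep0, em4, ep0, ep0], [ep0, ep0, ep0, ep0, ep0, ep0, ep0, em4, ep0, ep0, ep4, ep0, ep0, ep0, ep0, ep0, ep0, ep4, ep0, ep0, ep0, ep0, em4, ep0], [ep4, ep4, ep0, ep0, ep0, ep0, ep0, ep0, ep0, ep0, ep0, ep4, ep0, ep0, ep0, ep0, ep0, ep0, ep0, ep0, ep0, ep0, ep0, ep4]]]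

/-- The transposed matrices. -/
noncomputable def matsT : List (List (List ℤ)) :=
  [[[ep6, em2, ep0, ep0, ep0, ep0, ep2, ep0, ep0, ep0, ep0, ep2, ep0, ep0, ep2, ep2, ep2, ep0, ep0, ep0, ep0, ep0, ep0, ep2], [em2, ep6, ep0, ep0, ep0, ep0, ep2, ep0, ep0, ep0, ep0, ep2, ep0, ep0, ep2, ep2, ep2, ep0, ep0, ep0, ep0, ep0, ep0, ep2], [em2, em2, ep0, ep0, ep0, ep0, ep2, ep0, ep0, ep0, ep0, ep2, ep0, ep0, ep2, ep2, em6, ep0, ep0, ep0, ep0, ep0, ep0, ep2], [ep0, ep0, em2, ep2, ep2, em2, ep0, em2, ep2, em2, em2, ep0, em2, em2, ep0, ep0, ep0, ep2, ep2, em2, em2, em2, ep2, ep0], [ep2, ep2, ep0, ep0, ep0, ep0, em2, ep0, ep0, ep0, ep0, ep6, ep0, ep0, em2, em2, em2, ep0, ep0, ep0, ep0, ep0, ep0, em2], [ep0, ep0, ep2, em2, em2, em2, ep0, ep2, ep2, ep2, em2, ep0, em2, ep2, ep0, ep0, ep0, ep2, em2, em2, em2, em2, em2, ep0], [ep0, ep0, em2, ep2, em2, ep2, ep0, ep2, em2, em2, em2, ep0, em2, ep2, ep0, ep0, ep0, em2, em2, ep2, em2, em2, ep2, ep0], [ep0, ep0, ep2, ep2, ep2, ep2, ep0, ep2, ep2, em2, em2, ep0, em2, em2, ep0,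 ep0, ep0, ep2, em2, ep2, ep2, ep2, em2, ep0], [ep0, ep0, ep2, ep2, ep2, em2, ep0, em2, ep2, ep2, ep2, ep0, em2, ep2, ep0, ep0, ep0, em2, em2, ep2, ep2, em2, ep2, ep0], [ep0, ep0, ep2, ep2, em2, em2, ep0, ep2, ep2, ep2, em2, ep0, ep2, em2, ep0, ep0, ep0, em2, ep2, ep2, em2, ep2, ep2, ep0], [ep0, ep0, em2, em2, ep2, em2, ep0, em2, ep2, em2, em2, ep0, ep2, ep2, ep0, ep0, ep0, em2, em2, ep2, em2, ep2, em2, ep0], [ep0, ep0, ep2, ep2, ep2, ep2, ep0, em2, em2, ep2, em2, ep0, ep2, ep2, ep0, ep0, ep0, ep2, em2, em2, em2, ep2, ep2, ep0], [ep0, ep0, em2, ep2, em2, em2, ep0, em2, em2, ep2, ep2, ep0, em2, em2, ep0, ep0, ep0, ep2, em2, ep2, em2, ep2, em2, ep0], [em2, em2, ep0, ep0, ep0, ep0, ep2, ep0, ep0, ep0, ep0, ep2, ep0, ep0, ep2, em6, ep2, ep0, ep0, ep0, ep0, ep0, ep0, ep2], [ep0, ep0, ep2, ep2, em2, em2, ep0, em2, em2, em2, em2, ep0, em2, ep2, ep0, ep0, ep0, em2, ep2, em2, ep2, ep2, em2, ep0], [ep0, ep0, ep2, em2, em2, ep2, ep0, em2, ep2, em2, ep2, ep0, em2, em2, ep0, ep0, ep0, em2, em2, em2, em2, ep2, ep2,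 ep0], [em2, em2, ep0, ep0, ep0, ep0, em6, ep0, ep0, ep0, ep0, ep2, ep0, ep0, ep2, ep2, ep2, ep0, ep0, ep0, ep0, ep0, ep0, ep2], [ep0, ep0, ep2, ep2, em2, ep2, ep0, em2, ep2, em2, ep2, ep0, ep2, ep2, ep0, ep0, ep0, ep2, ep2, ep2, em2, em2, em2, ep0], [ep0, ep0, ep2, em2, ep2, em2, ep0, ep2, em2, em2, ep2, ep0, em2, ep2, ep0, ep0, ep0, ep2, ep2, ep2, em2, ep2, ep2, ep0], [ep0, ep0, em2, em2, em2, ep2, ep0, em2, ep2, ep2, em2, ep0, em2, ep2, ep0, ep0, ep0, ep2, ep2, ep2, ep2, ep2, ep2, ep0], [ep0, ep0, ep2, em2, em2, em2, ep0, em2, em2, em2, em2, ep0, ep2, em2, ep0, ep0, ep0, ep2, em2, ep2, ep2, em2, ep2, ep0], [ep0, ep0, em2, ep2, em2, em2, ep0, ep2, ep2, em2, ep2, ep0, ep2, ep2, ep0, ep0, ep0, ep2, em2, em2, ep2, ep2, ep2, ep0], [em2, em2, ep0, ep0, ep0, ep0, ep2, ep0, ep0, ep0, ep0, ep2, ep0, ep0, em6, ep2, ep2, ep0, ep0, ep0, ep0, ep0, ep0, ep2], [ep2, ep2, ep0, ep0, ep0, ep0, em2, ep0, ep0, ep0, ep0, em2, ep0, ep0, em2, em2, em2, ep0, ep0, ep0, ep0, ep0, ep0, ep6]],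
   [[ep5, em3, ep1, em1, em1, ep1, em1, ep1, em1, em1, ep1, em1, ep1, ep1, ep1, em1, ep1, ep1, em1, em1, em1, em1, ep1, ep3], [em3, ep5, ep1, em1, em1, ep1, em1, ep1, em1, em1, ep1, em1, ep1, ep1, ep1, em1, ep1, ep1, em1, em1, em1, em1, ep1, ep3], [ep1, ep1, ep1, em1, em1, ep1, em1, ep1, ep3, ep3, ep1, em1, ep1, ep1, em3, em1, ep1, ep1, em1, ep3, em1, em1, em3, em1], [ep1, ep1, ep1, em1, ep3, ep1, ep3, ep1, em1, ep3, ep1, em1, em3, ep1, ep1, em1, ep1, em3, em1, em1, em1, em1, ep1, em1], [em1, em1, em1, ep1, ep1, em1, ep1, em1, ep1, ep1, em1, ep1, em1, ep3, em1, em3, em1, ep3, em3, em3, ep1, ep1, em1, ep1], [ep1, ep1, em3, em1, em1, ep1, em1, ep1, em1, ep3, em3, em1, ep1, ep1, ep1, ep3, ep1, ep1, em1, em1, ep3, em1, ep1, em1], [ep1, ep1, ep1, em1, em1, em3, ep3, ep1, em1, em1, ep1, em1, ep1, ep1, ep1, em1, ep1, ep1, ep3, em1, ep3, em1, em3, em1], [ep1, ep1, ep1, ep3, em1, ep1, em1, ep1, em1, em1, ep1, em1, em3, ep1, ep1, ep3, ep1, ep1, em1, em1, em1, ep3, em3, em1], [ep1, ep1, ep1, em1, em1, ep1, ep3,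 ep1, em1, em1, ep1, ep3, ep1, ep1, em3, ep3, em3, ep1, em1, em1, em1, em1, ep1, em1], [em1, em1, ep3, ep1, ep1, em1, ep1, em1, em3, ep1, em1, em3, ep3, em1, em1, ep1, em1, em1, em3, ep1, ep1, ep1, em1, ep1], [em1, em1, em1, em3, ep1, em1, em3, em1, em3, ep1, ep3, ep1, em1, ep3, em1, ep1, em1, em1, ep1, ep1, ep1, ep1, em1, ep1], [em1, em1, ep3, em3, ep1, ep3, ep1, em1, ep1, ep1, em1, ep1, em1, em1, ep3, ep1, em1, ep3, ep1, ep1, ep1, ep1, em1, ep1], [ep1, ep1, ep1, em1, ep3, ep1, em1, ep1, em1, em1, em3, em1, ep1, ep1, em3, em1, ep1, ep1, ep3, em1, em1, ep3, ep1, em1], [ep1, ep1, em3, em1, em1, ep1, ep3, em3, em1, em1, ep1, em1, ep1, ep1, ep1, em1, ep1, ep1, em1, ep3, em1, ep3, ep1, em1], [ep1, ep1, ep1, em1, em1, em3, em1, ep1, em1, ep3, ep1, ep3, ep1, em3, ep1, em1, ep1, ep1, em1, em1, em1, ep3, ep1, em1], [ep1, ep1, ep1, em1, ep3, em3, em1, em3, ep3, em1, ep1, em1, ep1, ep1, ep1, ep3, ep1, ep1, em1, em1, em1, em1, ep1, em1], [ep1, ep1, ep1, em1, em1, em3, em1, ep1, em1, em1, em3, em1, em3, ep1, ep1,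 em1, em3, ep1, em1, ep3, em1, em1, ep1, em1], [em1, em1, em1, em3, ep1, em1, ep1, ep3, ep1, em3, em1, ep1, em1, em1, em1, ep1, ep3, em1, em3, ep1, ep1, ep1, em1, ep1], [ep1, ep1, ep1, em1, em1, ep1, em1, em3, em1, em1, ep1, em1, em3, em3, em3, em1, ep1, ep1, em1, em1, ep3, em1, ep1, em1], [ep1, ep1, ep1, em1, em1, ep1, em1, em3, em1, em1, em3, ep3, ep1, ep1, ep1, em1, ep1, em3, em1, em1, em1, em1, em3, em1], [em1, em1, em1, ep1, ep1, em1, ep1, em1, em3, ep1, em1, ep1, em1, em1, em1, ep1, ep3, ep3, ep1, ep1, em3, em3, em1, ep1], [em1, em1, ep3, ep1, em3, em1, ep1, em1, ep1, ep1, em1, ep1, em1, ep3, em1, ep1, ep3, em1, ep1, ep1, ep1, ep1, ep3, ep1], [ep1, ep1, ep1, ep3, ep3, ep1, em1, ep1, em1, em1, ep1, ep3, ep1, ep1, ep1, em1, ep1, ep1, em1, ep3, ep3, em1, ep1, em1], [ep3, ep3, em1, ep1, ep1, em1, ep1, em1, ep1, ep1, em1, ep1, em1, em1, em1, ep1, em1, em1, ep1, ep1, ep1, ep1, em1, ep5]],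
   [[ep6, em2, ep0, ep0, ep0, ep0, ep0, ep2, ep0, ep0, ep0, ep0, em2, em2, ep2, ep0, ep0, ep0, ep0, ep0, ep2, ep0, ep0, ep2], [em2, ep6, ep0, ep0, ep0, ep0, ep0, ep2, ep0, ep0, ep0, ep0, em2, em2, ep2, ep0, ep0, ep0, ep0, ep0, ep2, ep0, ep0, ep2], [ep0, ep0, ep2, em2, ep2, em2, ep2, ep0, ep2, em2, ep2, ep2, ep0, ep0, ep0, em2, em2, ep2, em2, em2, ep0, em2, ep2, ep0], [ep0, ep0, ep2, ep2, ep2, ep2, ep2, ep0, ep2, em2, em2, ep2, ep0, ep0, ep0, ep2, ep2, ep2, em2, ep2, ep0, ep2, em2, ep0], [ep0, ep0, ep2, em2, ep2, em2, em2, ep0, em2, ep2, ep2, em2, ep0, ep0, ep0, ep2, ep2, ep2, em2, ep2, ep0, em2, em2, ep0], [em2, em2, ep0, ep0, ep0, ep0, ep0, ep2, ep0, ep0, ep0, ep0, ep6, em2, ep2, ep0, ep0, ep0, ep0, ep0, ep2, ep0, ep0, ep2], [ep0, ep0, em2, em2, ep2, em2, ep2, ep0, em2, ep2, em2, ep2, ep0, ep0, ep0, ep2, ep2, em2, em2, em2, ep0, ep2, ep2, ep0], [ep0, ep0, em2, em2, ep2, ep2, em2, ep0, ep2, ep2, em2, ep2, ep0, ep0, ep0, ep2, em2, ep2, ep2, em2, ep0, em2, em2, ep0], [ep0, ep0, ep2, ep2, ep2, ep2, em2,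 ep0, em2, ep2, em2, em2, ep0, ep0, ep0, em2, em2, ep2, em2, em2, ep0, ep2, ep2, ep0], [ep2, ep2, ep0, ep0, ep0, ep0, ep0, ep6, ep0, ep0, ep0, ep0, ep2, ep2, em2, ep0, ep0, ep0, ep0, ep0, em2, ep0, ep0, em2], [ep0, ep0, ep2, ep2, em2, ep2, ep2, ep0, em2, ep2, ep2, ep2, ep0, ep0, ep0, ep2, ep2, ep2, ep2, em2, ep0, em2, ep2, ep0], [em2, em2, ep0, ep0, ep0, ep0, ep0, ep2, ep0, ep0, ep0, ep0, em2, ep6, ep2, ep0, ep0, ep0, ep0, ep0, ep2, ep0, ep0, ep2], [ep0, ep0, em2, em2, em2, ep2, ep2, ep0, ep2, ep2, ep2, em2, ep0, ep0, ep0, em2, ep2, ep2, em2, em2, ep0, ep2, em2, ep0], [em2, em2, ep0, ep0, ep0, ep0, ep0, ep2, ep0, ep0, ep0, ep0, em2, em2, em6, ep0, ep0, ep0, ep0, ep0, ep2, ep0, ep0, ep2], [ep0, ep0, em2, em2, ep2, ep2, ep2, ep0, em2, em2, em2, em2, ep0, ep0, ep0, em2, ep2, ep2, ep2, ep2, ep0, em2, ep2, ep0], [ep0, ep0, ep2, em2, em2, ep2, ep2, ep0, em2, em2, em2, em2, ep0, ep0, ep0, ep2, em2, em2, em2, em2, ep0, em2, em2, ep0], [ep0, ep0, em2, ep2, ep2, ep2, em2, ep0, ep2, em2, ep2, em2, ep0, ep0, ep0,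 ep2, ep2, em2, em2, em2, ep0, em2, ep2, ep0], [ep0, ep0, ep2, em2, em2, ep2, em2, ep0, ep2, ep2, em2, ep2, ep0, ep0, ep0, em2, ep2, em2, em2, ep2, ep0, em2, ep2, ep0], [ep0, ep0, ep2, em2, ep2, ep2, ep2, ep0, ep2, ep2, ep2, em2, ep0, ep0, ep0, ep2, em2, em2, ep2, ep2, ep0, ep2, ep2, ep0], [ep0, ep0, em2, ep2, em2, em2, ep2, ep0, ep2, ep2, em2, em2, ep0, ep0, ep0, ep2, em2, ep2, em2, ep2, ep0, em2, ep2, ep0], [ep0, ep0, ep2, ep2, ep2, em2, ep2, ep0, ep2, ep2, em2, em2, ep0, ep0, ep0, em2, ep2, em2, ep2, em2, ep0, em2, em2, ep0], [em2, em2, ep0, ep0, ep0, ep0, ep0, ep2, ep0, ep0, ep0, ep0, em2, em2, ep2, ep0, ep0, ep0, ep0, ep0, em6, ep0, ep0, ep2], [ep0, ep0, ep2, em2, em2, em2, em2, ep0, ep2, em2, em2, em2, ep0, ep0, ep0, ep2, ep2, ep2, ep2, em2, ep0, ep2, ep2, ep0], [ep2, ep2, ep0, ep0, ep0, ep0, ep0, em2, ep0, ep0, ep0, ep0, ep2, ep2, em2, ep0, ep0, ep0, ep0, ep0, em2, ep0, ep0, ep6]],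
   [[ep6, em2, ep0, em2, ep0, ep0, ep0, ep0, ep0, ep0, ep0, ep0, ep2, ep0, ep0, em2, ep0, ep0, ep0, ep0, ep0, em2, em2, ep2], [em2, ep6, ep0, em2, ep0, ep0, ep0, ep0, ep0, ep0, ep0, ep0, ep2, ep0, ep0, em2, ep0, ep0, ep0, ep0, ep0, em2, em2, ep2], [ep0, ep0, ep2, ep0, ep2, em2, em2, em2, em2, ep2, ep2, em2, ep0, em2, em2, ep0, ep2, em2, ep2, em2, em2, ep0, ep0, ep0], [em2, em2, ep0, ep6, ep0, ep0, ep0, ep0, ep0, ep0, ep0, ep0, ep2, ep0, ep0, em2, ep0, ep0, ep0, ep0, ep0, em2, em2, ep2], [ep0, ep0, em2, ep0, ep2, em2, ep2, em2, em2, em2, em2, ep2, ep0, em2, ep2, ep0, em2, em2, ep2, em2, ep2, ep0, ep0, ep0], [ep0, ep0, em2, ep0, ep2, ep2, ep2, em2, ep2, ep2, em2, em2, ep0, ep2, ep2, ep0, ep2, ep2, ep2, em2, em2, ep0, ep0, ep0], [ep0, ep0, ep2, ep0, em2, em2, ep2, ep2, em2, em2, ep2, em2, ep0, ep2, ep2, ep0, ep2, ep2, ep2, em2, ep2, ep0, ep0, ep0], [ep0, ep0, ep2, ep0, ep2, ep2, em2, ep2, em2, ep2, em2, em2, ep0, ep2, ep2, ep0, em2, em2, ep2, ep2, ep2, ep0, ep0, ep0], [ep0, ep0, ep2, ep0, ep2, em2, em2,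 ep2, ep2, em2, em2, ep2, ep0, em2, ep2, ep0, ep2, ep2, ep2, ep2, em2, ep0, ep0, ep0], [ep0, ep0, em2, ep0, ep2, em2, ep2, ep2, ep2, ep2, ep2, em2, ep0, em2, em2, ep0, em2, ep2, ep2, ep2, ep2, ep0, ep0, ep0], [ep0, ep0, em2, ep0, ep2, ep2, ep2, ep2, em2, em2, ep2, ep2, ep0, ep2, em2, ep0, ep2, em2, ep2, ep2, em2, ep0, ep0, ep0], [ep0, ep0, ep2, ep0, ep2, ep2, ep2, ep2, em2, ep2, em2, ep2, ep0, em2, em2, ep0, ep2, ep2, em2, em2, ep2, ep0, ep0, ep0], [em2, em2, ep0, em2, ep0, ep0, ep0, ep0, ep0, ep0, ep0, ep0, ep2, ep0, ep0, em2, ep0, ep0, ep0, ep0, ep0, em2, ep6, ep2], [ep0, ep0, ep2, ep0, ep2, em2, ep2, em2, em2, ep2, ep2, ep2, ep0, ep2, ep2, ep0, em2, ep2, em2, ep2, em2, ep0, ep0, ep0], [ep0, ep0, em2, ep0, em2, ep2, em2, em2, em2, ep2, ep2, ep2, ep0, em2, ep2, ep0, ep2, ep2, ep2, ep2, ep2, ep0, ep0, ep0], [ep2, ep2, ep0, ep2, ep0, ep0, ep0, ep0, ep0, ep0, ep0, ep0, em2, ep0, ep0, ep2, ep0, ep0, ep0, ep0, ep0, em6, ep2, em2], [ep0, ep0, em2, ep0, ep2, em2, em2, em2, em2, em2, em2, em2, ep0, ep2, em2,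 ep0, ep2, ep2, em2, ep2, ep2, ep0, ep0, ep0], [ep0, ep0, em2, ep0, ep2, ep2, em2, ep2, em2, em2, ep2, em2, ep0, em2, ep2, ep0, em2, ep2, em2, em2, em2, ep0, ep0, ep0], [ep0, ep0, em2, ep0, em2, em2, em2, ep2, em2, ep2, em2, ep2, ep0, ep2, em2, ep0, em2, ep2, ep2, em2, em2, ep0, ep0, ep0], [ep0, ep0, ep2, ep0, em2, ep2, ep2, em2, em2, em2, em2, em2, ep0, em2, em2, ep0, em2, ep2, ep2, ep2, em2, ep0, ep0, ep0], [ep0, ep0, ep2, ep0, ep2, ep2, em2, em2, ep2, em2, ep2, ep2, ep0, ep2, em2, ep0, em2, ep2, ep2, em2, ep2, ep0, ep0, ep0], [ep2, ep2, ep0, ep2, ep0, ep0, ep0, ep0, ep0, ep0, ep0, ep0, ep6, ep0, ep0, ep2, ep0, ep0, ep0, ep0, ep0, ep2, ep2, em2], [ep2, ep2, ep0, ep2, ep0, ep0, ep0, ep0, ep0, ep0, ep0, ep0, em2, ep0, ep0, em6, ep0, ep0, ep0, ep0, ep0, ep2, ep2, em2], [ep2, ep2, ep0, ep2, ep0, ep0, ep0, ep0, ep0, ep0, ep0, ep0, em2, ep0, ep0, ep2, ep0, ep0, ep0, ep0, ep0, ep2, ep2, ep6]],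
   [[ep5, em3, ep1, ep1, ep1, ep1, ep1, em1, em1, em1, ep1, em1, em1, ep1, ep1, em1, em1, em1, ep1, em1, em1, em1, ep1, ep3], [em3, ep5, ep1, ep1, ep1, ep1, ep1, em1, em1, em1, ep1, em1, em1, ep1, ep1, em1, em1, em1, ep1, em1, em1, em1, ep1, ep3], [em1, em1, em1, em1, em1, em1, em1, em3, ep1, ep1, em1, ep1, em3, ep3, ep3, ep1, ep1, ep1, em1, ep1, em3, ep1, em1, ep1], [ep1, ep1, ep1, em3, ep1, ep1, em3, em1, ep3, em1, em3, em1, em1, em3, ep1, em1, em1, em1, ep1, em1, em1, em1, ep1, em1], [ep1, ep1, ep1, ep1, em3, ep1, em3, em1, em1, ep3, ep1, em1, ep3, ep1, ep1, em1, em1, ep3, ep1, em1, em1, em1, ep1, em1], [em1, em1, ep3, em1, ep3, em1, em1, ep1, ep1, ep1, em1, ep1, ep1, ep3, em1, ep1, em3, ep1, em1, ep1, ep1, ep1, ep3, ep1], [ep1, ep1, ep1, em3, ep1, ep1, ep1, ep3, em1, ep3, ep1, em1, em1, ep1, ep1, em1, ep3, em1, em3, em1, em1, em1, ep1, em1], [em1, em1, em1, em1, ep3, ep3, em1, em3, em3, ep1, em1, ep1, ep1, em1, em1, em3, ep1, ep1, em1, ep1, ep1, ep1, em1, ep1], [em1, em1, em1, ep3, ep3, em1, em1,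 ep1, ep1, ep1, em1, em3, ep1, em1, em1, ep1, ep1, ep1, em1, em3, em3, ep1, em1, ep1], [em1, em1, em1, em1, em1, em1, em1, ep1, em3, em3, em1, ep1, ep1, em1, ep3, ep1, ep1, ep1, em1, em3, ep1, ep1, ep3, ep1], [ep1, ep1, em3, em3, ep1, em3, ep1, em1, em1, em1, ep1, em1, em1, ep1, em3, em1, em1, ep3, ep1, em1, em1, em1, ep1, em1], [em1, em1, em1, em1, em1, ep3, ep3, ep1, ep1, ep1, em1, ep1, ep1, em1, em1, ep1, ep1, ep1, ep3, ep1, em3, ep1, ep3, ep1], [ep1, ep1, em3, ep1, ep1, ep1, ep1, em1, em1, ep3, em3, em1, em1, ep1, ep1, ep3, em1, em1, ep1, em1, ep3, em1, ep1, em1], [ep1, ep1, ep1, em3, ep1, ep1, ep1, em1, em1, em1, ep1, em1, ep3, ep1, ep1, ep3, em1, em1, ep1, em1, em1, ep3, em3, em1], [em1, em1, em1, em1, em1, em1, em1, ep1, ep1, ep1, em1, ep1, ep1, ep3, em1, em3, ep1, em3, ep3, em3, ep1, ep1, em1, ep1], [ep1, ep1, ep1, ep1, em3, ep1, ep1, em1, em1, em1, em3, em1, em1, ep1, em3, em1, em1, em1, em3, em1, em1, ep3, ep1, em1], [em1, em1, ep3, em1, em1, em1, em1, ep1, em3, ep1, em1, em3, em3, em1, em1,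 ep1, ep1, ep1, ep3, ep1, ep1, ep1, em1, ep1], [ep1, ep1, ep1, ep1, ep1, em3, ep1, em1, em1, ep3, ep1, ep3, em1, em3, ep1, em1, em1, em1, ep1, em1, em1, ep3, ep1, em1], [ep1, ep1, ep1, ep1, ep1, ep1, ep1, em1, ep3, em1, ep1, em1, em1, ep1, ep1, em1, ep3, ep3, ep1, em1, ep3, ep3, ep1, em1], [em1, em1, ep3, em1, em1, em1, ep3, em3, ep1, ep1, em1, ep1, ep1, em1, em1, ep1, ep1, ep1, em1, em3, ep1, em3, em1, ep1], [em1, em1, em1, em1, em1, em1, ep3, ep1, ep1, ep1, em1, em3, ep1, em1, ep3, em3, em3, ep1, em1, ep1, ep1, ep1, em1, ep1], [ep1, ep1, ep1, ep1, ep1, ep1, ep1, ep3, em1, em1, em3, ep3, em1, ep1, ep1, em1, em1, ep3, ep1, em1, em1, em1, em3, em1], [em1, em1, em1, em1, em1, ep3, em1, ep1, ep1, ep1, ep3, ep1, em3, em1, em1, ep1, em3, ep1, em1, em3, ep1, ep1, em1, ep1], [ep3, ep3, em1, em1, em1, em1, em1, ep1, ep1, ep1, em1, ep1, ep1, em1, em1, ep1, ep1, ep1, em1, ep1, ep1, ep1, em1, ep5]],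
   [[ep4, em4, ep0, ep0, ep0, ep0, ep0, ep0, ep0, ep0, ep0, ep0, ep0, ep0, ep0, ep0, ep0, ep0, ep4, ep0, ep0, ep0, ep0, ep4], [em4, ep4, ep0, ep0, ep0, ep0, ep0, ep0, ep0, ep0, ep0, ep0, ep0, ep0, ep0, ep0, ep0, ep0, ep4, ep0, ep0, ep0, ep0, ep4], [ep0, ep0, em4, ep0, ep0, ep0, ep0, ep0, em4, ep0, ep0, ep4, em4, ep0, ep0, ep0, ep0, ep0, ep0, ep0, ep0, ep0, ep0, ep0], [ep0, ep0, ep0, em4, ep0, ep0, ep0, em4, ep0, em4, ep0, ep0, ep0, ep0, ep0, ep0, ep4, ep0, ep0, ep0, ep0, ep0, ep0, ep0], [ep0, ep0, ep0, ep0, em4, ep0, ep0, ep0, ep0, ep0, ep4, ep0, ep0, ep0, em4, ep0, ep0, ep0, ep0, ep0, ep0, em4, ep0, ep0], [ep0, ep0, ep0, ep0, ep0, em4, em4, ep0, ep0, ep0, ep0, ep0, ep0, ep0, ep0, ep0, ep0, ep0, ep0, ep0, em4, ep0, ep4, ep0], [ep0, ep0, ep0, ep0, ep0, em4, em4, ep0, ep0, ep0, ep0, ep0, ep0, ep0, ep0, ep0, ep0, ep0, ep0, ep0, ep4, ep0, em4, ep0], [ep0, ep0, ep0, em4, ep0, ep0, ep0, em4, ep0, ep4, ep0, ep0, ep0, ep0, ep0, ep0, em4, ep0, ep0, ep0, ep0, ep0, ep0, ep0], [ep0, ep0, em4, ep0, ep0, ep0, ep0,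 ep0, em4, ep0, ep0, em4, ep4, ep0, ep0, ep0, ep0, ep0, ep0, ep0, ep0, ep0, ep0, ep0], [ep0, ep0, ep0, em4, ep0, ep0, ep0, ep4, ep0, em4, ep0, ep0, ep0, ep0, ep0, ep0, em4, ep0, ep0, ep0, ep0, ep0, ep0, ep0], [ep0, ep0, ep0, ep0, ep4, ep0, ep0, ep0, ep0, ep0, em4, ep0, ep0, ep0, em4, ep0, ep0, ep0, ep0, ep0, ep0, em4, ep0, ep0], [ep0, ep0, ep4, ep0, ep0, ep0, ep0, ep0, em4, ep0, ep0, em4, em4, ep0, ep0, ep0, ep0, ep0, ep0, ep0, ep0, ep0, ep0, ep0], [ep0, ep0, em4, ep0, ep0, ep0, ep0, ep0, ep4, ep0, ep0, em4, em4, ep0, ep0, ep0, ep0, ep0, ep0, ep0, ep0, ep0, ep0, ep0], [ep0, ep0, ep0, ep0, ep0, ep0, ep0, ep0, ep0, ep0, ep0, ep0, ep0, em4, ep0, ep4, ep0, em4, ep0, em4, ep0, ep0, ep0, ep0], [ep0, ep0, ep0, ep0, em4, ep0, ep0, ep0, ep0, ep0, em4, ep0, ep0, ep0, em4, ep0, ep0, ep0, ep0, ep0, ep0, ep4, ep0, ep0], [ep0, ep0, ep0, ep0, ep0, ep0, ep0, ep0, ep0, ep0, ep0, ep0, ep0, ep4, ep0, em4, ep0, em4, ep0, em4, ep0, ep0, ep0, ep0], [ep0, ep0, ep0, ep4, ep0, ep0, ep0, em4, ep0, em4, ep0, ep0, ep0, ep0, ep0,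 ep0, em4, ep0, ep0, ep0, ep0, ep0, ep0, ep0], [ep0, ep0, ep0, ep0, ep0, ep0, ep0, ep0, ep0, ep0, ep0, ep0, ep0, em4, ep0, em4, ep0, em4, ep0, ep4, ep0, ep0, ep0, ep0], [ep4, ep4, ep0, ep0, ep0, ep0, ep0, ep0, ep0, ep0, ep0, ep0, ep0, ep0, ep0, ep0, ep0, ep0, ep4, ep0, ep0, ep0, ep0, em4], [ep0, ep0, ep0, ep0, ep0, ep0, ep0, ep0, ep0, ep0, ep0, ep0, ep0, em4, ep0, em4, ep0, ep4, ep0, em4, ep0, ep0, ep0, ep0], [ep0, ep0, ep0, ep0, ep0, em4, ep4, ep0, ep0, ep0, ep0, ep0, ep0, ep0, ep0, ep0, ep0, ep0, ep0, ep0, em4, ep0, em4, ep0], [ep0, ep0, ep0, ep0, em4, ep0, ep0, ep0, ep0, ep0, em4, ep0, ep0, ep0, ep4, ep0, ep0, ep0, ep0, ep0, ep0, em4, ep0, ep0], [ep0, ep0, ep0, ep0, ep0, ep4, em4, ep0, ep0, ep0, ep0, ep0, ep0, ep0, ep0, ep0, ep0, ep0, ep0, ep0, em4, ep0, em4, ep0], [ep4, ep4, ep0, ep0, ep0, ep0, ep0, ep0, ep0, ep0, ep0, ep0, ep0, ep0, ep0, ep0, ep0, ep0, em4, ep0, ep0, ep0, ep0, ep4]],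
   [[ep4, em4, ep0, ep0, ep0, ep0, ep0, ep0, ep0, ep0, ep0, em4, ep0, ep0, ep0, ep0, ep0, ep0, ep0, ep0, ep0, ep0, ep0, ep4], [em4, ep4, ep0, ep0, ep0, ep0, ep0, ep0, ep0, ep0, ep0, em4, ep0, ep0, ep0, ep0, ep0, ep0, ep0, ep0, ep0, ep0, ep0, ep4], [ep0, ep0, em4, ep0, ep0, ep0, ep0, ep0, ep4, ep0, ep0, ep0, em4, ep0, ep0, ep0, ep0, ep0, ep4, ep0, ep0, ep0, ep0, ep0], [ep0, ep0, ep0, em4, ep4, ep0, ep0, ep0, ep0, ep0, ep0, ep0, ep0, ep0, ep0, ep0, ep0, ep0, ep0, em4, ep4, ep0, ep0, ep0], [ep0, ep0, ep0, ep4, em4, ep0, ep0, ep0, ep0, ep0, ep0, ep0, ep0, ep0, ep0, ep0, ep0, ep0, ep0, em4, ep4, ep0, ep0, ep0], [ep0, ep0, ep0, ep0, ep0, em4, ep0, ep0, ep0, em4, ep0, ep0, ep0, ep4, ep0, ep0, ep0, ep0, ep0, ep0, ep0, ep4, ep0, ep0], [ep0, ep0, ep0, ep0, ep0, ep0, em4, ep0, ep0, ep0, ep0, ep0, ep0, ep0, ep4, em4, ep4, ep0, ep0, ep0, ep0, ep0, ep0, ep0], [ep0, ep0, ep0, ep0, ep0, ep0, ep0, em4, ep0, ep0, em4, ep0, ep0, ep0, ep0, ep0, ep0, em4, ep0, ep0, ep0, ep0, em4, ep0], [ep0, ep0, ep4, ep0, ep0, ep0, ep0,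 ep0, em4, ep0, ep0, ep0, em4, ep0, ep0, ep0, ep0, ep0, ep4, ep0, ep0, ep0, ep0, ep0], [ep0, ep0, ep0, ep0, ep0, em4, ep0, ep0, ep0, em4, ep0, ep0, ep0, em4, ep0, ep0, ep0, ep0, ep0, ep0, ep0, em4, ep0, ep0], [ep0, ep0, ep0, ep0, ep0, ep0, ep0, em4, ep0, ep0, em4, ep0, ep0, ep0, ep0, ep0, ep0, ep4, ep0, ep0, ep0, ep0, ep4, ep0], [em4, em4, ep0, ep0, ep0, ep0, ep0, ep0, ep0, ep0, ep0, ep4, ep0, ep0, ep0, ep0, ep0, ep0, ep0, ep0, ep0, ep0, ep0, ep4], [ep0, ep0, em4, ep0, ep0, ep0, ep0, ep0, em4, ep0, ep0, ep0, em4, ep0, ep0, ep0, ep0, ep0, em4, ep0, ep0, ep0, ep0, ep0], [ep0, ep0, ep0, ep0, ep0, ep4, ep0, ep0, ep0, em4, ep0, ep0, ep0, em4, ep0, ep0, ep0, ep0, ep0, ep0, ep0, ep4, ep0, ep0], [ep0, ep0, ep0, ep0, ep0, ep0, ep4, ep0, ep0, ep0, ep0, ep0, ep0, ep0, em4, em4, ep4, ep0, ep0, ep0, ep0, ep0, ep0, ep0], [ep0, ep0, ep0, ep0, ep0, ep0, em4, ep0, ep0, ep0, ep0, ep0, ep0, ep0, em4, em4, em4, ep0, ep0, ep0, ep0, ep0, ep0, ep0], [ep0, ep0, ep0, ep0, ep0, ep0, ep4, ep0, ep0, ep0, ep0, ep0, ep0, ep0, ep4,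 em4, em4, ep0, ep0, ep0, ep0, ep0, ep0, ep0], [ep0, ep0, ep0, ep0, ep0, ep0, ep0, em4, ep0, ep0, ep4, ep0, ep0, ep0, ep0, ep0, ep0, em4, ep0, ep0, ep0, ep0, ep4, ep0], [ep0, ep0, ep4, ep0, ep0, ep0, ep0, ep0, ep4, ep0, ep0, ep0, em4, ep0, ep0, ep0, ep0, ep0, em4, ep0, ep0, ep0, ep0, ep0], [ep0, ep0, ep0, em4, em4, ep0, ep0, ep0, ep0, ep0, ep0, ep0, ep0, ep0, ep0, ep0, ep0, ep0, ep0, em4, em4, ep0, ep0, ep0], [ep0, ep0, ep0, ep4, ep4, ep0, ep0, ep0, ep0, ep0, ep0, ep0, ep0, ep0, ep0, ep0, ep0, ep0, ep0, em4, em4, ep0, ep0, ep0], [ep0, ep0, ep0, ep0, ep0, ep4, ep0, ep0, ep0, em4, ep0, ep0, ep0, ep4, ep0, ep0, ep0, ep0, ep0, ep0, ep0, em4, ep0, ep0], [ep0, ep0, ep0, ep0, ep0, ep0, ep0, em4, ep0, ep0, ep4, ep0, ep0, ep0, ep0, ep0, ep0, ep4, ep0, ep0, ep0, ep0, em4, ep0], [ep4, ep4, ep0, ep0, ep0, ep0, ep0, ep0, ep0, ep0, ep0, ep4, ep0, ep0, ep0, ep0, ep0, ep0, ep0, ep0, ep0, ep0, ep0, ep4]]]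

/-- The packed columns. -/
noncomputable def cols : List (List ℤ) :=
  [[5954262829429611647380060634218533145425034298728655467484139258355204423914920896660172525158213459642645835036530557553329920547078799366, 5954262829429611647380060634218533145425034298728655467484139258355204423914920896660172525158213459642645835036530557553329920547087187966, 5954262829429611647380060634218533145425017210832368100203480098181555067498004075023993671936053883309783257278724312428929736850383306750, 5678422118183767998018649740395855317449390207194206824866609196055064692344462370621162903028589719994620292374550980909452169838592, -5954262829429611647380060634218533145425034298728655467484139258355204410434947563084852627824705916132830498217958346283043679995273674750, -5678432948935089666814544152024546627159167611467525016969090957684383310598313839976268821470167698704307482209110058891955780190208, 5678422118183768007869141895315185046217527457465493357076854445016980651171657334929287362298078453495600099661822293800587668488192,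 -5678422118183767998018649740386896338480678990351977063155036197519073737429143453239870580082035072126427516753118761732112428040192, 5678422118194097007381489529673808722905539504962812180248171339068303295025578232441325293774016149696568018694838281349600020267008, 5678432948924760667302196517665922950471155563970206193797774063633060666744405202440249830203744092615045039509467450209990824951808, -5678422118194096997530997374754478994137402254691525648037926090106387336198383268121508832556252792125411498644115118920338042257408, 5678432948924760657451685574405931031037195197854145361712697231587226455575330660904713305381965256113021445820875383236837830033408, -5678422118194096997530997374745520015168691037849295886326353091570396368427547736715659391261781762097330188704726820641959007223808, 5954262829429611647380060634218533145425034298712359179673463369665056858407645871371760778008885969637556711441695507155223226897611620350, -5678422118183768007869141895324144025186238674307723118788441578329489846017129532726834760039323326740485902886003162630821047697408,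 5678432948924760657451685574396972052068483981011915585179722675898244259368276736078727919856506307741073744385468752441277144891392, 5954262829429611647380060634218533145425034298728655467484139258355204423914920896660172525158213459632012011070251230570099464064836042750, -5678432948935089656964033208755595728756496028509234408351039569949566890366693279507151645048472641132422935346989661886084013883392, 5678432948924760667302196517674881929439866780812435970330734484545524648732314554993824549605906293068901353697354885133269527953408, 5678432948935089666814544152033505606127878828309754793502051378596847279730731098433940276746147250550709647683166200706083332292608, 5678422118194097007381489529682767701874250721805041941959758472380812477015533816190931546970050194090306310934789428930232390254592, 5678432948935089656964033208764554707725207245351464184884014125638549099429239298452424320897408684803083723476875000271223975313408, 5954262829429611647380060634218533145425034298728655451942788120549371856559225642072021272018958747225529665022031279642095638905410813950,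 17862788488288834942140181902655599436275085808273382731819731588395983768984902254892455824630391056652420472957599560972731905619366248450],
   [8931397083355476562954089960647972830899658234350087847525205833293098316117947215798856555616023935285028636917922304623646292330884890629, 8931397083355476562954089960647972830899658234350087847525205833293098316117947215798856555616023935285028636917922304623646292330893279229, -2977139932358813850663686290472042611401448025037166963338645787334956645137021772034604168143160102567076574510888202675514736281855721471, -2977128575503746731806031307789093468909380787862148094356498712363340281077659886228258966717742845342231637295543276066012375397377769471, 2977128575503746731806021457278150199958482385182416992160559560660589951744115678258710216013101880591034753658049019026768476985199951871, -2977128575503746721477031795441459101326725131130735610902568474420527946255695848916708311433888411756314518702982755774218765117263183871, -2977139932358813840334696628616563181066479073873586571765440968940461196302570426174589939059952110793859650186599468232565447273057615871,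 -2977139932347983109671036707928363529614442174072495265240396760532091897464541292010521182351753754455137482556684868759418241490036457471, -2977128575503746731806031307789093459950410363090926799632396794727162952724646218657756850217567950474724748775452221831390158079757647871, 2977128575503746731806031307779699289619306486239373329739572241980060431655457951025301690882360839746836677668764997978056776243789955071, 2977128575503746731806031307789093459950401819150931252126737000776206968568477896272675205419476550660963897927772374375377265480692662271, 2977128575503746731806031307789093468909380787862148102127174281259189176496393976210131385447862082926230091877638576026817659026027839487, -2977128575492915990813371874734471109212497565522824755184561027379149647952409271057265392832879110795129237735999916292341376713225142271, -2977128575492915990813362024242316180923789828674357633897591536650918478108521508420490832757841123716990088958281819430609374640180559871, -2977128575492915990813371874743865279543592898434382669801050217279447275966708937243092519384163704929337771401013404050242673712349315071,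 -2977128575503746731806031307789093459950401819142783108221391645737421997578326847333251739857613603722647920193368847714406504864360169471, -2977128575503746731806021457287544361330607293339049899863607900241570230437875748792706210422989078637962257699997121530053672907008114687, 2977128575503746731806031307779699289619315030187517013379901822059817728344789491306587899839771294681343616731375228398527157371768143871, -2977128575503746721477031795441459101326725131138883762578589398369296589182795206970316503809620759081109358205227452898820167018021388287, -2977139932358813850663696140973591718980230063508408833701190610640635083567442881723124817907756100553145217611096001178324978302727487487, 2977128575492915980484372362396230929878903723081695698352318337629443833842591469087938966485943287018065909516456067698531936469932572671, 2977139932358813850663696140973591710021259638745335675111758479147393844265806651181139573650628122863666293868539664692712976400476274687, -2977128575503746721477021944939910002706922061378858718904455148830784105907673279953856121113716898286362581982736766323828466393317113855,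 14885654234362970026566152576226159750800461872651950351778665013458089876781875935753771794172580581010037671076207813902415533835560157187],
   [5954262829429611652544560390392350324736868370756533302370713376447312927477387991685803271751112842359321874098525203386982986319975677958, 5954262829429611652544560390392350324736868370756533302370713376447312927477387991685803271751112842359321874098525203386982986319984066558, 5678422118188932497774814163404836056188506527106706249047292580411667139900406382934526603798156860081534869083443079629726390681600, -5678422118188932497774823557566208172552706868186863637273128306022636204524169083986463479464751748165489511398952414797885324918784, -5678432948929925157207868785746614981473423416769189324056625065715237960627682052647941673962577625966235210508733202412073700556800, 5954262829429611652544560390392350324736868370756533302370713376461447703995615066322469651757056190485941745273530155051955835930316636158, 5678432948929925157207859391576283894684468150674347834232947461446004423271667648760558745665755965093360940701156008820311117004800,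 -5678432948929925167058360940674903697754220027566345947558537205272872472507055181053545409635716101693262604807929555961449860300800, 5678432948929925157207859391585242865109223075689031935830789340090788922670356291651306204764681932152083440466709036302610726912000, -5954262829429611652544560390392350324736868370756533302370713376447312927477387991685803271751101691986722608786954435527846662139222687742, 5678422118188932497774823557575167160065374376856639073919833981602824869103357637374915933173536116086349503998281465854565145378816, 5954262829429611652544560390392350324736868370756533302370728197834735303950402208771884383803318060917359076090722253957735999200569589758, -5678422118188932507625325106664827975622475041366672426487408197428491489262915993852010774132530050496503772261176961527916055756800, 5954262829429611652544560390392350324736868370756533286829362238641480360121692737097652018611858129942205704084025925475748704678307692542, 5678422118188932507625325106673786963135126253748637187245423725429692905483240815595980392807799513956950357598828396269561656115200,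 -5678432948929925167058370334854193772055842802330962874028920485122294674442270398293707718752178363429106595230893018390614314582016, 5678422118188932497774814163395877085763751602092022147449450701753402667168142420146445637155710443872168722581471594034403213312000, 5678422118188932507625315712494496888833503478984020260775040445593750676881613178229170531444350523855805341195351203694691693363200, 5678432948929925167058370334845234784543191589948998113270904957107613284888370256652404592533409718465948921810771139704835922722816, 5678422118188932507625315712503455859258274700286515038261572471804042451305590232867067318033292213851947750536459733106353294540800, -5678432948929925167058360940683862668178991248868840725045069231496644220264607555588775703768156973212398511835141752997117794713600, 5954262829429611631886561365697081607489514994732438307733067033813524824832113139360622295616383285322159047857422551899757610537995730942, 5678432948929925157207868785755573968986090925438964760703330741281946651873295286139060620127841544716169146767973678187708992716800,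 17862788488288834936975682146481782256963251736245504896933157470303875265422435159866825078037491673935744433895604915139078839846469369858],
   [5954257150996662717454898501103669930186200928565030817038109398628232909302367482062136897248721442314371172822903488782502055432310226950, 5954257150996662717454898501103669930186200928565030817038109398628232909302367482062136897248721442314371172822903488782502055432318615550, -5164504681419894647935677424811793888597619807462894425210564843370045108792242785442710926466442898882967493939096977408, 5954257150996662717454898501103669930186200928565030817038109398628232909302367482062136897248721442314371172822903488791725427469165002750, 5164494830927739710687990719252109932851549352670091238321442038297884509775857609596419110415869386834370499383281057792, -5164504681419894638976698456100577038597167705592489840809634546346507816711652034619407530524379646660774096309260910592, 5164494830927739719646978231911470458721655465724404210513009307562129719307350382176797813908419347608578789625517047808,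 5164504681429288809307793789012134968755008033298620036179629467132746160729118452037599010421094885798859587927521886208, -5164494830918345540356895386340552002693723846351383405944488001034667344804015978093316282051186262291536905044903329792, 5164504681429288818266772757723351803214094175975769676751863147986405159540453607582487753516077185337180741404152823808, -5164494830918345549315874355051768852694161126834365613872404080972123524832401510347948641893568335133911630134370107392, 5164494830918345549315882898999912528563815138018274015143001531283797267694606739928734391069300877547885077649065771008, 5954279864706796955170228167472666430327899479857552295727493195196957304280121025747240840719056247425794946651703684600562478388611121150, -5164494830927739710687999263200253608721203363853999626112066155034238366996568394303979044436219381318534490077991534592, 5164504681429288818266781301671495494625099324965510645378155852886230155541902399197156583428449239413464772864123076608, -5954257151018324199440217367194126290999818769998127981689482965621752281025919211029368347428721242362059763276789357618138020837224087550,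 5164504681419894647935685968759937564467273818646802813001188960106398954320929321130448239404548333358452708265366126592, -5164504681429288809307802332960278644624662044482528437450226917444419915283325629893008829773520848851568739501901611008, -5164504681419894638976707000048720730008172854582230795955953917671012927071606381382118193213947149586823417980526788608, -5164494830918345540356903930288695694104728995341124374570780705934492352497489018727807712763412615537943122992858923008, 5164494830927739719646969687963326767310650316734663255366689936237624620639397983688711241677974211786049430027981815808, -5954257150996662717454898501103669930186200928565030817038109398614098132784140407425470517242778094187751301647898537117529205821969268734, -5954257150996662717454898501103669930186200928581327104848785287318380474809642507350548644398048932319460296417738539180608749081777405950, 17862794166721783872065344035770462651513919178437007382265761448122955283597455669490491452539883073980695135171226629743559770734134820866],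
   [8931397083355476562954089960652669911585712144476186545783735156164015091738686887002760759452081632702312138875004570296286190209910964229, 8931397083355476562954089960652669911585712144476186545783735156164015091738686887002760759452081632702312138875004570296286190209919352829, 2977128575503746721477031795436762020640671221012785064320060075484245037043828461129745919967608563164606719761569467702071095347901366271, -2977128575503746731806031307784396379264347909024832553868207677905290192947738225068771001583418853254314219936969435695191196120764121087, -2977128575503746731806031307784396370305368940313615711638431144930734503965529162510492103675828992098627118688457494071167055250794217471, 2977139932358813850663696140968894629335188640722949609572569996102827712228150158341056516592410849113520214153660825302229811858152357887, -2977128575503746731806031307793790549595434697988246792615028035234257056698399557432163170553800542759515139252625541738652273276403843071, 2977128575503746731806031307784396379264347909016684409962862322866505221957587176129347536021544755932765152924725485589187199837978755071,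 2977128575503746721477021944935212922020868151252760020645925825959867330286933608749951917277659200869079080025664172066968857584543465471, 2977139932358813850663686290467345530715394114911068265080116464464039869516282100830699964307102405149793072553805937002874838402829647871, -2977128575503746731806031307784396370305368940313615719409106713840718175902490327129030902411891577798611620479268747316381187010999615487, 2977139932358813840334696628630654441042615829570603718281226342288549881073097313936344062996152085588126839743506121530234155500529778687, -2977128575503746721477031795436762020640671221004636912644039151549611170634956177712804107597830714339031016745900490101578867238237110271, -2977139932347983109671036707923666448928388263946396566981867437647040345325574546169950598509752708911234109424597651431028866037524201471, 2977128575503746731806021457292241442016661203457000454216806689461124411541478588143268060749389047664333149807388782294186782557572431871, -2977128575492915990813371874748562369188634321219841901700346400727238332722936158819019516769079085578762603326636914013336545491852197887,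 2977128575503746731806031307793790549595443241936390476255357615314014339907757764150389434812617466403850172084387372627522178378678403071, -2977128575492915990813371874739168198857538988308283971542520894408530500345969266039188315548106007512054269443931138377602775833323241471, -2977128575492915980484372362391533831274874787636875948353591610037323476831770998370659630227813205557584860360279993854471908721354080255, 2977128575492915990813362024237619100237735918548258935639062213780001702487781837216586628921772275937741145655908112882063609062644252671, 2977128575503746731806031307784396379264339365068540734093208311682596820686989725817673793159350676735212493026843038017580532986278838271, -2977139932358813850663696140968894620376218215959876450983123043222164082973539232642024334871774445052927480901155404599528810070091497471, 2977128575503746731806021457282847280644536295316663834324419417182869321881992181315956773358828456761196306810103659068040741720945590271, 14885654234362970026566152576221462670114407962525851653520135690587173101161136264549867590336522883592754169119125548229775635956534083587],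
   [11908525658859223294760121268446460461181155386412577022039092771485096826645544855259143338780431094247991587770919855256569987895346069508, 11908525658859223294760121268446460461181155386412577022039092771485096826645544855259143338780431094247991587770919855256569987895354458108, -7067381519126870530673247182224451632013939992955701062475387551044599808, 8543948143683640329580086824678208458410811959444447610657546698268114516501893545287250809454592, -10830740992659433045228180406808920716548590096362352399675969539617064025514315698525088384033015583787320264738450868648542208, 11356855067108528665320836863891447172587634213242025868726967468146166239345679961483667802624031813556740106707760884689359226273792, -11356855067108528665320836863891447172587634213242025868726967468146166239345679961483667802624042447390847590836569950357815094673408, -8543948143683640329580086824678208458410811959444447621807919297533426087269761904983468417220608, 7067381519126870530673235490211352984790594363477039332211221507491233792,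 -8543948143683640329580086824678208458410824219408774537768413565044331718975371718572265133047808, -10830740992659433045228180406808920716548590096362352399675969539629919529868387620729424080771744884597826482131796177933303808, -7067394999100204105993144515731995141829276811527912332761619306756702208, -7067394999100204105993132823718896494605931182049250602497470855389380608, -9850501549107578782038463093734227889858557232134331118571910783883481838142434294377485888502838743334358989406208, 10830740992659433045228180406808920716548574555011214593843402183921809437363062559270375966916845569278370946947252193582907392, -9850501549107578782038479390022038550925859957323365379380113114518578960413881346299088526502666097015127862673408, -8543948143683640329580086824678208458410824219408774548918786164309643289743221631524409031262208, 9850501549089660824101040660049768336792622255532884940376947506492229720116165922206052403889220970375305538568192, -11908525658859223294760121268427672120518964720589461177264778075266091366254278296293485011008173422047074720223210263269491838271090589692,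 -9850501549089660824101056956337579027502699825474865229619321999351431252824729048531639435990189830081835599659008, -11356855067129186664345532132608694525963658308236663515069601256248811514198005142459802532181068976393122414161073945277114831863808, -10830740992659433045228180406808920716548574555011214593843402183934664941717134481474711663655574870108219977454431569662967808, -11356855067129186664345532132608694525963658308236663515069601256248811514198005142459802532181079610206947488686231340521623448977408, 11908525658859223294760121268427672120518964720589461177264778075266091366254278296293485011008173422047074720223210263269491838271098978308],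
   [11908525658859223294760121268437066290850060053501019099651935423375594089709924908988654226227548486392625485587778953627887792807315767300, 11908525658859223294760121268437066290850060053501019099651935423375594089709924908988654226227548486392625485587778953627887792807324155900, 9394170331095332911557922387157348102435341936519742164495979729163711360760171001091651026184724232640921600, 10328989661846085260003873618252022461415371901382076434960970439089239426636921904215928559553992440213369258732263833600, 10328989661846085260003873618252022461415371901382076434960970439089239426636921904215928559553982768816035713735720960000, 10830740992659433045228180406808920716548582325694194190470874098282973020526298952638953869429503043837822055801926667206656000, 8543939995547505667204644667179132668525467959179606043399367127900105595572827148657603326771200, -11356855067118857664833184498259029828244357477581574461020558139309975465188533327147296231549445548368941239352174083477826296610816,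 9394170331095332911557922387157348102435341936519742164495968037150612713536825371612989295920575781273600000, -10830740992659433045228180406808920716548582325694194190470874098282973032786263279566064736296289402245097350587051618301116416, 11356855067118857664833184498259029828244357477581574461020558139309975452333028973075374016063376210374328848406690996891302861209600, 11908525658859223294760121268437066290850060053501019099651935423375594103189898242563974123561056029902440822406351164898174033359120891900, -9394170331095332911557922387157348116570118454746816801162359735107059487380042176096602691157582639074902016, 10830740992659433045228180406808920716548582325679372803048497625268755934445186900433735311392311192845573310884125760238387200, 8543939995531964316066838834611776973270879807926466788686960645554057375621899144832443901542400, -8543956291835316343093334814744639943550756370926755370889382850847666709950208485807735036706816, -8543956291819774991955528982177284248296168219673616116176955100853685931345314021069611125964800,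 11356855067118857664833184498241111870306935043897114922776010585085002301210656130868096307591362614134188381021267927207472686694400, -9394170331095332911557922387157348116570118454746816801162348043093960840156696546617940960893416595521536000, -10329009362849183457243479757772072533222274441251711667684304413235941549497807652821234266687119882680413034083113762816, -10329009362849183457243479757772072533222274441251711667684304413235941549497807652821234266687110211264632745012861337600, -10830740992659433045228180406808920716548582325679372803048497625268755946705151227360846178259077268843244953998826764081561600, -11356855067118857664833184498241111870306935043897114922776010585085002288355151776796174114406038474670199131611503113269310757273600, 11908525658859223294760121268437066290850060053501019099651935423375594103189898242563974123561056029902440822406351164898174033359129280516]]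

/-- The packed columns of the transposes. -/
noncomputable def colsT : List (List ℤ) :=
  [[5954257151002078087951228217626284020389601116953307338333453267155348016258034642286316110260976229073185688603834074604851278717537746950, 5954257151002078087951228217626284020389601116953307338333453267155348016258034642286316110260976229073185688603834074604851278717546135550, -5415365331834885594874370556430500416801602308687449245240361653119157655693892055273022429965507767913679147424253847422369792, 5415365331825035093325280895606399367993416405680870487116148195862025856629497509541192040921221267245346749984352405089681408, -5415375660834397942508738139086157148214093533293256083901591893817284949116966069246693599881080942569499400023147756187025408, -5415375660824547450353800891399451580381993881892267639735810487570503527968097157421223706638740113809023632192368572532523008, -5954257151002078087951228217626284020389618204849594705614112427328997372674951463922494963483135805406048266361640319729251462414233239550,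 5415365331825035102719442267722763568334488792393527412858087227965485000791750710354272935824813572281210839940609573537185792, 5415365331834885594874379515409469136166588443794515857023868634225121926294703236397177162395405365061198987978723901946462208, -5415375660824547450353809850378420299746980016999334251519317468676467786308932319605168935612329689349933430928012910744567808, 5415365331825035102719451226701732287699474927500594038776370727298523895798977570483514555408530674455639191546480106554785792, -5954257151002078087951228217626284020389601116953307338333453267155348016258034642286316110260976229073185688603824403198294361684140097534, 5415375660824547440959639519283087380040905953828472894026527581544715158988199119396983620775760989790268226541450867760955392, 5415365331834885604268549846504802039576374696289488524369106494055182840523586620774265609358921976787257196185136629660254208, -5954279864712212325666557883995280520531299668245828817022837063724072411235788185971420053731311034184609462432634270422911701673838641150,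 -5954257151002078087951228217626284020389601116953307338333468088542770392731048859372397222313181447631222890596031125175604291598131658750, -5954257151002078087951228217626284020389601116953307338333453267155348016258034642286316110260976229073185688603834074604851287513630769150, 5415375660834397951902908470181490051623864244437090945414262397952091275194596314380219991693868885087720582124518577597841408, -5415375660824547440959630560304118676972207629397294972390586107713776176799146779624567913257608069732030199329367864543019008, -5415365331825035093325271936627430664924718081249692551345430203804012237774053471801179176326762264853400485168481881074696192, 5415375660834397942508729180107188428849107398186189457983308394484246041849786574203439750020099145187130500665853037292552192, 5415365331834885604268540887525833336507676371858310602733165020224243870594486915915862110850365536968702098593140900582391808, 5415375660834397951902899511202521348555165920005913009643544405894077668599128295580416651823345554451434673917962787129131008,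 17862794166716368501569014319247848561310518990048730860970417579595840176641788509266312239527628287221880619390296043921210547448907300866],
   [8931397083355476562954094885903444460895617951334344977508294553350906824530121897053662020204115651800552429200252887847334548290568978437, 8931397083355476562954094885903444460895617951334344977508294553350906824530121897053662020204115651800552429200252887847334548290577367037, -2977128575492915990813366949488393649547633181450125539817961497221638767554534255988287054796071988413813979118682820826554417752665227263, 2977139932358813850663691215718120071066312409101718019258563646035272350182091367086769002197547240630547726586657677283666513827504062463, 2977139932347983109671031782672891899618482457104534423067983929164430954559641636044127464912989527944702813869189335943060051216674324479, -2977128575503746731806026382533621829954450646122965957459983963359502009819746562691363132778803723974923904054236015989039052251783495679, 2977128575503746731806026382533621829954442102166674122143648280718398460156290359513515680601193597106558545940379602250456732944884039679,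 -2977128575503746731806036233044565089946361536135188382109825720834015476980652577527480670007568267176487690210102957599065521440376750079, 2977128575503746721477026870185987471330765414162774768730155643052867003350783337445960522072919849549141120714667045324686940464363864063, 2977128575503746731806026382533621820995463133455457287684547316653826443111055317078129641659857558700371330154020429765332828930341601279, -2977128575503746731806036233035170928574253715874842841687421720053396954749022186180248796773578775031005443249973803140235557918636769279, 2977139932358813850663701066219669178645094447572959905162459607146783369448181064926500838107967233304081834991163723639911040883627130879, -2977128575503746731806026382543016000285545979026375728171127798221014680323881369017440763023937250366736691996754237171140423073194311679, -2977128575492915990813366949497787819878728514361683469975787003540346599931488293263764184094840730783783583700558747431781008035114123263, -2977128575503746731806026382543016000285537435078232044530798218141257383634549828736154565758539894079453098563622668471710827155821690879,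 2977128575503746731806026382533621829954442102174822266048978814369761054673427191366858034110862475859436597135351976619089099801603604479, -2977128575492915980484367437140759281964986068675004883909691373024081100457252809955937234389951861439430493422316583158087891584851902463, -2977128575503746721477036720687536569950568483914651660728268968642610830218832572845752779386510930376144496833533625567183985784482955263, 2977128575503746731806026382533621820995463133455457279913871747757977547692321227096257222929738321127006699538204456778534629747079512063, 2977139932358813850663691215718120080025299921761078545128669759089585335853631969926334109062536406348142501586209081469024720440792186879, 2977139932358813840334691703379879891732710022712445286556666945101658148281662303885442802244118066489886549418257803979185797419871764479, 2977128575503746721477026870185987471330765414154626632595500678311488080770620525715511039221529042565585565922896869675131911058337300479, -2977128575492915990813376799989942748167436251210150575721405356462745202419680801312387491030635155817405827775358005647971978476734382079,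 14885654234362970026566147650970688120804502155667693221795576293400281368369701254498966329584488864494513878793877230678727277875876069379],
   [5954262829424196276883730917695919055221625566392235258663120614592561607805820967984063963637454766261597986201368164873125327083241734150, 5954262829424196276883730917695919055221625566392235258663120614592561607805820967984063963637454766261597986201368164873125327083250122750, 5678427533564593327247519988844682394325790531208935661532698991953870143422159551687028131307635938055056438887876672701678913323008, -5678427533554264327735172354486058717637778483719387513930292081574484460732857192973726262417408860169704415304660628073931926929408, -5678427533554264337585664509414347425374626950825133132283214480176972653240905816280662045692059249324501354796627895337881060769792, -5678427533564593337098012143764012123093919633336316848387905455944795951200415092529590716479813756302849076750199376841040243720192, -5678427533554264327735162960315727630848806921328964672649014346067806687186935838552149957143518715203248893658615649024501971156992,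 -5954262829424196276883730917695919055221625566392235258663120614592561607805820967971803999310527655394731209984165691404175414105772916734, 5678427533564593337098021537943302205939490551784574104438382627853945738416972942449690858757180106166482621810850398566943301828608, -5678427533554264327735162960306768651880103852638410917039988559021751590337935521906848279716364739059862387490753442530246778683392, -5678427533564593337098012143772971102062638998330222631023427223123714018329291972175180976109389937739844907574973590765590028484608, -5678427533564593337098021537934343226970787483094020348829356840807890641567972625816081194428673353368725603976115789766136019550208, 5954262829424196276883730917695919055221625566392235258663120614592561607805820967984063963637454766261597996342572966698960539056867377150, 5954262829424196276883730917695919055221625566392235258663120614592561621285794301559383860970962309771413323019940376143411567635046858750, -5954262829424196276883730917695919055221625566392235258663135435979983984278835185070145075689659984819635188193565215443878339963835645950,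 5678427533554264337585673903575719550282775435588930850089129963084631049404949803541556331813599278171484896340956711641516561399808, 5678427533564593327247510594674351307536818968834054171389241223791066292205463014886905010995652939608127222136660867082735748907008, 5678427533554264337585664509405388446405907585846768700785498545565410281366617087899903065023920006668461072679363539548438012100608, 5678427533564593327247519988835723415357071166230571230034983057342307771547870823294577137540849472053386668437466272457122058862592, -5678427533564593327247510594665392328568115900127959064642409604177655500101874547000156103105101669905667266120467603416230247006208, -5954262829445857758869049783786375416035243407825332423314494181586080979529372696951295413817454566309286576655254033708761292488155594750, 5678427533554264327735172354477099738669059118725481731294770314395566393603980313339828015886479902078338053470219344752836966612992, 5678427533554264337585673903584678529251478504295025956835961582698041841508538271439997252802797771219574321347464459184995364241408,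 17862788488294250312636511619178213526478494540609802940640750232158626585094002183568564386151149750033468321792761953652936499083203313666],
   [5954268507862560577305222767333396360663859124935988282613826024747361187147544093714177277645580815833161981174161570475917171632480714758, 5954268507862560577305222767333396360663859124935988282613826024747361187147544093714177277645580815833161981174161570475917171632489103358, 5164504681419894638976698456100577038597175116286201029046135227137371342622659025378985351667947077490922778443068211200, 5954268507862560577305222767333396360663859124935988282613826024747361187147544093714177277645580815833161981174161570485140543669335490558, 5164494830918345549315882898999912528563822548711985203379515067579014865527818066374417117547409159018753565643312726016, 5164504681419894647935677424811793888597612396769183236974064162579181582881235794683133105322875468052818811805289676800, -5164494830927739719646978231911470458721648055030693022276495771266912133166152154367704609093510400884744002396487680000,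 -5164504681419894638976707000048720730008180265275941984192454598461876441290600273483838844761756591703477486384630988800, 5164494830918345540356895386340552002693716435657672217707974464739449758662817750284223077236277315567702117815873961984, -5164504681419894647935685968759937564467266407953091624764688279315535440101935429028727587856738891241798639861261926400, 5164494830918345549315874355051768852694168537528076802108917617267341110973599738157041846708477281857746417363399475200, 5164494830927739710687990719252109932851556763363802426557955574593102107609068936042101836893977668305238987377528012800, -5954268507840899095319903901242939999850241283502891117962452457753841815423992364746945827465581015785473390720275701640281206227566854142, 5164494830927739710687999263200253608721210774547710814348579691329455953137766622113072249251128328042369277307020902400, -5164504681429288809307802332960278644624654633788817249213726236653556389372318639133431008629953418021420057368094310400, 5954245794152426339589893100964399860522160573643466803924442228178636792169790550029073334175246010721738207345361374657856748676179820542,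 -5164504681429288818266772757723351803214101586669480864988363828777268673759447499684208405063886627453834809808257024000, 5164504681429288818266781301671495494625106735659221833614656533677093681452909389956734404572016670243613454997930377216, 5164504681429288809307793789012134968755000622604908847943128786341882646510124559935878358873285443682205519523417686016, -5164494830927739719646969687963326767310642906040952067130176399942407022806186657243028515199865930315180942033734860800, 5164494830918345540356903930288695694104721584647413186334267169639274754664277692282124986285304334067074634998611968000, 5954268507862560577305222767333396360663859124919691994803150136057213621640269068425765530496253325828072857579326520077810477983013535742, 5954268507862560577305222767333396360663859124935988282613826024761495963665771168350843657651524163959781852349166522140890021242821672958, 17862782809855886012215019769540736221036260982066049916690044822003827005752279057838451072143023700461904326819968548050144654533964333058],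
   [8931391404933358374021587260583034881233181451371012956456448347631714835835879139126823424433480114792610289045131859893937572577383809029, 8931391404933358374021587260583034881233181451371012956456448347631714835835879139126823424433480114792610289045131859893937572577392197629, -2977134253925864920738524157352482310997066988421837423651706225729304354303027003828560488383373322797518017673776519309526996990188060671, -2977134253925864920738534007854031409616878602130006143195494486437590448850545972944708336602020371164016069766842146097539813753291276287, -2977134253925864920738534007854031409616878602138154287100825020088953043367669949293696618189473763847556116208228444563807299146347446271, -2977122897070797801880869174669533168505008295194962246080564299733294168871757414710054005619953965561540526343515482230836950919174684671, -2977134253925864910409524645004847952373398844357933609973212634492167586189741356625889252296260718778780929855536882469317475217070620671, 2977134253936695661731183590397710491403884453086529689617722589305821330114141314059755414120373593895131585939666692120048183303992246271,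 2977134253925864920738534007863425579947965391093420381942314843766557312601207305308100505572402060669216989082498252141000890908930998271, 2977134253925864920738534007854031418575857570841222985425256198024723761359727962900292097900286665845283809134622719185508468666519257087, -2977122897081628542873528607714761339952838247208442130081819905308417919999682579253093567393290059888909770649396036914032569378472460287, 2977134253936695651402193928551625240358981259597580386791790230110697329431294453091024694626327331225310270085326136139476437931652022271, 2977122897070797801880869174669533159546020782535601720210473008066403573153204362531889908140677561911798290154733339886517997738285596671, -2977134253925864920738534007854031418575857570841222977654580629114740089422766798294013263491151191001532259594724941028680248404997046271, -2977134253925864910409534495506397050993201914126106789782001848772058992045038950877153189765759722253821990170608250902034169724138422271, 2977134253925864910409534495506397050993201914117958638105995746224847502109168029054198381852898716783812270751947851858158280949101494271,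 2977122897070797791551869662331292971253447971383255828919129354252125741998151518127177454544418798386404905603373834288687138203130396671, 2977134253936695661731193440908653760354782855758112640137655638447225392993600381074037048828425691119036873595896215340086846887625228287, -2977134253925864920738534007854031409616870058190010595689819871099212074741377244393871622188024972232887296437051520906801562626605187071, 2977122897070797801880859324167984060926226256723720360176668338621783163085641050433382102716114405530954978540379173675928751437387923455, 2977134253925864920738534007863425579947973935041564065582644423860449372328792586662993149837162332440171893089265034694843636825453494271, 2977134253925864920738524157361876490287149834000904015814307631231126457924725339184813422117230863289459092673384106141662040012423692287, -2977134253936695661731193440899259590023687522846554725521181269934350127972328742882357100746707325469444699586484915789752146897138614271, 14885659912785088215498655276291097700466938655631025242847422499119473357063944012425804925355124401502456018948998258632124253589061238787],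
   [11908525658859223294760121268446460461181155386412577022039092771485096826645544855259143338780431094247991587770919855256569987895346069508, 11908525658859223294760121268446460461181155386412577022039092771485096826645544855259143338780431094247991587770919855256569987895354458108, -7067381519126870530673247182224451632013939992955701062475387551044599808, 8543948143683640329580086824678208458410811959444447610657546698268114516501893545287250809454592, -10830740992659433045228180406808920716548590096362352399675969539617064025514315698525088384033015583787320264738450868648542208, 11356855067108528665320836863891447172587634213242025868726967468146166239345679961483667802624031813556740106707760884689359226273792, -11356855067108528665320836863891447172587634213242025868726967468146166239345679961483667802624042447390847590836569950357815094673408, -8543948143683640329580086824678208458410811959444447621807919297533426087269761904983468417220608, 7067381519126870530673235490211352984790594363477039332211221507491233792,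 -8543948143683640329580086824678208458410824219408774537768413565044331718975371718572265133047808, -10830740992659433045228180406808920716548590096362352399675969539629919529868387620729424080771744884597826482131796177933303808, -7067394999100204105993144515731995141829276811527912332761619306756702208, -7067394999100204105993132823718896494605931182049250602497470855389380608, -9850501549107578782038463093734227889858557232134331118571910783883481838142434294377485888502838743334358989406208, 10830740992659433045228180406808920716548574555011214593843402183921809437363062559270375966916845569278370946947252193582907392, -9850501549107578782038479390022038550925859957323365379380113114518578960413881346299088526502666097015127862673408, -8543948143683640329580086824678208458410824219408774548918786164309643289743221631524409031262208, 9850501549089660824101040660049768336792622255532884940376947506492229720116165922206052403889220970375305538568192, -11908525658859223294760121268427672120518964720589461177264778075266091366254278296293485011008173422047074720223210263269491838271090589692,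 -9850501549089660824101056956337579027502699825474865229619321999351431252824729048531639435990189830081835599659008, -11356855067129186664345532132608694525963658308236663515069601256248811514198005142459802532181068976393122414161073945277114831863808, -10830740992659433045228180406808920716548574555011214593843402183934664941717134481474711663655574870108219977454431569662967808, -11356855067129186664345532132608694525963658308236663515069601256248811514198005142459802532181079610206947488686231340521623448977408, 11908525658859223294760121268427672120518964720589461177264778075266091366254278296293485011008173422047074720223210263269491838271098978308],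
   [11908525658859223294760121268437066290850060053501019099651935423375594089709924908988654226227548486392625485587778953627887792807315767300, 11908525658859223294760121268437066290850060053501019099651935423375594089709924908988654226227548486392625485587778953627887792807324155900, 9394170331095332911557922387157348102435341936519742164495979729163711360760171001091651026184724232640921600, 10328989661846085260003873618252022461415371901382076434960970439089239426636921904215928559553992440213369258732263833600, 10328989661846085260003873618252022461415371901382076434960970439089239426636921904215928559553982768816035713735720960000, 10830740992659433045228180406808920716548582325694194190470874098282973020526298952638953869429503043837822055801926667206656000, 8543939995547505667204644667179132668525467959179606043399367127900105595572827148657603326771200, -11356855067118857664833184498259029828244357477581574461020558139309975465188533327147296231549445548368941239352174083477826296610816,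 9394170331095332911557922387157348102435341936519742164495968037150612713536825371612989295920575781273600000, -10830740992659433045228180406808920716548582325694194190470874098282973032786263279566064736296289402245097350587051618301116416, 11356855067118857664833184498259029828244357477581574461020558139309975452333028973075374016063376210374328848406690996891302861209600, 11908525658859223294760121268437066290850060053501019099651935423375594103189898242563974123561056029902440822406351164898174033359120891900, -9394170331095332911557922387157348116570118454746816801162359735107059487380042176096602691157582639074902016, 10830740992659433045228180406808920716548582325679372803048497625268755934445186900433735311392311192845573310884125760238387200, 8543939995531964316066838834611776973270879807926466788686960645554057375621899144832443901542400, -8543956291835316343093334814744639943550756370926755370889382850847666709950208485807735036706816, -8543956291819774991955528982177284248296168219673616116176955100853685931345314021069611125964800,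 11356855067118857664833184498241111870306935043897114922776010585085002301210656130868096307591362614134188381021267927207472686694400, -9394170331095332911557922387157348116570118454746816801162348043093960840156696546617940960893416595521536000, -10329009362849183457243479757772072533222274441251711667684304413235941549497807652821234266687119882680413034083113762816, -10329009362849183457243479757772072533222274441251711667684304413235941549497807652821234266687110211264632745012861337600, -10830740992659433045228180406808920716548582325679372803048497625268755946705151227360846178259077268843244953998826764081561600, -11356855067118857664833184498241111870306935043897114922776010585085002288355151776796174114406038474670199131611503113269310757273600, 11908525658859223294760121268437066290850060053501019099651935423375594103189898242563974123561056029902440822406351164898174033359129280516]]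

/-- The images of the generators. -/
noncomputable def imgs : List (List (List ℤ)) :=
  [[[ep2, em2, ep0, ep0, ep0, ep0, ep2, ep0, ep0, ep0, ep0, ep2, ep0, ep0, ep2, ep2, ep2, ep0, ep0, ep0, ep0, ep0, ep0, em2], [em2, ep2, ep0, ep0, ep0, ep0, ep2, ep0, ep0, ep0, ep0, ep2, ep0, ep0, ep2, ep2, ep2, ep0, ep0, ep0, ep0, ep0, ep0, em2], [em2, em2, ep0, ep0, ep0, ep0, ep2, ep0, ep0, ep0, ep0, ep2, ep0, ep0, ep2, ep2, em2, ep0, ep0, ep0, ep0, ep0, ep0, em2], [em1, em1, em1, ep1, ep1, em1, ep1, em1, ep1, em1, em1, ep1, em1, em1, ep1, ep1, ep1, ep1, ep1, em1, em1, em1, ep1, em3], [ep0, ep0, ep0, ep0, ep0, ep0, ep0, ep0, ep0, ep0, ep0, ep4, ep0, ep0, ep0, ep0, ep0, ep0, ep0, ep0, ep0, ep0, ep0, em4], [em1, em1, ep1, em1, em1, em1, ep1, ep1, ep1, ep1, em1, ep1, em1, ep1, ep1, ep1, ep1, ep1, em1, em1, em1, em1, em1, em3], [em1, em1, em1, ep1, em1, ep1, ep1, ep1, em1, em1, em1, ep1, em1, ep1, ep1, ep1, ep1, em1, em1, ep1, em1, em1, ep1, em3], [em1, em1, ep1, ep1, ep1, ep1, ep1, ep1, ep1, em1, em1, ep1, em1, em1,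 ep1, ep1, ep1, ep1, em1, ep1, ep1, ep1, em1, em3], [em1, em1, ep1, ep1, ep1, em1, ep1, em1, ep1, ep1, ep1, ep1, em1, ep1, ep1, ep1, ep1, em1, em1, ep1, ep1, em1, ep1, em3], [em1, em1, ep1, ep1, em1, em1, ep1, ep1, ep1, ep1, em1, ep1, ep1, em1, ep1, ep1, ep1, em1, ep1, ep1, em1, ep1, ep1, em3], [em1, em1, em1, em1, ep1, em1, ep1, em1, ep1, em1, em1, ep1, ep1, ep1, ep1, ep1, ep1, em1, em1, ep1, em1, ep1, em1, em3], [em1, em1, ep1, ep1, ep1, ep1, ep1, em1, em1, ep1, em1, ep1, ep1, ep1, ep1, ep1, ep1, ep1, em1, em1, em1, ep1, ep1, em3], [em1, em1, em1, ep1, em1, em1, ep1, em1, em1, ep1, ep1, ep1, em1, em1, ep1, ep1, ep1, ep1, em1, ep1, em1, ep1, em1, em3], [em2, em2, ep0, ep0, ep0, ep0, ep2, ep0, ep0, ep0, ep0, ep2, ep0, ep0, ep2, em2, ep2, ep0, ep0, ep0, ep0, ep0, ep0, em2], [em1, em1, ep1, ep1, em1, em1, ep1, em1, em1, em1, em1, ep1, em1, ep1, ep1, ep1, ep1, em1, ep1, em1, ep1, ep1, em1, em3], [em1, em1, ep1, em1, em1, ep1, ep1, em1, ep1, em1, ep1, ep1, em1, em1, ep1, ep1, ep1, em1, em1, em1, em1, ep1,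 ep1, em3], [em2, em2, ep0, ep0, ep0, ep0, em2, ep0, ep0, ep0, ep0, ep2, ep0, ep0, ep2, ep2, ep2, ep0, ep0, ep0, ep0, ep0, ep0, em2], [em1, em1, ep1, ep1, em1, ep1, ep1, em1, ep1, em1, ep1, ep1, ep1, ep1, ep1, ep1, ep1, ep1, ep1, ep1, em1, em1, em1, em3], [em1, em1, ep1, em1, ep1, em1, ep1, ep1, em1, em1, ep1, ep1, em1, ep1, ep1, ep1, ep1, ep1, ep1, ep1, em1, ep1, ep1, em3], [em1, em1, em1, em1, em1, ep1, ep1, em1, ep1, ep1, em1, ep1, em1, ep1, ep1, ep1, ep1, ep1, ep1, ep1, ep1, ep1, ep1, em3], [em1, em1, ep1, em1, em1, em1, ep1, em1, em1, em1, em1, ep1, ep1, em1, ep1, ep1, ep1, ep1, em1, ep1, ep1, em1, ep1, em3], [em1, em1, em1, ep1, em1, em1, ep1, ep1, ep1, em1, ep1, ep1, ep1, ep1, ep1, ep1, ep1, ep1, em1, em1, ep1, ep1, ep1, em3], [em2, em2, ep0, ep0, ep0, ep0, ep2, ep0, ep0, ep0, ep0, ep2, ep0, ep0, em2, ep2, ep2, ep0, ep0, ep0, ep0, ep0, ep0, em2], [ep0, ep0, ep0, ep0, ep0, ep0, ep0, ep0, ep0, ep0, ep0, ep0, ep0, ep0, ep0, ep0, ep0, ep0, ep0, ep0, ep0, ep0, ep0, ep0], [ep2, ep2, ep0, ep0, ep0,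 ep0, em2, ep0, ep0, ep0, ep0, em2, ep0, ep0, em2, em2, em2, ep0, ep0, ep0, ep0, ep0, ep0, ep6], [em1, em1, ep1, ep1, em1, em1, ep1, em1, ep1, em1, em1, ep3, em1, ep1, ep1, ep1, ep1, ep1, em1, ep1, em1, ep1, ep1, em1], [ep1, em1, ep1, ep1, em1, em1, em1, em1, em1, em1, ep1, ep1, em1, ep1, em1, ep1, ep1, ep1, ep1, ep1, em1, ep1, em1, ep3], [em2, ep0, ep0, ep0, em2, ep0, ep0, em2, ep0, ep0, ep0, ep2, em2, ep0, ep0, ep0, ep2, ep0, ep0, ep0, ep0, ep2, ep0, ep2], [em1, em1, ep1, em1, em1, em1, ep1, em1, em1, em1, ep1, ep1, em1, em1, em1, em1, em1, ep1, em1, ep1, em1, ep1, ep1, ep3], [em1, em1, em1, ep1, em1, em1, ep1, em1, ep1, em1, ep1, ep1, em1, ep1, em1, em1, ep1, ep3, ep1, ep1, em1, ep1, ep1, ep1], [ep0, ep0, ep0, ep0, em2, ep0, em2, em2, ep0, ep0, ep0, ep2, ep0, ep0, ep0, em2, ep0, ep2, ep0, ep2, ep0, ep0, ep0, ep2], [ep0, ep0, ep2, ep0, em2, em2, ep0, ep0, ep0, em2, ep0, ep0, ep0, ep2, ep0, em2, ep0, ep2, ep0, ep0, ep0, ep0, ep0, ep2], [ep0, ep0, ep0, ep0, em2, ep0, ep0, ep0, ep0, em2, ep0, ep0, em2,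 ep2, em2, ep0, ep0, ep0, ep0, ep0, ep0, ep2, ep2, ep2], [ep0, ep0, ep2, ep0, em2, ep0, ep0, em2, ep0, em2, ep0, ep0, em2, ep0, ep0, ep0, ep0, ep2, ep0, ep2, ep0, ep2, ep0, ep0], [em1, em1, ep1, em1, em1, em1, em1, em1, ep1, em1, ep1, ep1, em1, ep1, ep1, em1, ep1, ep1, em1, ep1, ep1, ep1, ep3, ep1], [em1, em1, ep1, ep1, em3, em1, em1, em1, ep1, em1, em1, ep1, ep1, ep1, em1, ep1, ep1, ep1, ep1, ep1, ep1, ep1, ep1, ep1], [ep0, ep0, ep0, ep0, em2, em2, em2, em2, ep0, em2, ep0, ep0, ep0, ep0, ep0, ep0, ep0, ep0, em2, ep0, ep0, ep2, ep0, ep2], [em1, em1, ep1, ep1, em1, ep1, em1, em1, ep1, em1, ep1, ep1, ep1, ep1, em1, em1, ep1, ep1, em1, em1, em1, ep1, ep1, ep3]],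
   [[ep1, em3, ep1, em1, em1, ep1, em1, ep1, em1, em1, ep1, em1, ep1, ep1, ep1, em1, ep1, ep1, em1, em1, em1, em1, ep1, em1], [em3, ep1, ep1, em1, em1, ep1, em1, ep1, em1, em1, ep1, em1, ep1, ep1, ep1, em1, ep1, ep1, em1, em1, em1, em1, ep1, em1], [em1, em1, ep1, em1, em1, ep1, em1, ep1, ep1, ep1, ep1, em1, ep1, ep1, em1, em1, ep1, ep1, em1, ep1, em1, em1, em1, em3], [em1, em1, ep1, em1, ep1, ep1, ep1, ep1, em1, ep1, ep1, em1, em1, ep1, ep1, em1, ep1, em1, em1, em1, em1, em1, ep1, em3], [em2, em2, ep0, ep0, ep0, ep0, ep0, ep0, ep0, ep0, ep0, ep0, ep0, ep2, ep0, em2, ep0, ep2, em2, em2, ep0, ep0, ep0, em2], [em1, em1, em1, em1, em1, ep1, em1, ep1, em1, ep1, em1, em1, ep1, ep1, ep1, ep1, ep1, ep1, em1, em1, ep1, em1, ep1, em3], [em1, em1, ep1, em1, em1, em1, ep1, ep1, em1, em1, ep1, em1, ep1, ep1, ep1, em1, ep1, ep1, ep1, em1, ep1, em1, em1, em3], [em1, em1, ep1, ep1, em1, ep1, em1, ep1, em1, em1, ep1, em1, em1, ep1, ep1, ep1, ep1, ep1, em1, em1, em1, ep1, em1, em3], [em1, em1, ep1, em1, em1, ep1, ep1,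 ep1, em1, em1, ep1, ep1, ep1, ep1, em1, ep1, em1, ep1, em1, em1, em1, em1, ep1, em3], [em2, em2, ep2, ep0, ep0, ep0, ep0, ep0, em2, ep0, ep0, em2, ep2, ep0, ep0, ep0, ep0, ep0, em2, ep0, ep0, ep0, ep0, em2], [em2, em2, ep0, em2, ep0, ep0, em2, ep0, em2, ep0, ep2, ep0, ep0, ep2, ep0, ep0, ep0, ep0, ep0, ep0, ep0, ep0, ep0, em2], [em2, em2, ep2, em2, ep0, ep2, ep0, ep0, ep0, ep0, ep0, ep0, ep0, ep0, ep2, ep0, ep0, ep2, ep0, ep0, ep0, ep0, ep0, em2], [em1, em1, ep1, em1, ep1, ep1, em1, ep1, em1, em1, em1, em1, ep1, ep1, em1, em1, ep1, ep1, ep1, em1, em1, ep1, ep1, em3], [em1, em1, em1, em1, em1, ep1, ep1, em1, em1, em1, ep1, em1, ep1, ep1, ep1, em1, ep1, ep1, em1, ep1, em1, ep1, ep1, em3], [em1, em1, ep1, em1, em1, em1, em1, ep1, em1, ep1, ep1, ep1, ep1, em1, ep1, em1, ep1, ep1, em1, em1, em1, ep1, ep1, em3], [em1, em1, ep1, em1, ep1, em1, em1, em1, ep1, em1, ep1, em1, ep1, ep1, ep1, ep1, ep1, ep1, em1, em1, em1, em1, ep1, em3], [em1, em1, ep1, em1, em1, em1, em1, ep1, em1, em1, em1, em1, em1, ep1, ep1,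 em1, em1, ep1, em1, ep1, em1, em1, ep1, em3], [em2, em2, ep0, em2, ep0, ep0, ep0, ep2, ep0, em2, ep0, ep0, ep0, ep0, ep0, ep0, ep2, ep0, em2, ep0, ep0, ep0, ep0, em2], [em1, em1, ep1, em1, em1, ep1, em1, em1, em1, em1, ep1, em1, em1, em1, em1, em1, ep1, ep1, em1, em1, ep1, em1, ep1, em3], [em1, em1, ep1, em1, em1, ep1, em1, em1, em1, em1, em1, ep1, ep1, ep1, ep1, em1, ep1, em1, em1, em1, em1, em1, em1, em3], [em2, em2, ep0, ep0, ep0, ep0, ep0, ep0, em2, ep0, ep0, ep0, ep0, ep0, ep0, ep0, ep2, ep2, ep0, ep0, em2, em2, ep0, em2], [em2, em2, ep2, ep0, em2, ep0, ep0, ep0, ep0, ep0, ep0, ep0, ep0, ep2, ep0, ep0, ep2, ep0, ep0, ep0, ep0, ep0, ep2, em2], [em1, em1, ep1, ep1, ep1, ep1, em1, ep1, em1, em1, ep1, ep1, ep1, ep1, ep1, em1, ep1, ep1, em1, ep1, ep1, em1, ep1, em3], [ep0, ep0, ep0, ep0, ep0, ep0, ep0, ep0, ep0, ep0, ep0, ep0, ep0, ep0, ep0, ep0, ep0, ep0, ep0, ep0, ep0, ep0, ep0, ep0], [ep3, ep3, em1, ep1, ep1, em1, ep1, em1, ep1, ep1, em1, ep1, em1, em1, em1, ep1, em1, em1, ep1, ep1, ep1, ep1, em1,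 ep5], [ep0, ep0, ep2, em2, ep0, ep0, ep0, ep0, em2, ep0, ep0, ep0, ep0, ep2, ep0, ep0, ep2, ep2, em2, ep0, ep0, ep0, ep0, em2], [ep3, ep1, ep1, em1, ep1, em1, em1, ep1, em1, em1, em1, ep1, em1, em1, em1, em1, ep1, ep1, em1, ep1, ep1, ep1, ep1, ep1], [ep1, ep3, ep1, em1, ep1, em1, em1, em1, em1, em1, em1, ep1, ep1, ep1, ep1, em1, ep1, ep1, em1, ep1, em1, ep1, ep1, em1], [ep2, ep2, ep0, ep0, ep2, ep0, ep0, em2, ep0, ep0, ep0, ep0, ep0, ep0, em2, ep0, ep2, ep2, ep0, ep2, ep0, ep0, ep0, ep0], [ep1, ep1, ep1, em1, ep1, ep1, ep1, em1, em1, em1, em1, ep1, em1, ep1, em1, em1, ep3, em1, em1, ep1, ep1, ep1, ep1, em1], [ep1, ep1, em1, em1, ep1, em1, ep1, em1, em1, em1, em3, ep1, em1, ep1, em1, em1, ep1, ep1, em1, ep1, em1, ep1, em1, ep1], [ep1, ep1, em1, em1, em1, em1, ep1, em1, em1, ep1, em1, ep1, em1, em1, em1, ep1, ep3, ep1, em1, ep1, ep1, ep1, ep1, ep1], [ep2, ep2, ep2, ep0, ep0, em2, ep0, em2, ep0, ep0, ep0, ep2, ep0, ep0, ep0, ep0, ep2, ep0, ep0, ep0, ep2, ep0, ep0, ep0], [ep1, ep1, ep1, em1, ep1, em1,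 em1, em1, em1, em1, em1, ep1, em1, em1, em1, ep1, ep3, ep1, em1, em1, em1, ep1, em1, em1], [ep1, ep1, ep1, em1, em1, em1, ep1, em3, em1, em1, em1, ep1, em1, ep1, em1, ep1, ep1, ep1, em1, ep1, em1, em1, ep1, em1], [ep0, ep0, ep2, ep0, ep0, em2, ep0, ep0, em2, ep0, em2, ep2, ep0, ep0, ep0, ep0, ep2, ep0, em2, ep2, ep0, ep0, ep0, ep0], [ep1, ep1, ep1, em1, ep1, em3, em1, em1, em1, ep1, em1, ep1, em1, ep1, em1, ep1, ep1, ep1, ep1, ep1, em1, ep1, ep1, ep1], [ep1, ep1, ep1, em1, ep1, em1, ep1, em1, ep1, em1, em1, ep1, em1, ep1, ep1, ep1, ep1, ep1, em1, ep3, ep1, ep1, ep1, ep1]],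
   [[ep2, em2, ep0, ep0, ep0, ep0, ep0, ep2, ep0, ep0, ep0, ep0, em2, em2, ep2, ep0, ep0, ep0, ep0, ep0, ep2, ep0, ep0, em2], [em2, ep2, ep0, ep0, ep0, ep0, ep0, ep2, ep0, ep0, ep0, ep0, em2, em2, ep2, ep0, ep0, ep0, ep0, ep0, ep2, ep0, ep0, em2], [em1, em1, ep1, em1, ep1, em1, ep1, ep1, ep1, em1, ep1, ep1, em1, em1, ep1, em1, em1, ep1, em1, em1, ep1, em1, ep1, em3], [em1, em1, ep1, ep1, ep1, ep1, ep1, ep1, ep1, em1, em1, ep1, em1, em1, ep1, ep1, ep1, ep1, em1, ep1, ep1, ep1, em1, em3], [em1, em1, ep1, em1, ep1, em1, em1, ep1, em1, ep1, ep1, em1, em1, em1, ep1, ep1, ep1, ep1, em1, ep1, ep1, em1, em1, em3], [em2, em2, ep0, ep0, ep0, ep0, ep0, ep2, ep0, ep0, ep0, ep0, ep2, em2, ep2, ep0, ep0, ep0, ep0, ep0, ep2, ep0, ep0, em2], [em1, em1, em1, em1, ep1, em1, ep1, ep1, em1, ep1, em1, ep1, em1, em1, ep1, ep1, ep1, em1, em1, em1, ep1, ep1, ep1, em3], [em1, em1, em1, em1, ep1, ep1, em1, ep1, ep1, ep1, em1, ep1, em1, em1, ep1, ep1, em1, ep1, ep1, em1, ep1, em1, em1, em3], [em1, em1, ep1, ep1, ep1, ep1, em1,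 ep1, em1, ep1, em1, em1, em1, em1, ep1, em1, em1, ep1, em1, em1, ep1, ep1, ep1, em3], [ep0, ep0, ep0, ep0, ep0, ep0, ep0, ep4, ep0, ep0, ep0, ep0, ep0, ep0, ep0, ep0, ep0, ep0, ep0, ep0, ep0, ep0, ep0, em4], [em1, em1, ep1, ep1, em1, ep1, ep1, ep1, em1, ep1, ep1, ep1, em1, em1, ep1, ep1, ep1, ep1, ep1, em1, ep1, em1, ep1, em3], [em2, em2, ep0, ep0, ep0, ep0, ep0, ep2, ep0, ep0, ep0, ep0, em2, ep2, ep2, ep0, ep0, ep0, ep0, ep0, ep2, ep0, ep0, em2], [em1, em1, em1, em1, em1, ep1, ep1, ep1, ep1, ep1, ep1, em1, em1, em1, ep1, em1, ep1, ep1, em1, em1, ep1, ep1, em1, em3], [em2, em2, ep0, ep0, ep0, ep0, ep0, ep2, ep0, ep0, ep0, ep0, em2, em2, em2, ep0, ep0, ep0, ep0, ep0, ep2, ep0, ep0, em2], [em1, em1, em1, em1, ep1, ep1, ep1, ep1, em1, em1, em1, em1, em1, em1, ep1, em1, ep1, ep1, ep1, ep1, ep1, em1, ep1, em3], [em1, em1, ep1, em1, em1, ep1, ep1, ep1, em1, em1, em1, em1, em1, em1, ep1, ep1, em1, em1, em1, em1, ep1, em1, em1, em3], [em1, em1, em1, ep1, ep1, ep1, em1, ep1, ep1, em1, ep1, em1, em1, em1, ep1,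 ep1, ep1, em1, em1, em1, ep1, em1, ep1, em3], [em1, em1, ep1, em1, em1, ep1, em1, ep1, ep1, ep1, em1, ep1, em1, em1, ep1, em1, ep1, em1, em1, ep1, ep1, em1, ep1, em3], [em1, em1, ep1, em1, ep1, ep1, ep1, ep1, ep1, ep1, ep1, em1, em1, em1, ep1, ep1, em1, em1, ep1, ep1, ep1, ep1, ep1, em3], [em1, em1, em1, ep1, em1, em1, ep1, ep1, ep1, ep1, em1, em1, em1, em1, ep1, ep1, em1, ep1, em1, ep1, ep1, em1, ep1, em3], [em1, em1, ep1, ep1, ep1, em1, ep1, ep1, ep1, ep1, em1, em1, em1, em1, ep1, em1, ep1, em1, ep1, em1, ep1, em1, em1, em3], [em2, em2, ep0, ep0, ep0, ep0, ep0, ep2, ep0, ep0, ep0, ep0, em2, em2, ep2, ep0, ep0, ep0, ep0, ep0, em2, ep0, ep0, em2], [em1, em1, ep1, em1, em1, em1, em1, ep1, ep1, em1, em1, em1, em1, em1, ep1, ep1, ep1, ep1, ep1, em1, ep1, ep1, ep1, em3], [ep0, ep0, ep0, ep0, ep0, ep0, ep0, ep0, ep0, ep0, ep0, ep0, ep0, ep0, ep0, ep0, ep0, ep0, ep0, ep0, ep0, ep0, ep0, ep0], [ep2, ep2, ep0, ep0, ep0, ep0, ep0, em2, ep0, ep0, ep0, ep0, ep2, ep2, em2, ep0, ep0, ep0, ep0, ep0, em2, ep0, ep0,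 ep6], [em1, em1, ep1, em1, ep1, ep1, ep1, ep3, ep1, ep1, em1, em1, em1, em1, ep1, ep1, ep1, ep1, em1, em1, ep1, em1, ep1, em1], [ep2, ep0, ep0, em2, ep0, ep2, ep0, ep0, ep2, ep0, ep0, em2, ep0, ep0, ep0, ep0, ep2, ep0, ep0, ep0, ep0, ep0, ep2, ep2], [em1, ep1, em1, em1, em1, ep1, ep1, ep1, ep1, em1, em1, em3, em1, em1, em1, ep1, ep1, ep1, em1, em1, ep1, em1, ep1, ep1], [ep0, ep0, ep2, em2, ep0, ep0, ep2, ep0, ep2, ep0, ep0, em2, ep0, ep0, em2, ep0, ep0, ep0, ep0, em2, ep0, ep0, ep0, ep2], [em1, em1, ep1, em1, em1, ep1, ep1, ep1, ep3, ep1, em1, em1, em1, em1, em1, ep1, ep1, ep1, em1, ep1, em1, ep1, ep1, ep1], [ep0, ep0, ep0, ep0, ep0, ep0, ep0, ep0, ep2, ep2, ep0, em2, ep0, ep0, em2, ep0, ep2, ep0, em2, ep0, ep0, em2, ep0, ep2], [em1, em1, ep1, em1, ep1, ep1, ep1, ep1, ep1, ep1, em1, em1, ep1, em1, em1, em1, ep1, em1, ep1, ep1, em1, em1, ep1, ep3], [ep0, ep0, ep0, em2, ep0, ep0, ep2, ep0, ep0, ep0, em2, em2, ep0, ep0, ep0, ep2, ep0, ep0, ep0, ep0, em2, ep0, ep2, ep2], [ep0, ep0, ep0, em2, ep0, ep2,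 ep2, ep0, ep2, ep2, em2, em2, ep0, ep0, ep0, ep0, ep0, ep0, ep0, ep0, ep0, em2, ep0, ep0], [em1, em1, ep1, ep1, ep1, ep1, ep1, ep1, ep1, ep1, em1, em3, em1, em1, em1, ep1, em1, em1, em1, em1, em1, em1, ep1, ep1], [ep0, ep0, ep0, ep0, ep0, ep0, ep0, ep2, ep2, ep0, em2, em2, ep0, ep0, ep0, ep0, ep2, ep0, ep0, ep0, em2, em2, ep2, ep0], [ep0, ep0, ep0, ep0, ep0, ep2, ep2, ep0, ep0, ep0, ep0, em2, ep0, ep0, ep0, ep0, ep2, ep0, ep0, em2, em2, em2, ep0, ep2], [em1, em1, ep1, em1, em1, ep1, em1, ep1, ep1, em1, em1, em1, em1, ep1, em1, ep1, ep1, em1, em1, em1, em1, em1, ep1, ep3]],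
   [[ep2, em2, ep0, em2, ep0, ep0, ep0, ep0, ep0, ep0, ep0, ep0, ep2, ep0, ep0, em2, ep0, ep0, ep0, ep0, ep0, em2, em2, em2], [em2, ep2, ep0, em2, ep0, ep0, ep0, ep0, ep0, ep0, ep0, ep0, ep2, ep0, ep0, em2, ep0, ep0, ep0, ep0, ep0, em2, em2, em2], [em1, em1, ep1, em1, ep1, em1, em1, em1, em1, ep1, ep1, em1, ep1, em1, em1, em1, ep1, em1, ep1, em1, em1, em1, em1, em3], [em2, em2, ep0, ep2, ep0, ep0, ep0, ep0, ep0, ep0, ep0, ep0, ep2, ep0, ep0, em2, ep0, ep0, ep0, ep0, ep0, em2, em2, em2], [em1, em1, em1, em1, ep1, em1, ep1, em1, em1, em1, em1, ep1, ep1, em1, ep1, em1, em1, em1, ep1, em1, ep1, em1, em1, em3], [em1, em1, em1, em1, ep1, ep1, ep1, em1, ep1, ep1, em1, em1, ep1, ep1, ep1, em1, ep1, ep1, ep1, em1, em1, em1, em1, em3], [em1, em1, ep1, em1, em1, em1, ep1, ep1, em1, em1, ep1, em1, ep1, ep1, ep1, em1, ep1, ep1, ep1, em1, ep1, em1, em1, em3], [em1, em1, ep1, em1, ep1, ep1, em1, ep1, em1, ep1, em1, em1, ep1, ep1, ep1, em1, em1, em1, ep1, ep1, ep1, em1, em1, em3], [em1, em1, ep1, em1, ep1, em1, em1,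 ep1, ep1, em1, em1, ep1, ep1, em1, ep1, em1, ep1, ep1, ep1, ep1, em1, em1, em1, em3], [em1, em1, em1, em1, ep1, em1, ep1, ep1, ep1, ep1, ep1, em1, ep1, em1, em1, em1, em1, ep1, ep1, ep1, ep1, em1, em1, em3], [em1, em1, em1, em1, ep1, ep1, ep1, ep1, em1, em1, ep1, ep1, ep1, ep1, em1, em1, ep1, em1, ep1, ep1, em1, em1, em1, em3], [em1, em1, ep1, em1, ep1, ep1, ep1, ep1, em1, ep1, em1, ep1, ep1, em1, em1, em1, ep1, ep1, em1, em1, ep1, em1, em1, em3], [em2, em2, ep0, em2, ep0, ep0, ep0, ep0, ep0, ep0, ep0, ep0, ep2, ep0, ep0, em2, ep0, ep0, ep0, ep0, ep0, em2, ep2, em2], [em1, em1, ep1, em1, ep1, em1, ep1, em1, em1, ep1, ep1, ep1, ep1, ep1, ep1, em1, em1, ep1, em1, ep1, em1, em1, em1, em3], [em1, em1, em1, em1, em1, ep1, em1, em1, em1, ep1, ep1, ep1, ep1, em1, ep1, em1, ep1, ep1, ep1, ep1, ep1, em1, em1, em3], [ep0, ep0, ep0, ep0, ep0, ep0, ep0, ep0, ep0, ep0, ep0, ep0, ep0, ep0, ep0, ep0, ep0, ep0, ep0, ep0, ep0, em4, ep0, em4], [em1, em1, em1, em1, ep1, em1, em1, em1, em1, em1, em1, em1, ep1, ep1, em1,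 em1, ep1, ep1, em1, ep1, ep1, em1, em1, em3], [em1, em1, em1, em1, ep1, ep1, em1, ep1, em1, em1, ep1, em1, ep1, em1, ep1, em1, em1, ep1, em1, em1, em1, em1, em1, em3], [em1, em1, em1, em1, em1, em1, em1, ep1, em1, ep1, em1, ep1, ep1, ep1, em1, em1, em1, ep1, ep1, em1, em1, em1, em1, em3], [em1, em1, ep1, em1, em1, ep1, ep1, em1, em1, em1, em1, em1, ep1, em1, em1, em1, em1, ep1, ep1, ep1, em1, em1, em1, em3], [em1, em1, ep1, em1, ep1, ep1, em1, em1, ep1, em1, ep1, ep1, ep1, ep1, em1, em1, em1, ep1, ep1, em1, ep1, em1, em1, em3], [ep0, ep0, ep0, ep0, ep0, ep0, ep0, ep0, ep0, ep0, ep0, ep0, ep4, ep0, ep0, ep0, ep0, ep0, ep0, ep0, ep0, ep0, ep0, em4], [ep0, ep0, ep0, ep0, ep0, ep0, ep0, ep0, ep0, ep0, ep0, ep0, ep0, ep0, ep0, em4, ep0, ep0, ep0, ep0, ep0, ep0, ep0, em4], [ep0, ep0, ep0, ep0, ep0, ep0, ep0, ep0, ep0, ep0, ep0, ep0, ep0, ep0, ep0, ep0, ep0, ep0, ep0, ep0, ep0, ep0, ep0, ep0], [ep2, ep2, ep0, ep2, ep0, ep0, ep0, ep0, ep0, ep0, ep0, ep0, em2, ep0, ep0, ep2, ep0, ep0, ep0, ep0, ep0, ep2, ep2,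 ep6], [ep0, ep0, ep0, ep0, ep2, ep0, ep0, ep0, em2, ep0, ep0, ep0, ep2, ep0, ep0, em2, ep0, ep2, ep2, ep0, ep0, em2, ep0, em2], [ep2, ep0, em2, ep0, ep0, ep0, em2, ep0, em2, ep0, ep0, ep0, ep0, ep0, ep0, em2, ep0, ep2, ep0, ep0, ep0, ep0, ep2, ep2], [ep0, ep2, ep0, ep0, ep0, ep0, ep0, em2, em2, ep0, ep0, ep0, ep0, ep0, ep0, em2, ep0, ep2, ep0, ep2, ep0, em2, ep2, ep0], [ep1, ep1, ep1, ep1, ep1, em1, em1, em1, em1, ep1, ep1, ep1, em1, ep1, em1, em1, em1, ep1, ep1, em1, em1, em1, ep3, ep1], [ep0, ep0, ep0, ep2, ep0, ep0, ep0, ep0, em2, ep0, ep0, ep0, ep2, ep0, ep0, em2, em2, ep2, ep0, ep0, em2, ep0, ep2, ep0], [ep0, ep0, ep0, ep0, ep2, ep0, ep0, em2, em2, em2, ep0, ep0, ep0, ep0, ep0, ep0, em2, ep2, ep0, ep0, ep0, ep0, ep2, ep2], [ep1, ep1, em1, ep1, ep1, ep1, em1, em1, em1, ep1, ep1, ep1, ep1, ep1, ep1, ep1, em1, ep3, ep1, em1, em1, ep1, ep1, ep1], [ep2, ep2, ep0, ep2, em2, ep0, ep0, ep0, em2, ep0, ep0, ep0, ep0, ep0, ep0, ep0, ep0, ep2, ep2, ep0, ep0, ep0, ep2, ep0], [ep0, ep0, ep0, ep0, ep0, ep2,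 em2, ep0, em2, ep0, ep0, ep0, ep0, ep0, ep0, ep0, em2, ep2, ep2, ep0, ep0, em2, ep2, ep0], [ep1, ep1, ep1, ep1, ep1, em1, em1, em1, em1, em1, em1, ep1, ep1, ep1, em1, ep1, em1, ep3, ep1, ep1, em1, em1, ep1, em1], [ep1, ep1, em1, ep1, ep1, ep1, em1, em1, em1, em1, ep1, em1, ep1, em1, em1, em1, em1, ep3, ep1, ep1, ep1, ep1, ep1, em1], [ep1, ep1, em1, ep1, ep1, ep1, em1, em1, em1, em1, ep1, ep1, ep1, ep1, em1, ep1, ep1, ep1, ep1, ep1, ep1, em1, ep3, ep1], [ep2, ep2, ep0, ep2, ep2, ep0, ep0, ep0, em2, ep0, ep0, ep0, ep0, ep0, ep0, ep0, ep0, ep2, em2, ep0, ep0, ep0, ep2, ep0]],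
   [[ep1, em3, ep1, ep1, ep1, ep1, ep1, em1, em1, em1, ep1, em1, em1, ep1, ep1, em1, em1, em1, ep1, em1, em1, em1, ep1, em1], [em3, ep1, ep1, ep1, ep1, ep1, ep1, em1, em1, em1, ep1, em1, em1, ep1, ep1, em1, em1, em1, ep1, em1, em1, em1, ep1, em1], [em2, em2, ep0, ep0, ep0, ep0, ep0, em2, ep0, ep0, ep0, ep0, em2, ep2, ep2, ep0, ep0, ep0, ep0, ep0, em2, ep0, ep0, em2], [em1, em1, ep1, em1, ep1, ep1, em1, em1, ep1, em1, em1, em1, em1, em1, ep1, em1, em1, em1, ep1, em1, em1, em1, ep1, em3], [em1, em1, ep1, ep1, em1, ep1, em1, em1, em1, ep1, ep1, em1, ep1, ep1, ep1, em1, em1, ep1, ep1, em1, em1, em1, ep1, em3], [em2, em2, ep2, ep0, ep2, ep0, ep0, ep0, ep0, ep0, ep0, ep0, ep0, ep2, ep0, ep0, em2, ep0, ep0, ep0, ep0, ep0, ep2, em2], [em1, em1, ep1, em1, ep1, ep1, ep1, ep1, em1, ep1, ep1, em1, em1, ep1, ep1, em1, ep1, em1, em1, em1, em1, em1, ep1, em3], [em2, em2, ep0, ep0, ep2, ep2, ep0, em2, em2, ep0, ep0, ep0, ep0, ep0, ep0, em2, ep0, ep0, ep0, ep0, ep0, ep0, ep0, em2], [em2, em2, ep0, ep2, ep2, ep0, ep0,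 ep0, ep0, ep0, ep0, em2, ep0, ep0, ep0, ep0, ep0, ep0, ep0, em2, em2, ep0, ep0, em2], [em2, em2, ep0, ep0, ep0, ep0, ep0, ep0, em2, em2, ep0, ep0, ep0, ep0, ep2, ep0, ep0, ep0, ep0, em2, ep0, ep0, ep2, em2], [em1, em1, em1, em1, ep1, em1, ep1, em1, em1, em1, ep1, em1, em1, ep1, em1, em1, em1, ep1, ep1, em1, em1, em1, ep1, em3], [em2, em2, ep0, ep0, ep0, ep2, ep2, ep0, ep0, ep0, ep0, ep0, ep0, ep0, ep0, ep0, ep0, ep0, ep2, ep0, em2, ep0, ep2, em2], [em1, em1, em1, ep1, ep1, ep1, ep1, em1, em1, ep1, em1, em1, em1, ep1, ep1, ep1, em1, em1, ep1, em1, ep1, em1, ep1, em3], [em1, em1, ep1, em1, ep1, ep1, ep1, em1, em1, em1, ep1, em1, ep1, ep1, ep1, ep1, em1, em1, ep1, em1, em1, ep1, em1, em3], [em2, em2, ep0, ep0, ep0, ep0, ep0, ep0, ep0, ep0, ep0, ep0, ep0, ep2, ep0, em2, ep0, em2, ep2, em2, ep0, ep0, ep0, em2], [em1, em1, ep1, ep1, em1, ep1, ep1, em1, em1, em1, em1, em1, em1, ep1, em1, em1, em1, em1, em1, em1, em1, ep1, ep1, em3], [em2, em2, ep2, ep0, ep0, ep0, ep0, ep0, em2, ep0, ep0, em2, em2, ep0, ep0,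 ep0, ep0, ep0, ep2, ep0, ep0, ep0, ep0, em2], [em1, em1, ep1, ep1, ep1, em1, ep1, em1, em1, ep1, ep1, ep1, em1, em1, ep1, em1, em1, em1, ep1, em1, em1, ep1, ep1, em3], [em1, em1, ep1, ep1, ep1, ep1, ep1, em1, ep1, em1, ep1, em1, em1, ep1, ep1, em1, ep1, ep1, ep1, em1, ep1, ep1, ep1, em3], [em2, em2, ep2, ep0, ep0, ep0, ep2, em2, ep0, ep0, ep0, ep0, ep0, ep0, ep0, ep0, ep0, ep0, ep0, em2, ep0, em2, ep0, em2], [em2, em2, ep0, ep0, ep0, ep0, ep2, ep0, ep0, ep0, ep0, em2, ep0, ep0, ep2, em2, em2, ep0, ep0, ep0, ep0, ep0, ep0, em2], [em1, em1, ep1, ep1, ep1, ep1, ep1, ep1, em1, em1, em1, ep1, em1, ep1, ep1, em1, em1, ep1, ep1, em1, em1, em1, em1, em3], [em2, em2, ep0, ep0, ep0, ep2, ep0, ep0, ep0, ep0, ep2, ep0, em2, ep0, ep0, ep0, em2, ep0, ep0, em2, ep0, ep0, ep0, em2], [ep0, ep0, ep0, ep0, ep0, ep0, ep0, ep0, ep0, ep0, ep0, ep0, ep0, ep0, ep0, ep0, ep0, ep0, ep0, ep0, ep0, ep0, ep0, ep0], [ep3, ep3, em1, em1, em1, em1, em1, ep1, ep1, ep1, em1, ep1, ep1, em1, em1, ep1, ep1, ep1, em1, ep1, ep1, ep1, em1,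 ep5], [em1, em1, ep1, em1, ep1, ep1, ep1, em1, em1, ep1, em1, em1, em1, ep1, ep1, em1, em1, ep1, ep1, em3, em1, ep1, ep1, em1], [ep2, ep0, ep0, ep0, ep0, ep0, ep0, ep0, ep0, ep2, ep0, ep0, em2, ep0, ep0, ep0, ep0, ep0, ep2, em2, ep2, ep2, ep0, ep2], [em1, ep1, ep1, em1, em1, ep1, ep1, em1, em1, ep1, em1, em1, em1, ep1, em1, ep1, em1, em1, ep1, em3, ep1, ep1, em1, ep1], [ep1, ep1, em1, em1, em1, ep1, ep1, em1, ep1, ep1, em1, em1, em1, ep1, ep1, ep1, em1, ep1, em1, em1, ep1, ep3, em1, ep1], [ep1, ep1, ep1, em1, ep1, ep1, ep1, em1, ep1, ep1, em1, ep1, em1, em1, ep1, ep1, em1, ep1, ep1, em3, ep1, ep1, em1, em1], [ep1, ep1, ep1, em1, em1, em1, ep1, em1, em1, ep3, em1, em1, ep1, em1, ep1, ep1, em1, ep1, ep1, em1, ep1, ep1, em1, ep1], [ep1, ep1, ep1, em1, ep1, em1, ep1, ep1, ep1, ep1, em1, ep1, ep1, ep1, ep1, em1, em1, ep1, ep1, em1, ep1, ep3, em1, ep1], [ep1, ep1, ep1, em1, em1, ep1, ep1, ep1, ep1, ep1, em1, ep1, em1, ep1, em1, em1, ep1, ep1, em1, em3, ep1, ep1, em1, ep1], [ep0, ep0, ep0, ep0, ep0, ep0,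 ep2, em2, ep0, ep2, em2, ep0, ep0, ep0, ep0, em2, ep0, ep0, ep0, em2, ep2, ep2, ep0, ep0], [ep0, ep0, ep2, ep0, ep0, ep0, ep2, ep0, ep0, ep0, em2, em2, ep0, ep0, ep0, ep0, ep0, ep2, ep0, em2, ep0, ep2, em2, ep0], [em1, em1, ep1, em1, em1, em1, ep1, ep1, em1, ep1, em1, ep1, em1, em1, ep1, em1, em1, ep1, ep1, em3, ep1, ep1, em1, ep1], [ep1, ep1, em1, em1, em1, em1, ep1, ep1, em1, ep1, em3, em1, em1, ep1, em1, em1, em1, ep1, ep1, em1, ep1, ep1, em1, ep1], [ep1, ep1, ep1, em1, em1, ep1, ep1, ep1, em1, ep1, em1, ep1, em1, em1, em1, ep1, em1, ep1, ep1, em1, em1, ep3, em1, ep1]],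
   [[ep0, em4, ep0, ep0, ep0, ep0, ep0, ep0, ep0, ep0, ep0, ep0, ep0, ep0, ep0, ep0, ep0, ep0, ep4, ep0, ep0, ep0, ep0, ep0], [em4, ep0, ep0, ep0, ep0, ep0, ep0, ep0, ep0, ep0, ep0, ep0, ep0, ep0, ep0, ep0, ep0, ep0, ep4, ep0, ep0, ep0, ep0, ep0], [em2, em2, em2, ep0, ep0, ep0, ep0, ep0, em2, ep0, ep0, ep2, em2, ep0, ep0, ep0, ep0, ep0, ep2, ep0, ep0, ep0, ep0, em2], [em2, em2, ep0, em2, ep0, ep0, ep0, em2, ep0, em2, ep0, ep0, ep0, ep0, ep0, ep0, ep2, ep0, ep2, ep0, ep0, ep0, ep0, em2], [em2, em2, ep0, ep0, em2, ep0, ep0, ep0, ep0, ep0, ep2, ep0, ep0, ep0, em2, ep0, ep0, ep0, ep2, ep0, ep0, em2, ep0, em2], [em2, em2, ep0, ep0, ep0, em2, em2, ep0, ep0, ep0, ep0, ep0, ep0, ep0, ep0, ep0, ep0, ep0, ep2, ep0, em2, ep0, ep2, em2], [em2, em2, ep0, ep0, ep0, em2, em2, ep0, ep0, ep0, ep0, ep0, ep0, ep0, ep0, ep0, ep0, ep0, ep2, ep0, ep2, ep0, em2, em2], [em2, em2, ep0, em2, ep0, ep0, ep0, em2, ep0, ep2, ep0, ep0, ep0, ep0, ep0, ep0, em2, ep0, ep2, ep0, ep0, ep0, ep0, em2], [em2, em2, em2, ep0, ep0, ep0, ep0,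 ep0, em2, ep0, ep0, em2, ep2, ep0, ep0, ep0, ep0, ep0, ep2, ep0, ep0, ep0, ep0, em2], [em2, em2, ep0, em2, ep0, ep0, ep0, ep2, ep0, em2, ep0, ep0, ep0, ep0, ep0, ep0, em2, ep0, ep2, ep0, ep0, ep0, ep0, em2], [em2, em2, ep0, ep0, ep2, ep0, ep0, ep0, ep0, ep0, em2, ep0, ep0, ep0, em2, ep0, ep0, ep0, ep2, ep0, ep0, em2, ep0, em2], [em2, em2, ep2, ep0, ep0, ep0, ep0, ep0, em2, ep0, ep0, em2, em2, ep0, ep0, ep0, ep0, ep0, ep2, ep0, ep0, ep0, ep0, em2], [em2, em2, em2, ep0, ep0, ep0, ep0, ep0, ep2, ep0, ep0, em2, em2, ep0, ep0, ep0, ep0, ep0, ep2, ep0, ep0, ep0, ep0, em2], [em2, em2, ep0, ep0, ep0, ep0, ep0, ep0, ep0, ep0, ep0, ep0, ep0, em2, ep0, ep2, ep0, em2, ep2, em2, ep0, ep0, ep0, em2], [em2, em2, ep0, ep0, em2, ep0, ep0, ep0, ep0, ep0, em2, ep0, ep0, ep0, em2, ep0, ep0, ep0, ep2, ep0, ep0, ep2, ep0, em2], [em2, em2, ep0, ep0, ep0, ep0, ep0, ep0, ep0, ep0, ep0, ep0, ep0, ep2, ep0, em2, ep0, em2, ep2, em2, ep0, ep0, ep0, em2], [em2, em2, ep0, ep2, ep0, ep0, ep0, em2, ep0, em2, ep0, ep0, ep0, ep0, ep0,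 ep0, em2, ep0, ep2, ep0, ep0, ep0, ep0, em2], [em2, em2, ep0, ep0, ep0, ep0, ep0, ep0, ep0, ep0, ep0, ep0, ep0, em2, ep0, em2, ep0, em2, ep2, ep2, ep0, ep0, ep0, em2], [ep0, ep0, ep0, ep0, ep0, ep0, ep0, ep0, ep0, ep0, ep0, ep0, ep0, ep0, ep0, ep0, ep0, ep0, ep4, ep0, ep0, ep0, ep0, em4], [em2, em2, ep0, ep0, ep0, ep0, ep0, ep0, ep0, ep0, ep0, ep0, ep0, em2, ep0, em2, ep0, ep2, ep2, em2, ep0, ep0, ep0, em2], [em2, em2, ep0, ep0, ep0, em2, ep2, ep0, ep0, ep0, ep0, ep0, ep0, ep0, ep0, ep0, ep0, ep0, ep2, ep0, em2, ep0, em2, em2], [em2, em2, ep0, ep0, em2, ep0, ep0, ep0, ep0, ep0, em2, ep0, ep0, ep0, ep2, ep0, ep0, ep0, ep2, ep0, ep0, em2, ep0, em2], [em2, em2, ep0, ep0, ep0, ep2, em2, ep0, ep0, ep0, ep0, ep0, ep0, ep0, ep0, ep0, ep0, ep0, ep2, ep0, em2, ep0, em2, em2], [ep0, ep0, ep0, ep0, ep0, ep0, ep0, ep0, ep0, ep0, ep0, ep0, ep0, ep0, ep0, ep0, ep0, ep0, ep0, ep0, ep0, ep0, ep0, ep0], [ep4, ep4, ep0, ep0, ep0, ep0, ep0, ep0, ep0, ep0, ep0, ep0, ep0, ep0, ep0, ep0, ep0, ep0, em4, ep0, ep0, ep0, ep0,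 ep4], [em1, em1, em1, em1, em1, em1, em1, em1, em1, em1, em1, em1, em1, em1, em1, em1, em1, em1, ep3, em1, em1, em1, em1, em1], [ep3, ep1, em1, ep1, em1, ep1, em1, em1, ep1, em1, em1, em1, em1, em1, em1, em1, em1, em1, ep1, ep1, em1, ep1, em1, ep1], [em1, ep1, em1, ep1, em1, ep1, em1, em1, ep1, em1, em1, em1, em1, em1, em1, em1, em1, em1, ep1, em3, em1, ep1, em1, ep1], [ep2, ep2, em2, ep0, ep0, ep0, ep0, ep0, ep0, ep0, ep0, ep0, em2, ep0, ep0, ep0, ep0, em2, ep0, em2, em2, ep0, em2, ep0], [ep1, ep1, em1, em1, em1, ep1, em1, em1, ep1, em1, em1, em1, em1, em3, ep1, em1, ep1, em1, ep1, em1, em1, em1, em1, em1], [ep1, ep1, em1, ep1, em1, em1, ep1, em1, ep1, em1, ep1, em1, em1, em3, em1, em1, em1, em1, em1, em1, em1, em1, em1, ep1], [ep2, ep2, ep0, ep0, em2, em2, ep0, ep0, ep0, ep0, em2, ep0, ep0, em2, ep0, ep0, ep0, em2, ep0, ep0, em2, ep0, ep0, ep0], [ep2, ep2, ep0, ep0, em2, ep0, em2, ep0, ep0, ep0, em2, ep0, ep0, ep0, ep0, em2, ep0, ep0, ep0, em2, ep0, ep0, em2, ep0], [ep1, ep1, em1, em1, em1, em1,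 ep1, em1, ep1, ep1, em1, em1, em1, em1, em1, em3, em1, em1, ep1, em1, em1, ep1, em1, em1], [ep1, ep1, em1, ep1, em1, em1, ep1, em1, em1, em1, em1, em1, ep1, em1, ep1, em1, em1, em1, ep1, em3, em1, em1, em1, em1], [ep0, ep0, ep0, ep0, em2, ep0, ep0, ep0, ep0, em2, em2, ep0, ep0, em2, ep0, em2, em2, ep0, ep0, ep0, em2, ep0, em2, ep0], [ep1, ep1, em1, ep1, em1, em1, ep1, em1, ep1, em1, em3, em1, em1, ep1, em1, em1, em1, em1, em1, em1, em1, em1, em1, ep1], [ep1, ep1, ep1, ep1, em1, ep1, em1, em1, em1, em1, em1, em1, em1, em1, ep1, em1, em1, em3, em1, em1, em1, em1, em1, ep1]],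
   [[ep0, em4, ep0, ep0, ep0, ep0, ep0, ep0, ep0, ep0, ep0, em4, ep0, ep0, ep0, ep0, ep0, ep0, ep0, ep0, ep0, ep0, ep0, ep0], [em4, ep0, ep0, ep0, ep0, ep0, ep0, ep0, ep0, ep0, ep0, em4, ep0, ep0, ep0, ep0, ep0, ep0, ep0, ep0, ep0, ep0, ep0, ep0], [em2, em2, em2, ep0, ep0, ep0, ep0, ep0, ep2, ep0, ep0, em2, em2, ep0, ep0, ep0, ep0, ep0, ep2, ep0, ep0, ep0, ep0, em2], [em2, em2, ep0, em2, ep2, ep0, ep0, ep0, ep0, ep0, ep0, em2, ep0, ep0, ep0, ep0, ep0, ep0, ep0, em2, ep2, ep0, ep0, em2], [em2, em2, ep0, ep2, em2, ep0, ep0, ep0, ep0, ep0, ep0, em2, ep0, ep0, ep0, ep0, ep0, ep0, ep0, em2, ep2, ep0, ep0, em2], [em2, em2, ep0, ep0, ep0, em2, ep0, ep0, ep0, em2, ep0, em2, ep0, ep2, ep0, ep0, ep0, ep0, ep0, ep0, ep0, ep2, ep0, em2], [em2, em2, ep0, ep0, ep0, ep0, em2, ep0, ep0, ep0, ep0, em2, ep0, ep0, ep2, em2, ep2, ep0, ep0, ep0, ep0, ep0, ep0, em2], [em2, em2, ep0, ep0, ep0, ep0, ep0, em2, ep0, ep0, em2, em2, ep0, ep0, ep0, ep0, ep0, em2, ep0, ep0, ep0, ep0, em2, em2], [em2, em2, ep2, ep0, ep0, ep0, ep0,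 ep0, em2, ep0, ep0, em2, em2, ep0, ep0, ep0, ep0, ep0, ep2, ep0, ep0, ep0, ep0, em2], [em2, em2, ep0, ep0, ep0, em2, ep0, ep0, ep0, em2, ep0, em2, ep0, em2, ep0, ep0, ep0, ep0, ep0, ep0, ep0, em2, ep0, em2], [em2, em2, ep0, ep0, ep0, ep0, ep0, em2, ep0, ep0, em2, em2, ep0, ep0, ep0, ep0, ep0, ep2, ep0, ep0, ep0, ep0, ep2, em2], [em4, em4, ep0, ep0, ep0, ep0, ep0, ep0, ep0, ep0, ep0, ep0, ep0, ep0, ep0, ep0, ep0, ep0, ep0, ep0, ep0, ep0, ep0, ep0], [em2, em2, em2, ep0, ep0, ep0, ep0, ep0, em2, ep0, ep0, em2, em2, ep0, ep0, ep0, ep0, ep0, em2, ep0, ep0, ep0, ep0, em2], [em2, em2, ep0, ep0, ep0, ep2, ep0, ep0, ep0, em2, ep0, em2, ep0, em2, ep0, ep0, ep0, ep0, ep0, ep0, ep0, ep2, ep0, em2], [em2, em2, ep0, ep0, ep0, ep0, ep2, ep0, ep0, ep0, ep0, em2, ep0, ep0, em2, em2, ep2, ep0, ep0, ep0, ep0, ep0, ep0, em2], [em2, em2, ep0, ep0, ep0, ep0, em2, ep0, ep0, ep0, ep0, em2, ep0, ep0, em2, em2, em2, ep0, ep0, ep0, ep0, ep0, ep0, em2], [em2, em2, ep0, ep0, ep0, ep0, ep2, ep0, ep0, ep0, ep0, em2, ep0, ep0, ep2,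 em2, em2, ep0, ep0, ep0, ep0, ep0, ep0, em2], [em2, em2, ep0, ep0, ep0, ep0, ep0, em2, ep0, ep0, ep2, em2, ep0, ep0, ep0, ep0, ep0, em2, ep0, ep0, ep0, ep0, ep2, em2], [em2, em2, ep2, ep0, ep0, ep0, ep0, ep0, ep2, ep0, ep0, em2, em2, ep0, ep0, ep0, ep0, ep0, em2, ep0, ep0, ep0, ep0, em2], [em2, em2, ep0, em2, em2, ep0, ep0, ep0, ep0, ep0, ep0, em2, ep0, ep0, ep0, ep0, ep0, ep0, ep0, em2, em2, ep0, ep0, em2], [em2, em2, ep0, ep2, ep2, ep0, ep0, ep0, ep0, ep0, ep0, em2, ep0, ep0, ep0, ep0, ep0, ep0, ep0, em2, em2, ep0, ep0, em2], [em2, em2, ep0, ep0, ep0, ep2, ep0, ep0, ep0, em2, ep0, em2, ep0, ep2, ep0, ep0, ep0, ep0, ep0, ep0, ep0, em2, ep0, em2], [em2, em2, ep0, ep0, ep0, ep0, ep0, em2, ep0, ep0, ep2, em2, ep0, ep0, ep0, ep0, ep0, ep2, ep0, ep0, ep0, ep0, em2, em2], [ep0, ep0, ep0, ep0, ep0, ep0, ep0, ep0, ep0, ep0, ep0, ep0, ep0, ep0, ep0, ep0, ep0, ep0, ep0, ep0, ep0, ep0, ep0, ep0], [ep4, ep4, ep0, ep0, ep0, ep0, ep0, ep0, ep0, ep0, ep0, ep4, ep0, ep0, ep0, ep0, ep0, ep0, ep0, ep0, ep0, ep0, ep0,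 ep4], [em2, em2, ep0, ep0, ep0, ep0, ep0, em2, ep0, em2, ep0, em2, em2, ep0, ep0, em2, ep0, ep0, ep0, em2, ep0, ep0, ep0, ep0], [ep2, ep0, ep0, ep0, ep0, ep0, ep2, em2, ep0, ep0, ep2, ep0, em2, ep0, ep0, em2, ep0, ep0, em2, ep0, ep0, ep0, ep0, ep2], [em1, ep1, em1, em1, em1, ep1, ep1, em1, em1, em1, ep1, em1, em1, em1, em1, em3, em1, ep1, em1, em1, em1, ep1, em1, ep1], [ep1, ep1, em1, ep1, ep1, ep1, em1, em1, ep1, em1, ep1, ep1, em3, em1, em1, em1, em1, ep1, em1, em1, em1, ep1, em1, ep1], [ep0, ep0, ep0, em2, ep0, ep2, ep0, em2, ep0, em2, ep2, ep0, em2, ep0, ep0, ep0, ep0, ep0, em2, em2, ep0, ep0, ep0, ep0], [ep1, ep1, em1, ep1, em1, ep1, ep1, em1, em1, em1, ep1, ep1, em1, em1, ep1, em1, em1, em1, em1, em3, em1, ep1, ep1, ep1], [ep1, ep1, ep1, ep1, ep1, ep1, ep1, em1, ep1, em3, ep1, ep1, em1, ep1, em1, em1, ep1, em1, em1, em1, em1, ep1, ep1, ep1], [ep1, ep1, ep1, em1, em1, ep1, em1, em1, ep1, em1, ep1, ep1, em1, ep1, em1, em3, ep1, ep1, em1, em1, em1, em1, em1, ep1], [ep0, ep0, ep0, ep0, ep0, ep0,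 ep0, em2, ep0, ep0, ep0, ep0, em2, ep0, em2, em2, ep0, em2, em2, em2, em2, ep0, ep0, ep0], [ep0, ep0, ep2, ep0, ep0, ep2, ep0, ep0, ep0, em2, ep0, ep0, em2, ep0, ep0, em2, em2, ep0, ep0, em2, em2, ep0, ep0, ep0], [ep0, ep0, ep0, ep0, ep0, ep0, ep2, em2, ep0, em2, ep2, ep0, ep0, ep0, ep0, em2, ep0, ep0, ep0, em2, em2, em2, ep0, ep0], [ep1, ep1, em1, ep1, ep1, ep1, ep1, em1, em1, em1, em1, ep1, em1, ep1, em1, em3, em1, ep1, em1, em1, em1, em1, ep1, ep1], [ep0, ep0, ep0, ep0, ep0, ep2, ep0, em2, ep0, em2, ep2, ep2, ep0, ep0, ep0, em2, em2, ep0, ep0, ep0, ep0, ep0, ep0, ep2]]]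

/-- The images of the generators under the transposes. -/
noncomputable def imgsT : List (List (List ℤ)) :=
  [[[ep2, em2, em2, ep0, ep2, ep0, ep0, ep0, ep0, ep0, ep0, ep0, ep0, em2, ep0, ep0, em2, ep0, ep0, ep0, ep0, ep0, em2, em2], [em2, ep2, em2, ep0, ep2, ep0, ep0, ep0, ep0, ep0, ep0, ep0, ep0, em2, ep0, ep0, em2, ep0, ep0, ep0, ep0, ep0, em2, em2], [em1, em1, em1, em1, ep1, ep1, em1, ep1, ep1, ep1, em1, ep1, em1, em1, ep1, ep1, em1, ep1, ep1, em1, ep1, em1, em1, em3], [em1, em1, em1, ep1, ep1, em1, ep1, ep1, ep1, ep1, em1, ep1, ep1, em1, ep1, em1, em1, ep1, em1, em1, em1, ep1, em1, em3], [em1, em1, em1, ep1, ep1, em1, em1, ep1, ep1, em1, ep1, ep1, em1, em1, em1, em1, em1, em1, ep1, em1, em1, em1, em1, em3], [em1, em1, em1, em1, ep1, em1, ep1, ep1, em1, em1, em1, ep1, em1, em1, em1, ep1, em1, ep1, em1, ep1, em1, em1, em1, em3], [ep0, ep0, ep0, ep0, ep0, ep0, ep0, ep0, ep0, ep0, ep0, ep0, ep0, ep0, ep0, ep0, em4, ep0, ep0, ep0, ep0, ep0, ep0, em4], [em1, em1, em1, em1, ep1, ep1, ep1, ep1, em1,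 ep1, em1, em1, em1, em1, em1, em1, em1, em1, ep1, em1, em1, ep1, em1, em3], [em1, em1, em1, ep1, ep1, ep1, em1, ep1, ep1, ep1, ep1, em1, em1, em1, em1, ep1, em1, ep1, em1, ep1, em1, ep1, em1, em3], [em1, em1, em1, em1, ep1, ep1, em1, em1, ep1, ep1, em1, ep1, ep1, em1, em1, em1, em1, em1, em1, ep1, em1, em1, em1, em3], [em1, em1, em1, em1, ep1, em1, em1, em1, ep1, em1, em1, em1, ep1, em1, em1, ep1, em1, ep1, ep1, em1, em1, ep1, em1, em3], [ep0, ep0, ep0, ep0, ep4, ep0, ep0, ep0, ep0, ep0, ep0, ep0, ep0, ep0, ep0, ep0, ep0, ep0, ep0, ep0, ep0, ep0, ep0, em4], [em1, em1, em1, em1, ep1, em1, em1, em1, em1, ep1, ep1, ep1, em1, em1, em1, em1, em1, ep1, em1, em1, ep1, ep1, em1, em3], [em1, em1, em1, em1, ep1, ep1, ep1, em1, ep1, em1, ep1, ep1, em1, em1, ep1, em1, em1, ep1, ep1, ep1, em1, ep1, em1, em3], [ep0, ep0, ep0, ep0, ep0, ep0, ep0, ep0, ep0, ep0, ep0, ep0, ep0, ep0, ep0, ep0, ep0, ep0, ep0, ep0, ep0, ep0, em4, em4], [ep0, ep0, ep0, ep0, ep0, ep0, ep0, ep0, ep0, ep0, ep0, ep0, ep0, em4, ep0, ep0, ep0,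 ep0, ep0, ep0, ep0, ep0, ep0, em4], [ep0, ep0, em4, ep0, ep0, ep0, ep0, ep0, ep0, ep0, ep0, ep0, ep0, ep0, ep0, ep0, ep0, ep0, ep0, ep0, ep0, ep0, ep0, em4], [em1, em1, em1, ep1, ep1, ep1, em1, ep1, em1, em1, em1, ep1, ep1, em1, em1, em1, em1, ep1, ep1, ep1, ep1, ep1, em1, em3], [em1, em1, em1, ep1, ep1, em1, em1, em1, em1, ep1, em1, em1, em1, em1, ep1, em1, em1, ep1, ep1, ep1, em1, em1, em1, em3], [em1, em1, em1, em1, ep1, em1, ep1, ep1, ep1, ep1, ep1, em1, ep1, em1, em1, em1, em1, ep1, ep1, ep1, ep1, em1, em1, em3], [em1, em1, em1, em1, ep1, em1, em1, ep1, ep1, em1, em1, em1, em1, em1, ep1, em1, em1, em1, em1, ep1, ep1, ep1, em1, em3], [em1, em1, em1, em1, ep1, em1, em1, ep1, em1, ep1, ep1, ep1, ep1, em1, ep1, ep1, em1, em1, ep1, ep1, em1, ep1, em1, em3], [em1, em1, em1, ep1, ep1, em1, ep1, em1, ep1, ep1, em1, ep1, em1, em1, em1, ep1, em1, em1, ep1, ep1, ep1, ep1, em1, em3], [ep0, ep0, ep0, ep0, ep0, ep0, ep0, ep0, ep0, ep0, ep0, ep0, ep0, ep0, ep0, ep0, ep0, ep0, ep0, ep0, ep0, ep0, ep0, ep0], [ep2,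 ep2, ep2, ep0, em2, ep0, ep0, ep0, ep0, ep0, ep0, ep0, ep0, ep2, ep0, ep0, ep2, ep0, ep0, ep0, ep0, ep0, ep2, ep6], [ep1, ep1, em1, em1, ep1, em1, em1, ep1, ep1, ep1, em1, ep1, em1, em1, em1, em1, em1, ep1, ep1, ep1, em1, ep1, em1, em3], [ep3, ep1, em1, ep1, em1, em1, em1, em1, em1, ep1, em1, ep1, em1, ep1, em1, em1, ep1, ep1, ep1, ep1, ep1, ep1, em1, ep1], [ep1, ep3, em1, em1, em1, em1, ep1, em1, ep1, ep1, ep1, ep1, em1, em1, em1, em1, ep1, ep1, ep1, ep1, ep1, ep1, em1, em1], [ep1, ep1, ep1, em1, em1, em1, em1, em1, ep1, ep1, em1, ep1, em3, em1, ep1, em1, ep1, ep1, ep1, ep1, ep1, ep1, ep1, ep1], [ep0, ep0, ep0, ep0, ep0, em2, ep0, ep0, ep0, ep2, ep0, ep2, ep0, ep0, ep0, em2, ep0, ep2, ep2, ep2, ep0, ep2, ep0, ep0], [ep1, ep1, em1, em1, em1, em1, em1, ep1, ep1, em1, ep1, ep1, em1, ep1, em1, em3, ep1, ep1, ep1, ep1, ep1, ep1, ep1, ep1], [ep1, ep1, ep1, em1, em1, em1, em1, ep1, em1, em1, em1, ep1, em1, ep1, ep1, em1, ep1, ep1, ep1, ep3, em1, ep1, em1, ep1], [ep2, ep2, ep2, ep0, em2, em2, ep0, ep0, ep0,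 ep2, ep0, ep0, ep0, ep0, ep0, ep0, ep0, ep0, ep2, ep2, ep0, ep0, ep0, ep0], [ep1, ep1, ep1, em1, em1, em1, em1, ep1, em1, ep1, em1, em1, em1, em1, em1, em3, ep1, ep1, ep1, ep1, ep1, ep1, em1, em1], [ep1, ep1, em1, em1, em1, em1, em1, ep1, ep1, ep1, ep1, em1, em1, em1, ep1, em1, ep1, ep1, ep1, ep3, em1, ep1, ep1, em1], [ep1, ep1, em1, em1, em1, em1, em1, ep1, ep1, ep1, em1, ep1, ep1, ep1, em1, em1, ep1, em1, ep1, ep3, ep1, ep1, em1, em1], [ep2, ep2, ep0, em2, em2, em2, em2, ep0, ep0, ep0, ep0, ep0, ep0, ep0, ep0, ep0, ep2, ep0, ep0, ep0, ep0, ep2, ep0, ep0], [ep2, ep2, ep0, ep0, ep0, ep0, ep0, ep0, ep0, ep0, ep0, ep2, ep0, ep0, ep0, ep0, ep2, ep0, ep2, ep2, ep0, ep2, ep2, ep0]],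
   [[ep1, em3, ep1, ep1, em1, ep1, ep1, ep1, ep1, em1, em1, em1, ep1, ep1, ep1, ep1, ep1, em1, ep1, ep1, em1, em1, ep1, em1], [em3, ep1, ep1, ep1, em1, ep1, ep1, ep1, ep1, em1, em1, em1, ep1, ep1, ep1, ep1, ep1, em1, ep1, ep1, em1, em1, ep1, em1], [em1, em1, ep1, ep1, em1, em1, ep1, ep1, ep1, ep1, em1, ep1, ep1, em1, ep1, ep1, ep1, em1, ep1, ep1, em1, ep1, ep1, em3], [em2, em2, ep0, ep0, ep0, ep0, ep0, ep2, ep0, ep0, em2, em2, ep0, ep0, ep0, ep0, ep0, em2, ep0, ep0, ep0, ep0, ep2, em2], [em2, em2, ep0, ep2, ep0, ep0, ep0, ep0, ep0, ep0, ep0, ep0, ep2, ep0, ep0, ep2, ep0, ep0, ep0, ep0, ep0, em2, ep2, em2], [em1, em1, ep1, ep1, em1, ep1, em1, ep1, ep1, em1, em1, ep1, ep1, ep1, em1, em1, em1, em1, ep1, ep1, em1, em1, ep1, em3], [em2, em2, ep0, ep2, ep0, ep0, ep2, ep0, ep2, ep0, em2, ep0, ep0, ep2, ep0, ep0, ep0, ep0, ep0, ep0, ep0, ep0, ep0, em2], [em1, em1, ep1, ep1, em1, ep1, ep1, ep1, ep1, em1, em1, em1, ep1, em1, ep1, em1, ep1, ep1, em1, em1, em1, em1, ep1, em3], [em2, em2, ep2, ep0, ep0, ep0, ep0,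 ep0, ep0, em2, em2, ep0, ep0, ep0, ep0, ep2, ep0, ep0, ep0, ep0, em2, ep0, ep0, em2], [em2, em2, ep2, ep2, ep0, ep2, ep0, ep0, ep0, ep0, ep0, ep0, ep0, ep0, ep2, ep0, ep0, em2, ep0, ep0, ep0, ep0, ep0, em2], [em1, em1, ep1, ep1, em1, em1, ep1, ep1, ep1, em1, ep1, em1, em1, ep1, ep1, ep1, em1, em1, ep1, em1, em1, em1, ep1, em3], [em2, em2, ep0, ep0, ep0, ep0, ep0, ep0, ep2, em2, ep0, ep0, ep0, ep0, ep2, ep0, ep0, ep0, ep0, ep2, ep0, ep0, ep2, em2], [em1, em1, ep1, em1, em1, ep1, ep1, em1, ep1, ep1, em1, em1, ep1, ep1, ep1, ep1, em1, em1, em1, ep1, em1, em1, ep1, em3], [em1, em1, ep1, ep1, ep1, ep1, ep1, ep1, ep1, em1, ep1, em1, ep1, ep1, em1, ep1, ep1, em1, em1, ep1, em1, ep1, ep1, em3], [em1, em1, em1, ep1, em1, ep1, ep1, ep1, em1, em1, em1, ep1, em1, ep1, ep1, ep1, ep1, em1, em1, ep1, em1, em1, ep1, em3], [em2, em2, ep0, ep0, em2, ep2, ep0, ep2, ep2, ep0, ep0, ep0, ep0, ep0, ep0, ep2, ep0, ep0, ep0, ep0, ep0, ep0, ep0, em2], [em1, em1, ep1, ep1, em1, ep1, ep1, ep1, em1, em1, em1, em1, ep1, ep1, ep1,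 ep1, em1, ep1, ep1, ep1, ep1, ep1, ep1, em3], [em1, em1, ep1, em1, ep1, ep1, ep1, ep1, ep1, em1, em1, ep1, ep1, ep1, ep1, ep1, ep1, em1, ep1, em1, ep1, em1, ep1, em3], [em2, em2, ep0, ep0, em2, ep0, ep2, ep0, ep0, em2, ep0, ep0, ep2, ep0, ep0, ep0, ep0, em2, ep0, ep0, ep0, ep0, ep0, em2], [em2, em2, ep2, ep0, em2, ep0, ep0, ep0, ep0, ep0, ep0, ep0, ep0, ep2, ep0, ep0, ep2, ep0, ep0, ep0, ep0, ep0, ep2, em2], [em2, em2, ep0, ep0, ep0, ep2, ep2, ep0, ep0, ep0, ep0, ep0, ep0, ep0, ep0, ep0, ep0, ep0, ep2, ep0, em2, ep0, ep2, em2], [em2, em2, ep0, ep0, ep0, ep0, ep0, ep2, ep0, ep0, ep0, ep0, ep2, ep2, ep2, ep0, ep0, ep0, ep0, ep0, em2, ep0, ep0, em2], [em1, em1, em1, ep1, em1, ep1, em1, em1, ep1, em1, em1, em1, ep1, ep1, ep1, ep1, ep1, em1, ep1, em1, em1, ep1, ep1, em3], [ep0, ep0, ep0, ep0, ep0, ep0, ep0, ep0, ep0, ep0, ep0, ep0, ep0, ep0, ep0, ep0, ep0, ep0, ep0, ep0, ep0, ep0, ep0, ep0], [ep3, ep3, em1, em1, ep1, em1, em1, em1, em1, ep1, ep1, ep1, em1, em1, em1, em1, em1, ep1, em1, em1, ep1, ep1, em1,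 ep5], [em1, em1, ep1, ep1, em1, ep1, ep1, ep1, ep1, em1, em1, ep1, ep1, ep1, ep1, ep1, em1, em1, em1, em1, em1, ep1, ep3, em1], [ep3, ep1, em1, em1, em1, ep1, ep1, em1, em1, em1, em1, ep1, ep1, ep1, ep1, ep1, em1, em1, em1, em1, ep1, ep1, ep1, ep1], [ep0, ep2, ep0, ep0, em2, ep2, ep0, ep0, ep0, ep0, ep0, ep0, ep0, ep2, ep0, ep2, ep0, ep0, em2, ep0, ep0, ep2, ep2, ep0], [ep1, ep1, em1, em1, em1, ep1, ep1, em1, ep1, ep1, ep1, ep1, ep1, em1, em1, ep1, em1, em1, em1, em1, em1, ep3, ep1, ep1], [ep0, ep0, ep0, em2, ep0, ep0, ep0, ep0, ep0, ep0, ep0, ep0, ep2, ep2, ep0, ep0, ep0, em2, em2, em2, ep0, ep2, ep2, ep0], [ep1, ep1, ep1, em1, ep1, ep1, ep1, em1, em1, ep1, ep1, ep1, ep1, ep1, em1, ep1, em1, ep1, em1, em1, ep1, ep1, ep3, ep1], [ep1, ep1, em1, em1, ep1, ep1, ep1, ep1, em1, em1, ep1, ep3, ep1, ep1, em1, em1, em1, em1, em1, em1, em1, ep1, ep1, ep1], [ep0, ep0, em2, ep0, em2, ep0, ep0, ep0, ep0, ep0, ep0, ep2, ep0, ep2, ep0, ep0, ep0, ep0, em2, em2, ep0, ep2, ep0, ep2], [ep0, ep0, ep0, em2, em2, ep2,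 ep2, ep0, ep0, ep0, ep0, ep2, ep0, ep0, ep0, ep0, ep0, ep0, em2, em2, ep0, ep0, ep2, ep0], [em1, em1, ep1, em1, em1, ep1, ep1, ep1, em1, em1, ep1, ep1, ep1, ep1, em1, ep1, em1, ep1, em1, em1, em1, ep3, ep1, ep1], [ep0, ep0, ep0, ep0, ep0, ep2, ep0, ep0, em2, ep0, ep0, ep2, ep0, ep2, ep2, ep0, ep0, ep0, ep0, em2, ep0, ep2, ep2, ep0], [ep1, ep1, em1, em1, em1, ep1, ep1, ep1, em1, ep1, ep1, ep1, em1, ep1, ep1, ep1, em3, ep1, em1, em1, em1, ep1, ep1, ep1], [ep1, ep1, em1, em1, ep1, ep1, em1, ep1, ep1, em1, ep1, ep1, ep1, ep1, ep1, ep1, em1, ep1, em1, em1, ep1, ep3, ep1, ep1]],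
   [[ep2, em2, ep0, ep0, ep0, em2, ep0, ep0, ep0, ep2, ep0, em2, ep0, em2, ep0, ep0, ep0, ep0, ep0, ep0, ep0, em2, ep0, em2], [em2, ep2, ep0, ep0, ep0, em2, ep0, ep0, ep0, ep2, ep0, em2, ep0, em2, ep0, ep0, ep0, ep0, ep0, ep0, ep0, em2, ep0, em2], [em1, em1, ep1, ep1, ep1, em1, em1, em1, ep1, ep1, ep1, em1, em1, em1, em1, ep1, em1, ep1, ep1, em1, ep1, em1, ep1, em3], [em1, em1, em1, ep1, em1, em1, em1, em1, ep1, ep1, ep1, em1, em1, em1, em1, em1, ep1, em1, em1, ep1, ep1, em1, em1, em3], [em1, em1, ep1, ep1, ep1, em1, ep1, ep1, ep1, ep1, em1, em1, em1, em1, ep1, em1, ep1, em1, ep1, em1, ep1, em1, em1, em3], [em1, em1, em1, ep1, em1, em1, em1, ep1, ep1, ep1, ep1, em1, ep1, em1, ep1, ep1, ep1, ep1, ep1, em1, em1, em1, em1, em3], [em1, em1, ep1, ep1, em1, em1, ep1, em1, em1, ep1, ep1, em1, ep1, em1, ep1, ep1, em1, em1, ep1, ep1, ep1, em1, em1, em3], [ep0, ep0, ep0, ep0, ep0, ep0, ep0, ep0, ep0, ep4, ep0, ep0, ep0, ep0, ep0, ep0, ep0, ep0, ep0, ep0, ep0, ep0, ep0, em4], [em1, em1, ep1, ep1, em1, em1, em1,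 ep1, em1, ep1, em1, em1, ep1, em1, em1, em1, ep1, ep1, ep1, ep1, ep1, em1, ep1, em3], [em1, em1, em1, em1, ep1, em1, ep1, ep1, ep1, ep1, ep1, em1, ep1, em1, em1, em1, em1, ep1, ep1, ep1, ep1, em1, em1, em3], [em1, em1, ep1, em1, ep1, em1, em1, em1, em1, ep1, ep1, em1, ep1, em1, em1, em1, ep1, em1, ep1, em1, em1, em1, em1, em3], [em1, em1, ep1, ep1, em1, em1, ep1, ep1, em1, ep1, ep1, em1, em1, em1, em1, em1, em1, ep1, em1, em1, em1, em1, em1, em3], [em2, em2, ep0, ep0, ep0, ep2, ep0, ep0, ep0, ep2, ep0, em2, ep0, em2, ep0, ep0, ep0, ep0, ep0, ep0, ep0, em2, ep0, em2], [em2, em2, ep0, ep0, ep0, em2, ep0, ep0, ep0, ep2, ep0, ep2, ep0, em2, ep0, ep0, ep0, ep0, ep0, ep0, ep0, em2, ep0, em2], [ep0, ep0, ep0, ep0, ep0, ep0, ep0, ep0, ep0, ep0, ep0, ep0, ep0, em4, ep0, ep0, ep0, ep0, ep0, ep0, ep0, ep0, ep0, em4], [em1, em1, em1, ep1, ep1, em1, ep1, ep1, em1, ep1, ep1, em1, em1, em1, em1, ep1, ep1, em1, ep1, ep1, em1, em1, ep1, em3], [em1, em1, em1, ep1, ep1, em1, ep1, em1, em1, ep1, ep1, em1, ep1, em1, ep1,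 em1, ep1, ep1, em1, em1, ep1, em1, ep1, em3], [em1, em1, ep1, ep1, ep1, em1, em1, ep1, ep1, ep1, ep1, em1, ep1, em1, ep1, em1, em1, em1, em1, ep1, em1, em1, ep1, em3], [em1, em1, em1, em1, em1, em1, em1, ep1, em1, ep1, ep1, em1, em1, em1, ep1, em1, em1, em1, ep1, em1, ep1, em1, ep1, em3], [em1, em1, em1, ep1, ep1, em1, em1, em1, em1, ep1, em1, em1, em1, em1, ep1, em1, em1, ep1, ep1, ep1, em1, em1, em1, em3], [ep0, ep0, ep0, ep0, ep0, ep0, ep0, ep0, ep0, ep0, ep0, ep0, ep0, ep0, ep0, ep0, ep0, ep0, ep0, ep0, ep0, em4, ep0, em4], [em1, em1, em1, ep1, em1, em1, ep1, em1, ep1, ep1, em1, em1, ep1, em1, em1, em1, em1, em1, ep1, em1, em1, em1, ep1, em3], [em1, em1, ep1, em1, em1, em1, ep1, em1, ep1, ep1, ep1, em1, em1, em1, ep1, em1, ep1, ep1, ep1, ep1, em1, em1, ep1, em3], [ep0, ep0, ep0, ep0, ep0, ep0, ep0, ep0, ep0, ep0, ep0, ep0, ep0, ep0, ep0, ep0, ep0, ep0, ep0, ep0, ep0, ep0, ep0, ep0], [ep2, ep2, ep0, ep0, ep0, ep2, ep0, ep0, ep0, em2, ep0, ep2, ep0, ep2, ep0, ep0, ep0, ep0, ep0, ep0, ep0, ep2, ep0,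 ep6], [ep0, ep0, ep0, ep2, ep0, ep0, ep0, ep0, ep0, ep2, ep2, ep0, ep0, em2, ep0, em2, ep0, ep0, ep2, ep0, ep0, em2, ep0, em2], [ep2, ep0, ep0, ep0, ep0, ep2, ep0, ep0, ep0, ep0, ep2, ep0, ep0, em2, ep2, em2, ep0, ep0, ep0, ep0, ep0, ep0, ep2, ep2], [em1, ep1, em1, ep1, ep1, ep1, ep1, em1, em1, ep1, ep1, ep1, em1, em3, ep1, em1, ep1, ep1, ep1, ep1, em1, em1, ep1, ep1], [ep0, ep0, ep0, ep0, ep0, ep2, ep0, ep0, ep0, ep0, ep2, ep2, em2, ep0, ep0, ep0, ep0, ep0, ep2, ep0, ep0, em2, ep2, ep2], [em1, em1, em1, ep1, em1, ep1, em1, em1, ep1, ep1, ep1, ep1, em1, em1, ep1, em3, em1, em1, ep1, ep1, em1, em1, ep1, ep1], [ep0, ep0, ep0, ep2, ep2, ep2, ep0, ep0, ep0, ep0, ep0, ep2, ep0, ep0, ep2, em2, ep0, ep0, ep0, ep0, ep0, em2, ep0, ep2], [ep1, ep1, em1, ep1, em1, ep1, em1, ep1, ep1, em1, ep1, ep3, ep1, em1, ep1, em1, em1, em1, ep1, em1, em1, em1, ep1, ep1], [ep1, ep1, em1, ep1, em1, ep1, ep1, em1, em1, em1, ep1, ep1, em1, em1, ep1, em1, em1, em1, ep3, ep1, em1, ep1, ep1, ep1], [ep1, ep1, em1, ep1, ep1, ep3,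 em1, ep1, em1, ep1, ep1, ep1, em1, em1, ep1, em1, em1, em1, ep1, ep1, em1, em1, ep1, em1], [ep0, ep0, em2, ep2, ep0, ep0, ep0, ep0, em2, ep0, ep0, ep2, ep0, ep0, ep0, em2, ep0, ep0, ep2, ep0, ep0, em2, ep2, ep0], [ep1, ep1, em1, ep1, ep1, ep1, ep1, em1, ep1, em1, ep1, ep1, ep1, em1, ep1, em3, em1, ep1, ep1, ep1, em1, em1, ep1, em1], [ep1, ep1, em1, ep1, ep1, ep3, ep1, em1, em1, em1, ep1, ep1, ep1, em1, em1, em1, ep1, em1, ep1, em1, em1, em1, ep1, ep1], [ep0, ep0, ep0, ep2, ep0, ep0, ep2, ep0, ep0, ep0, ep2, ep2, ep0, ep0, ep0, em2, ep0, ep0, ep0, ep0, em2, ep0, ep2, ep2]],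
   [[ep2, em2, ep0, em2, ep0, ep0, ep0, ep0, ep0, ep0, ep0, ep0, em2, ep0, ep0, ep2, ep0, ep0, ep0, ep0, ep0, ep2, ep2, em2], [em2, ep2, ep0, em2, ep0, ep0, ep0, ep0, ep0, ep0, ep0, ep0, em2, ep0, ep0, ep2, ep0, ep0, ep0, ep0, ep0, ep2, ep2, em2], [em1, em1, ep1, em1, em1, em1, ep1, ep1, ep1, em1, em1, ep1, em1, ep1, em1, ep1, em1, em1, em1, ep1, ep1, ep1, ep1, em3], [em2, em2, ep0, ep2, ep0, ep0, ep0, ep0, ep0, ep0, ep0, ep0, em2, ep0, ep0, ep2, ep0, ep0, ep0, ep0, ep0, ep2, ep2, em2], [em1, em1, ep1, em1, ep1, ep1, em1, ep1, ep1, ep1, ep1, ep1, em1, ep1, em1, ep1, ep1, ep1, em1, em1, ep1, ep1, ep1, em3], [em1, em1, em1, em1, em1, ep1, em1, ep1, em1, em1, ep1, ep1, em1, em1, ep1, ep1, em1, ep1, em1, ep1, ep1, ep1, ep1, em3], [em1, em1, em1, em1, ep1, ep1, ep1, em1, em1, ep1, ep1, ep1, em1, ep1, em1, ep1, em1, em1, em1, ep1, em1, ep1, ep1, em3], [em1, em1, em1, em1, em1, em1, ep1, ep1, ep1, ep1, ep1, ep1, em1, em1, em1, ep1, em1, ep1, ep1, em1, em1, ep1, ep1, em3], [em1, em1, em1, em1, em1, ep1, em1,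 em1, ep1, ep1, em1, em1, em1, em1, em1, ep1, em1, em1, em1, em1, ep1, ep1, ep1, em3], [em1, em1, ep1, em1, em1, ep1, em1, ep1, em1, ep1, em1, ep1, em1, ep1, ep1, ep1, em1, em1, ep1, em1, em1, ep1, ep1, em3], [em1, em1, ep1, em1, em1, em1, ep1, em1, em1, ep1, ep1, em1, em1, ep1, ep1, ep1, em1, ep1, em1, em1, ep1, ep1, ep1, em3], [em1, em1, em1, em1, ep1, em1, em1, em1, ep1, em1, ep1, ep1, em1, ep1, ep1, ep1, em1, em1, ep1, em1, ep1, ep1, ep1, em3], [ep0, ep0, ep0, ep0, ep0, ep0, ep0, ep0, ep0, ep0, ep0, ep0, ep0, ep0, ep0, ep0, ep0, ep0, ep0, ep0, ep0, ep4, ep0, em4], [em1, em1, em1, em1, em1, ep1, ep1, ep1, em1, em1, ep1, em1, em1, ep1, em1, ep1, ep1, em1, ep1, em1, ep1, ep1, ep1, em3], [em1, em1, em1, em1, ep1, ep1, ep1, ep1, ep1, em1, em1, em1, em1, ep1, ep1, ep1, em1, ep1, em1, em1, em1, ep1, ep1, em3], [em2, em2, ep0, em2, ep0, ep0, ep0, ep0, ep0, ep0, ep0, ep0, em2, ep0, ep0, ep2, ep0, ep0, ep0, ep0, ep0, ep2, em2, em2], [em1, em1, ep1, em1, em1, ep1, ep1, em1, ep1, em1, ep1, ep1, em1, em1, ep1,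 ep1, ep1, em1, em1, em1, em1, ep1, ep1, em3], [em1, em1, em1, em1, em1, ep1, ep1, em1, ep1, ep1, em1, ep1, em1, ep1, ep1, ep1, ep1, ep1, ep1, ep1, ep1, ep1, ep1, em3], [em1, em1, ep1, em1, ep1, ep1, ep1, ep1, ep1, ep1, ep1, em1, em1, em1, ep1, ep1, em1, em1, ep1, ep1, ep1, ep1, ep1, em3], [em1, em1, em1, em1, em1, em1, em1, ep1, ep1, ep1, ep1, em1, em1, ep1, ep1, ep1, ep1, em1, em1, ep1, em1, ep1, ep1, em3], [em1, em1, em1, em1, ep1, em1, ep1, ep1, em1, ep1, em1, ep1, em1, em1, ep1, ep1, ep1, em1, em1, em1, ep1, ep1, ep1, em3], [em2, em2, ep0, em2, ep0, ep0, ep0, ep0, ep0, ep0, ep0, ep0, em2, ep0, ep0, em2, ep0, ep0, ep0, ep0, ep0, ep2, ep2, em2], [em2, em2, ep0, em2, ep0, ep0, ep0, ep0, ep0, ep0, ep0, ep0, ep2, ep0, ep0, ep2, ep0, ep0, ep0, ep0, ep0, ep2, ep2, em2], [ep0, ep0, ep0, ep0, ep0, ep0, ep0, ep0, ep0, ep0, ep0, ep0, ep0, ep0, ep0, ep0, ep0, ep0, ep0, ep0, ep0, ep0, ep0, ep0], [ep2, ep2, ep0, ep2, ep0, ep0, ep0, ep0, ep0, ep0, ep0, ep0, ep2, ep0, ep0, em2, ep0, ep0, ep0, ep0, ep0, em2, em2,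 ep6], [em1, em1, em1, em1, em1, ep1, ep1, ep1, ep1, ep1, ep1, ep1, em1, ep1, ep1, ep1, em1, em1, em1, em1, ep1, ep3, ep1, em1], [ep2, ep0, ep0, ep0, ep0, ep2, ep2, ep0, ep2, ep0, ep0, ep0, ep2, ep0, ep2, ep0, ep0, ep0, ep0, ep0, ep0, ep2, ep0, ep2], [em1, ep1, em1, em1, em1, ep1, ep1, ep1, ep1, em1, ep1, em1, ep1, ep1, ep1, ep1, ep1, em1, em1, em1, em1, ep3, em1, ep1], [ep0, ep0, ep0, ep0, ep0, ep0, ep2, ep2, ep0, ep0, ep0, ep0, ep2, ep0, ep0, ep0, ep0, em2, ep0, ep0, ep2, ep2, em2, ep2], [em1, em1, em1, ep1, em1, ep1, ep1, ep1, ep1, ep1, ep1, em1, ep1, ep1, ep1, em1, ep1, em1, ep1, ep1, ep1, ep3, ep1, ep1], [ep1, ep1, em1, ep1, em1, ep1, ep1, ep1, ep1, ep1, ep1, ep1, ep1, ep1, ep1, em1, ep3, em1, em1, em1, ep1, ep1, em1, ep1], [ep0, ep0, em2, ep0, ep0, ep2, ep2, ep2, ep0, ep0, ep0, ep0, ep0, ep0, ep2, em2, ep0, ep0, ep0, ep0, ep2, ep0, ep0, ep2], [em1, em1, em1, em1, ep1, ep1, ep1, ep1, ep1, ep1, ep1, em1, ep1, ep1, ep1, em1, em1, em1, em1, ep1, em1, ep1, em1, ep3], [ep0, ep0, em2, ep0, ep0, ep0,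 ep2, ep2, ep2, ep2, ep0, ep0, ep0, ep0, ep2, ep0, ep0, ep0, ep0, ep0, ep0, ep2, em2, ep0], [em1, em1, em1, em1, em1, ep1, ep1, ep1, ep1, ep1, ep1, em1, em1, em1, ep1, em1, ep1, em3, em1, em1, ep1, ep1, em1, ep1], [em1, em1, em1, em1, em1, ep1, ep1, ep1, ep1, ep1, em1, ep1, ep1, ep1, ep3, em1, ep1, em1, em1, em1, em1, ep1, ep1, ep1], [ep0, ep0, ep0, ep0, ep0, ep0, ep2, ep0, ep0, ep0, ep0, ep0, ep0, ep0, ep2, em2, ep0, ep0, em2, em2, ep0, ep2, em2, ep2], [em1, em1, em1, em1, em1, ep1, ep1, em1, ep1, em1, ep1, ep1, ep1, ep1, ep1, em1, ep1, em1, ep1, em1, ep1, ep1, em1, ep3]],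
   [[ep1, em3, em1, ep1, ep1, em1, ep1, em1, em1, em1, ep1, em1, ep1, ep1, em1, ep1, em1, ep1, ep1, em1, em1, ep1, em1, em1], [em3, ep1, em1, ep1, ep1, em1, ep1, em1, em1, em1, ep1, em1, ep1, ep1, em1, ep1, em1, ep1, ep1, em1, em1, ep1, em1, em1], [em1, em1, em1, ep1, ep1, ep1, ep1, em1, em1, em1, em1, em1, em1, ep1, em1, ep1, ep1, ep1, ep1, ep1, em1, ep1, em1, em3], [em1, em1, em1, em1, ep1, em1, em1, em1, ep1, em1, em1, em1, ep1, em1, em1, ep1, em1, ep1, ep1, em1, em1, ep1, em1, em3], [em1, em1, em1, ep1, em1, ep1, ep1, ep1, ep1, em1, ep1, em1, ep1, ep1, em1, em1, em1, ep1, ep1, em1, em1, ep1, em1, em3], [em1, em1, em1, ep1, ep1, em1, ep1, ep1, em1, em1, em1, ep1, ep1, ep1, em1, ep1, em1, em1, ep1, em1, em1, ep1, ep1, em3], [em1, em1, em1, em1, em1, em1, ep1, em1, em1, em1, ep1, ep1, ep1, ep1, em1, ep1, em1, ep1, ep1, ep1, ep1, ep1, em1, em3], [em2, em2, em2, ep0, ep0, ep0, ep2, em2, ep0, ep0, ep0, ep0, ep0, ep0, ep0, ep0, ep0, ep0, ep0, em2, ep0, ep2, ep0, em2], [em2, em2, ep0, ep2, ep0, ep0, ep0,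 em2, ep0, em2, ep0, ep0, ep0, ep0, ep0, ep0, em2, ep0, ep2, ep0, ep0, ep0, ep0, em2], [em2, em2, ep0, ep0, ep2, ep0, ep2, ep0, ep0, em2, ep0, ep0, ep2, ep0, ep0, ep0, ep0, ep2, ep0, ep0, ep0, ep0, ep0, em2], [em1, em1, em1, em1, ep1, em1, ep1, em1, em1, em1, ep1, em1, em1, ep1, em1, em1, em1, ep1, ep1, em1, em1, em1, ep1, em3], [em2, em2, ep0, ep0, ep0, ep0, ep0, ep0, em2, ep0, ep0, ep0, ep0, ep0, ep0, ep0, em2, ep2, ep0, ep0, em2, ep2, ep0, em2], [em2, em2, em2, ep0, ep2, ep0, ep0, ep0, ep0, ep0, ep0, ep0, ep0, ep2, ep0, ep0, em2, ep0, ep0, ep0, ep0, ep0, em2, em2], [em1, em1, ep1, em1, ep1, ep1, ep1, em1, em1, em1, ep1, em1, ep1, ep1, ep1, ep1, em1, em1, ep1, em1, em1, ep1, em1, em3], [em1, em1, ep1, ep1, ep1, em1, ep1, em1, em1, ep1, em1, em1, ep1, ep1, em1, em1, em1, ep1, ep1, em1, ep1, ep1, em1, em3], [em2, em2, ep0, ep0, ep0, ep0, ep0, em2, ep0, ep0, ep0, ep0, ep2, ep2, em2, ep0, ep0, ep0, ep0, ep0, em2, ep0, ep0, em2], [em2, em2, ep0, ep0, ep0, em2, ep2, ep0, ep0, ep0, ep0, ep0, ep0, ep0, ep0,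 ep0, ep0, ep0, ep2, ep0, em2, ep0, em2, em2], [em2, em2, ep0, ep0, ep2, ep0, ep0, ep0, ep0, ep0, ep2, ep0, ep0, ep0, em2, ep0, ep0, ep0, ep2, ep0, ep0, ep2, ep0, em2], [em1, em1, em1, ep1, ep1, em1, em1, em1, em1, em1, ep1, ep1, ep1, ep1, ep1, em1, ep1, ep1, ep1, em1, em1, ep1, em1, em3], [em2, em2, ep0, ep0, ep0, ep0, ep0, ep0, em2, em2, ep0, ep0, ep0, ep0, em2, ep0, ep0, ep0, ep0, em2, ep0, ep0, em2, em2], [em2, em2, em2, ep0, ep0, ep0, ep0, ep0, em2, ep0, ep0, em2, ep2, ep0, ep0, ep0, ep0, ep0, ep2, ep0, ep0, ep0, ep0, em2], [em2, em2, ep0, ep0, ep0, ep0, ep0, ep0, ep0, ep0, ep0, ep0, ep0, ep2, ep0, ep2, ep0, ep2, ep2, em2, ep0, ep0, ep0, em2], [em1, em1, em1, ep1, ep1, ep1, ep1, em1, em1, ep1, ep1, ep1, ep1, em1, em1, ep1, em1, ep1, ep1, em1, em1, em1, em1, em3], [ep0, ep0, ep0, ep0, ep0, ep0, ep0, ep0, ep0, ep0, ep0, ep0, ep0, ep0, ep0, ep0, ep0, ep0, ep0, ep0, ep0, ep0, ep0, ep0], [ep3, ep3, ep1, em1, em1, ep1, em1, ep1, ep1, ep1, em1, ep1, em1, em1, ep1, em1, ep1, em1, em1, ep1, ep1, em1, ep1,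 ep5], [em1, em1, em1, em1, ep1, ep1, ep1, em1, em1, em1, em1, ep1, ep1, ep1, em1, em1, em1, ep1, ep3, em1, em1, ep1, em1, em1], [ep2, ep0, ep0, ep0, ep2, ep0, ep0, ep0, ep0, ep2, ep0, ep2, ep0, ep0, ep0, em2, ep0, ep0, ep2, ep0, ep0, ep0, em2, ep2], [em1, ep1, ep1, em1, ep1, ep1, ep1, em1, em1, ep1, em1, ep1, ep1, ep1, em1, em1, em1, em1, ep1, em1, em1, em1, em3, ep1], [ep1, ep1, em1, em1, ep1, ep3, em1, em1, em1, ep1, em1, ep1, ep1, ep1, ep1, em1, ep1, em1, ep1, ep1, em1, em1, em1, ep1], [ep0, ep0, ep0, em2, ep2, ep2, em2, ep0, ep0, ep0, ep0, ep2, ep0, ep0, ep0, ep0, ep0, ep0, ep2, em2, ep0, ep0, em2, ep0], [ep0, ep0, ep0, em2, ep0, ep2, ep0, ep2, ep0, ep0, ep0, ep0, ep0, ep0, ep0, em2, ep0, em2, ep2, ep0, ep0, ep0, em2, ep2], [ep1, ep1, ep1, em1, ep1, ep1, em1, ep1, em1, ep1, em1, ep1, ep1, ep1, ep1, em1, ep1, em1, ep3, em1, ep1, ep1, ep1, ep1], [ep1, ep1, ep1, em1, em1, ep1, em1, em1, em1, ep1, em1, ep3, ep1, ep1, em1, em1, ep1, ep1, ep1, em1, ep1, em1, em1, ep1], [em1, em1, em1, em1, ep1, ep1,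 em1, em1, em1, ep1, em1, ep1, ep1, ep1, em1, em3, ep1, em1, ep1, em1, ep1, ep1, em1, ep1], [em1, em1, ep1, em1, em1, ep1, em1, em1, em1, em1, em1, ep1, ep1, ep1, ep1, em1, ep1, em1, ep3, em1, em1, em1, em1, ep1], [em1, em1, ep1, em1, ep1, ep1, ep1, ep1, em1, ep1, em1, ep1, ep1, em1, em1, em1, ep1, ep1, ep3, em1, ep1, em1, em1, ep1], [ep0, ep0, ep0, em2, ep0, ep0, ep0, ep0, ep0, ep2, em2, ep0, ep0, ep2, ep0, em2, ep0, ep0, ep2, ep0, ep0, em2, ep0, ep2], [ep0, ep0, ep2, em2, ep0, ep2, ep0, ep0, ep0, ep2, ep0, ep2, ep0, ep0, ep0, ep0, ep0, ep0, ep2, ep0, em2, ep0, ep0, ep2]],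
   [[ep0, em4, ep0, ep0, ep0, ep0, ep0, ep0, ep0, ep0, ep0, ep0, ep0, ep0, ep0, ep0, ep0, ep0, ep4, ep0, ep0, ep0, ep0, ep0], [em4, ep0, ep0, ep0, ep0, ep0, ep0, ep0, ep0, ep0, ep0, ep0, ep0, ep0, ep0, ep0, ep0, ep0, ep4, ep0, ep0, ep0, ep0, ep0], [em2, em2, em2, ep0, ep0, ep0, ep0, ep0, em2, ep0, ep0, ep2, em2, ep0, ep0, ep0, ep0, ep0, ep2, ep0, ep0, ep0, ep0, em2], [em2, em2, ep0, em2, ep0, ep0, ep0, em2, ep0, em2, ep0, ep0, ep0, ep0, ep0, ep0, ep2, ep0, ep2, ep0, ep0, ep0, ep0, em2], [em2, em2, ep0, ep0, em2, ep0, ep0, ep0, ep0, ep0, ep2, ep0, ep0, ep0, em2, ep0, ep0, ep0, ep2, ep0, ep0, em2, ep0, em2], [em2, em2, ep0, ep0, ep0, em2, em2, ep0, ep0, ep0, ep0, ep0, ep0, ep0, ep0, ep0, ep0, ep0, ep2, ep0, em2, ep0, ep2, em2], [em2, em2, ep0, ep0, ep0, em2, em2, ep0, ep0, ep0, ep0, ep0, ep0, ep0, ep0, ep0, ep0, ep0, ep2, ep0, ep2, ep0, em2, em2], [em2, em2, ep0, em2, ep0, ep0, ep0, em2, ep0, ep2, ep0, ep0, ep0, ep0, ep0, ep0, em2, ep0, ep2, ep0, ep0, ep0, ep0, em2], [em2, em2, em2, ep0, ep0, ep0, ep0,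 ep0, em2, ep0, ep0, em2, ep2, ep0, ep0, ep0, ep0, ep0, ep2, ep0, ep0, ep0, ep0, em2], [em2, em2, ep0, em2, ep0, ep0, ep0, ep2, ep0, em2, ep0, ep0, ep0, ep0, ep0, ep0, em2, ep0, ep2, ep0, ep0, ep0, ep0, em2], [em2, em2, ep0, ep0, ep2, ep0, ep0, ep0, ep0, ep0, em2, ep0, ep0, ep0, em2, ep0, ep0, ep0, ep2, ep0, ep0, em2, ep0, em2], [em2, em2, ep2, ep0, ep0, ep0, ep0, ep0, em2, ep0, ep0, em2, em2, ep0, ep0, ep0, ep0, ep0, ep2, ep0, ep0, ep0, ep0, em2], [em2, em2, em2, ep0, ep0, ep0, ep0, ep0, ep2, ep0, ep0, em2, em2, ep0, ep0, ep0, ep0, ep0, ep2, ep0, ep0, ep0, ep0, em2], [em2, em2, ep0, ep0, ep0, ep0, ep0, ep0, ep0, ep0, ep0, ep0, ep0, em2, ep0, ep2, ep0, em2, ep2, em2, ep0, ep0, ep0, em2], [em2, em2, ep0, ep0, em2, ep0, ep0, ep0, ep0, ep0, em2, ep0, ep0, ep0, em2, ep0, ep0, ep0, ep2, ep0, ep0, ep2, ep0, em2], [em2, em2, ep0, ep0, ep0, ep0, ep0, ep0, ep0, ep0, ep0, ep0, ep0, ep2, ep0, em2, ep0, em2, ep2, em2, ep0, ep0, ep0, em2], [em2, em2, ep0, ep2, ep0, ep0, ep0, em2, ep0, em2, ep0, ep0, ep0, ep0, ep0,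 ep0, em2, ep0, ep2, ep0, ep0, ep0, ep0, em2], [em2, em2, ep0, ep0, ep0, ep0, ep0, ep0, ep0, ep0, ep0, ep0, ep0, em2, ep0, em2, ep0, em2, ep2, ep2, ep0, ep0, ep0, em2], [ep0, ep0, ep0, ep0, ep0, ep0, ep0, ep0, ep0, ep0, ep0, ep0, ep0, ep0, ep0, ep0, ep0, ep0, ep4, ep0, ep0, ep0, ep0, em4], [em2, em2, ep0, ep0, ep0, ep0, ep0, ep0, ep0, ep0, ep0, ep0, ep0, em2, ep0, em2, ep0, ep2, ep2, em2, ep0, ep0, ep0, em2], [em2, em2, ep0, ep0, ep0, em2, ep2, ep0, ep0, ep0, ep0, ep0, ep0, ep0, ep0, ep0, ep0, ep0, ep2, ep0, em2, ep0, em2, em2], [em2, em2, ep0, ep0, em2, ep0, ep0, ep0, ep0, ep0, em2, ep0, ep0, ep0, ep2, ep0, ep0, ep0, ep2, ep0, ep0, em2, ep0, em2], [em2, em2, ep0, ep0, ep0, ep2, em2, ep0, ep0, ep0, ep0, ep0, ep0, ep0, ep0, ep0, ep0, ep0, ep2, ep0, em2, ep0, em2, em2], [ep0, ep0, ep0, ep0, ep0, ep0, ep0, ep0, ep0, ep0, ep0, ep0, ep0, ep0, ep0, ep0, ep0, ep0, ep0, ep0, ep0, ep0, ep0, ep0], [ep4, ep4, ep0, ep0, ep0, ep0, ep0, ep0, ep0, ep0, ep0, ep0, ep0, ep0, ep0, ep0, ep0, ep0, em4, ep0, ep0, ep0, ep0,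 ep4], [em1, em1, em1, em1, em1, em1, em1, em1, em1, em1, em1, em1, em1, em1, em1, em1, em1, em1, ep3, em1, em1, em1, em1, em1], [ep3, ep1, em1, ep1, em1, ep1, em1, em1, ep1, em1, em1, em1, em1, em1, em1, em1, em1, em1, ep1, ep1, em1, ep1, em1, ep1], [em1, ep1, em1, ep1, em1, ep1, em1, em1, ep1, em1, em1, em1, em1, em1, em1, em1, em1, em1, ep1, em3, em1, ep1, em1, ep1], [ep2, ep2, em2, ep0, ep0, ep0, ep0, ep0, ep0, ep0, ep0, ep0, em2, ep0, ep0, ep0, ep0, em2, ep0, em2, em2, ep0, em2, ep0], [ep1, ep1, em1, em1, em1, ep1, em1, em1, ep1, em1, em1, em1, em1, em3, ep1, em1, ep1, em1, ep1, em1, em1, em1, em1, em1], [ep1, ep1, em1, ep1, em1, em1, ep1, em1, ep1, em1, ep1, em1, em1, em3, em1, em1, em1, em1, em1, em1, em1, em1, em1, ep1], [ep2, ep2, ep0, ep0, em2, em2, ep0, ep0, ep0, ep0, em2, ep0, ep0, em2, ep0, ep0, ep0, em2, ep0, ep0, em2, ep0, ep0, ep0], [ep2, ep2, ep0, ep0, em2, ep0, em2, ep0, ep0, ep0, em2, ep0, ep0, ep0, ep0, em2, ep0, ep0, ep0, em2, ep0, ep0, em2, ep0], [ep1, ep1, em1, em1, em1, em1,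 ep1, em1, ep1, ep1, em1, em1, em1, em1, em1, em3, em1, em1, ep1, em1, em1, ep1, em1, em1], [ep1, ep1, em1, ep1, em1, em1, ep1, em1, em1, em1, em1, em1, ep1, em1, ep1, em1, em1, em1, ep1, em3, em1, em1, em1, em1], [ep0, ep0, ep0, ep0, em2, ep0, ep0, ep0, ep0, em2, em2, ep0, ep0, em2, ep0, em2, em2, ep0, ep0, ep0, em2, ep0, em2, ep0], [ep1, ep1, em1, ep1, em1, em1, ep1, em1, ep1, em1, em3, em1, em1, ep1, em1, em1, em1, em1, em1, em1, em1, em1, em1, ep1], [ep1, ep1, ep1, ep1, em1, ep1, em1, em1, em1, em1, em1, em1, em1, em1, ep1, em1, em1, em3, em1, em1, em1, em1, em1, ep1]],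
   [[ep0, em4, ep0, ep0, ep0, ep0, ep0, ep0, ep0, ep0, ep0, em4, ep0, ep0, ep0, ep0, ep0, ep0, ep0, ep0, ep0, ep0, ep0, ep0], [em4, ep0, ep0, ep0, ep0, ep0, ep0, ep0, ep0, ep0, ep0, em4, ep0, ep0, ep0, ep0, ep0, ep0, ep0, ep0, ep0, ep0, ep0, ep0], [em2, em2, em2, ep0, ep0, ep0, ep0, ep0, ep2, ep0, ep0, em2, em2, ep0, ep0, ep0, ep0, ep0, ep2, ep0, ep0, ep0, ep0, em2], [em2, em2, ep0, em2, ep2, ep0, ep0, ep0, ep0, ep0, ep0, em2, ep0, ep0, ep0, ep0, ep0, ep0, ep0, em2, ep2, ep0, ep0, em2], [em2, em2, ep0, ep2, em2, ep0, ep0, ep0, ep0, ep0, ep0, em2, ep0, ep0, ep0, ep0, ep0, ep0, ep0, em2, ep2, ep0, ep0, em2], [em2, em2, ep0, ep0, ep0, em2, ep0, ep0, ep0, em2, ep0, em2, ep0, ep2, ep0, ep0, ep0, ep0, ep0, ep0, ep0, ep2, ep0, em2], [em2, em2, ep0, ep0, ep0, ep0, em2, ep0, ep0, ep0, ep0, em2, ep0, ep0, ep2, em2, ep2, ep0, ep0, ep0, ep0, ep0, ep0, em2], [em2, em2, ep0, ep0, ep0, ep0, ep0, em2, ep0, ep0, em2, em2, ep0, ep0, ep0, ep0, ep0, em2, ep0, ep0, ep0, ep0, em2, em2], [em2, em2, ep2, ep0, ep0, ep0, ep0,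 ep0, em2, ep0, ep0, em2, em2, ep0, ep0, ep0, ep0, ep0, ep2, ep0, ep0, ep0, ep0, em2], [em2, em2, ep0, ep0, ep0, em2, ep0, ep0, ep0, em2, ep0, em2, ep0, em2, ep0, ep0, ep0, ep0, ep0, ep0, ep0, em2, ep0, em2], [em2, em2, ep0, ep0, ep0, ep0, ep0, em2, ep0, ep0, em2, em2, ep0, ep0, ep0, ep0, ep0, ep2, ep0, ep0, ep0, ep0, ep2, em2], [em4, em4, ep0, ep0, ep0, ep0, ep0, ep0, ep0, ep0, ep0, ep0, ep0, ep0, ep0, ep0, ep0, ep0, ep0, ep0, ep0, ep0, ep0, ep0], [em2, em2, em2, ep0, ep0, ep0, ep0, ep0, em2, ep0, ep0, em2, em2, ep0, ep0, ep0, ep0, ep0, em2, ep0, ep0, ep0, ep0, em2], [em2, em2, ep0, ep0, ep0, ep2, ep0, ep0, ep0, em2, ep0, em2, ep0, em2, ep0, ep0, ep0, ep0, ep0, ep0, ep0, ep2, ep0, em2], [em2, em2, ep0, ep0, ep0, ep0, ep2, ep0, ep0, ep0, ep0, em2, ep0, ep0, em2, em2, ep2, ep0, ep0, ep0, ep0, ep0, ep0, em2], [em2, em2, ep0, ep0, ep0, ep0, em2, ep0, ep0, ep0, ep0, em2, ep0, ep0, em2, em2, em2, ep0, ep0, ep0, ep0, ep0, ep0, em2], [em2, em2, ep0, ep0, ep0, ep0, ep2, ep0, ep0, ep0, ep0, em2, ep0, ep0, ep2,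 em2, em2, ep0, ep0, ep0, ep0, ep0, ep0, em2], [em2, em2, ep0, ep0, ep0, ep0, ep0, em2, ep0, ep0, ep2, em2, ep0, ep0, ep0, ep0, ep0, em2, ep0, ep0, ep0, ep0, ep2, em2], [em2, em2, ep2, ep0, ep0, ep0, ep0, ep0, ep2, ep0, ep0, em2, em2, ep0, ep0, ep0, ep0, ep0, em2, ep0, ep0, ep0, ep0, em2], [em2, em2, ep0, em2, em2, ep0, ep0, ep0, ep0, ep0, ep0, em2, ep0, ep0, ep0, ep0, ep0, ep0, ep0, em2, em2, ep0, ep0, em2], [em2, em2, ep0, ep2, ep2, ep0, ep0, ep0, ep0, ep0, ep0, em2, ep0, ep0, ep0, ep0, ep0, ep0, ep0, em2, em2, ep0, ep0, em2], [em2, em2, ep0, ep0, ep0, ep2, ep0, ep0, ep0, em2, ep0, em2, ep0, ep2, ep0, ep0, ep0, ep0, ep0, ep0, ep0, em2, ep0, em2], [em2, em2, ep0, ep0, ep0, ep0, ep0, em2, ep0, ep0, ep2, em2, ep0, ep0, ep0, ep0, ep0, ep2, ep0, ep0, ep0, ep0, em2, em2], [ep0, ep0, ep0, ep0, ep0, ep0, ep0, ep0, ep0, ep0, ep0, ep0, ep0, ep0, ep0, ep0, ep0, ep0, ep0, ep0, ep0, ep0, ep0, ep0], [ep4, ep4, ep0, ep0, ep0, ep0, ep0, ep0, ep0, ep0, ep0, ep4, ep0, ep0, ep0, ep0, ep0, ep0, ep0, ep0, ep0, ep0, ep0,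 ep4], [em2, em2, ep0, ep0, ep0, ep0, ep0, em2, ep0, em2, ep0, em2, em2, ep0, ep0, em2, ep0, ep0, ep0, em2, ep0, ep0, ep0, ep0], [ep2, ep0, ep0, ep0, ep0, ep0, ep2, em2, ep0, ep0, ep2, ep0, em2, ep0, ep0, em2, ep0, ep0, em2, ep0, ep0, ep0, ep0, ep2], [em1, ep1, em1, em1, em1, ep1, ep1, em1, em1, em1, ep1, em1, em1, em1, em1, em3, em1, ep1, em1, em1, em1, ep1, em1, ep1], [ep1, ep1, em1, ep1, ep1, ep1, em1, em1, ep1, em1, ep1, ep1, em3, em1, em1, em1, em1, ep1, em1, em1, em1, ep1, em1, ep1], [ep0, ep0, ep0, em2, ep0, ep2, ep0, em2, ep0, em2, ep2, ep0, em2, ep0, ep0, ep0, ep0, ep0, em2, em2, ep0, ep0, ep0, ep0], [ep1, ep1, em1, ep1, em1, ep1, ep1, em1, em1, em1, ep1, ep1, em1, em1, ep1, em1, em1, em1, em1, em3, em1, ep1, ep1, ep1], [ep1, ep1, ep1, ep1, ep1, ep1, ep1, em1, ep1, em3, ep1, ep1, em1, ep1, em1, em1, ep1, em1, em1, em1, em1, ep1, ep1, ep1], [ep1, ep1, ep1, em1, em1, ep1, em1, em1, ep1, em1, ep1, ep1, em1, ep1, em1, em3, ep1, ep1, em1, em1, em1, em1, em1, ep1], [ep0, ep0, ep0, ep0, ep0, ep0,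 ep0, em2, ep0, ep0, ep0, ep0, em2, ep0, em2, em2, ep0, em2, em2, em2, em2, ep0, ep0, ep0], [ep0, ep0, ep2, ep0, ep0, ep2, ep0, ep0, ep0, em2, ep0, ep0, em2, ep0, ep0, em2, em2, ep0, ep0, em2, em2, ep0, ep0, ep0], [ep0, ep0, ep0, ep0, ep0, ep0, ep2, em2, ep0, em2, ep2, ep0, ep0, ep0, ep0, em2, ep0, ep0, ep0, em2, em2, em2, ep0, ep0], [ep1, ep1, em1, ep1, ep1, ep1, ep1, em1, em1, em1, em1, ep1, em1, ep1, em1, em3, em1, ep1, em1, em1, em1, em1, ep1, ep1], [ep0, ep0, ep0, ep0, ep0, ep2, ep0, em2, ep0, em2, ep2, ep2, ep0, ep0, ep0, em2, em2, ep0, ep0, ep0, ep0, ep0, ep0, ep2]]]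

/-- The unitary matrices. -/
noncomputable def us : List (List (List ℕ)) :=
  [[[2, 0, 3, 1, 1, 2], [1, 0, 3, 1, 1, 3], [1, 1, 3, 3, 0, 2], [1, 0, 1, 1, 1, 2], [0, 2, 0, 1, 1, 0], [3, 3, 2, 0, 2, 1]],
   [[0, 1, 2, 1, 3, 2], [1, 0, 2, 1, 3, 2], [0, 0, 2, 2, 2, 0], [1, 1, 2, 1, 3, 0], [3, 3, 0, 0, 0, 1], [0, 0, 2, 3, 1, 0]],
   [[1, 3, 3, 2, 2, 0], [3, 1, 3, 2, 2, 0], [3, 3, 1, 2, 2, 0], [3, 3, 3, 0, 1, 2], [0, 0, 0, 1, 1, 2], [3, 3, 3, 1, 0, 2]],
   [[1, 2, 2, 2, 0, 2], [2, 1, 2, 2, 0, 2], [2, 2, 1, 2, 0, 2], [2, 2, 2, 1, 0, 2], [0, 0, 0, 0, 3, 0], [1, 1, 1, 1, 0, 3]],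
   [[0, 3, 3, 3, 2, 1], [3, 0, 3, 3, 2, 1], [3, 3, 0, 3, 2, 1], [3, 3, 3, 0, 2, 1], [2, 2, 2, 2, 0, 3], [1, 1, 1, 1, 3, 0]],
   [[1, 0, 0, 0, 0, 0], [0, 1, 0, 0, 0, 0], [0, 0, 1, 0, 0, 0], [0, 0, 0, 1, 0, 0], [0, 0, 0, 0, 0, 3], [0, 0, 0, 0, 2, 0]],
   [[1, 0, 0, 0, 0, 0], [0, 1, 0, 0, 0, 0], [0, 0, 1, 0, 0, 0], [0, 0, 0, 1, 0, 0], [0, 0, 0, 0, 0, 2], [0, 0, 0, 0, 3, 0]]]

/-- The lattice points. -/
noncomputable def lefts : List (List (List ℤ)) :=
  [[[em4, ep4, ep0, ep0, ep0, ep0, ep0, ep0, ep0, ep0, ep0, ep0, ep0, ep0, ep0, ep0, ep0, ep0, ep0, ep0, ep0, ep0, ep0, ep0], [ep4, ep4, ep0, ep0, ep0, ep0, ep0, ep0, ep0, ep0, ep0, ep0, ep0, ep0, ep0, ep0, ep0, ep0, ep0, ep0, ep0, ep0, ep0, ep0], [ep2, ep2, ep0, ep2, ep0, ep0, ep0, ep0, ep0, ep0, ep0, ep0, em2, ep0, ep0, em2, ep0, ep0, ep0, ep0, ep0, em2, em2, ep2], [ep2, ep2, ep0, em2, ep0, ep0, ep0, ep0, ep0, ep0, ep0, ep0, ep2, ep0, ep0, em2, ep0, ep0, ep0, ep0, ep0, em2, em2, ep2], [ep2, ep2, ep0, em2, ep0, ep0, ep0, ep0, ep0, ep0, ep0, ep0, em2, ep0,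 ep0, ep2, ep0, ep0, ep0, ep0, ep0, em2, em2, ep2], [ep2, ep2, ep0, ep2, ep0, ep0, ep0, ep0, ep0, ep0, ep0, ep0, ep2, ep0, ep0, ep2, ep0, ep0, ep0, ep0, ep0, em2, em2, ep2], [ep2, ep2, ep0, ep0, ep0, ep2, em2, ep0, ep0, ep0, ep0, ep0, ep0, ep0, ep0, ep0, ep0, ep0, em2, ep0, em2, ep0, em2, ep2], [ep2, ep2, ep0, ep0, ep0, em2, ep2, ep0, ep0, ep0, ep0, ep0, ep0, ep0, ep0, ep0, ep0, ep0, em2, ep0, em2, ep0, em2, ep2], [ep2, ep2, ep0, ep0, ep0, em2, em2, ep0, ep0, ep0, ep0, ep0, ep0, ep0, ep0, ep0, ep0, ep0, ep2, ep0, em2, ep0, em2, ep2], [ep2, ep2, ep0, ep0, ep0, ep2, ep2, ep0, ep0, ep0, ep0, ep0, ep0, ep0, ep0, ep0, ep0, ep0, ep2, ep0, em2, ep0, em2, ep2], [ep2, ep2, ep0, ep0, ep0, ep0, ep0, ep0, ep2, em2, ep0, ep0, ep0, ep0, em2, ep0, ep0, ep0, ep0, em2, ep0, ep0, em2, ep2], [ep2, ep2, ep0, ep0, ep0, ep0, ep0, ep0, em2, ep2, ep0, ep0, ep0, ep0, em2, ep0, ep0, ep0, ep0, em2, ep0, ep0, em2, ep2], [ep2, ep2, ep0, ep0, ep0, ep0, ep0, ep0, em2, em2, ep0, ep0, ep0, ep0, ep2, ep0, ep0, ep0, ep0, em2, ep0, ep0,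 em2, ep2], [ep2, ep2, ep0, ep0, ep0, ep0, ep0, ep0, ep2, ep2, ep0, ep0, ep0, ep0, ep2, ep0, ep0, ep0, ep0, em2, ep0, ep0, em2, ep2], [ep2, ep2, ep0, ep0, ep0, ep0, ep0, ep2, ep0, ep0, em2, em2, ep0, ep0, ep0, ep0, ep0, em2, ep0, ep0, ep0, ep0, em2, ep2], [ep2, ep2, ep0, ep0, ep0, ep0, ep0, em2, ep0, ep0, ep2, em2, ep0, ep0, ep0, ep0, ep0, em2, ep0, ep0, ep0, ep0, em2, ep2], [ep2, ep2, ep0, ep0, ep0, ep0, ep0, em2, ep0, ep0, em2, ep2, ep0, ep0, ep0, ep0, ep0, em2, ep0, ep0, ep0, ep0, em2, ep2], [ep2, ep2, ep0, ep0, ep0, ep0, ep0, ep2, ep0, ep0, ep2, ep2, ep0, ep0, ep0, ep0, ep0, em2, ep0, ep0, ep0, ep0, em2, ep2], [ep2, ep2, ep2, ep0, em2, ep0, ep0, ep0, ep0, ep0, ep0, ep0, ep0, em2, ep0, ep0, em2, ep0, ep0, ep0, ep0, ep0, em2, ep2], [ep2, ep2, em2, ep0, ep2, ep0, ep0, ep0, ep0, ep0, ep0, ep0, ep0, em2, ep0, ep0, em2, ep0, ep0, ep0, ep0, ep0, em2, ep2], [ep2, ep2, em2, ep0, em2, ep0, ep0, ep0, ep0, ep0, ep0, ep0, ep0, ep2, ep0, ep0, em2, ep0, ep0, ep0, ep0, ep0, em2, ep2], [ep2, ep2, ep2, ep0, ep2,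 ep0, ep0, ep0, ep0, ep0, ep0, ep0, ep0, ep2, ep0, ep0, em2, ep0, ep0, ep0, ep0, ep0, em2, ep2], [ep2, ep2, em2, ep0, em2, ep0, ep0, ep0, ep0, ep0, ep0, ep0, ep0, em2, ep0, ep0, ep2, ep0, ep0, ep0, ep0, ep0, em2, ep2], [ep2, ep2, ep2, ep0, ep2, ep0, ep0, ep0, ep0, ep0, ep0, ep0, ep0, em2, ep0, ep0, ep2, ep0, ep0, ep0, ep0, ep0, em2, ep2], [ep2, ep2, ep2, ep0, em2, ep0, ep0, ep0, ep0, ep0, ep0, ep0, ep0, ep2, ep0, ep0, ep2, ep0, ep0, ep0, ep0, ep0, em2, ep2], [ep2, ep2, em2, ep0, ep2, ep0, ep0, ep0, ep0, ep0, ep0, ep0, ep0, ep2, ep0, ep0, ep2, ep0, ep0, ep0, ep0, ep0, em2, ep2], [ep2, ep2, ep0, ep0, ep0, ep0, ep0, em2, ep0, ep0, em2, em2, ep0, ep0, ep0, ep0, ep0, ep2, ep0, ep0, ep0, ep0, em2, ep2], [ep2, ep2, ep0, ep0, ep0, ep0, ep0, ep2, ep0, ep0, ep2, em2, ep0, ep0, ep0, ep0, ep0, ep2, ep0, ep0, ep0, ep0, em2, ep2], [ep2, ep2, ep0, ep0, ep0, ep0, ep0, ep2, ep0, ep0, em2, ep2, ep0, ep0, ep0, ep0, ep0, ep2, ep0, ep0, ep0, ep0, em2, ep2], [ep2, ep2, ep0, ep0, ep0, ep0, ep0, em2, ep0, ep0, ep2, ep2, ep0,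 ep0, ep0, ep0, ep0, ep2, ep0, ep0, ep0, ep0, em2, ep2], [ep2, ep2, ep0, ep0, ep0, ep0, ep0, ep0, em2, em2, ep0, ep0, ep0, ep0, em2, ep0, ep0, ep0, ep0, ep2, ep0, ep0, em2, ep2], [ep2, ep2, ep0, ep0, ep0, ep0, ep0, ep0, ep2, ep2, ep0, ep0, ep0, ep0, em2, ep0, ep0, ep0, ep0, ep2, ep0, ep0, em2, ep2]],
    [[ep2, ep2, ep0, ep0, ep0, ep0, ep0, ep0, ep2, em2, ep0, ep0, ep0, ep0, ep2, ep0, ep0, ep0, ep0, ep2, ep0, ep0, em2, ep2], [ep2, ep2, ep0, ep0, ep0, ep0, ep0, ep0, em2, ep2, ep0, ep0, ep0, ep0, ep2, ep0, ep0, ep0, ep0, ep2, ep0, ep0, em2, ep2], [ep2, ep2, ep0, ep0, ep0, em2, em2, ep0, ep0, ep0, ep0, ep0, ep0, ep0, ep0, ep0, ep0, ep0, em2, ep0, ep2, ep0, em2, ep2], [ep2, ep2, ep0, ep0, ep0, ep2, ep2, ep0, ep0, ep0, ep0, ep0, ep0, ep0, ep0, ep0, ep0, ep0, em2, ep0, ep2, ep0, em2, ep2], [ep2, ep2, ep0, ep0, ep0, ep2, em2, ep0, ep0, ep0, ep0, ep0, ep0, ep0, ep0, ep0, ep0, ep0, ep2, ep0, ep2, ep0, em2, ep2], [ep2, ep2, ep0, ep0, ep0, em2, ep2, ep0, ep0, ep0, ep0, ep0, ep0, ep0, ep0, ep0, ep0, ep0, ep2, ep0,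 ep2, ep0, em2, ep2], [ep2, ep2, ep0, em2, ep0, ep0, ep0, ep0, ep0, ep0, ep0, ep0, em2, ep0, ep0, em2, ep0, ep0, ep0, ep0, ep0, ep2, em2, ep2], [ep2, ep2, ep0, ep2, ep0, ep0, ep0, ep0, ep0, ep0, ep0, ep0, ep2, ep0, ep0, em2, ep0, ep0, ep0, ep0, ep0, ep2, em2, ep2], [ep2, ep2, ep0, ep2, ep0, ep0, ep0, ep0, ep0, ep0, ep0, ep0, em2, ep0, ep0, ep2, ep0, ep0, ep0, ep0, ep0, ep2, em2, ep2], [ep2, ep2, ep0, em2, ep0, ep0, ep0, ep0, ep0, ep0, ep0, ep0, ep2, ep0, ep0, ep2, ep0, ep0, ep0, ep0, ep0, ep2, em2, ep2], [ep2, ep2, ep0, ep0, ep0, ep0, ep0, ep0, ep2, ep0, ep0, ep0, ep0, ep0, ep0, ep0, em2, em2, ep0, ep0, em2, em2, ep0, ep2], [ep2, ep2, ep0, ep0, ep0, ep0, ep0, ep0, em2, ep0, ep0, ep0, ep0, ep0, ep0, ep0, ep2, em2, ep0, ep0, em2, em2, ep0, ep2], [ep2, ep2, ep0, ep0, ep0, ep0, ep0, ep0, em2, ep0, ep0, ep0, ep0, ep0, ep0, ep0, em2, ep2, ep0, ep0, em2, em2, ep0, ep2], [ep2, ep2, ep0, ep0, ep0, ep0, ep0, ep0, ep2, ep0, ep0, ep0, ep0, ep0, ep0, ep0, ep2, ep2, ep0, ep0, em2, em2, ep0, ep2], [ep2, ep2, ep2,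 ep0, ep0, ep0, em2, em2, ep0, ep0, ep0, ep0, ep0, ep0, ep0, ep0, ep0, ep0, ep0, em2, ep0, em2, ep0, ep2], [ep2, ep2, em2, ep0, ep0, ep0, ep2, em2, ep0, ep0, ep0, ep0, ep0, ep0, ep0, ep0, ep0, ep0, ep0, em2, ep0, em2, ep0, ep2], [ep2, ep2, em2, ep0, ep0, ep0, em2, ep2, ep0, ep0, ep0, ep0, ep0, ep0, ep0, ep0, ep0, ep0, ep0, em2, ep0, em2, ep0, ep2], [ep2, ep2, ep2, ep0, ep0, ep0, ep2, ep2, ep0, ep0, ep0, ep0, ep0, ep0, ep0, ep0, ep0, ep0, ep0, em2, ep0, em2, ep0, ep2], [ep2, ep2, ep0, ep0, ep2, ep0, ep0, ep0, ep0, ep0, em2, ep0, ep0, ep0, em2, ep0, ep0, ep0, em2, ep0, ep0, em2, ep0, ep2], [ep2, ep2, ep0, ep0, em2, ep0, ep0, ep0, ep0, ep0, ep2, ep0, ep0, ep0, em2, ep0, ep0, ep0, em2, ep0, ep0, em2, ep0, ep2], [ep2, ep2, ep0, ep0, em2, ep0, ep0, ep0, ep0, ep0, em2, ep0, ep0, ep0, ep2, ep0, ep0, ep0, em2, ep0, ep0, em2, ep0, ep2], [ep2, ep2, ep0, ep0, ep2, ep0, ep0, ep0, ep0, ep0, ep2, ep0, ep0, ep0, ep2, ep0, ep0, ep0, em2, ep0, ep0, em2, ep0, ep2], [ep2, ep2, ep0, ep0, ep0, ep2, ep0, ep0, ep0, em2, ep0,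 em2, ep0, em2, ep0, ep0, ep0, ep0, ep0, ep0, ep0, em2, ep0, ep2], [ep2, ep2, ep0, ep0, ep0, em2, ep0, ep0, ep0, ep2, ep0, em2, ep0, em2, ep0, ep0, ep0, ep0, ep0, ep0, ep0, em2, ep0, ep2], [ep2, ep2, ep0, ep0, ep0, em2, ep0, ep0, ep0, em2, ep0, ep2, ep0, em2, ep0, ep0, ep0, ep0, ep0, ep0, ep0, em2, ep0, ep2], [ep2, ep2, ep0, ep0, ep0, ep2, ep0, ep0, ep0, ep2, ep0, ep2, ep0, em2, ep0, ep0, ep0, ep0, ep0, ep0, ep0, em2, ep0, ep2], [ep2, ep2, ep0, ep0, ep0, em2, ep0, ep0, ep0, em2, ep0, em2, ep0, ep2, ep0, ep0, ep0, ep0, ep0, ep0, ep0, em2, ep0, ep2], [ep2, ep2, ep0, ep0, ep0, ep2, ep0, ep0, ep0, ep2, ep0, em2, ep0, ep2, ep0, ep0, ep0, ep0, ep0, ep0, ep0, em2, ep0, ep2], [ep2, ep2, ep0, ep0, ep0, ep2, ep0, ep0, ep0, em2, ep0, ep2, ep0, ep2, ep0, ep0, ep0, ep0, ep0, ep0, ep0, em2, ep0, ep2], [ep2, ep2, ep0, ep0, ep0, em2, ep0, ep0, ep0, ep2, ep0, ep2, ep0, ep2, ep0, ep0, ep0, ep0, ep0, ep0, ep0, em2, ep0, ep2], [ep2, ep2, ep0, ep0, em2, ep0, ep0, ep0, ep0, ep0, em2, ep0, ep0, ep0, em2, ep0, ep0, ep0, ep2,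 ep0, ep0, em2, ep0, ep2], [ep2, ep2, ep0, ep0, ep2, ep0, ep0, ep0, ep0, ep0, ep2, ep0, ep0, ep0, em2, ep0, ep0, ep0, ep2, ep0, ep0, em2, ep0, ep2]],
    [[ep2, ep2, ep0, ep0, ep2, ep0, ep0, ep0, ep0, ep0, em2, ep0, ep0, ep0, ep2, ep0, ep0, ep0, ep2, ep0, ep0, em2, ep0, ep2], [ep2, ep2, ep0, ep0, em2, ep0, ep0, ep0, ep0, ep0, ep2, ep0, ep0, ep0, ep2, ep0, ep0, ep0, ep2, ep0, ep0, em2, ep0, ep2], [ep2, ep2, em2, ep0, ep0, ep0, em2, em2, ep0, ep0, ep0, ep0, ep0, ep0, ep0, ep0, ep0, ep0, ep0, ep2, ep0, em2, ep0, ep2], [ep2, ep2, ep2, ep0, ep0, ep0, ep2, em2, ep0, ep0, ep0, ep0, ep0, ep0, ep0, ep0, ep0, ep0, ep0, ep2, ep0, em2, ep0, ep2], [ep2, ep2, ep2, ep0, ep0, ep0, em2, ep2, ep0, ep0, ep0, ep0, ep0, ep0, ep0, ep0, ep0, ep0, ep0, ep2, ep0, em2, ep0, ep2], [ep2, ep2, em2, ep0, ep0, ep0, ep2, ep2, ep0, ep0, ep0, ep0, ep0, ep0, ep0, ep0, ep0, ep0, ep0, ep2, ep0, em2, ep0, ep2], [ep2, ep2, ep0, ep0, ep0, ep0, ep0, ep0, em2, ep0, ep0, ep0, ep0, ep0, ep0, ep0, em2, em2, ep0, ep0, ep2, em2, ep0, ep2], [ep2,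 ep2, ep0, ep0, ep0, ep0, ep0, ep0, ep2, ep0, ep0, ep0, ep0, ep0, ep0, ep0, ep2, em2, ep0, ep0, ep2, em2, ep0, ep2], [ep2, ep2, ep0, ep0, ep0, ep0, ep0, ep0, ep2, ep0, ep0, ep0, ep0, ep0, ep0, ep0, em2, ep2, ep0, ep0, ep2, em2, ep0, ep2], [ep2, ep2, ep0, ep0, ep0, ep0, ep0, ep0, em2, ep0, ep0, ep0, ep0, ep0, ep0, ep0, ep2, ep2, ep0, ep0, ep2, em2, ep0, ep2], [ep2, ep2, ep0, ep2, em2, ep0, ep0, ep0, ep0, ep0, ep0, em2, ep0, ep0, ep0, ep0, ep0, ep0, ep0, em2, em2, ep0, ep0, ep2], [ep2, ep2, ep0, em2, ep2, ep0, ep0, ep0, ep0, ep0, ep0, em2, ep0, ep0, ep0, ep0, ep0, ep0, ep0, em2, em2, ep0, ep0, ep2], [ep2, ep2, ep0, em2, em2, ep0, ep0, ep0, ep0, ep0, ep0, ep2, ep0, ep0, ep0, ep0, ep0, ep0, ep0, em2, em2, ep0, ep0, ep2], [ep2, ep2, ep0, ep2, ep2, ep0, ep0, ep0, ep0, ep0, ep0, ep2, ep0, ep0, ep0, ep0, ep0, ep0, ep0, em2, em2, ep0, ep0, ep2], [ep2, ep2, ep2, ep0, ep0, ep0, ep0, ep0, ep0, em2, em2, ep0, ep0, ep0, ep0, em2, ep0, ep0, ep0, ep0, em2, ep0, ep0, ep2], [ep2, ep2, em2, ep0, ep0, ep0, ep0, ep0, ep0,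 ep2, em2, ep0, ep0, ep0, ep0, em2, ep0, ep0, ep0, ep0, em2, ep0, ep0, ep2], [ep2, ep2, em2, ep0, ep0, ep0, ep0, ep0, ep0, em2, ep2, ep0, ep0, ep0, ep0, em2, ep0, ep0, ep0, ep0, em2, ep0, ep0, ep2], [ep2, ep2, ep2, ep0, ep0, ep0, ep0, ep0, ep0, ep2, ep2, ep0, ep0, ep0, ep0, em2, ep0, ep0, ep0, ep0, em2, ep0, ep0, ep2], [ep2, ep2, ep0, ep0, ep0, ep0, ep0, ep2, ep0, ep0, ep0, ep0, em2, em2, em2, ep0, ep0, ep0, ep0, ep0, em2, ep0, ep0, ep2], [ep2, ep2, ep0, ep0, ep0, ep0, ep0, em2, ep0, ep0, ep0, ep0, ep2, em2, em2, ep0, ep0, ep0, ep0, ep0, em2, ep0, ep0, ep2], [ep2, ep2, ep0, ep0, ep0, ep0, ep0, em2, ep0, ep0, ep0, ep0, em2, ep2, em2, ep0, ep0, ep0, ep0, ep0, em2, ep0, ep0, ep2], [ep2, ep2, ep0, ep0, ep0, ep0, ep0, ep2, ep0, ep0, ep0, ep0, ep2, ep2, em2, ep0, ep0, ep0, ep0, ep0, em2, ep0, ep0, ep2], [ep2, ep2, ep0, ep0, ep0, ep0, ep0, em2, ep0, ep0, ep0, ep0, em2, em2, ep2, ep0, ep0, ep0, ep0, ep0, em2, ep0, ep0, ep2], [ep2, ep2, ep0, ep0, ep0, ep0, ep0, ep2, ep0, ep0, ep0, ep0, ep2, em2, ep2, ep0, ep0,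 ep0, ep0, ep0, em2, ep0, ep0, ep2], [ep2, ep2, ep0, ep0, ep0, ep0, ep0, ep2, ep0, ep0, ep0, ep0, em2, ep2, ep2, ep0, ep0, ep0, ep0, ep0, em2, ep0, ep0, ep2], [ep2, ep2, ep0, ep0, ep0, ep0, ep0, em2, ep0, ep0, ep0, ep0, ep2, ep2, ep2, ep0, ep0, ep0, ep0, ep0, em2, ep0, ep0, ep2], [ep2, ep2, em2, ep0, ep0, ep0, ep0, ep0, ep0, em2, em2, ep0, ep0, ep0, ep0, ep2, ep0, ep0, ep0, ep0, em2, ep0, ep0, ep2], [ep2, ep2, ep2, ep0, ep0, ep0, ep0, ep0, ep0, ep2, em2, ep0, ep0, ep0, ep0, ep2, ep0, ep0, ep0, ep0, em2, ep0, ep0, ep2], [ep2, ep2, ep2, ep0, ep0, ep0, ep0, ep0, ep0, em2, ep2, ep0, ep0, ep0, ep0, ep2, ep0, ep0, ep0, ep0, em2, ep0, ep0, ep2], [ep2, ep2, em2, ep0, ep0, ep0, ep0, ep0, ep0, ep2, ep2, ep0, ep0, ep0, ep0, ep2, ep0, ep0, ep0, ep0, em2, ep0, ep0, ep2], [ep2, ep2, ep0, em2, em2, ep0, ep0, ep0, ep0, ep0, ep0, em2, ep0, ep0, ep0, ep0, ep0, ep0, ep0, ep2, em2, ep0, ep0, ep2], [ep2, ep2, ep0, ep2, ep2, ep0, ep0, ep0, ep0, ep0, ep0, em2, ep0, ep0, ep0, ep0, ep0, ep0, ep0, ep2, em2, ep0, ep0, ep2]],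
    [[ep2, ep2, ep0, ep2, em2, ep0, ep0, ep0, ep0, ep0, ep0, ep2, ep0, ep0, ep0, ep0, ep0, ep0, ep0, ep2, em2, ep0, ep0, ep2], [ep2, ep2, ep0, em2, ep2, ep0, ep0, ep0, ep0, ep0, ep0, ep2, ep0, ep0, ep0, ep0, ep0, ep0, ep0, ep2, em2, ep0, ep0, ep2], [ep2, ep2, ep0, ep0, ep0, ep0, ep0, ep0, ep0, ep0, ep0, ep0, ep0, ep2, ep0, em2, ep0, em2, em2, em2, ep0, ep0, ep0, ep2], [ep2, ep2, ep0, ep0, ep0, ep0, ep0, ep0, ep0, ep0, ep0, ep0, ep0, em2, ep0, ep2, ep0, em2, em2, em2, ep0, ep0, ep0, ep2], [ep2, ep2, ep0, ep0, ep0, ep0, ep0, ep0, ep0, ep0, ep0, ep0, ep0, em2, ep0, em2, ep0, ep2, em2, em2, ep0, ep0, ep0, ep2], [ep2, ep2, ep0, ep0, ep0, ep0, ep0, ep0, ep0, ep0, ep0, ep0, ep0, ep2, ep0, ep2, ep0, ep2, em2, em2, ep0, ep0, ep0, ep2], [ep2, ep2, ep0, ep0, ep0, ep2, ep0, ep0, ep0, ep0, em2, ep0, em2, ep0, ep0, ep0, em2, ep0, ep0, em2, ep0, ep0, ep0, ep2], [ep2, ep2, ep0, ep0, ep0, em2, ep0, ep0, ep0, ep0, ep2, ep0, em2, ep0, ep0, ep0, em2, ep0, ep0, em2, ep0, ep0, ep0, ep2], [ep2, ep2, ep0, ep0, ep0, em2, ep0,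 ep0, ep0, ep0, em2, ep0, ep2, ep0, ep0, ep0, em2, ep0, ep0, em2, ep0, ep0, ep0, ep2], [ep2, ep2, ep0, ep0, ep0, ep2, ep0, ep0, ep0, ep0, ep2, ep0, ep2, ep0, ep0, ep0, em2, ep0, ep0, em2, ep0, ep0, ep0, ep2], [ep2, ep2, ep0, ep0, ep0, em2, ep0, ep0, ep0, ep0, em2, ep0, em2, ep0, ep0, ep0, ep2, ep0, ep0, em2, ep0, ep0, ep0, ep2], [ep2, ep2, ep0, ep0, ep0, ep2, ep0, ep0, ep0, ep0, ep2, ep0, em2, ep0, ep0, ep0, ep2, ep0, ep0, em2, ep0, ep0, ep0, ep2], [ep2, ep2, ep0, ep0, ep0, ep2, ep0, ep0, ep0, ep0, em2, ep0, ep2, ep0, ep0, ep0, ep2, ep0, ep0, em2, ep0, ep0, ep0, ep2], [ep2, ep2, ep0, ep0, ep0, em2, ep0, ep0, ep0, ep0, ep2, ep0, ep2, ep0, ep0, ep0, ep2, ep0, ep0, em2, ep0, ep0, ep0, ep2], [ep2, ep2, ep0, ep0, ep0, ep0, ep0, ep0, ep0, ep0, ep0, ep0, ep0, em2, ep0, em2, ep0, em2, ep2, em2, ep0, ep0, ep0, ep2], [ep2, ep2, ep0, ep0, ep0, ep0, ep0, ep0, ep0, ep0, ep0, ep0, ep0, ep2, ep0, ep2, ep0, em2, ep2, em2, ep0, ep0, ep0, ep2], [ep2, ep2, ep0, ep0, ep0, ep0, ep0, ep0, ep0, ep0, ep0, ep0, ep0, ep2, ep0,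 em2, ep0, ep2, ep2, em2, ep0, ep0, ep0, ep2], [ep2, ep2, ep0, ep0, ep0, ep0, ep0, ep0, ep0, ep0, ep0, ep0, ep0, em2, ep0, ep2, ep0, ep2, ep2, em2, ep0, ep0, ep0, ep2], [ep2, ep2, ep0, ep2, ep0, ep0, ep0, em2, ep0, em2, ep0, ep0, ep0, ep0, ep0, ep0, em2, ep0, em2, ep0, ep0, ep0, ep0, ep2], [ep2, ep2, ep0, em2, ep0, ep0, ep0, ep2, ep0, em2, ep0, ep0, ep0, ep0, ep0, ep0, em2, ep0, em2, ep0, ep0, ep0, ep0, ep2], [ep2, ep2, ep0, em2, ep0, ep0, ep0, em2, ep0, ep2, ep0, ep0, ep0, ep0, ep0, ep0, em2, ep0, em2, ep0, ep0, ep0, ep0, ep2], [ep2, ep2, ep0, ep2, ep0, ep0, ep0, ep2, ep0, ep2, ep0, ep0, ep0, ep0, ep0, ep0, em2, ep0, em2, ep0, ep0, ep0, ep0, ep2], [ep2, ep2, ep2, ep0, ep0, ep0, ep0, ep0, em2, ep0, ep0, em2, em2, ep0, ep0, ep0, ep0, ep0, em2, ep0, ep0, ep0, ep0, ep2], [ep2, ep2, em2, ep0, ep0, ep0, ep0, ep0, ep2, ep0, ep0, em2, em2, ep0, ep0, ep0, ep0, ep0, em2, ep0, ep0, ep0, ep0, ep2], [ep2, ep2, em2, ep0, ep0, ep0, ep0, ep0, em2, ep0, ep0, ep2, em2, ep0, ep0, ep0, ep0, ep0, em2, ep0, ep0, ep0, ep0,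 ep2], [ep2, ep2, ep2, ep0, ep0, ep0, ep0, ep0, ep2, ep0, ep0, ep2, em2, ep0, ep0, ep0, ep0, ep0, em2, ep0, ep0, ep0, ep0, ep2], [ep2, ep2, em2, ep0, ep0, ep0, ep0, ep0, em2, ep0, ep0, em2, ep2, ep0, ep0, ep0, ep0, ep0, em2, ep0, ep0, ep0, ep0, ep2], [ep2, ep2, ep2, ep0, ep0, ep0, ep0, ep0, ep2, ep0, ep0, em2, ep2, ep0, ep0, ep0, ep0, ep0, em2, ep0, ep0, ep0, ep0, ep2], [ep2, ep2, ep2, ep0, ep0, ep0, ep0, ep0, em2, ep0, ep0, ep2, ep2, ep0, ep0, ep0, ep0, ep0, em2, ep0, ep0, ep0, ep0, ep2], [ep2, ep2, em2, ep0, ep0, ep0, ep0, ep0, ep2, ep0, ep0, ep2, ep2, ep0, ep0, ep0, ep0, ep0, em2, ep0, ep0, ep0, ep0, ep2], [ep2, ep2, ep0, em2, ep0, ep0, ep0, em2, ep0, em2, ep0, ep0, ep0, ep0, ep0, ep0, ep2, ep0, em2, ep0, ep0, ep0, ep0, ep2], [ep2, ep2, ep0, ep2, ep0, ep0, ep0, ep2, ep0, em2, ep0, ep0, ep0, ep0, ep0, ep0, ep2, ep0, em2, ep0, ep0, ep0, ep0, ep2]],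
    [[ep2, ep2, ep0, ep2, ep0, ep0, ep0, em2, ep0, ep2, ep0, ep0, ep0, ep0, ep0, ep0, ep2, ep0, em2, ep0, ep0, ep0, ep0, ep2], [ep2, ep2, ep0, em2, ep0, ep0, ep0, ep2, ep0, ep2, ep0, ep0, ep0, ep0, ep0, ep0, ep2, ep0, em2, ep0, ep0, ep0, ep0, ep2], [ep2, ep2, ep2, em2, ep0, em2, ep0, ep0, ep0, ep0, ep0, ep0, ep0, ep0, em2, ep0, ep0, em2, ep0, ep0, ep0, ep0, ep0, ep2], [ep2, ep2, em2, ep2, ep0, em2, ep0, ep0, ep0, ep0, ep0, ep0, ep0, ep0, em2, ep0, ep0, em2, ep0, ep0, ep0, ep0, ep0, ep2], [ep2, ep2, em2, em2, ep0, ep2, ep0, ep0, ep0, ep0, ep0, ep0, ep0, ep0, em2, ep0, ep0, em2, ep0, ep0, ep0, ep0, ep0, ep2], [ep2, ep2, ep2, ep2, ep0, ep2, ep0, ep0, ep0, ep0, ep0, ep0, ep0, ep0, em2, ep0, ep0, em2, ep0, ep0, ep0, ep0, ep0, ep2], [ep2, ep2, ep0, ep0, ep2, ep0, em2, ep0, ep0, em2, ep0, ep0, em2, ep0, ep0, ep0, ep0, em2, ep0, ep0, ep0, ep0, ep0, ep2], [ep2, ep2, ep0, ep0, em2, ep0, ep2, ep0, ep0, em2, ep0, ep0, em2, ep0, ep0, ep0, ep0, em2, ep0, ep0, ep0, ep0, ep0, ep2], [ep2, ep2, ep0, ep0, em2, ep0, em2,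 ep0, ep0, ep2, ep0, ep0, em2, ep0, ep0, ep0, ep0, em2, ep0, ep0, ep0, ep0, ep0, ep2], [ep2, ep2, ep0, ep0, ep2, ep0, ep2, ep0, ep0, ep2, ep0, ep0, em2, ep0, ep0, ep0, ep0, em2, ep0, ep0, ep0, ep0, ep0, ep2], [ep2, ep2, ep0, ep0, em2, ep0, em2, ep0, ep0, em2, ep0, ep0, ep2, ep0, ep0, ep0, ep0, em2, ep0, ep0, ep0, ep0, ep0, ep2], [ep2, ep2, ep0, ep0, ep2, ep0, ep2, ep0, ep0, em2, ep0, ep0, ep2, ep0, ep0, ep0, ep0, em2, ep0, ep0, ep0, ep0, ep0, ep2], [ep2, ep2, ep0, ep0, ep2, ep0, em2, ep0, ep0, ep2, ep0, ep0, ep2, ep0, ep0, ep0, ep0, em2, ep0, ep0, ep0, ep0, ep0, ep2], [ep2, ep2, ep0, ep0, em2, ep0, ep2, ep0, ep0, ep2, ep0, ep0, ep2, ep0, ep0, ep0, ep0, em2, ep0, ep0, ep0, ep0, ep0, ep2], [ep2, ep2, em2, em2, ep0, em2, ep0, ep0, ep0, ep0, ep0, ep0, ep0, ep0, ep2, ep0, ep0, em2, ep0, ep0, ep0, ep0, ep0, ep2], [ep2, ep2, ep2, ep2, ep0, em2, ep0, ep0, ep0, ep0, ep0, ep0, ep0, ep0, ep2, ep0, ep0, em2, ep0, ep0, ep0, ep0, ep0, ep2], [ep2, ep2, ep2, em2, ep0, ep2, ep0, ep0, ep0, ep0, ep0, ep0, ep0, ep0, ep2,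 ep0, ep0, em2, ep0, ep0, ep0, ep0, ep0, ep2], [ep2, ep2, em2, ep2, ep0, ep2, ep0, ep0, ep0, ep0, ep0, ep0, ep0, ep0, ep2, ep0, ep0, em2, ep0, ep0, ep0, ep0, ep0, ep2], [ep2, ep2, ep0, ep0, ep0, ep0, ep2, ep0, ep0, ep0, ep0, em2, ep0, ep0, em2, em2, em2, ep0, ep0, ep0, ep0, ep0, ep0, ep2], [ep2, ep2, ep0, ep0, ep0, ep0, em2, ep0, ep0, ep0, ep0, ep2, ep0, ep0, em2, em2, em2, ep0, ep0, ep0, ep0, ep0, ep0, ep2], [ep2, ep2, ep0, ep0, ep0, ep0, em2, ep0, ep0, ep0, ep0, em2, ep0, ep0, ep2, em2, em2, ep0, ep0, ep0, ep0, ep0, ep0, ep2], [ep2, ep2, ep0, ep0, ep0, ep0, ep2, ep0, ep0, ep0, ep0, ep2, ep0, ep0, ep2, em2, em2, ep0, ep0, ep0, ep0, ep0, ep0, ep2], [ep2, ep2, ep0, ep0, ep0, ep0, em2, ep0, ep0, ep0, ep0, em2, ep0, ep0, em2, ep2, em2, ep0, ep0, ep0, ep0, ep0, ep0, ep2], [ep2, ep2, ep0, ep0, ep0, ep0, ep2, ep0, ep0, ep0, ep0, ep2, ep0, ep0, em2, ep2, em2, ep0, ep0, ep0, ep0, ep0, ep0, ep2], [ep2, ep2, ep0, ep0, ep0, ep0, ep2, ep0, ep0, ep0, ep0, em2, ep0, ep0, ep2, ep2, em2, ep0, ep0, ep0, ep0, ep0, ep0,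 ep2], [ep2, ep2, ep0, ep0, ep0, ep0, em2, ep0, ep0, ep0, ep0, ep2, ep0, ep0, ep2, ep2, em2, ep0, ep0, ep0, ep0, ep0, ep0, ep2], [ep2, ep2, ep0, ep0, ep2, em2, ep0, em2, em2, ep0, ep0, ep0, ep0, ep0, ep0, em2, ep0, ep0, ep0, ep0, ep0, ep0, ep0, ep2], [ep2, ep2, ep0, ep0, em2, ep2, ep0, em2, em2, ep0, ep0, ep0, ep0, ep0, ep0, em2, ep0, ep0, ep0, ep0, ep0, ep0, ep0, ep2], [ep2, ep2, ep0, ep0, em2, em2, ep0, ep2, em2, ep0, ep0, ep0, ep0, ep0, ep0, em2, ep0, ep0, ep0, ep0, ep0, ep0, ep0, ep2], [ep2, ep2, ep0, ep0, ep2, ep2, ep0, ep2, em2, ep0, ep0, ep0, ep0, ep0, ep0, em2, ep0, ep0, ep0, ep0, ep0, ep0, ep0, ep2], [ep2, ep2, ep0, ep0, em2, em2, ep0, em2, ep2, ep0, ep0, ep0, ep0, ep0, ep0, em2, ep0, ep0, ep0, ep0, ep0, ep0, ep0, ep2], [ep2, ep2, ep0, ep0, ep2, ep2, ep0, em2, ep2, ep0, ep0, ep0, ep0, ep0, ep0, em2, ep0, ep0, ep0, ep0, ep0, ep0, ep0, ep2]],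
    [[ep2, ep2, ep0, ep0, ep2, em2, ep0, ep2, ep2, ep0, ep0, ep0, ep0, ep0, ep0, em2, ep0, ep0, ep0, ep0, ep0, ep0, ep0, ep2], [ep2, ep2, ep0, ep0, em2, ep2, ep0, ep2, ep2, ep0, ep0, ep0, ep0, ep0, ep0, em2, ep0, ep0, ep0, ep0, ep0, ep0, ep0, ep2], [ep2, ep2, ep0, ep2, ep0, ep0, em2, ep0, em2, ep0, em2, ep0, ep0, em2, ep0, ep0, ep0, ep0, ep0, ep0, ep0, ep0, ep0, ep2], [ep2, ep2, ep0, em2, ep0, ep0, ep2, ep0, em2, ep0, em2, ep0, ep0, em2, ep0, ep0, ep0, ep0, ep0, ep0, ep0, ep0, ep0, ep2], [ep2, ep2, ep0, em2, ep0, ep0, em2, ep0, ep2, ep0, em2, ep0, ep0, em2, ep0, ep0, ep0, ep0, ep0, ep0, ep0, ep0, ep0, ep2], [ep2, ep2, ep0, ep2, ep0, ep0, ep2, ep0, ep2, ep0, em2, ep0, ep0, em2, ep0, ep0, ep0, ep0, ep0, ep0, ep0, ep0, ep0, ep2], [ep2, ep2, ep0, em2, ep0, ep0, em2, ep0, em2, ep0, ep2, ep0, ep0, em2, ep0, ep0, ep0, ep0, ep0, ep0, ep0, ep0, ep0, ep2], [ep2, ep2, ep0, ep2, ep0, ep0, ep2, ep0, em2, ep0, ep2, ep0, ep0, em2, ep0, ep0, ep0, ep0, ep0, ep0, ep0, ep0, ep0, ep2], [ep2, ep2, ep0, ep2, ep0, ep0, em2,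 ep0, ep2, ep0, ep2, ep0, ep0, em2, ep0, ep0, ep0, ep0, ep0, ep0, ep0, ep0, ep0, ep2], [ep2, ep2, ep0, em2, ep0, ep0, ep2, ep0, ep2, ep0, ep2, ep0, ep0, em2, ep0, ep0, ep0, ep0, ep0, ep0, ep0, ep0, ep0, ep2], [ep2, ep2, ep0, em2, ep0, ep0, em2, ep0, em2, ep0, em2, ep0, ep0, ep2, ep0, ep0, ep0, ep0, ep0, ep0, ep0, ep0, ep0, ep2], [ep2, ep2, ep0, ep2, ep0, ep0, ep2, ep0, em2, ep0, em2, ep0, ep0, ep2, ep0, ep0, ep0, ep0, ep0, ep0, ep0, ep0, ep0, ep2], [ep2, ep2, ep0, ep2, ep0, ep0, em2, ep0, ep2, ep0, em2, ep0, ep0, ep2, ep0, ep0, ep0, ep0, ep0, ep0, ep0, ep0, ep0, ep2], [ep2, ep2, ep0, em2, ep0, ep0, ep2, ep0, ep2, ep0, em2, ep0, ep0, ep2, ep0, ep0, ep0, ep0, ep0, ep0, ep0, ep0, ep0, ep2], [ep2, ep2, ep0, ep2, ep0, ep0, em2, ep0, em2, ep0, ep2, ep0, ep0, ep2, ep0, ep0, ep0, ep0, ep0, ep0, ep0, ep0, ep0, ep2], [ep2, ep2, ep0, em2, ep0, ep0, ep2, ep0, em2, ep0, ep2, ep0, ep0, ep2, ep0, ep0, ep0, ep0, ep0, ep0, ep0, ep0, ep0, ep2], [ep2, ep2, ep0, em2, ep0, ep0, em2, ep0, ep2, ep0, ep2, ep0, ep0, ep2, ep0,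 ep0, ep0, ep0, ep0, ep0, ep0, ep0, ep0, ep2], [ep2, ep2, ep0, ep2, ep0, ep0, ep2, ep0, ep2, ep0, ep2, ep0, ep0, ep2, ep0, ep0, ep0, ep0, ep0, ep0, ep0, ep0, ep0, ep2], [ep2, ep2, ep0, ep0, em2, em2, ep0, em2, em2, ep0, ep0, ep0, ep0, ep0, ep0, ep2, ep0, ep0, ep0, ep0, ep0, ep0, ep0, ep2], [ep2, ep2, ep0, ep0, ep2, ep2, ep0, em2, em2, ep0, ep0, ep0, ep0, ep0, ep0, ep2, ep0, ep0, ep0, ep0, ep0, ep0, ep0, ep2], [ep2, ep2, ep0, ep0, ep2, em2, ep0, ep2, em2, ep0, ep0, ep0, ep0, ep0, ep0, ep2, ep0, ep0, ep0, ep0, ep0, ep0, ep0, ep2], [ep2, ep2, ep0, ep0, em2, ep2, ep0, ep2, em2, ep0, ep0, ep0, ep0, ep0, ep0, ep2, ep0, ep0, ep0, ep0, ep0, ep0, ep0, ep2], [ep2, ep2, ep0, ep0, ep2, em2, ep0, em2, ep2, ep0, ep0, ep0, ep0, ep0, ep0, ep2, ep0, ep0, ep0, ep0, ep0, ep0, ep0, ep2], [ep2, ep2, ep0, ep0, em2, ep2, ep0, em2, ep2, ep0, ep0, ep0, ep0, ep0, ep0, ep2, ep0, ep0, ep0, ep0, ep0, ep0, ep0, ep2], [ep2, ep2, ep0, ep0, em2, em2, ep0, ep2, ep2, ep0, ep0, ep0, ep0, ep0, ep0, ep2, ep0, ep0, ep0, ep0, ep0, ep0, ep0,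 ep2], [ep2, ep2, ep0, ep0, ep2, ep2, ep0, ep2, ep2, ep0, ep0, ep0, ep0, ep0, ep0, ep2, ep0, ep0, ep0, ep0, ep0, ep0, ep0, ep2], [ep2, ep2, ep0, ep0, ep0, ep0, em2, ep0, ep0, ep0, ep0, em2, ep0, ep0, em2, em2, ep2, ep0, ep0, ep0, ep0, ep0, ep0, ep2], [ep2, ep2, ep0, ep0, ep0, ep0, ep2, ep0, ep0, ep0, ep0, ep2, ep0, ep0, em2, em2, ep2, ep0, ep0, ep0, ep0, ep0, ep0, ep2], [ep2, ep2, ep0, ep0, ep0, ep0, ep2, ep0, ep0, ep0, ep0, em2, ep0, ep0, ep2, em2, ep2, ep0, ep0, ep0, ep0, ep0, ep0, ep2], [ep2, ep2, ep0, ep0, ep0, ep0, em2, ep0, ep0, ep0, ep0, ep2, ep0, ep0, ep2, em2, ep2, ep0, ep0, ep0, ep0, ep0, ep0, ep2], [ep2, ep2, ep0, ep0, ep0, ep0, ep2, ep0, ep0, ep0, ep0, em2, ep0, ep0, em2, ep2, ep2, ep0, ep0, ep0, ep0, ep0, ep0, ep2], [ep2, ep2, ep0, ep0, ep0, ep0, em2, ep0, ep0, ep0, ep0, ep2, ep0, ep0, em2, ep2, ep2, ep0, ep0, ep0, ep0, ep0, ep0, ep2]],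
    [[ep2, ep2, ep0, ep0, ep0, ep0, em2, ep0, ep0, ep0, ep0, em2, ep0, ep0, ep2, ep2, ep2, ep0, ep0, ep0, ep0, ep0, ep0, ep2], [ep2, ep2, ep0, ep0, ep0, ep0, ep2, ep0, ep0, ep0, ep0, ep2, ep0, ep0, ep2, ep2, ep2, ep0, ep0, ep0, ep0, ep0, ep0, ep2], [ep2, ep2, em2, em2, ep0, em2, ep0, ep0, ep0, ep0, ep0, ep0, ep0, ep0, em2, ep0, ep0, ep2, ep0, ep0, ep0, ep0, ep0, ep2], [ep2, ep2, ep2, ep2, ep0, em2, ep0, ep0, ep0, ep0, ep0, ep0, ep0, ep0, em2, ep0, ep0, ep2, ep0, ep0, ep0, ep0, ep0, ep2], [ep2, ep2, ep2, em2, ep0, ep2, ep0, ep0, ep0, ep0, ep0, ep0, ep0, ep0, em2, ep0, ep0, ep2, ep0, ep0, ep0, ep0, ep0, ep2], [ep2, ep2, em2, ep2, ep0, ep2, ep0, ep0, ep0, ep0, ep0, ep0, ep0, ep0, em2, ep0, ep0, ep2, ep0, ep0, ep0, ep0, ep0, ep2], [ep2, ep2, ep0, ep0, em2, ep0, em2, ep0, ep0, em2, ep0, ep0, em2, ep0, ep0, ep0, ep0, ep2, ep0, ep0, ep0, ep0, ep0, ep2], [ep2, ep2, ep0, ep0, ep2, ep0, ep2, ep0, ep0, em2, ep0, ep0, em2, ep0, ep0, ep0, ep0, ep2, ep0, ep0, ep0, ep0, ep0, ep2], [ep2, ep2, ep0, ep0, ep2, ep0, em2,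 ep0, ep0, ep2, ep0, ep0, em2, ep0, ep0, ep0, ep0, ep2, ep0, ep0, ep0, ep0, ep0, ep2], [ep2, ep2, ep0, ep0, em2, ep0, ep2, ep0, ep0, ep2, ep0, ep0, em2, ep0, ep0, ep0, ep0, ep2, ep0, ep0, ep0, ep0, ep0, ep2], [ep2, ep2, ep0, ep0, ep2, ep0, em2, ep0, ep0, em2, ep0, ep0, ep2, ep0, ep0, ep0, ep0, ep2, ep0, ep0, ep0, ep0, ep0, ep2], [ep2, ep2, ep0, ep0, em2, ep0, ep2, ep0, ep0, em2, ep0, ep0, ep2, ep0, ep0, ep0, ep0, ep2, ep0, ep0, ep0, ep0, ep0, ep2], [ep2, ep2, ep0, ep0, em2, ep0, em2, ep0, ep0, ep2, ep0, ep0, ep2, ep0, ep0, ep0, ep0, ep2, ep0, ep0, ep0, ep0, ep0, ep2], [ep2, ep2, ep0, ep0, ep2, ep0, ep2, ep0, ep0, ep2, ep0, ep0, ep2, ep0, ep0, ep0, ep0, ep2, ep0, ep0, ep0, ep0, ep0, ep2], [ep2, ep2, ep2, em2, ep0, em2, ep0, ep0, ep0, ep0, ep0, ep0, ep0, ep0, ep2, ep0, ep0, ep2, ep0, ep0, ep0, ep0, ep0, ep2], [ep2, ep2, em2, ep2, ep0, em2, ep0, ep0, ep0, ep0, ep0, ep0, ep0, ep0, ep2, ep0, ep0, ep2, ep0, ep0, ep0, ep0, ep0, ep2], [ep2, ep2, em2, em2, ep0, ep2, ep0, ep0, ep0, ep0, ep0, ep0, ep0, ep0, ep2,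 ep0, ep0, ep2, ep0, ep0, ep0, ep0, ep0, ep2], [ep2, ep2, ep2, ep2, ep0, ep2, ep0, ep0, ep0, ep0, ep0, ep0, ep0, ep0, ep2, ep0, ep0, ep2, ep0, ep0, ep0, ep0, ep0, ep2], [ep2, ep2, ep0, em2, ep0, ep0, ep0, em2, ep0, em2, ep0, ep0, ep0, ep0, ep0, ep0, em2, ep0, ep2, ep0, ep0, ep0, ep0, ep2], [ep2, ep2, ep0, ep2, ep0, ep0, ep0, ep2, ep0, em2, ep0, ep0, ep0, ep0, ep0, ep0, em2, ep0, ep2, ep0, ep0, ep0, ep0, ep2], [ep2, ep2, ep0, ep2, ep0, ep0, ep0, em2, ep0, ep2, ep0, ep0, ep0, ep0, ep0, ep0, em2, ep0, ep2, ep0, ep0, ep0, ep0, ep2], [ep2, ep2, ep0, em2, ep0, ep0, ep0, ep2, ep0, ep2, ep0, ep0, ep0, ep0, ep0, ep0, em2, ep0, ep2, ep0, ep0, ep0, ep0, ep2], [ep2, ep2, em2, ep0, ep0, ep0, ep0, ep0, em2, ep0, ep0, em2, em2, ep0, ep0, ep0, ep0, ep0, ep2, ep0, ep0, ep0, ep0, ep2], [ep2, ep2, ep2, ep0, ep0, ep0, ep0, ep0, ep2, ep0, ep0, em2, em2, ep0, ep0, ep0, ep0, ep0, ep2, ep0, ep0, ep0, ep0, ep2], [ep2, ep2, ep2, ep0, ep0, ep0, ep0, ep0, em2, ep0, ep0, ep2, em2, ep0, ep0, ep0, ep0, ep0, ep2, ep0, ep0, ep0, ep0,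 ep2], [ep2, ep2, em2, ep0, ep0, ep0, ep0, ep0, ep2, ep0, ep0, ep2, em2, ep0, ep0, ep0, ep0, ep0, ep2, ep0, ep0, ep0, ep0, ep2], [ep2, ep2, ep2, ep0, ep0, ep0, ep0, ep0, em2, ep0, ep0, em2, ep2, ep0, ep0, ep0, ep0, ep0, ep2, ep0, ep0, ep0, ep0, ep2], [ep2, ep2, em2, ep0, ep0, ep0, ep0, ep0, ep2, ep0, ep0, em2, ep2, ep0, ep0, ep0, ep0, ep0, ep2, ep0, ep0, ep0, ep0, ep2], [ep2, ep2, em2, ep0, ep0, ep0, ep0, ep0, em2, ep0, ep0, ep2, ep2, ep0, ep0, ep0, ep0, ep0, ep2, ep0, ep0, ep0, ep0, ep2], [ep2, ep2, ep2, ep0, ep0, ep0, ep0, ep0, ep2, ep0, ep0, ep2, ep2, ep0, ep0, ep0, ep0, ep0, ep2, ep0, ep0, ep0, ep0, ep2], [ep2, ep2, ep0, ep2, ep0, ep0, ep0, em2, ep0, em2, ep0, ep0, ep0, ep0, ep0, ep0, ep2, ep0, ep2, ep0, ep0, ep0, ep0, ep2], [ep2, ep2, ep0, em2, ep0, ep0, ep0, ep2, ep0, em2, ep0, ep0, ep0, ep0, ep0, ep0, ep2, ep0, ep2, ep0, ep0, ep0, ep0, ep2]],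
    [[ep2, ep2, ep0, em2, ep0, ep0, ep0, em2, ep0, ep2, ep0, ep0, ep0, ep0, ep0, ep0, ep2, ep0, ep2, ep0, ep0, ep0, ep0, ep2], [ep2, ep2, ep0, ep2, ep0, ep0, ep0, ep2, ep0, ep2, ep0, ep0, ep0, ep0, ep0, ep0, ep2, ep0, ep2, ep0, ep0, ep0, ep0, ep2], [ep2, ep2, ep0, ep0, ep0, ep0, ep0, ep0, ep0, ep0, ep0, ep0, ep0, em2, ep0, em2, ep0, em2, em2, ep2, ep0, ep0, ep0, ep2], [ep2, ep2, ep0, ep0, ep0, ep0, ep0, ep0, ep0, ep0, ep0, ep0, ep0, ep2, ep0, ep2, ep0, em2, em2, ep2, ep0, ep0, ep0, ep2], [ep2, ep2, ep0, ep0, ep0, ep0, ep0, ep0, ep0, ep0, ep0, ep0, ep0, ep2, ep0, em2, ep0, ep2, em2, ep2, ep0, ep0, ep0, ep2], [ep2, ep2, ep0, ep0, ep0, ep0, ep0, ep0, ep0, ep0, ep0, ep0, ep0, em2, ep0, ep2, ep0, ep2, em2, ep2, ep0, ep0, ep0, ep2], [ep2, ep2, ep0, ep0, ep0, em2, ep0, ep0, ep0, ep0, em2, ep0, em2, ep0, ep0, ep0, em2, ep0, ep0, ep2, ep0, ep0, ep0, ep2], [ep2, ep2, ep0, ep0, ep0, ep2, ep0, ep0, ep0, ep0, ep2, ep0, em2, ep0, ep0, ep0, em2, ep0, ep0, ep2, ep0, ep0, ep0, ep2], [ep2, ep2, ep0, ep0, ep0, ep2, ep0,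 ep0, ep0, ep0, em2, ep0, ep2, ep0, ep0, ep0, em2, ep0, ep0, ep2, ep0, ep0, ep0, ep2], [ep2, ep2, ep0, ep0, ep0, em2, ep0, ep0, ep0, ep0, ep2, ep0, ep2, ep0, ep0, ep0, em2, ep0, ep0, ep2, ep0, ep0, ep0, ep2], [ep2, ep2, ep0, ep0, ep0, ep2, ep0, ep0, ep0, ep0, em2, ep0, em2, ep0, ep0, ep0, ep2, ep0, ep0, ep2, ep0, ep0, ep0, ep2], [ep2, ep2, ep0, ep0, ep0, em2, ep0, ep0, ep0, ep0, ep2, ep0, em2, ep0, ep0, ep0, ep2, ep0, ep0, ep2, ep0, ep0, ep0, ep2], [ep2, ep2, ep0, ep0, ep0, em2, ep0, ep0, ep0, ep0, em2, ep0, ep2, ep0, ep0, ep0, ep2, ep0, ep0, ep2, ep0, ep0, ep0, ep2], [ep2, ep2, ep0, ep0, ep0, ep2, ep0, ep0, ep0, ep0, ep2, ep0, ep2, ep0, ep0, ep0, ep2, ep0, ep0, ep2, ep0, ep0, ep0, ep2], [ep2, ep2, ep0, ep0, ep0, ep0, ep0, ep0, ep0, ep0, ep0, ep0, ep0, ep2, ep0, em2, ep0, em2, ep2, ep2, ep0, ep0, ep0, ep2], [ep2, ep2, ep0, ep0, ep0, ep0, ep0, ep0, ep0, ep0, ep0, ep0, ep0, em2, ep0, ep2, ep0, em2, ep2, ep2, ep0, ep0, ep0, ep2], [ep2, ep2, ep0, ep0, ep0, ep0, ep0, ep0, ep0, ep0, ep0, ep0, ep0, em2, ep0,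 em2, ep0, ep2, ep2, ep2, ep0, ep0, ep0, ep2], [ep2, ep2, ep0, ep0, ep0, ep0, ep0, ep0, ep0, ep0, ep0, ep0, ep0, ep2, ep0, ep2, ep0, ep2, ep2, ep2, ep0, ep0, ep0, ep2], [ep2, ep2, ep0, em2, em2, ep0, ep0, ep0, ep0, ep0, ep0, em2, ep0, ep0, ep0, ep0, ep0, ep0, ep0, em2, ep2, ep0, ep0, ep2], [ep2, ep2, ep0, ep2, ep2, ep0, ep0, ep0, ep0, ep0, ep0, em2, ep0, ep0, ep0, ep0, ep0, ep0, ep0, em2, ep2, ep0, ep0, ep2], [ep2, ep2, ep0, ep2, em2, ep0, ep0, ep0, ep0, ep0, ep0, ep2, ep0, ep0, ep0, ep0, ep0, ep0, ep0, em2, ep2, ep0, ep0, ep2], [ep2, ep2, ep0, em2, ep2, ep0, ep0, ep0, ep0, ep0, ep0, ep2, ep0, ep0, ep0, ep0, ep0, ep0, ep0, em2, ep2, ep0, ep0, ep2], [ep2, ep2, em2, ep0, ep0, ep0, ep0, ep0, ep0, em2, em2, ep0, ep0, ep0, ep0, em2, ep0, ep0, ep0, ep0, ep2, ep0, ep0, ep2], [ep2, ep2, ep2, ep0, ep0, ep0, ep0, ep0, ep0, ep2, em2, ep0, ep0, ep0, ep0, em2, ep0, ep0, ep0, ep0, ep2, ep0, ep0, ep2], [ep2, ep2, ep2, ep0, ep0, ep0, ep0, ep0, ep0, em2, ep2, ep0, ep0, ep0, ep0, em2, ep0, ep0, ep0, ep0, ep2, ep0, ep0,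 ep2], [ep2, ep2, em2, ep0, ep0, ep0, ep0, ep0, ep0, ep2, ep2, ep0, ep0, ep0, ep0, em2, ep0, ep0, ep0, ep0, ep2, ep0, ep0, ep2], [ep2, ep2, ep0, ep0, ep0, ep0, ep0, em2, ep0, ep0, ep0, ep0, em2, em2, em2, ep0, ep0, ep0, ep0, ep0, ep2, ep0, ep0, ep2], [ep2, ep2, ep0, ep0, ep0, ep0, ep0, ep2, ep0, ep0, ep0, ep0, ep2, em2, em2, ep0, ep0, ep0, ep0, ep0, ep2, ep0, ep0, ep2], [ep2, ep2, ep0, ep0, ep0, ep0, ep0, ep2, ep0, ep0, ep0, ep0, em2, ep2, em2, ep0, ep0, ep0, ep0, ep0, ep2, ep0, ep0, ep2], [ep2, ep2, ep0, ep0, ep0, ep0, ep0, em2, ep0, ep0, ep0, ep0, ep2, ep2, em2, ep0, ep0, ep0, ep0, ep0, ep2, ep0, ep0, ep2], [ep2, ep2, ep0, ep0, ep0, ep0, ep0, ep2, ep0, ep0, ep0, ep0, em2, em2, ep2, ep0, ep0, ep0, ep0, ep0, ep2, ep0, ep0, ep2], [ep2, ep2, ep0, ep0, ep0, ep0, ep0, em2, ep0, ep0, ep0, ep0, ep2, em2, ep2, ep0, ep0, ep0, ep0, ep0, ep2, ep0, ep0, ep2]],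
    [[ep2, ep2, ep0, ep0, ep0, ep0, ep0, em2, ep0, ep0, ep0, ep0, em2, ep2, ep2, ep0, ep0, ep0, ep0, ep0, ep2, ep0, ep0, ep2], [ep2, ep2, ep0, ep0, ep0, ep0, ep0, ep2, ep0, ep0, ep0, ep0, ep2, ep2, ep2, ep0, ep0, ep0, ep0, ep0, ep2, ep0, ep0, ep2], [ep2, ep2, ep2, ep0, ep0, ep0, ep0, ep0, ep0, em2, em2, ep0, ep0, ep0, ep0, ep2, ep0, ep0, ep0, ep0, ep2, ep0, ep0, ep2], [ep2, ep2, em2, ep0, ep0, ep0, ep0, ep0, ep0, ep2, em2, ep0, ep0, ep0, ep0, ep2, ep0, ep0, ep0, ep0, ep2, ep0, ep0, ep2], [ep2, ep2, em2, ep0, ep0, ep0, ep0, ep0, ep0, em2, ep2, ep0, ep0, ep0, ep0, ep2, ep0, ep0, ep0, ep0, ep2, ep0, ep0, ep2], [ep2, ep2, ep2, ep0, ep0, ep0, ep0, ep0, ep0, ep2, ep2, ep0, ep0, ep0, ep0, ep2, ep0, ep0, ep0, ep0, ep2, ep0, ep0, ep2], [ep2, ep2, ep0, ep2, em2, ep0, ep0, ep0, ep0, ep0, ep0, em2, ep0, ep0, ep0, ep0, ep0, ep0, ep0, ep2, ep2, ep0, ep0, ep2], [ep2, ep2, ep0, em2, ep2, ep0, ep0, ep0, ep0, ep0, ep0, em2, ep0, ep0, ep0, ep0, ep0, ep0, ep0, ep2, ep2, ep0, ep0, ep2], [ep2, ep2, ep0, em2, em2, ep0, ep0,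 ep0, ep0, ep0, ep0, ep2, ep0, ep0, ep0, ep0, ep0, ep0, ep0, ep2, ep2, ep0, ep0, ep2], [ep2, ep2, ep0, ep2, ep2, ep0, ep0, ep0, ep0, ep0, ep0, ep2, ep0, ep0, ep0, ep0, ep0, ep0, ep0, ep2, ep2, ep0, ep0, ep2], [ep2, ep2, ep0, ep0, ep0, ep0, ep0, ep0, em2, ep0, ep0, ep0, ep0, ep0, ep0, ep0, em2, em2, ep0, ep0, em2, ep2, ep0, ep2], [ep2, ep2, ep0, ep0, ep0, ep0, ep0, ep0, ep2, ep0, ep0, ep0, ep0, ep0, ep0, ep0, ep2, em2, ep0, ep0, em2, ep2, ep0, ep2], [ep2, ep2, ep0, ep0, ep0, ep0, ep0, ep0, ep2, ep0, ep0, ep0, ep0, ep0, ep0, ep0, em2, ep2, ep0, ep0, em2, ep2, ep0, ep2], [ep2, ep2, ep0, ep0, ep0, ep0, ep0, ep0, em2, ep0, ep0, ep0, ep0, ep0, ep0, ep0, ep2, ep2, ep0, ep0, em2, ep2, ep0, ep2], [ep2, ep2, em2, ep0, ep0, ep0, em2, em2, ep0, ep0, ep0, ep0, ep0, ep0, ep0, ep0, ep0, ep0, ep0, em2, ep0, ep2, ep0, ep2], [ep2, ep2, ep2, ep0, ep0, ep0, ep2, em2, ep0, ep0, ep0, ep0, ep0, ep0, ep0, ep0, ep0, ep0, ep0, em2, ep0, ep2, ep0, ep2], [ep2, ep2, ep2, ep0, ep0, ep0, em2, ep2, ep0, ep0, ep0, ep0, ep0, ep0, ep0,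 ep0, ep0, ep0, ep0, em2, ep0, ep2, ep0, ep2], [ep2, ep2, em2, ep0, ep0, ep0, ep2, ep2, ep0, ep0, ep0, ep0, ep0, ep0, ep0, ep0, ep0, ep0, ep0, em2, ep0, ep2, ep0, ep2], [ep2, ep2, ep0, ep0, em2, ep0, ep0, ep0, ep0, ep0, em2, ep0, ep0, ep0, em2, ep0, ep0, ep0, em2, ep0, ep0, ep2, ep0, ep2], [ep2, ep2, ep0, ep0, ep2, ep0, ep0, ep0, ep0, ep0, ep2, ep0, ep0, ep0, em2, ep0, ep0, ep0, em2, ep0, ep0, ep2, ep0, ep2], [ep2, ep2, ep0, ep0, ep2, ep0, ep0, ep0, ep0, ep0, em2, ep0, ep0, ep0, ep2, ep0, ep0, ep0, em2, ep0, ep0, ep2, ep0, ep2], [ep2, ep2, ep0, ep0, em2, ep0, ep0, ep0, ep0, ep0, ep2, ep0, ep0, ep0, ep2, ep0, ep0, ep0, em2, ep0, ep0, ep2, ep0, ep2], [ep2, ep2, ep0, ep0, ep0, em2, ep0, ep0, ep0, em2, ep0, em2, ep0, em2, ep0, ep0, ep0, ep0, ep0, ep0, ep0, ep2, ep0, ep2], [ep2, ep2, ep0, ep0, ep0, ep2, ep0, ep0, ep0, ep2, ep0, em2, ep0, em2, ep0, ep0, ep0, ep0, ep0, ep0, ep0, ep2, ep0, ep2], [ep2, ep2, ep0, ep0, ep0, ep2, ep0, ep0, ep0, em2, ep0, ep2, ep0, em2, ep0, ep0, ep0, ep0, ep0, ep0, ep0, ep2, ep0,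 ep2], [ep2, ep2, ep0, ep0, ep0, em2, ep0, ep0, ep0, ep2, ep0, ep2, ep0, em2, ep0, ep0, ep0, ep0, ep0, ep0, ep0, ep2, ep0, ep2], [ep2, ep2, ep0, ep0, ep0, ep2, ep0, ep0, ep0, em2, ep0, em2, ep0, ep2, ep0, ep0, ep0, ep0, ep0, ep0, ep0, ep2, ep0, ep2], [ep2, ep2, ep0, ep0, ep0, em2, ep0, ep0, ep0, ep2, ep0, em2, ep0, ep2, ep0, ep0, ep0, ep0, ep0, ep0, ep0, ep2, ep0, ep2], [ep2, ep2, ep0, ep0, ep0, em2, ep0, ep0, ep0, em2, ep0, ep2, ep0, ep2, ep0, ep0, ep0, ep0, ep0, ep0, ep0, ep2, ep0, ep2], [ep2, ep2, ep0, ep0, ep0, ep2, ep0, ep0, ep0, ep2, ep0, ep2, ep0, ep2, ep0, ep0, ep0, ep0, ep0, ep0, ep0, ep2, ep0, ep2], [ep2, ep2, ep0, ep0, ep2, ep0, ep0, ep0, ep0, ep0, em2, ep0, ep0, ep0, em2, ep0, ep0, ep0, ep2, ep0, ep0, ep2, ep0, ep2], [ep2, ep2, ep0, ep0, em2, ep0, ep0, ep0, ep0, ep0, ep2, ep0, ep0, ep0, em2, ep0, ep0, ep0, ep2, ep0, ep0, ep2, ep0, ep2]],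
    [[ep2, ep2, ep0, ep0, em2, ep0, ep0, ep0, ep0, ep0, em2, ep0, ep0, ep0, ep2, ep0, ep0, ep0, ep2, ep0, ep0, ep2, ep0, ep2], [ep2, ep2, ep0, ep0, ep2, ep0, ep0, ep0, ep0, ep0, ep2, ep0, ep0, ep0, ep2, ep0, ep0, ep0, ep2, ep0, ep0, ep2, ep0, ep2], [ep2, ep2, ep2, ep0, ep0, ep0, em2, em2, ep0, ep0, ep0, ep0, ep0, ep0, ep0, ep0, ep0, ep0, ep0, ep2, ep0, ep2, ep0, ep2], [ep2, ep2, em2, ep0, ep0, ep0, ep2, em2, ep0, ep0, ep0, ep0, ep0, ep0, ep0, ep0, ep0, ep0, ep0, ep2, ep0, ep2, ep0, ep2], [ep2, ep2, em2, ep0, ep0, ep0, em2, ep2, ep0, ep0, ep0, ep0, ep0, ep0, ep0, ep0, ep0, ep0, ep0, ep2, ep0, ep2, ep0, ep2], [ep2, ep2, ep2, ep0, ep0, ep0, ep2, ep2, ep0, ep0, ep0, ep0, ep0, ep0, ep0, ep0, ep0, ep0, ep0, ep2, ep0, ep2, ep0, ep2], [ep2, ep2, ep0, ep0, ep0, ep0, ep0, ep0, ep2, ep0, ep0, ep0, ep0, ep0, ep0, ep0, em2, em2, ep0, ep0, ep2, ep2, ep0, ep2], [ep2, ep2, ep0, ep0, ep0, ep0, ep0, ep0, em2, ep0, ep0, ep0, ep0, ep0, ep0, ep0, ep2, em2, ep0, ep0, ep2, ep2, ep0, ep2], [ep2, ep2, ep0, ep0, ep0, ep0, ep0,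 ep0, em2, ep0, ep0, ep0, ep0, ep0, ep0, ep0, em2, ep2, ep0, ep0, ep2, ep2, ep0, ep2], [ep2, ep2, ep0, ep0, ep0, ep0, ep0, ep0, ep2, ep0, ep0, ep0, ep0, ep0, ep0, ep0, ep2, ep2, ep0, ep0, ep2, ep2, ep0, ep2], [ep2, ep2, ep0, em2, ep0, ep0, ep0, ep0, ep0, ep0, ep0, ep0, em2, ep0, ep0, em2, ep0, ep0, ep0, ep0, ep0, em2, ep2, ep2], [ep2, ep2, ep0, ep2, ep0, ep0, ep0, ep0, ep0, ep0, ep0, ep0, ep2, ep0, ep0, em2, ep0, ep0, ep0, ep0, ep0, em2, ep2, ep2], [ep2, ep2, ep0, ep2, ep0, ep0, ep0, ep0, ep0, ep0, ep0, ep0, em2, ep0, ep0, ep2, ep0, ep0, ep0, ep0, ep0, em2, ep2, ep2], [ep2, ep2, ep0, em2, ep0, ep0, ep0, ep0, ep0, ep0, ep0, ep0, ep2, ep0, ep0, ep2, ep0, ep0, ep0, ep0, ep0, em2, ep2, ep2], [ep2, ep2, ep0, ep0, ep0, em2, em2, ep0, ep0, ep0, ep0, ep0, ep0, ep0, ep0, ep0, ep0, ep0, em2, ep0, em2, ep0, ep2, ep2], [ep2, ep2, ep0, ep0, ep0, ep2, ep2, ep0, ep0, ep0, ep0, ep0, ep0, ep0, ep0, ep0, ep0, ep0, em2, ep0, em2, ep0, ep2, ep2], [ep2, ep2, ep0, ep0, ep0, ep2, em2, ep0, ep0, ep0, ep0, ep0, ep0, ep0, ep0,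 ep0, ep0, ep0, ep2, ep0, em2, ep0, ep2, ep2], [ep2, ep2, ep0, ep0, ep0, em2, ep2, ep0, ep0, ep0, ep0, ep0, ep0, ep0, ep0, ep0, ep0, ep0, ep2, ep0, em2, ep0, ep2, ep2], [ep2, ep2, ep0, ep0, ep0, ep0, ep0, ep0, em2, em2, ep0, ep0, ep0, ep0, em2, ep0, ep0, ep0, ep0, em2, ep0, ep0, ep2, ep2], [ep2, ep2, ep0, ep0, ep0, ep0, ep0, ep0, ep2, ep2, ep0, ep0, ep0, ep0, em2, ep0, ep0, ep0, ep0, em2, ep0, ep0, ep2, ep2], [ep2, ep2, ep0, ep0, ep0, ep0, ep0, ep0, ep2, em2, ep0, ep0, ep0, ep0, ep2, ep0, ep0, ep0, ep0, em2, ep0, ep0, ep2, ep2], [ep2, ep2, ep0, ep0, ep0, ep0, ep0, ep0, em2, ep2, ep0, ep0, ep0, ep0, ep2, ep0, ep0, ep0, ep0, em2, ep0, ep0, ep2, ep2], [ep2, ep2, ep0, ep0, ep0, ep0, ep0, em2, ep0, ep0, em2, em2, ep0, ep0, ep0, ep0, ep0, em2, ep0, ep0, ep0, ep0, ep2, ep2], [ep2, ep2, ep0, ep0, ep0, ep0, ep0, ep2, ep0, ep0, ep2, em2, ep0, ep0, ep0, ep0, ep0, em2, ep0, ep0, ep0, ep0, ep2, ep2], [ep2, ep2, ep0, ep0, ep0, ep0, ep0, ep2, ep0, ep0, em2, ep2, ep0, ep0, ep0, ep0, ep0, em2, ep0, ep0, ep0, ep0, ep2,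 ep2], [ep2, ep2, ep0, ep0, ep0, ep0, ep0, em2, ep0, ep0, ep2, ep2, ep0, ep0, ep0, ep0, ep0, em2, ep0, ep0, ep0, ep0, ep2, ep2], [ep2, ep2, em2, ep0, em2, ep0, ep0, ep0, ep0, ep0, ep0, ep0, ep0, em2, ep0, ep0, em2, ep0, ep0, ep0, ep0, ep0, ep2, ep2], [ep2, ep2, ep2, ep0, ep2, ep0, ep0, ep0, ep0, ep0, ep0, ep0, ep0, em2, ep0, ep0, em2, ep0, ep0, ep0, ep0, ep0, ep2, ep2], [ep2, ep2, ep2, ep0, em2, ep0, ep0, ep0, ep0, ep0, ep0, ep0, ep0, ep2, ep0, ep0, em2, ep0, ep0, ep0, ep0, ep0, ep2, ep2], [ep2, ep2, em2, ep0, ep2, ep0, ep0, ep0, ep0, ep0, ep0, ep0, ep0, ep2, ep0, ep0, em2, ep0, ep0, ep0, ep0, ep0, ep2, ep2], [ep2, ep2, ep2, ep0, em2, ep0, ep0, ep0, ep0, ep0, ep0, ep0, ep0, em2, ep0, ep0, ep2, ep0, ep0, ep0, ep0, ep0, ep2, ep2], [ep2, ep2, em2, ep0, ep2, ep0, ep0, ep0, ep0, ep0, ep0, ep0, ep0, em2, ep0, ep0, ep2, ep0, ep0, ep0, ep0, ep0, ep2, ep2]],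
    [[ep2, ep2, em2, ep0, em2, ep0, ep0, ep0, ep0, ep0, ep0, ep0, ep0, ep2, ep0, ep0, ep2, ep0, ep0, ep0, ep0, ep0, ep2, ep2], [ep2, ep2, ep2, ep0, ep2, ep0, ep0, ep0, ep0, ep0, ep0, ep0, ep0, ep2, ep0, ep0, ep2, ep0, ep0, ep0, ep0, ep0, ep2, ep2], [ep2, ep2, ep0, ep0, ep0, ep0, ep0, ep2, ep0, ep0, em2, em2, ep0, ep0, ep0, ep0, ep0, ep2, ep0, ep0, ep0, ep0, ep2, ep2], [ep2, ep2, ep0, ep0, ep0, ep0, ep0, em2, ep0, ep0, ep2, em2, ep0, ep0, ep0, ep0, ep0, ep2, ep0, ep0, ep0, ep0, ep2, ep2], [ep2, ep2, ep0, ep0, ep0, ep0, ep0, em2, ep0, ep0, em2, ep2, ep0, ep0, ep0, ep0, ep0, ep2, ep0, ep0, ep0, ep0, ep2, ep2], [ep2, ep2, ep0, ep0, ep0, ep0, ep0, ep2, ep0, ep0, ep2, ep2, ep0, ep0, ep0, ep0, ep0, ep2, ep0, ep0, ep0, ep0, ep2, ep2], [ep2, ep2, ep0, ep0, ep0, ep0, ep0, ep0, ep2, em2, ep0, ep0, ep0, ep0, em2, ep0, ep0, ep0, ep0, ep2, ep0, ep0, ep2, ep2], [ep2, ep2, ep0, ep0, ep0, ep0, ep0, ep0, em2, ep2, ep0, ep0, ep0, ep0, em2, ep0, ep0, ep0, ep0, ep2, ep0, ep0, ep2, ep2], [ep2, ep2, ep0, ep0, ep0, ep0, ep0,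 ep0, em2, em2, ep0, ep0, ep0, ep0, ep2, ep0, ep0, ep0, ep0, ep2, ep0, ep0, ep2, ep2], [ep2, ep2, ep0, ep0, ep0, ep0, ep0, ep0, ep2, ep2, ep0, ep0, ep0, ep0, ep2, ep0, ep0, ep0, ep0, ep2, ep0, ep0, ep2, ep2], [ep2, ep2, ep0, ep0, ep0, ep2, em2, ep0, ep0, ep0, ep0, ep0, ep0, ep0, ep0, ep0, ep0, ep0, em2, ep0, ep2, ep0, ep2, ep2], [ep2, ep2, ep0, ep0, ep0, em2, ep2, ep0, ep0, ep0, ep0, ep0, ep0, ep0, ep0, ep0, ep0, ep0, em2, ep0, ep2, ep0, ep2, ep2], [ep2, ep2, ep0, ep0, ep0, em2, em2, ep0, ep0, ep0, ep0, ep0, ep0, ep0, ep0, ep0, ep0, ep0, ep2, ep0, ep2, ep0, ep2, ep2], [ep2, ep2, ep0, ep0, ep0, ep2, ep2, ep0, ep0, ep0, ep0, ep0, ep0, ep0, ep0, ep0, ep0, ep0, ep2, ep0, ep2, ep0, ep2, ep2], [ep2, ep2, ep0, ep2, ep0, ep0, ep0, ep0, ep0, ep0, ep0, ep0, em2, ep0, ep0, em2, ep0, ep0, ep0, ep0, ep0, ep2, ep2, ep2], [ep2, ep2, ep0, em2, ep0, ep0, ep0, ep0, ep0, ep0, ep0, ep0, ep2, ep0, ep0, em2, ep0, ep0, ep0, ep0, ep0, ep2, ep2, ep2], [ep2, ep2, ep0, em2, ep0, ep0, ep0, ep0, ep0, ep0, ep0, ep0, em2, ep0, ep0,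 ep2, ep0, ep0, ep0, ep0, ep0, ep2, ep2, ep2], [ep2, ep2, ep0, ep2, ep0, ep0, ep0, ep0, ep0, ep0, ep0, ep0, ep2, ep0, ep0, ep2, ep0, ep0, ep0, ep0, ep0, ep2, ep2, ep2], [ep1, ep1, ep1, ep1, ep1, em1, em1, ep1, em1, em1, ep1, em1, ep1, em1, em1, em1, em1, em1, em1, em1, em1, em1, em1, ep3], [ep1, ep1, em1, em1, em1, ep1, ep1, ep1, em1, ep1, ep1, em1, em1, em1, ep1, em1, em1, em1, em1, em1, em1, em1, em1, ep3], [ep1, ep1, ep1, em1, em1, ep1, ep1, em1, em1, em1, em1, em1, ep1, ep1, em1, ep1, em1, em1, em1, em1, em1, em1, em1, ep3], [ep1, ep1, em1, ep1, ep1, em1, em1, em1, em1, ep1, em1, em1, em1, ep1, ep1, ep1, em1, em1, em1, em1, em1, em1, em1, ep3], [ep1, ep1, em1, em1, ep1, em1, em1, em1, ep1, ep1, ep1, ep1, em1, em1, em1, em1, ep1, em1, em1, em1, em1, em1, em1, ep3], [ep1, ep1, ep1, ep1, em1, ep1, ep1, em1, ep1, em1, ep1, ep1, ep1, em1, ep1, em1, ep1, em1, em1, em1, em1, em1, em1, ep3], [ep1, ep1, em1, ep1, em1, ep1, ep1, ep1, ep1, ep1, em1, ep1, em1, ep1, em1, ep1, ep1, em1, em1, em1, em1, em1, em1,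 ep3], [ep1, ep1, ep1, em1, ep1, em1, em1, ep1, ep1, em1, em1, ep1, ep1, ep1, ep1, ep1, ep1, em1, em1, em1, em1, em1, em1, ep3], [ep1, ep1, ep1, em1, em1, em1, em1, ep1, ep1, ep1, em1, em1, em1, ep1, em1, em1, em1, ep1, em1, em1, em1, em1, em1, ep3], [ep1, ep1, em1, ep1, ep1, ep1, ep1, ep1, ep1, em1, em1, em1, ep1, ep1, ep1, em1, em1, ep1, em1, em1, em1, em1, em1, ep3], [ep1, ep1, ep1, ep1, ep1, ep1, ep1, em1, ep1, ep1, ep1, em1, em1, em1, em1, ep1, em1, ep1, em1, em1, em1, em1, em1, ep3], [ep1, ep1, em1, em1, em1, em1, em1, em1, ep1, em1, ep1, em1, ep1, em1, ep1, ep1, em1, ep1, em1, em1, em1, em1, em1, ep3], [ep1, ep1, em1, ep1, em1, em1, em1, em1, em1, em1, em1, ep1, ep1, ep1, em1, em1, ep1, ep1, em1, em1, em1, em1, em1, ep3], [ep1, ep1, ep1, em1, ep1, ep1, ep1, em1, em1, ep1, em1, ep1, em1, ep1, ep1, em1, ep1, ep1, em1, em1, em1, em1, em1, ep3]],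
    [[ep1, ep1, em1, em1, ep1, ep1, ep1, ep1, em1, em1, ep1, ep1, ep1, em1, em1, ep1, ep1, ep1, em1, em1, em1, em1, em1, ep3], [ep1, ep1, ep1, ep1, em1, em1, em1, ep1, em1, ep1, ep1, ep1, em1, em1, ep1, ep1, ep1, ep1, em1, em1, em1, em1, em1, ep3], [ep1, ep1, em1, em1, ep1, em1, ep1, ep1, em1, em1, em1, ep1, em1, ep1, em1, em1, em1, em1, ep1, em1, em1, em1, em1, ep3], [ep1, ep1, ep1, ep1, em1, ep1, em1, ep1, em1, ep1, em1, ep1, ep1, ep1, ep1, em1, em1, em1, ep1, em1, em1, em1, em1, ep3], [ep1, ep1, em1, ep1, em1, ep1, em1, em1, em1, em1, ep1, ep1, em1, em1, em1, ep1, em1, em1, ep1, em1, em1, em1, em1, ep3], [ep1, ep1, ep1, em1, ep1, em1, ep1, em1, em1, ep1, ep1, ep1, ep1, em1, ep1, ep1, em1, em1, ep1, em1, em1, em1, em1, ep3], [ep1, ep1, ep1, ep1, ep1, em1, ep1, em1, ep1, ep1, em1, em1, ep1, ep1, em1, em1, ep1, em1, ep1, em1, em1, em1, em1, ep3], [ep1, ep1, em1, em1, em1, ep1, em1, em1, ep1, em1, em1, em1, em1, ep1, ep1, em1, ep1, em1, ep1, em1, em1, em1, em1, ep3], [ep1, ep1, ep1, em1, em1, ep1, em1,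 ep1, ep1, ep1, ep1, em1, ep1, em1, em1, ep1, ep1, em1, ep1, em1, em1, em1, em1, ep3], [ep1, ep1, em1, ep1, ep1, em1, ep1, ep1, ep1, em1, ep1, em1, em1, em1, ep1, ep1, ep1, em1, ep1, em1, em1, em1, em1, ep3], [ep1, ep1, em1, ep1, em1, em1, ep1, ep1, ep1, ep1, ep1, ep1, ep1, em1, em1, em1, em1, ep1, ep1, em1, em1, em1, em1, ep3], [ep1, ep1, ep1, em1, ep1, ep1, em1, ep1, ep1, em1, ep1, ep1, em1, em1, ep1, em1, em1, ep1, ep1, em1, em1, em1, em1, ep3], [ep1, ep1, em1, em1, ep1, ep1, em1, em1, ep1, ep1, em1, ep1, ep1, ep1, em1, ep1, em1, ep1, ep1, em1, em1, em1, em1, ep3], [ep1, ep1, ep1, ep1, em1, em1, ep1, em1, ep1, em1, em1, ep1, em1, ep1, ep1, ep1, em1, ep1, ep1, em1, em1, em1, em1, ep3], [ep1, ep1, ep1, em1, em1, em1, ep1, em1, em1, em1, ep1, em1, em1, em1, em1, em1, ep1, ep1, ep1, em1, em1, em1, em1, ep3], [ep1, ep1, em1, ep1, ep1, ep1, em1, em1, em1, ep1, ep1, em1, ep1, em1, ep1, em1, ep1, ep1, ep1, em1, em1, em1, em1, ep3], [ep1, ep1, ep1, ep1, ep1, ep1, em1, ep1, em1, em1, em1, em1, em1, ep1, em1,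 ep1, ep1, ep1, ep1, em1, em1, em1, em1, ep3], [ep1, ep1, em1, em1, em1, em1, ep1, ep1, em1, ep1, em1, em1, ep1, ep1, ep1, ep1, ep1, ep1, ep1, em1, em1, em1, em1, ep3], [ep1, ep1, em1, ep1, ep1, ep1, ep1, em1, em1, ep1, ep1, ep1, ep1, ep1, em1, em1, em1, em1, em1, ep1, em1, em1, em1, ep3], [ep1, ep1, ep1, em1, em1, em1, em1, em1, em1, em1, ep1, ep1, em1, ep1, ep1, em1, em1, em1, em1, ep1, em1, em1, em1, ep3], [ep1, ep1, em1, em1, em1, em1, em1, ep1, em1, ep1, em1, ep1, ep1, em1, em1, ep1, em1, em1, em1, ep1, em1, em1, em1, ep3], [ep1, ep1, ep1, ep1, ep1, ep1, ep1, ep1, em1, em1, em1, ep1, em1, em1, ep1, ep1, em1, em1, em1, ep1, em1, em1, em1, ep3], [ep1, ep1, ep1, em1, ep1, ep1, ep1, ep1, ep1, em1, ep1, em1, em1, ep1, em1, em1, ep1, em1, em1, ep1, em1, em1, em1, ep3], [ep1, ep1, em1, ep1, em1, em1, em1, ep1, ep1, ep1, ep1, em1, ep1, ep1, ep1, em1, ep1, em1, em1, ep1, em1, em1, em1, ep3], [ep1, ep1, ep1, ep1, em1, em1, em1, em1, ep1, em1, em1, em1, em1, em1, em1, ep1, ep1, em1, em1, ep1, em1, em1, em1,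 ep3], [ep1, ep1, em1, em1, ep1, ep1, ep1, em1, ep1, ep1, em1, em1, ep1, em1, ep1, ep1, ep1, em1, em1, ep1, em1, em1, em1, ep3], [ep1, ep1, em1, em1, em1, ep1, ep1, em1, ep1, em1, em1, ep1, em1, em1, em1, em1, em1, ep1, em1, ep1, em1, em1, em1, ep3], [ep1, ep1, ep1, ep1, ep1, em1, em1, em1, ep1, ep1, em1, ep1, ep1, em1, ep1, em1, em1, ep1, em1, ep1, em1, em1, em1, ep3], [ep1, ep1, em1, ep1, ep1, em1, em1, ep1, ep1, em1, ep1, ep1, em1, ep1, em1, ep1, em1, ep1, em1, ep1, em1, em1, em1, ep3], [ep1, ep1, ep1, em1, em1, ep1, ep1, ep1, ep1, ep1, ep1, ep1, ep1, ep1, ep1, ep1, em1, ep1, em1, ep1, em1, em1, em1, ep3], [ep1, ep1, ep1, ep1, em1, ep1, ep1, ep1, em1, ep1, em1, em1, ep1, em1, em1, em1, ep1, ep1, em1, ep1, em1, em1, em1, ep3], [ep1, ep1, em1, em1, ep1, em1, em1, ep1, em1, em1, em1, em1, em1, em1, ep1, em1, ep1, ep1, em1, ep1, em1, em1, em1, ep3]],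
    [[ep1, ep1, ep1, em1, ep1, em1, em1, em1, em1, ep1, ep1, em1, ep1, ep1, em1, ep1, ep1, ep1, em1, ep1, em1, em1, em1, ep3], [ep1, ep1, em1, ep1, em1, ep1, ep1, em1, em1, em1, ep1, em1, em1, ep1, ep1, ep1, ep1, ep1, em1, ep1, em1, em1, em1, ep3], [ep1, ep1, ep1, em1, ep1, ep1, em1, em1, em1, ep1, em1, em1, em1, em1, em1, em1, em1, em1, ep1, ep1, em1, em1, em1, ep3], [ep1, ep1, em1, ep1, em1, em1, ep1, em1, em1, em1, em1, em1, ep1, em1, ep1, em1, em1, em1, ep1, ep1, em1, em1, em1, ep3], [ep1, ep1, ep1, ep1, em1, em1, ep1, ep1, em1, ep1, ep1, em1, em1, ep1, em1, ep1, em1, em1, ep1, ep1, em1, em1, em1, ep3], [ep1, ep1, em1, em1, ep1, ep1, em1, ep1, em1, em1, ep1, em1, ep1, ep1, ep1, ep1, em1, em1, ep1, ep1, em1, em1, em1, ep3], [ep1, ep1, em1, ep1, ep1, ep1, em1, ep1, ep1, em1, em1, ep1, ep1, em1, em1, em1, ep1, em1, ep1, ep1, em1, em1, em1, ep3], [ep1, ep1, ep1, em1, em1, em1, ep1, ep1, ep1, ep1, em1, ep1, em1, em1, ep1, em1, ep1, em1, ep1, ep1, em1, em1, em1, ep3], [ep1, ep1, em1, em1, em1, em1, ep1,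 em1, ep1, em1, ep1, ep1, ep1, ep1, em1, ep1, ep1, em1, ep1, ep1, em1, em1, em1, ep3], [ep1, ep1, ep1, ep1, ep1, ep1, em1, em1, ep1, ep1, ep1, ep1, em1, ep1, ep1, ep1, ep1, em1, ep1, ep1, em1, em1, em1, ep3], [ep1, ep1, ep1, ep1, em1, ep1, em1, em1, ep1, em1, ep1, em1, ep1, ep1, em1, em1, em1, ep1, ep1, ep1, em1, em1, em1, ep3], [ep1, ep1, em1, em1, ep1, em1, ep1, em1, ep1, ep1, ep1, em1, em1, ep1, ep1, em1, em1, ep1, ep1, ep1, em1, em1, em1, ep3], [ep1, ep1, ep1, em1, ep1, em1, ep1, ep1, ep1, em1, em1, em1, ep1, em1, em1, ep1, em1, ep1, ep1, ep1, em1, em1, em1, ep3], [ep1, ep1, em1, ep1, em1, ep1, em1, ep1, ep1, ep1, em1, em1, em1, em1, ep1, ep1, em1, ep1, ep1, ep1, em1, em1, em1, ep3], [ep1, ep1, em1, em1, em1, ep1, em1, ep1, em1, ep1, ep1, ep1, em1, ep1, em1, em1, ep1, ep1, ep1, ep1, em1, em1, em1, ep3], [ep1, ep1, ep1, ep1, ep1, em1, ep1, ep1, em1, em1, ep1, ep1, ep1, ep1, ep1, em1, ep1, ep1, ep1, ep1, em1, em1, em1, ep3], [ep1, ep1, em1, ep1, ep1, em1, ep1, em1, em1, ep1, em1, ep1, em1, em1, em1,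 ep1, ep1, ep1, ep1, ep1, em1, em1, em1, ep3], [ep1, ep1, ep1, em1, em1, ep1, em1, em1, em1, em1, em1, ep1, ep1, em1, ep1, ep1, ep1, ep1, ep1, ep1, em1, em1, em1, ep3], [ep1, ep1, em1, ep1, em1, ep1, em1, em1, ep1, ep1, em1, em1, ep1, em1, em1, em1, em1, em1, em1, em1, ep1, em1, em1, ep3], [ep1, ep1, ep1, em1, ep1, em1, ep1, em1, ep1, em1, em1, em1, em1, em1, ep1, em1, em1, em1, em1, em1, ep1, em1, em1, ep3], [ep1, ep1, em1, em1, ep1, em1, ep1, ep1, ep1, ep1, ep1, em1, ep1, ep1, em1, ep1, em1, em1, em1, em1, ep1, em1, em1, ep3], [ep1, ep1, ep1, ep1, em1, ep1, em1, ep1, ep1, em1, ep1, em1, em1, ep1, ep1, ep1, em1, em1, em1, em1, ep1, em1, em1, ep3], [ep1, ep1, ep1, em1, em1, ep1, em1, ep1, em1, em1, em1, ep1, em1, em1, em1, em1, ep1, em1, em1, em1, ep1, em1, em1, ep3], [ep1, ep1, em1, ep1, ep1, em1, ep1, ep1, em1, ep1, em1, ep1, ep1, em1, ep1, em1, ep1, em1, em1, em1, ep1, em1, em1, ep3], [ep1, ep1, ep1, ep1, ep1, em1, ep1, em1, em1, em1, ep1, ep1, em1, ep1, em1, ep1, ep1, em1, em1, em1, ep1, em1, em1,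 ep3], [ep1, ep1, em1, em1, em1, ep1, em1, em1, em1, ep1, ep1, ep1, ep1, ep1, ep1, ep1, ep1, em1, em1, em1, ep1, em1, em1, ep3], [ep1, ep1, em1, em1, ep1, ep1, em1, em1, em1, em1, ep1, em1, em1, ep1, em1, em1, em1, ep1, em1, em1, ep1, em1, em1, ep3], [ep1, ep1, ep1, ep1, em1, em1, ep1, em1, em1, ep1, ep1, em1, ep1, ep1, ep1, em1, em1, ep1, em1, em1, ep1, em1, em1, ep3], [ep1, ep1, em1, ep1, em1, em1, ep1, ep1, em1, em1, em1, em1, em1, em1, em1, ep1, em1, ep1, em1, em1, ep1, em1, em1, ep3], [ep1, ep1, ep1, em1, ep1, ep1, em1, ep1, em1, ep1, em1, em1, ep1, em1, ep1, ep1, em1, ep1, em1, em1, ep1, em1, em1, ep3], [ep1, ep1, ep1, ep1, ep1, ep1, em1, ep1, ep1, ep1, ep1, ep1, ep1, ep1, em1, em1, ep1, ep1, em1, em1, ep1, em1, em1, ep3], [ep1, ep1, em1, em1, em1, em1, ep1, ep1, ep1, em1, ep1, ep1, em1, ep1, ep1, em1, ep1, ep1, em1, em1, ep1, em1, em1, ep3]],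
    [[ep1, ep1, ep1, em1, em1, em1, ep1, em1, ep1, ep1, em1, ep1, ep1, em1, em1, ep1, ep1, ep1, em1, em1, ep1, em1, em1, ep3], [ep1, ep1, em1, ep1, ep1, ep1, em1, em1, ep1, em1, em1, ep1, em1, em1, ep1, ep1, ep1, ep1, em1, em1, ep1, em1, em1, ep3], [ep1, ep1, ep1, em1, em1, ep1, ep1, em1, ep1, ep1, ep1, ep1, em1, ep1, em1, em1, em1, em1, ep1, em1, ep1, em1, em1, ep3], [ep1, ep1, em1, ep1, ep1, em1, em1, em1, ep1, em1, ep1, ep1, ep1, ep1, ep1, em1, em1, em1, ep1, em1, ep1, em1, em1, ep3], [ep1, ep1, ep1, ep1, ep1, em1, em1, ep1, ep1, ep1, em1, ep1, em1, em1, em1, ep1, em1, em1, ep1, em1, ep1, em1, em1, ep3], [ep1, ep1, em1, em1, em1, ep1, ep1, ep1, ep1, em1, em1, ep1, ep1, em1, ep1, ep1, em1, em1, ep1, em1, ep1, em1, em1, ep3], [ep1, ep1, em1, ep1, em1, ep1, ep1, ep1, em1, em1, ep1, em1, ep1, ep1, em1, em1, ep1, em1, ep1, em1, ep1, em1, em1, ep3], [ep1, ep1, ep1, em1, ep1, em1, em1, ep1, em1, ep1, ep1, em1, em1, ep1, ep1, em1, ep1, em1, ep1, em1, ep1, em1, em1, ep3], [ep1, ep1, em1, em1, ep1, em1, em1,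 em1, em1, em1, em1, em1, ep1, em1, em1, ep1, ep1, em1, ep1, em1, ep1, em1, em1, ep3], [ep1, ep1, ep1, ep1, em1, ep1, ep1, em1, em1, ep1, em1, em1, em1, em1, ep1, ep1, ep1, em1, ep1, em1, ep1, em1, em1, ep3], [ep1, ep1, ep1, ep1, ep1, ep1, ep1, em1, em1, em1, em1, ep1, ep1, em1, em1, em1, em1, ep1, ep1, em1, ep1, em1, em1, ep3], [ep1, ep1, em1, em1, em1, em1, em1, em1, em1, ep1, em1, ep1, em1, em1, ep1, em1, em1, ep1, ep1, em1, ep1, em1, em1, ep3], [ep1, ep1, ep1, em1, em1, em1, em1, ep1, em1, em1, ep1, ep1, ep1, ep1, em1, ep1, em1, ep1, ep1, em1, ep1, em1, em1, ep3], [ep1, ep1, em1, ep1, ep1, ep1, ep1, ep1, em1, ep1, ep1, ep1, em1, ep1, ep1, ep1, em1, ep1, ep1, em1, ep1, em1, em1, ep3], [ep1, ep1, em1, em1, ep1, ep1, ep1, ep1, ep1, ep1, em1, em1, em1, em1, em1, em1, ep1, ep1, ep1, em1, ep1, em1, em1, ep3], [ep1, ep1, ep1, ep1, em1, em1, em1, ep1, ep1, em1, em1, em1, ep1, em1, ep1, em1, ep1, ep1, ep1, em1, ep1, em1, em1, ep3], [ep1, ep1, em1, ep1, em1, em1, em1, em1, ep1, ep1, ep1, em1, em1, ep1, em1,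 ep1, ep1, ep1, ep1, em1, ep1, em1, em1, ep3], [ep1, ep1, ep1, em1, ep1, ep1, ep1, em1, ep1, em1, ep1, em1, ep1, ep1, ep1, ep1, ep1, ep1, ep1, em1, ep1, em1, em1, ep3], [ep1, ep1, ep1, ep1, em1, em1, ep1, ep1, ep1, em1, em1, ep1, ep1, ep1, em1, em1, em1, em1, em1, ep1, ep1, em1, em1, ep3], [ep1, ep1, em1, em1, ep1, ep1, em1, ep1, ep1, ep1, em1, ep1, em1, ep1, ep1, em1, em1, em1, em1, ep1, ep1, em1, em1, ep3], [ep1, ep1, ep1, em1, ep1, ep1, em1, em1, ep1, em1, ep1, ep1, ep1, em1, em1, ep1, em1, em1, em1, ep1, ep1, em1, em1, ep3], [ep1, ep1, em1, ep1, em1, em1, ep1, em1, ep1, ep1, ep1, ep1, em1, em1, ep1, ep1, em1, em1, em1, ep1, ep1, em1, em1, ep3], [ep1, ep1, em1, em1, em1, em1, ep1, em1, em1, ep1, em1, em1, em1, ep1, em1, em1, ep1, em1, em1, ep1, ep1, em1, em1, ep3], [ep1, ep1, ep1, ep1, ep1, ep1, em1, em1, em1, em1, em1, em1, ep1, ep1, ep1, em1, ep1, em1, em1, ep1, ep1, em1, em1, ep3], [ep1, ep1, em1, ep1, ep1, ep1, em1, ep1, em1, ep1, ep1, em1, em1, em1, em1, ep1, ep1, em1, em1, ep1, ep1, em1, em1,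 ep3], [ep1, ep1, ep1, em1, em1, em1, ep1, ep1, em1, em1, ep1, em1, ep1, em1, ep1, ep1, ep1, em1, em1, ep1, ep1, em1, em1, ep3], [ep1, ep1, ep1, em1, ep1, em1, ep1, ep1, em1, ep1, ep1, ep1, em1, em1, em1, em1, em1, ep1, em1, ep1, ep1, em1, em1, ep3], [ep1, ep1, em1, ep1, em1, ep1, em1, ep1, em1, em1, ep1, ep1, ep1, em1, ep1, em1, em1, ep1, em1, ep1, ep1, em1, em1, ep3], [ep1, ep1, ep1, ep1, em1, ep1, em1, em1, em1, ep1, em1, ep1, em1, ep1, em1, ep1, em1, ep1, em1, ep1, ep1, em1, em1, ep3], [ep1, ep1, em1, em1, ep1, em1, ep1, em1, em1, em1, em1, ep1, ep1, ep1, ep1, ep1, em1, ep1, em1, ep1, ep1, em1, em1, ep3], [ep1, ep1, em1, ep1, ep1, em1, ep1, em1, ep1, em1, ep1, em1, ep1, em1, em1, em1, ep1, ep1, em1, ep1, ep1, em1, em1, ep3], [ep1, ep1, ep1, em1, em1, ep1, em1, em1, ep1, ep1, ep1, em1, em1, em1, ep1, em1, ep1, ep1, em1, ep1, ep1, em1, em1, ep3]],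
    [[ep1, ep1, em1, em1, em1, ep1, em1, ep1, ep1, em1, em1, em1, ep1, ep1, em1, ep1, ep1, ep1, em1, ep1, ep1, em1, em1, ep3], [ep1, ep1, ep1, ep1, ep1, em1, ep1, ep1, ep1, ep1, em1, em1, em1, ep1, ep1, ep1, ep1, ep1, em1, ep1, ep1, em1, em1, ep3], [ep1, ep1, em1, em1, em1, em1, em1, ep1, ep1, em1, ep1, em1, em1, em1, em1, em1, em1, em1, ep1, ep1, ep1, em1, em1, ep3], [ep1, ep1, ep1, ep1, ep1, ep1, ep1, ep1, ep1, ep1, ep1, em1, ep1, em1, ep1, em1, em1, em1, ep1, ep1, ep1, em1, em1, ep3], [ep1, ep1, em1, ep1, ep1, ep1, ep1, em1, ep1, em1, em1, em1, em1, ep1, em1, ep1, em1, em1, ep1, ep1, ep1, em1, em1, ep3], [ep1, ep1, ep1, em1, em1, em1, em1, em1, ep1, ep1, em1, em1, ep1, ep1, ep1, ep1, em1, em1, ep1, ep1, ep1, em1, em1, ep3], [ep1, ep1, ep1, ep1, em1, em1, em1, em1, em1, ep1, ep1, ep1, ep1, em1, em1, em1, ep1, em1, ep1, ep1, ep1, em1, em1, ep3], [ep1, ep1, em1, em1, ep1, ep1, ep1, em1, em1, em1, ep1, ep1, em1, em1, ep1, em1, ep1, em1, ep1, ep1, ep1, em1, em1, ep3], [ep1, ep1, ep1, em1, ep1, ep1, ep1,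 ep1, em1, ep1, em1, ep1, ep1, ep1, em1, ep1, ep1, em1, ep1, ep1, ep1, em1, em1, ep3], [ep1, ep1, em1, ep1, em1, em1, em1, ep1, em1, em1, em1, ep1, em1, ep1, ep1, ep1, ep1, em1, ep1, ep1, ep1, em1, em1, ep3], [ep1, ep1, em1, ep1, ep1, em1, em1, ep1, em1, ep1, em1, em1, ep1, ep1, em1, em1, em1, ep1, ep1, ep1, ep1, em1, em1, ep3], [ep1, ep1, ep1, em1, em1, ep1, ep1, ep1, em1, em1, em1, em1, em1, ep1, ep1, em1, em1, ep1, ep1, ep1, ep1, em1, em1, ep3], [ep1, ep1, em1, em1, em1, ep1, ep1, em1, em1, ep1, ep1, em1, ep1, em1, em1, ep1, em1, ep1, ep1, ep1, ep1, em1, em1, ep3], [ep1, ep1, ep1, ep1, ep1, em1, em1, em1, em1, em1, ep1, em1, em1, em1, ep1, ep1, em1, ep1, ep1, ep1, ep1, em1, em1, ep3], [ep1, ep1, ep1, em1, ep1, em1, em1, em1, ep1, em1, em1, ep1, em1, ep1, em1, em1, ep1, ep1, ep1, ep1, ep1, em1, em1, ep3], [ep1, ep1, em1, ep1, em1, ep1, ep1, em1, ep1, ep1, em1, ep1, ep1, ep1, ep1, em1, ep1, ep1, ep1, ep1, ep1, em1, em1, ep3], [ep1, ep1, ep1, ep1, em1, ep1, ep1, ep1, ep1, em1, ep1, ep1, em1, em1, em1,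 ep1, ep1, ep1, ep1, ep1, ep1, em1, em1, ep3], [ep1, ep1, em1, em1, ep1, em1, em1, ep1, ep1, ep1, ep1, ep1, ep1, em1, ep1, ep1, ep1, ep1, ep1, ep1, ep1, em1, em1, ep3], [ep1, ep1, ep1, em1, ep1, ep1, ep1, ep1, ep1, ep1, em1, ep1, ep1, em1, em1, em1, em1, em1, em1, em1, em1, ep1, em1, ep3], [ep1, ep1, em1, ep1, em1, em1, em1, ep1, ep1, em1, em1, ep1, em1, em1, ep1, em1, em1, em1, em1, em1, em1, ep1, em1, ep3], [ep1, ep1, ep1, ep1, em1, em1, em1, em1, ep1, ep1, ep1, ep1, ep1, ep1, em1, ep1, em1, em1, em1, em1, em1, ep1, em1, ep3], [ep1, ep1, em1, em1, ep1, ep1, ep1, em1, ep1, em1, ep1, ep1, em1, ep1, ep1, ep1, em1, em1, em1, em1, em1, ep1, em1, ep3], [ep1, ep1, em1, ep1, ep1, ep1, ep1, em1, em1, em1, em1, em1, em1, em1, em1, em1, ep1, em1, em1, em1, em1, ep1, em1, ep3], [ep1, ep1, ep1, em1, em1, em1, em1, em1, em1, ep1, em1, em1, ep1, em1, ep1, em1, ep1, em1, em1, em1, em1, ep1, em1, ep3], [ep1, ep1, em1, em1, em1, em1, em1, ep1, em1, em1, ep1, em1, em1, ep1, em1, ep1, ep1, em1, em1, em1, em1, ep1, em1,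 ep3], [ep1, ep1, ep1, ep1, ep1, ep1, ep1, ep1, em1, ep1, ep1, em1, ep1, ep1, ep1, ep1, ep1, em1, em1, em1, em1, ep1, em1, ep3], [ep1, ep1, ep1, ep1, em1, ep1, ep1, ep1, em1, em1, ep1, ep1, em1, ep1, em1, em1, em1, ep1, em1, em1, em1, ep1, em1, ep3], [ep1, ep1, em1, em1, ep1, em1, em1, ep1, em1, ep1, ep1, ep1, ep1, ep1, ep1, em1, em1, ep1, em1, em1, em1, ep1, em1, ep3], [ep1, ep1, ep1, em1, ep1, em1, em1, em1, em1, em1, em1, ep1, em1, em1, em1, ep1, em1, ep1, em1, em1, em1, ep1, em1, ep3], [ep1, ep1, em1, ep1, em1, ep1, ep1, em1, em1, ep1, em1, ep1, ep1, em1, ep1, ep1, em1, ep1, em1, em1, em1, ep1, em1, ep3], [ep1, ep1, em1, em1, em1, ep1, ep1, em1, ep1, ep1, ep1, em1, ep1, ep1, em1, em1, ep1, ep1, em1, em1, em1, ep1, em1, ep3], [ep1, ep1, ep1, ep1, ep1, em1, em1, em1, ep1, em1, ep1, em1, em1, ep1, ep1, em1, ep1, ep1, em1, em1, em1, ep1, em1, ep3]],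
    [[ep1, ep1, em1, ep1, ep1, em1, em1, ep1, ep1, ep1, em1, em1, ep1, em1, em1, ep1, ep1, ep1, em1, em1, em1, ep1, em1, ep3], [ep1, ep1, ep1, em1, em1, ep1, ep1, ep1, ep1, em1, em1, em1, em1, em1, ep1, ep1, ep1, ep1, em1, em1, em1, ep1, em1, ep3], [ep1, ep1, em1, ep1, ep1, ep1, em1, ep1, ep1, ep1, ep1, em1, em1, ep1, em1, em1, em1, em1, ep1, em1, em1, ep1, em1, ep3], [ep1, ep1, ep1, em1, em1, em1, ep1, ep1, ep1, em1, ep1, em1, ep1, ep1, ep1, em1, em1, em1, ep1, em1, em1, ep1, em1, ep3], [ep1, ep1, em1, em1, em1, em1, ep1, em1, ep1, ep1, em1, em1, em1, em1, em1, ep1, em1, em1, ep1, em1, em1, ep1, em1, ep3], [ep1, ep1, ep1, ep1, ep1, ep1, em1, em1, ep1, em1, em1, em1, ep1, em1, ep1, ep1, em1, em1, ep1, em1, em1, ep1, em1, ep3], [ep1, ep1, ep1, em1, ep1, ep1, em1, em1, em1, em1, ep1, ep1, ep1, ep1, em1, em1, ep1, em1, ep1, em1, em1, ep1, em1, ep3], [ep1, ep1, em1, ep1, em1, em1, ep1, em1, em1, ep1, ep1, ep1, em1, ep1, ep1, em1, ep1, em1, ep1, em1, em1, ep1, em1, ep3], [ep1, ep1, ep1, ep1, em1, em1, ep1,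 ep1, em1, em1, em1, ep1, ep1, em1, em1, ep1, ep1, em1, ep1, em1, em1, ep1, em1, ep3], [ep1, ep1, em1, em1, ep1, ep1, em1, ep1, em1, ep1, em1, ep1, em1, em1, ep1, ep1, ep1, em1, ep1, em1, em1, ep1, em1, ep3], [ep1, ep1, em1, em1, em1, ep1, em1, ep1, em1, em1, em1, em1, ep1, em1, em1, em1, em1, ep1, ep1, em1, em1, ep1, em1, ep3], [ep1, ep1, ep1, ep1, ep1, em1, ep1, ep1, em1, ep1, em1, em1, em1, em1, ep1, em1, em1, ep1, ep1, em1, em1, ep1, em1, ep3], [ep1, ep1, em1, ep1, ep1, em1, ep1, em1, em1, em1, ep1, em1, ep1, ep1, em1, ep1, em1, ep1, ep1, em1, em1, ep1, em1, ep3], [ep1, ep1, ep1, em1, em1, ep1, em1, em1, em1, ep1, ep1, em1, em1, ep1, ep1, ep1, em1, ep1, ep1, em1, em1, ep1, em1, ep3], [ep1, ep1, ep1, ep1, em1, ep1, em1, em1, ep1, ep1, em1, ep1, em1, em1, em1, em1, ep1, ep1, ep1, em1, em1, ep1, em1, ep3], [ep1, ep1, em1, em1, ep1, em1, ep1, em1, ep1, em1, em1, ep1, ep1, em1, ep1, em1, ep1, ep1, ep1, em1, em1, ep1, em1, ep3], [ep1, ep1, ep1, em1, ep1, em1, ep1, ep1, ep1, ep1, ep1, ep1, em1, ep1, em1,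 ep1, ep1, ep1, ep1, em1, em1, ep1, em1, ep3], [ep1, ep1, em1, ep1, em1, ep1, em1, ep1, ep1, em1, ep1, ep1, ep1, ep1, ep1, ep1, ep1, ep1, ep1, em1, em1, ep1, em1, ep3], [ep1, ep1, em1, em1, ep1, em1, em1, em1, ep1, em1, em1, em1, ep1, ep1, em1, em1, em1, em1, em1, ep1, em1, ep1, em1, ep3], [ep1, ep1, ep1, ep1, em1, ep1, ep1, em1, ep1, ep1, em1, em1, em1, ep1, ep1, em1, em1, em1, em1, ep1, em1, ep1, em1, ep3], [ep1, ep1, em1, ep1, em1, ep1, ep1, ep1, ep1, em1, ep1, em1, ep1, em1, em1, ep1, em1, em1, em1, ep1, em1, ep1, em1, ep3], [ep1, ep1, ep1, em1, ep1, em1, em1, ep1, ep1, ep1, ep1, em1, em1, em1, ep1, ep1, em1, em1, em1, ep1, em1, ep1, em1, ep3], [ep1, ep1, ep1, ep1, ep1, em1, em1, ep1, em1, ep1, em1, ep1, em1, ep1, em1, em1, ep1, em1, em1, ep1, em1, ep1, em1, ep3], [ep1, ep1, em1, em1, em1, ep1, ep1, ep1, em1, em1, em1, ep1, ep1, ep1, ep1, em1, ep1, em1, em1, ep1, em1, ep1, em1, ep3], [ep1, ep1, ep1, em1, em1, ep1, ep1, em1, em1, ep1, ep1, ep1, em1, em1, em1, ep1, ep1, em1, em1, ep1, em1, ep1, em1,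 ep3], [ep1, ep1, em1, ep1, ep1, em1, em1, em1, em1, em1, ep1, ep1, ep1, em1, ep1, ep1, ep1, em1, em1, ep1, em1, ep1, em1, ep3], [ep1, ep1, em1, ep1, em1, em1, em1, em1, em1, ep1, ep1, em1, em1, em1, em1, em1, em1, ep1, em1, ep1, em1, ep1, em1, ep3], [ep1, ep1, ep1, em1, ep1, ep1, ep1, em1, em1, em1, ep1, em1, ep1, em1, ep1, em1, em1, ep1, em1, ep1, em1, ep1, em1, ep3], [ep1, ep1, em1, em1, ep1, ep1, ep1, ep1, em1, ep1, em1, em1, em1, ep1, em1, ep1, em1, ep1, em1, ep1, em1, ep1, em1, ep3], [ep1, ep1, ep1, ep1, em1, em1, em1, ep1, em1, em1, em1, em1, ep1, ep1, ep1, ep1, em1, ep1, em1, ep1, em1, ep1, em1, ep3], [ep1, ep1, ep1, em1, em1, em1, em1, ep1, ep1, em1, ep1, ep1, ep1, em1, em1, em1, ep1, ep1, em1, ep1, em1, ep1, em1, ep3], [ep1, ep1, em1, ep1, ep1, ep1, ep1, ep1, ep1, ep1, ep1, ep1, em1, em1, ep1, em1, ep1, ep1, em1, ep1, em1, ep1, em1, ep3]],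
    [[ep1, ep1, ep1, ep1, ep1, ep1, ep1, em1, ep1, em1, em1, ep1, ep1, ep1, em1, ep1, ep1, ep1, em1, ep1, em1, ep1, em1, ep3], [ep1, ep1, em1, em1, em1, em1, em1, em1, ep1, ep1, em1, ep1, em1, ep1, ep1, ep1, ep1, ep1, em1, ep1, em1, ep1, em1, ep3], [ep1, ep1, ep1, ep1, ep1, em1, ep1, em1, ep1, em1, ep1, ep1, em1, em1, em1, em1, em1, em1, ep1, ep1, em1, ep1, em1, ep3], [ep1, ep1, em1, em1, em1, ep1, em1, em1, ep1, ep1, ep1, ep1, ep1, em1, ep1, em1, em1, em1, ep1, ep1, em1, ep1, em1, ep3], [ep1, ep1, ep1, em1, em1, ep1, em1, ep1, ep1, em1, em1, ep1, em1, ep1, em1, ep1, em1, em1, ep1, ep1, em1, ep1, em1, ep3], [ep1, ep1, em1, ep1, ep1, em1, ep1, ep1, ep1, ep1, em1, ep1, ep1, ep1, ep1, ep1, em1, em1, ep1, ep1, em1, ep1, em1, ep3], [ep1, ep1, em1, em1, ep1, em1, ep1, ep1, em1, ep1, ep1, em1, ep1, em1, em1, em1, ep1, em1, ep1, ep1, em1, ep1, em1, ep3], [ep1, ep1, ep1, ep1, em1, ep1, em1, ep1, em1, em1, ep1, em1, em1, em1, ep1, em1, ep1, em1, ep1, ep1, em1, ep1, em1, ep3], [ep1, ep1, em1, ep1, em1, ep1, em1,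 em1, em1, ep1, em1, em1, ep1, ep1, em1, ep1, ep1, em1, ep1, ep1, em1, ep1, em1, ep3], [ep1, ep1, ep1, em1, ep1, em1, ep1, em1, em1, em1, em1, em1, em1, ep1, ep1, ep1, ep1, em1, ep1, ep1, em1, ep1, em1, ep3], [ep1, ep1, ep1, em1, em1, em1, ep1, em1, em1, ep1, em1, ep1, ep1, ep1, em1, em1, em1, ep1, ep1, ep1, em1, ep1, em1, ep3], [ep1, ep1, em1, ep1, ep1, ep1, em1, em1, em1, em1, em1, ep1, em1, ep1, ep1, em1, em1, ep1, ep1, ep1, em1, ep1, em1, ep3], [ep1, ep1, ep1, ep1, ep1, ep1, em1, ep1, em1, ep1, ep1, ep1, ep1, em1, em1, ep1, em1, ep1, ep1, ep1, em1, ep1, em1, ep3], [ep1, ep1, em1, em1, em1, em1, ep1, ep1, em1, em1, ep1, ep1, em1, em1, ep1, ep1, em1, ep1, ep1, ep1, em1, ep1, em1, ep3], [ep1, ep1, em1, ep1, em1, em1, ep1, ep1, ep1, em1, em1, em1, em1, ep1, em1, em1, ep1, ep1, ep1, ep1, em1, ep1, em1, ep3], [ep1, ep1, ep1, em1, ep1, ep1, em1, ep1, ep1, ep1, em1, em1, ep1, ep1, ep1, em1, ep1, ep1, ep1, ep1, em1, ep1, em1, ep3], [ep1, ep1, em1, em1, ep1, ep1, em1, em1, ep1, em1, ep1, em1, em1, em1, em1,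 ep1, ep1, ep1, ep1, ep1, em1, ep1, em1, ep3], [ep1, ep1, ep1, ep1, em1, em1, ep1, em1, ep1, ep1, ep1, em1, ep1, em1, ep1, ep1, ep1, ep1, ep1, ep1, em1, ep1, em1, ep3], [ep1, ep1, em1, em1, em1, em1, ep1, em1, em1, em1, ep1, ep1, ep1, em1, em1, em1, em1, em1, em1, em1, ep1, ep1, em1, ep3], [ep1, ep1, ep1, ep1, ep1, ep1, em1, em1, em1, ep1, ep1, ep1, em1, em1, ep1, em1, em1, em1, em1, em1, ep1, ep1, em1, ep3], [ep1, ep1, em1, ep1, ep1, ep1, em1, ep1, em1, em1, em1, ep1, ep1, ep1, em1, ep1, em1, em1, em1, em1, ep1, ep1, em1, ep3], [ep1, ep1, ep1, em1, em1, em1, ep1, ep1, em1, ep1, em1, ep1, em1, ep1, ep1, ep1, em1, em1, em1, em1, ep1, ep1, em1, ep3], [ep1, ep1, ep1, ep1, em1, em1, ep1, ep1, ep1, ep1, ep1, em1, em1, em1, em1, em1, ep1, em1, em1, em1, ep1, ep1, em1, ep3], [ep1, ep1, em1, em1, ep1, ep1, em1, ep1, ep1, em1, ep1, em1, ep1, em1, ep1, em1, ep1, em1, em1, em1, ep1, ep1, em1, ep3], [ep1, ep1, ep1, em1, ep1, ep1, em1, em1, ep1, ep1, em1, em1, em1, ep1, em1, ep1, ep1, em1, em1, em1, ep1, ep1, em1,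 ep3], [ep1, ep1, em1, ep1, em1, em1, ep1, em1, ep1, em1, em1, em1, ep1, ep1, ep1, ep1, ep1, em1, em1, em1, ep1, ep1, em1, ep3], [ep1, ep1, em1, ep1, ep1, em1, ep1, em1, ep1, ep1, em1, ep1, em1, ep1, em1, em1, em1, ep1, em1, em1, ep1, ep1, em1, ep3], [ep1, ep1, ep1, em1, em1, ep1, em1, em1, ep1, em1, em1, ep1, ep1, ep1, ep1, em1, em1, ep1, em1, em1, ep1, ep1, em1, ep3], [ep1, ep1, em1, em1, em1, ep1, em1, ep1, ep1, ep1, ep1, ep1, em1, em1, em1, ep1, em1, ep1, em1, em1, ep1, ep1, em1, ep3], [ep1, ep1, ep1, ep1, ep1, em1, ep1, ep1, ep1, em1, ep1, ep1, ep1, em1, ep1, ep1, em1, ep1, em1, em1, ep1, ep1, em1, ep3], [ep1, ep1, ep1, em1, ep1, em1, ep1, ep1, em1, em1, em1, em1, ep1, ep1, em1, em1, ep1, ep1, em1, em1, ep1, ep1, em1, ep3], [ep1, ep1, em1, ep1, em1, ep1, em1, ep1, em1, ep1, em1, em1, em1, ep1, ep1, em1, ep1, ep1, em1, em1, ep1, ep1, em1, ep3]],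
    [[ep1, ep1, ep1, ep1, em1, ep1, em1, em1, em1, em1, ep1, em1, ep1, em1, em1, ep1, ep1, ep1, em1, em1, ep1, ep1, em1, ep3], [ep1, ep1, em1, em1, ep1, em1, ep1, em1, em1, ep1, ep1, em1, em1, em1, ep1, ep1, ep1, ep1, em1, em1, ep1, ep1, em1, ep3], [ep1, ep1, ep1, ep1, em1, em1, em1, em1, em1, em1, em1, em1, em1, ep1, em1, em1, em1, em1, ep1, em1, ep1, ep1, em1, ep3], [ep1, ep1, em1, em1, ep1, ep1, ep1, em1, em1, ep1, em1, em1, ep1, ep1, ep1, em1, em1, em1, ep1, em1, ep1, ep1, em1, ep3], [ep1, ep1, ep1, em1, ep1, ep1, ep1, ep1, em1, em1, ep1, em1, em1, em1, em1, ep1, em1, em1, ep1, em1, ep1, ep1, em1, ep3], [ep1, ep1, em1, ep1, em1, em1, em1, ep1, em1, ep1, ep1, em1, ep1, em1, ep1, ep1, em1, em1, ep1, em1, ep1, ep1, em1, ep3], [ep1, ep1, em1, em1, em1, em1, em1, ep1, ep1, ep1, em1, ep1, ep1, ep1, em1, em1, ep1, em1, ep1, em1, ep1, ep1, em1, ep3], [ep1, ep1, ep1, ep1, ep1, ep1, ep1, ep1, ep1, em1, em1, ep1, em1, ep1, ep1, em1, ep1, em1, ep1, em1, ep1, ep1, em1, ep3], [ep1, ep1, em1, ep1, ep1, ep1, ep1,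 em1, ep1, ep1, ep1, ep1, ep1, em1, em1, ep1, ep1, em1, ep1, em1, ep1, ep1, em1, ep3], [ep1, ep1, ep1, em1, em1, em1, em1, em1, ep1, em1, ep1, ep1, em1, em1, ep1, ep1, ep1, em1, ep1, em1, ep1, ep1, em1, ep3], [ep1, ep1, ep1, em1, ep1, em1, em1, em1, ep1, ep1, ep1, em1, ep1, em1, em1, em1, em1, ep1, ep1, em1, ep1, ep1, em1, ep3], [ep1, ep1, em1, ep1, em1, ep1, ep1, em1, ep1, em1, ep1, em1, em1, em1, ep1, em1, em1, ep1, ep1, em1, ep1, ep1, em1, ep3], [ep1, ep1, ep1, ep1, em1, ep1, ep1, ep1, ep1, ep1, em1, em1, ep1, ep1, em1, ep1, em1, ep1, ep1, em1, ep1, ep1, em1, ep3], [ep1, ep1, em1, em1, ep1, em1, em1, ep1, ep1, em1, em1, em1, em1, ep1, ep1, ep1, em1, ep1, ep1, em1, ep1, ep1, em1, ep3], [ep1, ep1, em1, ep1, ep1, em1, em1, ep1, em1, em1, ep1, ep1, em1, em1, em1, em1, ep1, ep1, ep1, em1, ep1, ep1, em1, ep3], [ep1, ep1, ep1, em1, em1, ep1, ep1, ep1, em1, ep1, ep1, ep1, ep1, em1, ep1, em1, ep1, ep1, ep1, em1, ep1, ep1, em1, ep3], [ep1, ep1, em1, em1, em1, ep1, ep1, em1, em1, em1, em1, ep1, em1, ep1, em1,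 ep1, ep1, ep1, ep1, em1, ep1, ep1, em1, ep3], [ep1, ep1, ep1, ep1, ep1, em1, em1, em1, em1, ep1, em1, ep1, ep1, ep1, ep1, ep1, ep1, ep1, ep1, em1, ep1, ep1, em1, ep3], [ep1, ep1, ep1, em1, em1, ep1, em1, ep1, em1, ep1, ep1, em1, ep1, ep1, em1, em1, em1, em1, em1, ep1, ep1, ep1, em1, ep3], [ep1, ep1, em1, ep1, ep1, em1, ep1, ep1, em1, em1, ep1, em1, em1, ep1, ep1, em1, em1, em1, em1, ep1, ep1, ep1, em1, ep3], [ep1, ep1, ep1, ep1, ep1, em1, ep1, em1, em1, ep1, em1, em1, ep1, em1, em1, ep1, em1, em1, em1, ep1, ep1, ep1, em1, ep3], [ep1, ep1, em1, em1, em1, ep1, em1, em1, em1, em1, em1, em1, em1, em1, ep1, ep1, em1, em1, em1, ep1, ep1, ep1, em1, ep3], [ep1, ep1, em1, ep1, em1, ep1, em1, em1, ep1, em1, ep1, ep1, em1, ep1, em1, em1, ep1, em1, em1, ep1, ep1, ep1, em1, ep3], [ep1, ep1, ep1, em1, ep1, em1, ep1, em1, ep1, ep1, ep1, ep1, ep1, ep1, ep1, em1, ep1, em1, em1, ep1, ep1, ep1, em1, ep3], [ep1, ep1, em1, em1, ep1, em1, ep1, ep1, ep1, em1, em1, ep1, em1, em1, em1, ep1, ep1, em1, em1, ep1, ep1, ep1, em1,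 ep3], [ep1, ep1, ep1, ep1, em1, ep1, em1, ep1, ep1, ep1, em1, ep1, ep1, em1, ep1, ep1, ep1, em1, em1, ep1, ep1, ep1, em1, ep3], [ep1, ep1, ep1, ep1, ep1, ep1, em1, ep1, ep1, em1, em1, em1, em1, em1, em1, em1, em1, ep1, em1, ep1, ep1, ep1, em1, ep3], [ep1, ep1, em1, em1, em1, em1, ep1, ep1, ep1, ep1, em1, em1, ep1, em1, ep1, em1, em1, ep1, em1, ep1, ep1, ep1, em1, ep3], [ep1, ep1, ep1, em1, em1, em1, ep1, em1, ep1, em1, ep1, em1, em1, ep1, em1, ep1, em1, ep1, em1, ep1, ep1, ep1, em1, ep3], [ep1, ep1, em1, ep1, ep1, ep1, em1, em1, ep1, ep1, ep1, em1, ep1, ep1, ep1, ep1, em1, ep1, em1, ep1, ep1, ep1, em1, ep3], [ep1, ep1, em1, em1, ep1, ep1, em1, em1, em1, ep1, em1, ep1, ep1, em1, em1, em1, ep1, ep1, em1, ep1, ep1, ep1, em1, ep3], [ep1, ep1, ep1, ep1, em1, em1, ep1, em1, em1, em1, em1, ep1, em1, em1, ep1, em1, ep1, ep1, em1, ep1, ep1, ep1, em1, ep3]],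
    [[ep1, ep1, em1, ep1, em1, em1, ep1, ep1, em1, ep1, ep1, ep1, ep1, ep1, em1, ep1, ep1, ep1, em1, ep1, ep1, ep1, em1, ep3], [ep1, ep1, ep1, em1, ep1, ep1, em1, ep1, em1, em1, ep1, ep1, em1, ep1, ep1, ep1, ep1, ep1, em1, ep1, ep1, ep1, em1, ep3], [ep1, ep1, em1, ep1, em1, ep1, ep1, ep1, em1, ep1, em1, ep1, em1, em1, em1, em1, em1, em1, ep1, ep1, ep1, ep1, em1, ep3], [ep1, ep1, ep1, em1, ep1, em1, em1, ep1, em1, em1, em1, ep1, ep1, em1, ep1, em1, em1, em1, ep1, ep1, ep1, ep1, em1, ep3], [ep1, ep1, em1, em1, ep1, em1, em1, em1, em1, ep1, ep1, ep1, em1, ep1, em1, ep1, em1, em1, ep1, ep1, ep1, ep1, em1, ep3], [ep1, ep1, ep1, ep1, em1, ep1, ep1, em1, em1, em1, ep1, ep1, ep1, ep1, ep1, ep1, em1, em1, ep1, ep1, ep1, ep1, em1, ep3], [ep1, ep1, ep1, em1, em1, ep1, ep1, em1, ep1, em1, em1, em1, ep1, em1, em1, em1, ep1, em1, ep1, ep1, ep1, ep1, em1, ep3], [ep1, ep1, em1, ep1, ep1, em1, em1, em1, ep1, ep1, em1, em1, em1, em1, ep1, em1, ep1, em1, ep1, ep1, ep1, ep1, em1, ep3], [ep1, ep1, ep1, ep1, ep1, em1, em1,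 ep1, ep1, em1, ep1, em1, ep1, ep1, em1, ep1, ep1, em1, ep1, ep1, ep1, ep1, em1, ep3], [ep1, ep1, em1, em1, em1, ep1, ep1, ep1, ep1, ep1, ep1, em1, em1, ep1, ep1, ep1, ep1, em1, ep1, ep1, ep1, ep1, em1, ep3], [ep1, ep1, em1, em1, ep1, ep1, ep1, ep1, ep1, em1, ep1, ep1, ep1, ep1, em1, em1, em1, ep1, ep1, ep1, ep1, ep1, em1, ep3], [ep1, ep1, ep1, ep1, em1, em1, em1, ep1, ep1, ep1, ep1, ep1, em1, ep1, ep1, em1, em1, ep1, ep1, ep1, ep1, ep1, em1, ep3], [ep1, ep1, em1, ep1, em1, em1, em1, em1, ep1, em1, em1, ep1, ep1, em1, em1, ep1, em1, ep1, ep1, ep1, ep1, ep1, em1, ep3], [ep1, ep1, ep1, em1, ep1, ep1, ep1, em1, ep1, ep1, em1, ep1, em1, em1, ep1, ep1, em1, ep1, ep1, ep1, ep1, ep1, em1, ep3], [ep1, ep1, ep1, ep1, ep1, ep1, ep1, em1, em1, ep1, ep1, em1, em1, ep1, em1, em1, ep1, ep1, ep1, ep1, ep1, ep1, em1, ep3], [ep1, ep1, em1, em1, em1, em1, em1, em1, em1, em1, ep1, em1, ep1, ep1, ep1, em1, ep1, ep1, ep1, ep1, ep1, ep1, em1, ep3], [ep1, ep1, ep1, em1, em1, em1, em1, ep1, em1, ep1, em1, em1, em1, em1, em1,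 ep1, ep1, ep1, ep1, ep1, ep1, ep1, em1, ep3], [ep1, ep1, em1, ep1, ep1, ep1, ep1, ep1, em1, em1, em1, em1, ep1, em1, ep1, ep1, ep1, ep1, ep1, ep1, ep1, ep1, em1, ep3], [ep1, ep1, ep1, ep1, em1, em1, ep1, em1, em1, ep1, em1, ep1, em1, em1, em1, em1, em1, em1, em1, em1, em1, em1, ep1, ep3], [ep1, ep1, em1, em1, ep1, ep1, em1, em1, em1, em1, em1, ep1, ep1, em1, ep1, em1, em1, em1, em1, em1, em1, em1, ep1, ep3], [ep1, ep1, ep1, em1, ep1, ep1, em1, ep1, em1, ep1, ep1, ep1, em1, ep1, em1, ep1, em1, em1, em1, em1, em1, em1, ep1, ep3], [ep1, ep1, em1, ep1, em1, em1, ep1, ep1, em1, em1, ep1, ep1, ep1, ep1, ep1, ep1, em1, em1, em1, em1, em1, em1, ep1, ep3], [ep1, ep1, em1, em1, em1, em1, ep1, ep1, ep1, em1, em1, em1, ep1, em1, em1, em1, ep1, em1, em1, em1, em1, em1, ep1, ep3], [ep1, ep1, ep1, ep1, ep1, ep1, em1, ep1, ep1, ep1, em1, em1, em1, em1, ep1, em1, ep1, em1, em1, em1, em1, em1, ep1, ep3], [ep1, ep1, em1, ep1, ep1, ep1, em1, em1, ep1, em1, ep1, em1, ep1, ep1, em1, ep1, ep1, em1, em1, em1, em1, em1, ep1,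 ep3], [ep1, ep1, ep1, em1, em1, em1, ep1, em1, ep1, ep1, ep1, em1, em1, ep1, ep1, ep1, ep1, em1, em1, em1, em1, em1, ep1, ep3], [ep1, ep1, ep1, em1, ep1, em1, ep1, em1, ep1, em1, ep1, ep1, ep1, ep1, em1, em1, em1, ep1, em1, em1, em1, em1, ep1, ep3], [ep1, ep1, em1, ep1, em1, ep1, em1, em1, ep1, ep1, ep1, ep1, em1, ep1, ep1, em1, em1, ep1, em1, em1, em1, em1, ep1, ep3], [ep1, ep1, ep1, ep1, em1, ep1, em1, ep1, ep1, em1, em1, ep1, ep1, em1, em1, ep1, em1, ep1, em1, em1, em1, em1, ep1, ep3], [ep1, ep1, em1, em1, ep1, em1, ep1, ep1, ep1, ep1, em1, ep1, em1, em1, ep1, ep1, em1, ep1, em1, em1, em1, em1, ep1, ep3], [ep1, ep1, em1, ep1, ep1, em1, ep1, ep1, em1, ep1, ep1, em1, em1, ep1, em1, em1, ep1, ep1, em1, em1, em1, em1, ep1, ep3], [ep1, ep1, ep1, em1, em1, ep1, em1, ep1, em1, em1, ep1, em1, ep1, ep1, ep1, em1, ep1, ep1, em1, em1, em1, em1, ep1, ep3]],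
    [[ep1, ep1, em1, em1, em1, ep1, em1, em1, em1, ep1, em1, em1, em1, em1, em1, ep1, ep1, ep1, em1, em1, em1, em1, ep1, ep3], [ep1, ep1, ep1, ep1, ep1, em1, ep1, em1, em1, em1, em1, em1, ep1, em1, ep1, ep1, ep1, ep1, em1, em1, em1, em1, ep1, ep3], [ep1, ep1, em1, em1, em1, em1, em1, em1, em1, ep1, ep1, em1, ep1, ep1, em1, em1, em1, em1, ep1, em1, em1, em1, ep1, ep3], [ep1, ep1, ep1, ep1, ep1, ep1, ep1, em1, em1, em1, ep1, em1, em1, ep1, ep1, em1, em1, em1, ep1, em1, em1, em1, ep1, ep3], [ep1, ep1, em1, ep1, ep1, ep1, ep1, ep1, em1, ep1, em1, em1, ep1, em1, em1, ep1, em1, em1, ep1, em1, em1, em1, ep1, ep3], [ep1, ep1, ep1, em1, em1, em1, em1, ep1, em1, em1, em1, em1, em1, em1, ep1, ep1, em1, em1, ep1, em1, em1, em1, ep1, ep3], [ep1, ep1, ep1, ep1, em1, em1, em1, ep1, ep1, em1, ep1, ep1, em1, ep1, em1, em1, ep1, em1, ep1, em1, em1, em1, ep1, ep3], [ep1, ep1, em1, em1, ep1, ep1, ep1, ep1, ep1, ep1, ep1, ep1, ep1, ep1, ep1, em1, ep1, em1, ep1, em1, em1, em1, ep1, ep3], [ep1, ep1, ep1, em1, ep1, ep1, ep1,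 em1, ep1, em1, em1, ep1, em1, em1, em1, ep1, ep1, em1, ep1, em1, em1, em1, ep1, ep3], [ep1, ep1, em1, ep1, em1, em1, em1, em1, ep1, ep1, em1, ep1, ep1, em1, ep1, ep1, ep1, em1, ep1, em1, em1, em1, ep1, ep3], [ep1, ep1, em1, ep1, ep1, em1, em1, em1, ep1, em1, em1, em1, em1, em1, em1, em1, em1, ep1, ep1, em1, em1, em1, ep1, ep3], [ep1, ep1, ep1, em1, em1, ep1, ep1, em1, ep1, ep1, em1, em1, ep1, em1, ep1, em1, em1, ep1, ep1, em1, em1, em1, ep1, ep3], [ep1, ep1, em1, em1, em1, ep1, ep1, ep1, ep1, em1, ep1, em1, em1, ep1, em1, ep1, em1, ep1, ep1, em1, em1, em1, ep1, ep3], [ep1, ep1, ep1, ep1, ep1, em1, em1, ep1, ep1, ep1, ep1, em1, ep1, ep1, ep1, ep1, em1, ep1, ep1, em1, em1, em1, ep1, ep3], [ep1, ep1, ep1, em1, ep1, em1, em1, ep1, em1, ep1, em1, ep1, ep1, em1, em1, em1, ep1, ep1, ep1, em1, em1, em1, ep1, ep3], [ep1, ep1, em1, ep1, em1, ep1, ep1, ep1, em1, em1, em1, ep1, em1, em1, ep1, em1, ep1, ep1, ep1, em1, em1, em1, ep1, ep3], [ep1, ep1, ep1, ep1, em1, ep1, ep1, em1, em1, ep1, ep1, ep1, ep1, ep1, em1,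 ep1, ep1, ep1, ep1, em1, em1, em1, ep1, ep3], [ep1, ep1, em1, em1, ep1, em1, em1, em1, em1, em1, ep1, ep1, em1, ep1, ep1, ep1, ep1, ep1, ep1, em1, em1, em1, ep1, ep3], [ep1, ep1, em1, ep1, em1, ep1, em1, ep1, em1, em1, em1, em1, em1, ep1, em1, em1, em1, em1, em1, ep1, em1, em1, ep1, ep3], [ep1, ep1, ep1, em1, ep1, em1, ep1, ep1, em1, ep1, em1, em1, ep1, ep1, ep1, em1, em1, em1, em1, ep1, em1, em1, ep1, ep3], [ep1, ep1, em1, em1, ep1, em1, ep1, em1, em1, em1, ep1, em1, em1, em1, em1, ep1, em1, em1, em1, ep1, em1, em1, ep1, ep3], [ep1, ep1, ep1, ep1, em1, ep1, em1, em1, em1, ep1, ep1, em1, ep1, em1, ep1, ep1, em1, em1, em1, ep1, em1, em1, ep1, ep3], [ep1, ep1, ep1, em1, em1, ep1, em1, em1, ep1, ep1, em1, ep1, ep1, ep1, em1, em1, ep1, em1, em1, ep1, em1, em1, ep1, ep3], [ep1, ep1, em1, ep1, ep1, em1, ep1, em1, ep1, em1, em1, ep1, em1, ep1, ep1, em1, ep1, em1, em1, ep1, em1, em1, ep1, ep3], [ep1, ep1, ep1, ep1, ep1, em1, ep1, ep1, ep1, ep1, ep1, ep1, ep1, em1, em1, ep1, ep1, em1, em1, ep1, em1, em1, ep1,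 ep3], [ep1, ep1, em1, em1, em1, ep1, em1, ep1, ep1, em1, ep1, ep1, em1, em1, ep1, ep1, ep1, em1, em1, ep1, em1, em1, ep1, ep3], [ep1, ep1, em1, em1, ep1, ep1, em1, ep1, ep1, ep1, ep1, em1, ep1, em1, em1, em1, em1, ep1, em1, ep1, em1, em1, ep1, ep3], [ep1, ep1, ep1, ep1, em1, em1, ep1, ep1, ep1, em1, ep1, em1, em1, em1, ep1, em1, em1, ep1, em1, ep1, em1, em1, ep1, ep3], [ep1, ep1, em1, ep1, em1, em1, ep1, em1, ep1, ep1, em1, em1, ep1, ep1, em1, ep1, em1, ep1, em1, ep1, em1, em1, ep1, ep3], [ep1, ep1, ep1, em1, ep1, ep1, em1, em1, ep1, em1, em1, em1, em1, ep1, ep1, ep1, em1, ep1, em1, ep1, em1, em1, ep1, ep3], [ep1, ep1, ep1, ep1, ep1, ep1, em1, em1, em1, em1, ep1, ep1, em1, em1, em1, em1, ep1, ep1, em1, ep1, em1, em1, ep1, ep3], [ep1, ep1, em1, em1, em1, em1, ep1, em1, em1, ep1, ep1, ep1, ep1, em1, ep1, em1, ep1, ep1, em1, ep1, em1, em1, ep1, ep3]],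
    [[ep1, ep1, ep1, em1, em1, em1, ep1, ep1, em1, em1, em1, ep1, em1, ep1, em1, ep1, ep1, ep1, em1, ep1, em1, em1, ep1, ep3], [ep1, ep1, em1, ep1, ep1, ep1, em1, ep1, em1, ep1, em1, ep1, ep1, ep1, ep1, ep1, ep1, ep1, em1, ep1, em1, em1, ep1, ep3], [ep1, ep1, ep1, em1, em1, ep1, ep1, ep1, em1, em1, ep1, ep1, ep1, em1, em1, em1, em1, em1, ep1, ep1, em1, em1, ep1, ep3], [ep1, ep1, em1, ep1, ep1, em1, em1, ep1, em1, ep1, ep1, ep1, em1, em1, ep1, em1, em1, em1, ep1, ep1, em1, em1, ep1, ep3], [ep1, ep1, ep1, ep1, ep1, em1, em1, em1, em1, em1, em1, ep1, ep1, ep1, em1, ep1, em1, em1, ep1, ep1, em1, em1, ep1, ep3], [ep1, ep1, em1, em1, em1, ep1, ep1, em1, em1, ep1, em1, ep1, em1, ep1, ep1, ep1, em1, em1, ep1, ep1, em1, em1, ep1, ep3], [ep1, ep1, em1, ep1, em1, ep1, ep1, em1, ep1, ep1, ep1, em1, em1, em1, em1, em1, ep1, em1, ep1, ep1, em1, em1, ep1, ep3], [ep1, ep1, ep1, em1, ep1, em1, em1, em1, ep1, em1, ep1, em1, ep1, em1, ep1, em1, ep1, em1, ep1, ep1, em1, em1, ep1, ep3], [ep1, ep1, em1, em1, ep1, em1, em1,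 ep1, ep1, ep1, em1, em1, em1, ep1, em1, ep1, ep1, em1, ep1, ep1, em1, em1, ep1, ep3], [ep1, ep1, ep1, ep1, em1, ep1, ep1, ep1, ep1, em1, em1, em1, ep1, ep1, ep1, ep1, ep1, em1, ep1, ep1, em1, em1, ep1, ep3], [ep1, ep1, ep1, ep1, ep1, ep1, ep1, ep1, ep1, ep1, em1, ep1, em1, ep1, em1, em1, em1, ep1, ep1, ep1, em1, em1, ep1, ep3], [ep1, ep1, em1, em1, em1, em1, em1, ep1, ep1, em1, em1, ep1, ep1, ep1, ep1, em1, em1, ep1, ep1, ep1, em1, em1, ep1, ep3], [ep1, ep1, ep1, em1, em1, em1, em1, em1, ep1, ep1, ep1, ep1, em1, em1, em1, ep1, em1, ep1, ep1, ep1, em1, em1, ep1, ep3], [ep1, ep1, em1, ep1, ep1, ep1, ep1, em1, ep1, em1, ep1, ep1, ep1, em1, ep1, ep1, em1, ep1, ep1, ep1, em1, em1, ep1, ep3], [ep1, ep1, em1, em1, ep1, ep1, ep1, em1, em1, em1, em1, em1, ep1, ep1, em1, em1, ep1, ep1, ep1, ep1, em1, em1, ep1, ep3], [ep1, ep1, ep1, ep1, em1, em1, em1, em1, em1, ep1, em1, em1, em1, ep1, ep1, em1, ep1, ep1, ep1, ep1, em1, em1, ep1, ep3], [ep1, ep1, em1, ep1, em1, em1, em1, ep1, em1, em1, ep1, em1, ep1, em1, em1,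 ep1, ep1, ep1, ep1, ep1, em1, em1, ep1, ep3], [ep1, ep1, ep1, em1, ep1, ep1, ep1, ep1, em1, ep1, ep1, em1, em1, em1, ep1, ep1, ep1, ep1, ep1, ep1, em1, em1, ep1, ep3], [ep1, ep1, em1, ep1, ep1, ep1, ep1, ep1, ep1, em1, ep1, ep1, em1, em1, em1, em1, em1, em1, em1, em1, ep1, em1, ep1, ep3], [ep1, ep1, ep1, em1, em1, em1, em1, ep1, ep1, ep1, ep1, ep1, ep1, em1, ep1, em1, em1, em1, em1, em1, ep1, em1, ep1, ep3], [ep1, ep1, em1, em1, em1, em1, em1, em1, ep1, em1, em1, ep1, em1, ep1, em1, ep1, em1, em1, em1, em1, ep1, em1, ep1, ep3], [ep1, ep1, ep1, ep1, ep1, ep1, ep1, em1, ep1, ep1, em1, ep1, ep1, ep1, ep1, ep1, em1, em1, em1, em1, ep1, em1, ep1, ep3], [ep1, ep1, ep1, em1, ep1, ep1, ep1, em1, em1, ep1, ep1, em1, ep1, em1, em1, em1, ep1, em1, em1, em1, ep1, em1, ep1, ep3], [ep1, ep1, em1, ep1, em1, em1, em1, em1, em1, em1, ep1, em1, em1, em1, ep1, em1, ep1, em1, em1, em1, ep1, em1, ep1, ep3], [ep1, ep1, ep1, ep1, em1, em1, em1, ep1, em1, ep1, em1, em1, ep1, ep1, em1, ep1, ep1, em1, em1, em1, ep1, em1, ep1,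 ep3], [ep1, ep1, em1, em1, ep1, ep1, ep1, ep1, em1, em1, em1, em1, em1, ep1, ep1, ep1, ep1, em1, em1, em1, ep1, em1, ep1, ep3], [ep1, ep1, em1, em1, em1, ep1, ep1, ep1, em1, ep1, em1, ep1, ep1, ep1, em1, em1, em1, ep1, em1, em1, ep1, em1, ep1, ep3], [ep1, ep1, ep1, ep1, ep1, em1, em1, ep1, em1, em1, em1, ep1, em1, ep1, ep1, em1, em1, ep1, em1, em1, ep1, em1, ep1, ep3], [ep1, ep1, em1, ep1, ep1, em1, em1, em1, em1, ep1, ep1, ep1, ep1, em1, em1, ep1, em1, ep1, em1, em1, ep1, em1, ep1, ep3], [ep1, ep1, ep1, em1, em1, ep1, ep1, em1, em1, em1, ep1, ep1, em1, em1, ep1, ep1, em1, ep1, em1, em1, ep1, em1, ep1, ep3], [ep1, ep1, ep1, ep1, em1, ep1, ep1, em1, ep1, em1, em1, em1, em1, ep1, em1, em1, ep1, ep1, em1, em1, ep1, em1, ep1, ep3], [ep1, ep1, em1, em1, ep1, em1, em1, em1, ep1, ep1, em1, em1, ep1, ep1, ep1, em1, ep1, ep1, em1, em1, ep1, em1, ep1, ep3]],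
    [[ep1, ep1, ep1, em1, ep1, em1, em1, ep1, ep1, em1, ep1, em1, em1, em1, em1, ep1, ep1, ep1, em1, em1, ep1, em1, ep1, ep3], [ep1, ep1, em1, ep1, em1, ep1, ep1, ep1, ep1, ep1, ep1, em1, ep1, em1, ep1, ep1, ep1, ep1, em1, em1, ep1, em1, ep1, ep3], [ep1, ep1, ep1, em1, ep1, ep1, em1, ep1, ep1, em1, em1, em1, ep1, ep1, em1, em1, em1, em1, ep1, em1, ep1, em1, ep1, ep3], [ep1, ep1, em1, ep1, em1, em1, ep1, ep1, ep1, ep1, em1, em1, em1, ep1, ep1, em1, em1, em1, ep1, em1, ep1, em1, ep1, ep3], [ep1, ep1, ep1, ep1, em1, em1, ep1, em1, ep1, em1, ep1, em1, ep1, em1, em1, ep1, em1, em1, ep1, em1, ep1, em1, ep1, ep3], [ep1, ep1, em1, em1, ep1, ep1, em1, em1, ep1, ep1, ep1, em1, em1, em1, ep1, ep1, em1, em1, ep1, em1, ep1, em1, ep1, ep3], [ep1, ep1, em1, ep1, ep1, ep1, em1, em1, em1, ep1, em1, ep1, em1, ep1, em1, em1, ep1, em1, ep1, em1, ep1, em1, ep1, ep3], [ep1, ep1, ep1, em1, em1, em1, ep1, em1, em1, em1, em1, ep1, ep1, ep1, ep1, em1, ep1, em1, ep1, em1, ep1, em1, ep1, ep3], [ep1, ep1, em1, em1, em1, em1, ep1,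 ep1, em1, ep1, ep1, ep1, em1, em1, em1, ep1, ep1, em1, ep1, em1, ep1, em1, ep1, ep3], [ep1, ep1, ep1, ep1, ep1, ep1, em1, ep1, em1, em1, ep1, ep1, ep1, em1, ep1, ep1, ep1, em1, ep1, em1, ep1, em1, ep1, ep3], [ep1, ep1, ep1, ep1, em1, ep1, em1, ep1, em1, ep1, ep1, em1, em1, em1, em1, em1, em1, ep1, ep1, em1, ep1, em1, ep1, ep3], [ep1, ep1, em1, em1, ep1, em1, ep1, ep1, em1, em1, ep1, em1, ep1, em1, ep1, em1, em1, ep1, ep1, em1, ep1, em1, ep1, ep3], [ep1, ep1, ep1, em1, ep1, em1, ep1, em1, em1, ep1, em1, em1, em1, ep1, em1, ep1, em1, ep1, ep1, em1, ep1, em1, ep1, ep3], [ep1, ep1, em1, ep1, em1, ep1, em1, em1, em1, em1, em1, em1, ep1, ep1, ep1, ep1, em1, ep1, ep1, em1, ep1, em1, ep1, ep3], [ep1, ep1, em1, em1, em1, ep1, em1, em1, ep1, em1, ep1, ep1, ep1, em1, em1, em1, ep1, ep1, ep1, em1, ep1, em1, ep1, ep3], [ep1, ep1, ep1, ep1, ep1, em1, ep1, em1, ep1, ep1, ep1, ep1, em1, em1, ep1, em1, ep1, ep1, ep1, em1, ep1, em1, ep1, ep3], [ep1, ep1, em1, ep1, ep1, em1, ep1, ep1, ep1, em1, em1, ep1, ep1, ep1, em1,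 ep1, ep1, ep1, ep1, em1, ep1, em1, ep1, ep3], [ep1, ep1, ep1, em1, em1, ep1, em1, ep1, ep1, ep1, em1, ep1, em1, ep1, ep1, ep1, ep1, ep1, ep1, em1, ep1, em1, ep1, ep3], [ep1, ep1, ep1, ep1, ep1, em1, em1, em1, ep1, ep1, ep1, em1, em1, ep1, em1, em1, em1, em1, em1, ep1, ep1, em1, ep1, ep3], [ep1, ep1, em1, em1, em1, ep1, ep1, em1, ep1, em1, ep1, em1, ep1, ep1, ep1, em1, em1, em1, em1, ep1, ep1, em1, ep1, ep3], [ep1, ep1, ep1, em1, em1, ep1, ep1, ep1, ep1, ep1, em1, em1, em1, em1, em1, ep1, em1, em1, em1, ep1, ep1, em1, ep1, ep3], [ep1, ep1, em1, ep1, ep1, em1, em1, ep1, ep1, em1, em1, em1, ep1, em1, ep1, ep1, em1, em1, em1, ep1, ep1, em1, ep1, ep3], [ep1, ep1, em1, em1, ep1, em1, em1, ep1, em1, em1, ep1, ep1, ep1, ep1, em1, em1, ep1, em1, em1, ep1, ep1, em1, ep1, ep3], [ep1, ep1, ep1, ep1, em1, ep1, ep1, ep1, em1, ep1, ep1, ep1, em1, ep1, ep1, em1, ep1, em1, em1, ep1, ep1, em1, ep1, ep3], [ep1, ep1, em1, ep1, em1, ep1, ep1, em1, em1, em1, em1, ep1, ep1, em1, em1, ep1, ep1, em1, em1, ep1, ep1, em1, ep1,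 ep3], [ep1, ep1, ep1, em1, ep1, em1, em1, em1, em1, ep1, em1, ep1, em1, em1, ep1, ep1, ep1, em1, em1, ep1, ep1, em1, ep1, ep3], [ep1, ep1, ep1, em1, em1, em1, em1, em1, em1, em1, em1, em1, ep1, em1, em1, em1, em1, ep1, em1, ep1, ep1, em1, ep1, ep3], [ep1, ep1, em1, ep1, ep1, ep1, ep1, em1, em1, ep1, em1, em1, em1, em1, ep1, em1, em1, ep1, em1, ep1, ep1, em1, ep1, ep3], [ep1, ep1, ep1, ep1, ep1, ep1, ep1, ep1, em1, em1, ep1, em1, ep1, ep1, em1, ep1, em1, ep1, em1, ep1, ep1, em1, ep1, ep3], [ep1, ep1, em1, em1, em1, em1, em1, ep1, em1, ep1, ep1, em1, em1, ep1, ep1, ep1, em1, ep1, em1, ep1, ep1, em1, ep1, ep3], [ep1, ep1, em1, ep1, em1, em1, em1, ep1, ep1, ep1, em1, ep1, em1, em1, em1, em1, ep1, ep1, em1, ep1, ep1, em1, ep1, ep3], [ep1, ep1, ep1, em1, ep1, ep1, ep1, ep1, ep1, em1, em1, ep1, ep1, em1, ep1, em1, ep1, ep1, em1, ep1, ep1, em1, ep1, ep3]],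
    [[ep1, ep1, em1, em1, ep1, ep1, ep1, em1, ep1, ep1, ep1, ep1, em1, ep1, em1, ep1, ep1, ep1, em1, ep1, ep1, em1, ep1, ep3], [ep1, ep1, ep1, ep1, em1, em1, em1, em1, ep1, em1, ep1, ep1, ep1, ep1, ep1, ep1, ep1, ep1, em1, ep1, ep1, em1, ep1, ep3], [ep1, ep1, em1, em1, ep1, em1, ep1, em1, ep1, ep1, em1, ep1, ep1, em1, em1, em1, em1, em1, ep1, ep1, ep1, em1, ep1, ep3], [ep1, ep1, ep1, ep1, em1, ep1, em1, em1, ep1, em1, em1, ep1, em1, em1, ep1, em1, em1, em1, ep1, ep1, ep1, em1, ep1, ep3], [ep1, ep1, em1, ep1, em1, ep1, em1, ep1, ep1, ep1, ep1, ep1, ep1, ep1, em1, ep1, em1, em1, ep1, ep1, ep1, em1, ep1, ep3], [ep1, ep1, ep1, em1, ep1, em1, ep1, ep1, ep1, em1, ep1, ep1, em1, ep1, ep1, ep1, em1, em1, ep1, ep1, ep1, em1, ep1, ep3], [ep1, ep1, ep1, ep1, ep1, em1, ep1, ep1, em1, em1, em1, em1, em1, em1, em1, em1, ep1, em1, ep1, ep1, ep1, em1, ep1, ep3], [ep1, ep1, em1, em1, em1, ep1, em1, ep1, em1, ep1, em1, em1, ep1, em1, ep1, em1, ep1, em1, ep1, ep1, ep1, em1, ep1, ep3], [ep1, ep1, ep1, em1, em1, ep1, em1,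 em1, em1, em1, ep1, em1, em1, ep1, em1, ep1, ep1, em1, ep1, ep1, ep1, em1, ep1, ep3], [ep1, ep1, em1, ep1, ep1, em1, ep1, em1, em1, ep1, ep1, em1, ep1, ep1, ep1, ep1, ep1, em1, ep1, ep1, ep1, em1, ep1, ep3], [ep1, ep1, em1, ep1, em1, em1, ep1, em1, em1, em1, ep1, ep1, em1, ep1, em1, em1, em1, ep1, ep1, ep1, ep1, em1, ep1, ep3], [ep1, ep1, ep1, em1, ep1, ep1, em1, em1, em1, ep1, ep1, ep1, ep1, ep1, ep1, em1, em1, ep1, ep1, ep1, ep1, em1, ep1, ep3], [ep1, ep1, em1, em1, ep1, ep1, em1, ep1, em1, em1, em1, ep1, em1, em1, em1, ep1, em1, ep1, ep1, ep1, ep1, em1, ep1, ep3], [ep1, ep1, ep1, ep1, em1, em1, ep1, ep1, em1, ep1, em1, ep1, ep1, em1, ep1, ep1, em1, ep1, ep1, ep1, ep1, em1, ep1, ep3], [ep1, ep1, ep1, em1, em1, em1, ep1, ep1, ep1, ep1, ep1, em1, ep1, ep1, em1, em1, ep1, ep1, ep1, ep1, ep1, em1, ep1, ep3], [ep1, ep1, em1, ep1, ep1, ep1, em1, ep1, ep1, em1, ep1, em1, em1, ep1, ep1, em1, ep1, ep1, ep1, ep1, ep1, em1, ep1, ep3], [ep1, ep1, ep1, ep1, ep1, ep1, em1, em1, ep1, ep1, em1, em1, ep1, em1, em1,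 ep1, ep1, ep1, ep1, ep1, ep1, em1, ep1, ep3], [ep1, ep1, em1, em1, em1, em1, ep1, em1, ep1, em1, em1, em1, em1, em1, ep1, ep1, ep1, ep1, ep1, ep1, ep1, em1, ep1, ep3], [ep1, ep1, ep1, em1, em1, ep1, em1, em1, ep1, em1, ep1, em1, em1, em1, em1, em1, em1, em1, em1, em1, em1, ep1, ep1, ep3], [ep1, ep1, em1, ep1, ep1, em1, ep1, em1, ep1, ep1, ep1, em1, ep1, em1, ep1, em1, em1, em1, em1, em1, em1, ep1, ep1, ep3], [ep1, ep1, ep1, ep1, ep1, em1, ep1, ep1, ep1, em1, em1, em1, em1, ep1, em1, ep1, em1, em1, em1, em1, em1, ep1, ep1, ep3], [ep1, ep1, em1, em1, em1, ep1, em1, ep1, ep1, ep1, em1, em1, ep1, ep1, ep1, ep1, em1, em1, em1, em1, em1, ep1, ep1, ep3], [ep1, ep1, em1, ep1, em1, ep1, em1, ep1, em1, ep1, ep1, ep1, ep1, em1, em1, em1, ep1, em1, em1, em1, em1, ep1, ep1, ep3], [ep1, ep1, ep1, em1, ep1, em1, ep1, ep1, em1, em1, ep1, ep1, em1, em1, ep1, em1, ep1, em1, em1, em1, em1, ep1, ep1, ep3], [ep1, ep1, em1, em1, ep1, em1, ep1, em1, em1, ep1, em1, ep1, ep1, ep1, em1, ep1, ep1, em1, em1, em1, em1, ep1, ep1,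 ep3], [ep1, ep1, ep1, ep1, em1, ep1, em1, em1, em1, em1, em1, ep1, em1, ep1, ep1, ep1, ep1, em1, em1, em1, em1, ep1, ep1, ep3], [ep1, ep1, ep1, ep1, ep1, ep1, em1, em1, em1, ep1, em1, em1, ep1, ep1, em1, em1, em1, ep1, em1, em1, em1, ep1, ep1, ep3], [ep1, ep1, em1, em1, em1, em1, ep1, em1, em1, em1, em1, em1, em1, ep1, ep1, em1, em1, ep1, em1, em1, em1, ep1, ep1, ep3], [ep1, ep1, ep1, em1, em1, em1, ep1, ep1, em1, ep1, ep1, em1, ep1, em1, em1, ep1, em1, ep1, em1, em1, em1, ep1, ep1, ep3], [ep1, ep1, em1, ep1, ep1, ep1, em1, ep1, em1, em1, ep1, em1, em1, em1, ep1, ep1, em1, ep1, em1, em1, em1, ep1, ep1, ep3], [ep1, ep1, em1, em1, ep1, ep1, em1, ep1, ep1, em1, em1, ep1, em1, ep1, em1, em1, ep1, ep1, em1, em1, em1, ep1, ep1, ep3], [ep1, ep1, ep1, ep1, em1, em1, ep1, ep1, ep1, ep1, em1, ep1, ep1, ep1, ep1, em1, ep1, ep1, em1, em1, em1, ep1, ep1, ep3]],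
    [[ep1, ep1, em1, ep1, em1, em1, ep1, em1, ep1, em1, ep1, ep1, em1, em1, em1, ep1, ep1, ep1, em1, em1, em1, ep1, ep1, ep3], [ep1, ep1, ep1, em1, ep1, ep1, em1, em1, ep1, ep1, ep1, ep1, ep1, em1, ep1, ep1, ep1, ep1, em1, em1, em1, ep1, ep1, ep3], [ep1, ep1, em1, ep1, em1, ep1, ep1, em1, ep1, em1, em1, ep1, ep1, ep1, em1, em1, em1, em1, ep1, em1, em1, ep1, ep1, ep3], [ep1, ep1, ep1, em1, ep1, em1, em1, em1, ep1, ep1, em1, ep1, em1, ep1, ep1, em1, em1, em1, ep1, em1, em1, ep1, ep1, ep3], [ep1, ep1, em1, em1, ep1, em1, em1, ep1, ep1, em1, ep1, ep1, ep1, em1, em1, ep1, em1, em1, ep1, em1, em1, ep1, ep1, ep3], [ep1, ep1, ep1, ep1, em1, ep1, ep1, ep1, ep1, ep1, ep1, ep1, em1, em1, ep1, ep1, em1, em1, ep1, em1, em1, ep1, ep1, ep3], [ep1, ep1, ep1, em1, em1, ep1, ep1, ep1, em1, ep1, em1, em1, em1, ep1, em1, em1, ep1, em1, ep1, em1, em1, ep1, ep1, ep3], [ep1, ep1, em1, ep1, ep1, em1, em1, ep1, em1, em1, em1, em1, ep1, ep1, ep1, em1, ep1, em1, ep1, em1, em1, ep1, ep1, ep3], [ep1, ep1, ep1, ep1, ep1, em1, em1,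 em1, em1, ep1, ep1, em1, em1, em1, em1, ep1, ep1, em1, ep1, em1, em1, ep1, ep1, ep3], [ep1, ep1, em1, em1, em1, ep1, ep1, em1, em1, em1, ep1, em1, ep1, em1, ep1, ep1, ep1, em1, ep1, em1, em1, ep1, ep1, ep3], [ep1, ep1, em1, em1, ep1, ep1, ep1, em1, em1, ep1, ep1, ep1, em1, em1, em1, em1, em1, ep1, ep1, em1, em1, ep1, ep1, ep3], [ep1, ep1, ep1, ep1, em1, em1, em1, em1, em1, em1, ep1, ep1, ep1, em1, ep1, em1, em1, ep1, ep1, em1, em1, ep1, ep1, ep3], [ep1, ep1, em1, ep1, em1, em1, em1, ep1, em1, ep1, em1, ep1, em1, ep1, em1, ep1, em1, ep1, ep1, em1, em1, ep1, ep1, ep3], [ep1, ep1, ep1, em1, ep1, ep1, ep1, ep1, em1, em1, em1, ep1, ep1, ep1, ep1, ep1, em1, ep1, ep1, em1, em1, ep1, ep1, ep3], [ep1, ep1, ep1, ep1, ep1, ep1, ep1, ep1, ep1, em1, ep1, em1, ep1, em1, em1, em1, ep1, ep1, ep1, em1, em1, ep1, ep1, ep3], [ep1, ep1, em1, em1, em1, em1, em1, ep1, ep1, ep1, ep1, em1, em1, em1, ep1, em1, ep1, ep1, ep1, em1, em1, ep1, ep1, ep3], [ep1, ep1, ep1, em1, em1, em1, em1, em1, ep1, em1, em1, em1, ep1, ep1, em1,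 ep1, ep1, ep1, ep1, em1, em1, ep1, ep1, ep3], [ep1, ep1, em1, ep1, ep1, ep1, ep1, em1, ep1, ep1, em1, em1, em1, ep1, ep1, ep1, ep1, ep1, ep1, em1, em1, ep1, ep1, ep3], [ep1, ep1, em1, em1, em1, em1, ep1, ep1, ep1, ep1, ep1, ep1, em1, ep1, em1, em1, em1, em1, em1, ep1, em1, ep1, ep1, ep3], [ep1, ep1, ep1, ep1, ep1, ep1, em1, ep1, ep1, em1, ep1, ep1, ep1, ep1, ep1, em1, em1, em1, em1, ep1, em1, ep1, ep1, ep3], [ep1, ep1, em1, ep1, ep1, ep1, em1, em1, ep1, ep1, em1, ep1, em1, em1, em1, ep1, em1, em1, em1, ep1, em1, ep1, ep1, ep3], [ep1, ep1, ep1, em1, em1, em1, ep1, em1, ep1, em1, em1, ep1, ep1, em1, ep1, ep1, em1, em1, em1, ep1, em1, ep1, ep1, ep3], [ep1, ep1, ep1, ep1, em1, em1, ep1, em1, em1, em1, ep1, em1, ep1, ep1, em1, em1, ep1, em1, em1, ep1, em1, ep1, ep1, ep3], [ep1, ep1, em1, em1, ep1, ep1, em1, em1, em1, ep1, ep1, em1, em1, ep1, ep1, em1, ep1, em1, em1, ep1, em1, ep1, ep1, ep3], [ep1, ep1, ep1, em1, ep1, ep1, em1, ep1, em1, em1, em1, em1, ep1, em1, em1, ep1, ep1, em1, em1, ep1, em1, ep1, ep1,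 ep3], [ep1, ep1, em1, ep1, em1, em1, ep1, ep1, em1, ep1, em1, em1, em1, em1, ep1, ep1, ep1, em1, em1, ep1, em1, ep1, ep1, ep3], [ep1, ep1, em1, ep1, ep1, em1, ep1, ep1, em1, em1, em1, ep1, ep1, em1, em1, em1, em1, ep1, em1, ep1, em1, ep1, ep1, ep3], [ep1, ep1, ep1, em1, em1, ep1, em1, ep1, em1, ep1, em1, ep1, em1, em1, ep1, em1, em1, ep1, em1, ep1, em1, ep1, ep1, ep3], [ep1, ep1, em1, em1, em1, ep1, em1, em1, em1, em1, ep1, ep1, ep1, ep1, em1, ep1, em1, ep1, em1, ep1, em1, ep1, ep1, ep3], [ep1, ep1, ep1, ep1, ep1, em1, ep1, em1, em1, ep1, ep1, ep1, em1, ep1, ep1, ep1, em1, ep1, em1, ep1, em1, ep1, ep1, ep3], [ep1, ep1, ep1, em1, ep1, em1, ep1, em1, ep1, ep1, em1, em1, em1, em1, em1, em1, ep1, ep1, em1, ep1, em1, ep1, ep1, ep3], [ep1, ep1, em1, ep1, em1, ep1, em1, em1, ep1, em1, em1, em1, ep1, em1, ep1, em1, ep1, ep1, em1, ep1, em1, ep1, ep1, ep3]],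
    [[ep1, ep1, ep1, ep1, em1, ep1, em1, ep1, ep1, ep1, ep1, em1, em1, ep1, em1, ep1, ep1, ep1, em1, ep1, em1, ep1, ep1, ep3], [ep1, ep1, em1, em1, ep1, em1, ep1, ep1, ep1, em1, ep1, em1, ep1, ep1, ep1, ep1, ep1, ep1, em1, ep1, em1, ep1, ep1, ep3], [ep1, ep1, ep1, ep1, em1, em1, em1, ep1, ep1, ep1, em1, em1, ep1, em1, em1, em1, em1, em1, ep1, ep1, em1, ep1, ep1, ep3], [ep1, ep1, em1, em1, ep1, ep1, ep1, ep1, ep1, em1, em1, em1, em1, em1, ep1, em1, em1, em1, ep1, ep1, em1, ep1, ep1, ep3], [ep1, ep1, ep1, em1, ep1, ep1, ep1, em1, ep1, ep1, ep1, em1, ep1, ep1, em1, ep1, em1, em1, ep1, ep1, em1, ep1, ep1, ep3], [ep1, ep1, em1, ep1, em1, em1, em1, em1, ep1, em1, ep1, em1, em1, ep1, ep1, ep1, em1, em1, ep1, ep1, em1, ep1, ep1, ep3], [ep1, ep1, em1, em1, em1, em1, em1, em1, em1, em1, em1, ep1, em1, em1, em1, em1, ep1, em1, ep1, ep1, em1, ep1, ep1, ep3], [ep1, ep1, ep1, ep1, ep1, ep1, ep1, em1, em1, ep1, em1, ep1, ep1, em1, ep1, em1, ep1, em1, ep1, ep1, em1, ep1, ep1, ep3], [ep1, ep1, em1, ep1, ep1, ep1, ep1,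 ep1, em1, em1, ep1, ep1, em1, ep1, em1, ep1, ep1, em1, ep1, ep1, em1, ep1, ep1, ep3], [ep1, ep1, ep1, em1, em1, em1, em1, ep1, em1, ep1, ep1, ep1, ep1, ep1, ep1, ep1, ep1, em1, ep1, ep1, em1, ep1, ep1, ep3], [ep1, ep1, ep1, em1, ep1, em1, em1, ep1, em1, em1, ep1, em1, em1, ep1, em1, em1, em1, ep1, ep1, ep1, em1, ep1, ep1, ep3], [ep1, ep1, em1, ep1, em1, ep1, ep1, ep1, em1, ep1, ep1, em1, ep1, ep1, ep1, em1, em1, ep1, ep1, ep1, em1, ep1, ep1, ep3], [ep1, ep1, ep1, ep1, em1, ep1, ep1, em1, em1, em1, em1, em1, em1, em1, em1, ep1, em1, ep1, ep1, ep1, em1, ep1, ep1, ep3], [ep1, ep1, em1, em1, ep1, em1, em1, em1, em1, ep1, em1, em1, ep1, em1, ep1, ep1, em1, ep1, ep1, ep1, em1, ep1, ep1, ep3], [ep1, ep1, em1, ep1, ep1, em1, em1, em1, ep1, ep1, ep1, ep1, ep1, ep1, em1, em1, ep1, ep1, ep1, ep1, em1, ep1, ep1, ep3], [ep1, ep1, ep1, em1, em1, ep1, ep1, em1, ep1, em1, ep1, ep1, em1, ep1, ep1, em1, ep1, ep1, ep1, ep1, em1, ep1, ep1, ep3], [ep1, ep1, em1, em1, em1, ep1, ep1, ep1, ep1, ep1, em1, ep1, ep1, em1, em1,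 ep1, ep1, ep1, ep1, ep1, em1, ep1, ep1, ep3], [ep1, ep1, ep1, ep1, ep1, em1, em1, ep1, ep1, em1, em1, ep1, em1, em1, ep1, ep1, ep1, ep1, ep1, ep1, em1, ep1, ep1, ep3], [ep1, ep1, em1, em1, ep1, em1, em1, ep1, em1, ep1, em1, em1, em1, em1, em1, em1, em1, em1, em1, em1, ep1, ep1, ep1, ep3], [ep1, ep1, ep1, ep1, em1, ep1, ep1, ep1, em1, em1, em1, em1, ep1, em1, ep1, em1, em1, em1, em1, em1, ep1, ep1, ep1, ep3], [ep1, ep1, em1, ep1, em1, ep1, ep1, em1, em1, ep1, ep1, em1, em1, ep1, em1, ep1, em1, em1, em1, em1, ep1, ep1, ep1, ep3], [ep1, ep1, ep1, em1, ep1, em1, em1, em1, em1, em1, ep1, em1, ep1, ep1, ep1, ep1, em1, em1, em1, em1, ep1, ep1, ep1, ep3], [ep1, ep1, ep1, ep1, ep1, em1, em1, em1, ep1, em1, em1, ep1, ep1, em1, em1, em1, ep1, em1, em1, em1, ep1, ep1, ep1, ep3], [ep1, ep1, em1, em1, em1, ep1, ep1, em1, ep1, ep1, em1, ep1, em1, em1, ep1, em1, ep1, em1, em1, em1, ep1, ep1, ep1, ep3], [ep1, ep1, ep1, em1, em1, ep1, ep1, ep1, ep1, em1, ep1, ep1, ep1, ep1, em1, ep1, ep1, em1, em1, em1, ep1, ep1, ep1,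 ep3], [ep1, ep1, em1, ep1, ep1, em1, em1, ep1, ep1, ep1, ep1, ep1, em1, ep1, ep1, ep1, ep1, em1, em1, em1, ep1, ep1, ep1, ep3], [ep1, ep1, em1, ep1, em1, em1, em1, ep1, ep1, em1, ep1, em1, ep1, ep1, em1, em1, em1, ep1, em1, em1, ep1, ep1, ep1, ep3], [ep1, ep1, ep1, em1, ep1, ep1, ep1, ep1, ep1, ep1, ep1, em1, em1, ep1, ep1, em1, em1, ep1, em1, em1, ep1, ep1, ep1, ep3], [ep1, ep1, em1, em1, ep1, ep1, ep1, em1, ep1, em1, em1, em1, ep1, em1, em1, ep1, em1, ep1, em1, em1, ep1, ep1, ep1, ep3], [ep1, ep1, ep1, ep1, em1, em1, em1, em1, ep1, ep1, em1, em1, em1, em1, ep1, ep1, em1, ep1, em1, em1, ep1, ep1, ep1, ep3], [ep1, ep1, ep1, em1, em1, em1, em1, em1, em1, ep1, ep1, ep1, em1, ep1, em1, em1, ep1, ep1, em1, em1, ep1, ep1, ep1, ep3], [ep1, ep1, em1, ep1, ep1, ep1, ep1, em1, em1, em1, ep1, ep1, ep1, ep1, ep1, em1, ep1, ep1, em1, em1, ep1, ep1, ep1, ep3]],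
    [[ep1, ep1, ep1, ep1, ep1, ep1, ep1, ep1, em1, ep1, em1, ep1, em1, em1, em1, ep1, ep1, ep1, em1, em1, ep1, ep1, ep1, ep3], [ep1, ep1, em1, em1, em1, em1, em1, ep1, em1, em1, em1, ep1, ep1, em1, ep1, ep1, ep1, ep1, em1, em1, ep1, ep1, ep1, ep3], [ep1, ep1, ep1, ep1, ep1, em1, ep1, ep1, em1, ep1, ep1, ep1, ep1, ep1, em1, em1, em1, em1, ep1, em1, ep1, ep1, ep1, ep3], [ep1, ep1, em1, em1, em1, ep1, em1, ep1, em1, em1, ep1, ep1, em1, ep1, ep1, em1, em1, em1, ep1, em1, ep1, ep1, ep1, ep3], [ep1, ep1, ep1, em1, em1, ep1, em1, em1, em1, ep1, em1, ep1, ep1, em1, em1, ep1, em1, em1, ep1, em1, ep1, ep1, ep1, ep3], [ep1, ep1, em1, ep1, ep1, em1, ep1, em1, em1, em1, em1, ep1, em1, em1, ep1, ep1, em1, em1, ep1, em1, ep1, ep1, ep1, ep3], [ep1, ep1, em1, em1, ep1, em1, ep1, em1, ep1, em1, ep1, em1, em1, ep1, em1, em1, ep1, em1, ep1, em1, ep1, ep1, ep1, ep3], [ep1, ep1, ep1, ep1, em1, ep1, em1, em1, ep1, ep1, ep1, em1, ep1, ep1, ep1, em1, ep1, em1, ep1, em1, ep1, ep1, ep1, ep3], [ep1, ep1, em1, ep1, em1, ep1, em1,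 ep1, ep1, em1, em1, em1, em1, em1, em1, ep1, ep1, em1, ep1, em1, ep1, ep1, ep1, ep3], [ep1, ep1, ep1, em1, ep1, em1, ep1, ep1, ep1, ep1, em1, em1, ep1, em1, ep1, ep1, ep1, em1, ep1, em1, ep1, ep1, ep1, ep3], [ep1, ep1, ep1, em1, em1, em1, ep1, ep1, ep1, em1, em1, ep1, em1, em1, em1, em1, em1, ep1, ep1, em1, ep1, ep1, ep1, ep3], [ep1, ep1, em1, ep1, ep1, ep1, em1, ep1, ep1, ep1, em1, ep1, ep1, em1, ep1, em1, em1, ep1, ep1, em1, ep1, ep1, ep1, ep3], [ep1, ep1, ep1, ep1, ep1, ep1, em1, em1, ep1, em1, ep1, ep1, em1, ep1, em1, ep1, em1, ep1, ep1, em1, ep1, ep1, ep1, ep3], [ep1, ep1, em1, em1, em1, em1, ep1, em1, ep1, ep1, ep1, ep1, ep1, ep1, ep1, ep1, em1, ep1, ep1, em1, ep1, ep1, ep1, ep3], [ep1, ep1, em1, ep1, em1, em1, ep1, em1, em1, ep1, em1, em1, ep1, em1, em1, em1, ep1, ep1, ep1, em1, ep1, ep1, ep1, ep3], [ep1, ep1, ep1, em1, ep1, ep1, em1, em1, em1, em1, em1, em1, em1, em1, ep1, em1, ep1, ep1, ep1, em1, ep1, ep1, ep1, ep3], [ep1, ep1, em1, em1, ep1, ep1, em1, ep1, em1, ep1, ep1, em1, ep1, ep1, em1,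 ep1, ep1, ep1, ep1, em1, ep1, ep1, ep1, ep3], [ep1, ep1, ep1, ep1, em1, em1, ep1, ep1, em1, em1, ep1, em1, em1, ep1, ep1, ep1, ep1, ep1, ep1, em1, ep1, ep1, ep1, ep3], [ep1, ep1, ep1, em1, ep1, ep1, ep1, em1, em1, em1, em1, ep1, em1, ep1, em1, em1, em1, em1, em1, ep1, ep1, ep1, ep1, ep3], [ep1, ep1, em1, ep1, em1, em1, em1, em1, em1, ep1, em1, ep1, ep1, ep1, ep1, em1, em1, em1, em1, ep1, ep1, ep1, ep1, ep3], [ep1, ep1, ep1, ep1, em1, em1, em1, ep1, em1, em1, ep1, ep1, em1, em1, em1, ep1, em1, em1, em1, ep1, ep1, ep1, ep1, ep3], [ep1, ep1, em1, em1, ep1, ep1, ep1, ep1, em1, ep1, ep1, ep1, ep1, em1, ep1, ep1, em1, em1, em1, ep1, ep1, ep1, ep1, ep3], [ep1, ep1, em1, ep1, ep1, ep1, ep1, ep1, ep1, ep1, em1, em1, ep1, ep1, em1, em1, ep1, em1, em1, ep1, ep1, ep1, ep1, ep3], [ep1, ep1, ep1, em1, em1, em1, em1, ep1, ep1, em1, em1, em1, em1, ep1, ep1, em1, ep1, em1, em1, ep1, ep1, ep1, ep1, ep3], [ep1, ep1, em1, em1, em1, em1, em1, em1, ep1, ep1, ep1, em1, ep1, em1, em1, ep1, ep1, em1, em1, ep1, ep1, ep1, ep1,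 ep3], [ep1, ep1, ep1, ep1, ep1, ep1, ep1, em1, ep1, em1, ep1, em1, em1, em1, ep1, ep1, ep1, em1, em1, ep1, ep1, ep1, ep1, ep3], [ep1, ep1, ep1, ep1, em1, ep1, ep1, em1, ep1, ep1, ep1, ep1, ep1, em1, em1, em1, em1, ep1, em1, ep1, ep1, ep1, ep1, ep3], [ep1, ep1, em1, em1, ep1, em1, em1, em1, ep1, em1, ep1, ep1, em1, em1, ep1, em1, em1, ep1, em1, ep1, ep1, ep1, ep1, ep3], [ep1, ep1, ep1, em1, ep1, em1, em1, ep1, ep1, ep1, em1, ep1, ep1, ep1, em1, ep1, em1, ep1, em1, ep1, ep1, ep1, ep1, ep3], [ep1, ep1, em1, ep1, em1, ep1, ep1, ep1, ep1, em1, em1, ep1, em1, ep1, ep1, ep1, em1, ep1, em1, ep1, ep1, ep1, ep1, ep3], [ep1, ep1, em1, em1, em1, ep1, ep1, ep1, em1, em1, ep1, em1, em1, em1, em1, em1, ep1, ep1, em1, ep1, ep1, ep1, ep1, ep3], [ep1, ep1, ep1, ep1, ep1, em1, em1, ep1, em1, ep1, ep1, em1, ep1, em1, ep1, em1, ep1, ep1, em1, ep1, ep1, ep1, ep1, ep3]],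
    [[ep1, ep1, em1, ep1, ep1, em1, em1, em1, em1, em1, em1, em1, em1, ep1, em1, ep1, ep1, ep1, em1, ep1, ep1, ep1, ep1, ep3], [ep1, ep1, ep1, em1, em1, ep1, ep1, em1, em1, ep1, em1, em1, ep1, ep1, ep1, ep1, ep1, ep1, em1, ep1, ep1, ep1, ep1, ep3], [ep1, ep1, em1, ep1, ep1, ep1, em1, em1, em1, em1, ep1, em1, ep1, em1, em1, em1, em1, em1, ep1, ep1, ep1, ep1, ep1, ep3], [ep1, ep1, ep1, em1, em1, em1, ep1, em1, em1, ep1, ep1, em1, em1, em1, ep1, em1, em1, em1, ep1, ep1, ep1, ep1, ep1, ep3], [ep1, ep1, em1, em1, em1, em1, ep1, ep1, em1, em1, em1, em1, ep1, ep1, em1, ep1, em1, em1, ep1, ep1, ep1, ep1, ep1, ep3], [ep1, ep1, ep1, ep1, ep1, ep1, em1, ep1, em1, ep1, em1, em1, em1, ep1, ep1, ep1, em1, em1, ep1, ep1, ep1, ep1, ep1, ep3], [ep1, ep1, ep1, em1, ep1, ep1, em1, ep1, ep1, ep1, ep1, ep1, em1, em1, em1, em1, ep1, em1, ep1, ep1, ep1, ep1, ep1, ep3], [ep1, ep1, em1, ep1, em1, em1, ep1, ep1, ep1, em1, ep1, ep1, ep1, em1, ep1, em1, ep1, em1, ep1, ep1, ep1, ep1, ep1, ep3], [ep1, ep1, ep1, ep1, em1, em1, ep1,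 em1, ep1, ep1, em1, ep1, em1, ep1, em1, ep1, ep1, em1, ep1, ep1, ep1, ep1, ep1, ep3], [ep1, ep1, em1, em1, ep1, ep1, em1, em1, ep1, em1, em1, ep1, ep1, ep1, ep1, ep1, ep1, em1, ep1, ep1, ep1, ep1, ep1, ep3], [ep1, ep1, em1, em1, em1, ep1, em1, em1, ep1, ep1, em1, em1, em1, ep1, em1, em1, em1, ep1, ep1, ep1, ep1, ep1, ep1, ep3], [ep1, ep1, ep1, ep1, ep1, em1, ep1, em1, ep1, em1, em1, em1, ep1, ep1, ep1, em1, em1, ep1, ep1, ep1, ep1, ep1, ep1, ep3], [ep1, ep1, em1, ep1, ep1, em1, ep1, ep1, ep1, ep1, ep1, em1, em1, em1, em1, ep1, em1, ep1, ep1, ep1, ep1, ep1, ep1, ep3], [ep1, ep1, ep1, em1, em1, ep1, em1, ep1, ep1, em1, ep1, em1, ep1, em1, ep1, ep1, em1, ep1, ep1, ep1, ep1, ep1, ep1, ep3], [ep1, ep1, ep1, ep1, em1, ep1, em1, ep1, em1, em1, em1, ep1, ep1, ep1, em1, em1, ep1, ep1, ep1, ep1, ep1, ep1, ep1, ep3], [ep1, ep1, em1, em1, ep1, em1, ep1, ep1, em1, ep1, em1, ep1, em1, ep1, ep1, em1, ep1, ep1, ep1, ep1, ep1, ep1, ep1, ep3], [ep1, ep1, ep1, em1, ep1, em1, ep1, em1, em1, em1, ep1, ep1, ep1, em1, em1,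 ep1, ep1, ep1, ep1, ep1, ep1, ep1, ep1, ep3], [ep1, ep1, em1, ep1, em1, ep1, em1, em1, em1, ep1, ep1, ep1, em1, em1, ep1, ep1, ep1, ep1, ep1, ep1, ep1, ep1, ep1, ep3], [ep0, ep0, ep0, ep0, ep0, ep0, ep0, ep0, ep0, ep0, ep0, ep0, ep0, ep0, ep0, ep0, ep0, ep0, ep0, ep0, ep0, ep0, em4, ep4], [ep0, ep0, ep0, ep0, ep0, ep0, ep0, ep0, ep0, ep0, ep0, ep0, ep0, ep0, ep0, ep0, ep0, ep0, ep0, ep0, ep0, em4, ep0, ep4], [ep0, ep0, ep0, ep0, ep0, ep0, ep0, ep0, ep0, ep0, ep0, ep0, ep0, ep0, ep0, ep0, ep0, ep0, ep0, ep0, em4, ep0, ep0, ep4], [ep0, ep0, ep0, ep0, ep0, ep0, ep0, ep0, ep0, ep0, ep0, ep0, ep0, ep0, ep0, ep0, ep0, ep0, ep0, em4, ep0, ep0, ep0, ep4], [ep0, ep0, ep0, ep0, ep0, ep0, ep0, ep0, ep0, ep0, ep0, ep0, ep0, ep0, ep0, ep0, ep0, ep0, em4, ep0, ep0, ep0, ep0, ep4], [ep0, ep0, ep0, ep0, ep0, ep0, ep0, ep0, ep0, ep0, ep0, ep0, ep0, ep0, ep0, ep0, ep0, em4, ep0, ep0, ep0, ep0, ep0, ep4], [ep0, ep0, ep0, ep0, ep0, ep0, ep0, ep0, ep0, ep0, ep0, ep0, ep0, ep0, ep0, ep0, em4, ep0, ep0, ep0, ep0, ep0, ep0,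 ep4], [ep0, ep0, ep0, ep0, ep0, ep0, ep0, ep0, ep0, ep0, ep0, ep0, ep0, ep0, ep0, em4, ep0, ep0, ep0, ep0, ep0, ep0, ep0, ep4], [ep0, ep0, ep0, ep0, ep0, ep0, ep0, ep0, ep0, ep0, ep0, ep0, ep0, ep0, em4, ep0, ep0, ep0, ep0, ep0, ep0, ep0, ep0, ep4], [ep0, ep0, ep0, ep0, ep0, ep0, ep0, ep0, ep0, ep0, ep0, ep0, ep0, em4, ep0, ep0, ep0, ep0, ep0, ep0, ep0, ep0, ep0, ep4], [ep0, ep0, ep0, ep0, ep0, ep0, ep0, ep0, ep0, ep0, ep0, ep0, em4, ep0, ep0, ep0, ep0, ep0, ep0, ep0, ep0, ep0, ep0, ep4], [ep0, ep0, ep0, ep0, ep0, ep0, ep0, ep0, ep0, ep0, ep0, em4, ep0, ep0, ep0, ep0, ep0, ep0, ep0, ep0, ep0, ep0, ep0, ep4], [ep0, ep0, ep0, ep0, ep0, ep0, ep0, ep0, ep0, ep0, em4, ep0, ep0, ep0, ep0, ep0, ep0, ep0, ep0, ep0, ep0, ep0, ep0, ep4], [ep0, ep0, ep0, ep0, ep0, ep0, ep0, ep0, ep0, em4, ep0, ep0, ep0, ep0, ep0, ep0, ep0, ep0, ep0, ep0, ep0, ep0, ep0, ep4]],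
    [[ep0, ep0, ep0, ep0, ep0, ep0, ep0, ep0, em4, ep0, ep0, ep0, ep0, ep0, ep0, ep0, ep0, ep0, ep0, ep0, ep0, ep0, ep0, ep4], [ep0, ep0, ep0, ep0, ep0, ep0, ep0, em4, ep0, ep0, ep0, ep0, ep0, ep0, ep0, ep0, ep0, ep0, ep0, ep0, ep0, ep0, ep0, ep4], [ep0, ep0, ep0, ep0, ep0, ep0, em4, ep0, ep0, ep0, ep0, ep0, ep0, ep0, ep0, ep0, ep0, ep0, ep0, ep0, ep0, ep0, ep0, ep4], [ep0, ep0, ep0, ep0, ep0, em4, ep0, ep0, ep0, ep0, ep0, ep0, ep0, ep0, ep0, ep0, ep0, ep0, ep0, ep0, ep0, ep0, ep0, ep4], [ep0, ep0, ep0, ep0, em4, ep0, ep0, ep0, ep0, ep0, ep0, ep0, ep0, ep0, ep0, ep0, ep0, ep0, ep0, ep0, ep0, ep0, ep0, ep4], [ep0, ep0, ep0, em4, ep0, ep0, ep0, ep0, ep0, ep0, ep0, ep0, ep0, ep0, ep0, ep0, ep0, ep0, ep0, ep0, ep0, ep0, ep0, ep4], [ep0, ep0, em4, ep0, ep0, ep0, ep0, ep0, ep0, ep0, ep0, ep0, ep0, ep0, ep0, ep0, ep0, ep0, ep0, ep0, ep0, ep0, ep0, ep4], [ep4, ep0, ep0, ep0, ep0, ep0, ep0, ep0, ep0, ep0, ep0, ep0, ep0, ep0, ep0, ep0, ep0, ep0, ep0, ep0, ep0, ep0, ep0, ep4], [ep0, ep0, ep4, ep0, ep0, ep0, ep0,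 ep0, ep0, ep0, ep0, ep0, ep0, ep0, ep0, ep0, ep0, ep0, ep0, ep0, ep0, ep0, ep0, ep4], [ep0, ep0, ep0, ep4, ep0, ep0, ep0, ep0, ep0, ep0, ep0, ep0, ep0, ep0, ep0, ep0, ep0, ep0, ep0, ep0, ep0, ep0, ep0, ep4], [ep0, ep0, ep0, ep0, ep4, ep0, ep0, ep0, ep0, ep0, ep0, ep0, ep0, ep0, ep0, ep0, ep0, ep0, ep0, ep0, ep0, ep0, ep0, ep4], [ep0, ep0, ep0, ep0, ep0, ep4, ep0, ep0, ep0, ep0, ep0, ep0, ep0, ep0, ep0, ep0, ep0, ep0, ep0, ep0, ep0, ep0, ep0, ep4], [ep0, ep0, ep0, ep0, ep0, ep0, ep4, ep0, ep0, ep0, ep0, ep0, ep0, ep0, ep0, ep0, ep0, ep0, ep0, ep0, ep0, ep0, ep0, ep4], [ep0, ep0, ep0, ep0, ep0, ep0, ep0, ep4, ep0, ep0, ep0, ep0, ep0, ep0, ep0, ep0, ep0, ep0, ep0, ep0, ep0, ep0, ep0, ep4], [ep0, ep0, ep0, ep0, ep0, ep0, ep0, ep0, ep4, ep0, ep0, ep0, ep0, ep0, ep0, ep0, ep0, ep0, ep0, ep0, ep0, ep0, ep0, ep4], [ep0, ep0, ep0, ep0, ep0, ep0, ep0, ep0, ep0, ep4, ep0, ep0, ep0, ep0, ep0, ep0, ep0, ep0, ep0, ep0, ep0, ep0, ep0, ep4], [ep0, ep0, ep0, ep0, ep0, ep0, ep0, ep0, ep0, ep0, ep4, ep0, ep0, ep0, ep0,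 ep0, ep0, ep0, ep0, ep0, ep0, ep0, ep0, ep4], [ep0, ep0, ep0, ep0, ep0, ep0, ep0, ep0, ep0, ep0, ep0, ep4, ep0, ep0, ep0, ep0, ep0, ep0, ep0, ep0, ep0, ep0, ep0, ep4], [ep0, ep0, ep0, ep0, ep0, ep0, ep0, ep0, ep0, ep0, ep0, ep0, ep4, ep0, ep0, ep0, ep0, ep0, ep0, ep0, ep0, ep0, ep0, ep4], [ep0, ep0, ep0, ep0, ep0, ep0, ep0, ep0, ep0, ep0, ep0, ep0, ep0, ep4, ep0, ep0, ep0, ep0, ep0, ep0, ep0, ep0, ep0, ep4], [ep0, ep0, ep0, ep0, ep0, ep0, ep0, ep0, ep0, ep0, ep0, ep0, ep0, ep0, ep4, ep0, ep0, ep0, ep0, ep0, ep0, ep0, ep0, ep4], [ep0, ep0, ep0, ep0, ep0, ep0, ep0, ep0, ep0, ep0, ep0, ep0, ep0, ep0, ep0, ep4, ep0, ep0, ep0, ep0, ep0, ep0, ep0, ep4], [ep0, ep0, ep0, ep0, ep0, ep0, ep0, ep0, ep0, ep0, ep0, ep0, ep0, ep0, ep0, ep0, ep4, ep0, ep0, ep0, ep0, ep0, ep0, ep4], [ep0, ep0, ep0, ep0, ep0, ep0, ep0, ep0, ep0, ep0, ep0, ep0, ep0, ep0, ep0, ep0, ep0, ep4, ep0, ep0, ep0, ep0, ep0, ep4], [ep0, ep0, ep0, ep0, ep0, ep0, ep0, ep0, ep0, ep0, ep0, ep0, ep0, ep0, ep0, ep0, ep0, ep0, ep4, ep0, ep0, ep0, ep0,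 ep4], [ep0, ep0, ep0, ep0, ep0, ep0, ep0, ep0, ep0, ep0, ep0, ep0, ep0, ep0, ep0, ep0, ep0, ep0, ep0, ep4, ep0, ep0, ep0, ep4], [ep0, ep0, ep0, ep0, ep0, ep0, ep0, ep0, ep0, ep0, ep0, ep0, ep0, ep0, ep0, ep0, ep0, ep0, ep0, ep0, ep4, ep0, ep0, ep4], [ep0, ep0, ep0, ep0, ep0, ep0, ep0, ep0, ep0, ep0, ep0, ep0, ep0, ep0, ep0, ep0, ep0, ep0, ep0, ep0, ep0, ep4, ep0, ep4], [ep0, ep0, ep0, ep0, ep0, ep0, ep0, ep0, ep0, ep0, ep0, ep0, ep0, ep0, ep0, ep0, ep0, ep0, ep0, ep0, ep0, ep0, ep4, ep4]]]

/-- The isotropic points. -/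
noncomputable def rights : List (List (List ℕ)) :=
  [[[1, 1, 0, 0, 0, 0], [1, 2, 0, 0, 0, 0], [1, 3, 0, 0, 0, 0], [1, 0, 1, 0, 0, 0], [0, 1, 1, 0, 0, 0], [1, 0, 2, 0, 0, 0], [0, 1, 2, 0, 0, 0], [1, 0, 3, 0, 0, 0], [0, 1, 3, 0, 0, 0], [1, 0, 0, 1, 0, 0], [0, 1, 0, 1, 0, 0], [0, 0, 1, 1, 0, 0], [1, 1, 1, 1, 0, 0], [1, 2, 1, 1, 0, 0], [1, 3, 1, 1, 0, 0], [1, 1, 2, 1, 0, 0], [1, 2, 2, 1, 0, 0], [1, 3, 2, 1, 0, 0], [1, 1, 3, 1, 0, 0], [1, 2, 3, 1, 0, 0], [1, 3, 3, 1, 0, 0], [1, 0, 0, 2, 0, 0], [0, 1, 0, 2, 0, 0], [0, 0, 1, 2, 0, 0], [1, 1, 1, 2, 0, 0], [1, 2, 1, 2, 0, 0], [1, 3, 1, 2, 0, 0], [1, 1, 2, 2, 0, 0], [1, 2, 2, 2, 0, 0], [1, 3, 2, 2, 0, 0], [1, 1, 3, 2, 0, 0], [1, 2, 3, 2, 0, 0]],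
    [[1, 3, 3, 2, 0, 0], [1, 0, 0, 3, 0, 0], [0, 1, 0, 3, 0, 0], [0, 0, 1, 3, 0, 0], [1, 1, 1, 3, 0, 0], [1, 2, 1, 3, 0, 0], [1, 3, 1, 3, 0, 0], [1, 1, 2, 3, 0, 0], [1, 2, 2, 3, 0, 0], [1, 3, 2, 3, 0, 0], [1, 1, 3, 3, 0, 0], [1, 2, 3, 3, 0, 0], [1, 3, 3, 3, 0, 0], [1, 0, 0, 0, 1, 0], [0, 1, 0, 0, 1, 0], [0, 0, 1, 0, 1, 0], [1, 1, 1, 0, 1, 0], [1, 2, 1, 0, 1, 0], [1, 3, 1, 0, 1, 0], [1, 1, 2, 0, 1, 0], [1, 2, 2, 0, 1, 0], [1, 3, 2, 0, 1, 0], [1, 1, 3, 0, 1, 0], [1, 2, 3, 0, 1, 0], [1, 3, 3, 0, 1, 0], [0, 0, 0, 1, 1, 0], [1, 1, 0, 1, 1, 0], [1, 2, 0, 1, 1, 0], [1, 3, 0, 1, 1, 0], [1, 0, 1, 1, 1, 0], [0, 1, 1, 1, 1, 0], [1, 0, 2, 1, 1, 0]],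
    [[0, 1, 2, 1, 1, 0], [1, 0, 3, 1, 1, 0], [0, 1, 3, 1, 1, 0], [1, 1, 0, 2, 1, 0], [1, 2, 0, 2, 1, 0], [1, 3, 0, 2, 1, 0], [1, 0, 1, 2, 1, 0], [0, 1, 1, 2, 1, 0], [1, 0, 2, 2, 1, 0], [0, 1, 2, 2, 1, 0], [1, 0, 3, 2, 1, 0], [0, 1, 3, 2, 1, 0], [1, 1, 0, 3, 1, 0], [1, 2, 0, 3, 1, 0], [1, 3, 0, 3, 1, 0], [1, 0, 1, 3, 1, 0], [0, 1, 1, 3, 1, 0], [1, 0, 2, 3, 1, 0], [0, 1, 2, 3, 1, 0], [1, 0, 3, 3, 1, 0], [0, 1, 3, 3, 1, 0], [1, 0, 0, 0, 2, 0], [0, 1, 0, 0, 2, 0], [0, 0, 1, 0, 2, 0], [1, 1, 1, 0, 2, 0], [1, 2, 1, 0, 2, 0], [1, 3, 1, 0, 2, 0], [1, 1, 2, 0, 2, 0], [1, 2, 2, 0, 2, 0], [1, 3, 2, 0, 2, 0], [1, 1, 3, 0, 2, 0], [1, 2, 3, 0, 2, 0]],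
    [[1, 3, 3, 0, 2, 0], [0, 0, 0, 1, 2, 0], [1, 1, 0, 1, 2, 0], [1, 2, 0, 1, 2, 0], [1, 3, 0, 1, 2, 0], [1, 0, 1, 1, 2, 0], [0, 1, 1, 1, 2, 0], [1, 0, 2, 1, 2, 0], [0, 1, 2, 1, 2, 0], [1, 0, 3, 1, 2, 0], [0, 1, 3, 1, 2, 0], [1, 1, 0, 2, 2, 0], [1, 2, 0, 2, 2, 0], [1, 3, 0, 2, 2, 0], [1, 0, 1, 2, 2, 0], [0, 1, 1, 2, 2, 0], [1, 0, 2, 2, 2, 0], [0, 1, 2, 2, 2, 0], [1, 0, 3, 2, 2, 0], [0, 1, 3, 2, 2, 0], [1, 1, 0, 3, 2, 0], [1, 2, 0, 3, 2, 0], [1, 3, 0, 3, 2, 0], [1, 0, 1, 3, 2, 0], [0, 1, 1, 3, 2, 0], [1, 0, 2, 3, 2, 0], [0, 1, 2, 3, 2, 0], [1, 0, 3, 3, 2, 0], [0, 1, 3, 3, 2, 0], [1, 0, 0, 0, 3, 0], [0, 1, 0, 0, 3, 0], [0, 0, 1, 0, 3, 0]],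
    [[1, 1, 1, 0, 3, 0], [1, 2, 1, 0, 3, 0], [1, 3, 1, 0, 3, 0], [1, 1, 2, 0, 3, 0], [1, 2, 2, 0, 3, 0], [1, 3, 2, 0, 3, 0], [1, 1, 3, 0, 3, 0], [1, 2, 3, 0, 3, 0], [1, 3, 3, 0, 3, 0], [0, 0, 0, 1, 3, 0], [1, 1, 0, 1, 3, 0], [1, 2, 0, 1, 3, 0], [1, 3, 0, 1, 3, 0], [1, 0, 1, 1, 3, 0], [0, 1, 1, 1, 3, 0], [1, 0, 2, 1, 3, 0], [0, 1, 2, 1, 3, 0], [1, 0, 3, 1, 3, 0], [0, 1, 3, 1, 3, 0], [1, 1, 0, 2, 3, 0], [1, 2, 0, 2, 3, 0], [1, 3, 0, 2, 3, 0], [1, 0, 1, 2, 3, 0], [0, 1, 1, 2, 3, 0], [1, 0, 2, 2, 3, 0], [0, 1, 2, 2, 3, 0], [1, 0, 3, 2, 3, 0], [0, 1, 3, 2, 3, 0], [1, 1, 0, 3, 3, 0], [1, 2, 0, 3, 3, 0], [1, 3, 0, 3, 3, 0], [1, 0, 1, 3, 3, 0]],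
    [[0, 1, 1, 3, 3, 0], [1, 0, 2, 3, 3, 0], [0, 1, 2, 3, 3, 0], [1, 0, 3, 3, 3, 0], [0, 1, 3, 3, 3, 0], [1, 0, 0, 0, 0, 1], [0, 1, 0, 0, 0, 1], [0, 0, 1, 0, 0, 1], [1, 1, 1, 0, 0, 1], [1, 2, 1, 0, 0, 1], [1, 3, 1, 0, 0, 1], [1, 1, 2, 0, 0, 1], [1, 2, 2, 0, 0, 1], [1, 3, 2, 0, 0, 1], [1, 1, 3, 0, 0, 1], [1, 2, 3, 0, 0, 1], [1, 3, 3, 0, 0, 1], [0, 0, 0, 1, 0, 1], [1, 1, 0, 1, 0, 1], [1, 2, 0, 1, 0, 1], [1, 3, 0, 1, 0, 1], [1, 0, 1, 1, 0, 1], [0, 1, 1, 1, 0, 1], [1, 0, 2, 1, 0, 1], [0, 1, 2, 1, 0, 1], [1, 0, 3, 1, 0, 1], [0, 1, 3, 1, 0, 1], [1, 1, 0, 2, 0, 1], [1, 2, 0, 2, 0, 1], [1, 3, 0, 2, 0, 1], [1, 0, 1, 2, 0, 1], [0, 1, 1, 2, 0, 1]],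
    [[1, 0, 2, 2, 0, 1], [0, 1, 2, 2, 0, 1], [1, 0, 3, 2, 0, 1], [0, 1, 3, 2, 0, 1], [1, 1, 0, 3, 0, 1], [1, 2, 0, 3, 0, 1], [1, 3, 0, 3, 0, 1], [1, 0, 1, 3, 0, 1], [0, 1, 1, 3, 0, 1], [1, 0, 2, 3, 0, 1], [0, 1, 2, 3, 0, 1], [1, 0, 3, 3, 0, 1], [0, 1, 3, 3, 0, 1], [0, 0, 0, 0, 1, 1], [1, 1, 0, 0, 1, 1], [1, 2, 0, 0, 1, 1], [1, 3, 0, 0, 1, 1], [1, 0, 1, 0, 1, 1], [0, 1, 1, 0, 1, 1], [1, 0, 2, 0, 1, 1], [0, 1, 2, 0, 1, 1], [1, 0, 3, 0, 1, 1], [0, 1, 3, 0, 1, 1], [1, 0, 0, 1, 1, 1], [0, 1, 0, 1, 1, 1], [0, 0, 1, 1, 1, 1], [1, 1, 1, 1, 1, 1], [1, 2, 1, 1, 1, 1], [1, 3, 1, 1, 1, 1], [1, 1, 2, 1, 1, 1], [1, 2, 2, 1, 1, 1], [1, 3, 2, 1, 1, 1]],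
    [[1, 1, 3, 1, 1, 1], [1, 2, 3, 1, 1, 1], [1, 3, 3, 1, 1, 1], [1, 0, 0, 2, 1, 1], [0, 1, 0, 2, 1, 1], [0, 0, 1, 2, 1, 1], [1, 1, 1, 2, 1, 1], [1, 2, 1, 2, 1, 1], [1, 3, 1, 2, 1, 1], [1, 1, 2, 2, 1, 1], [1, 2, 2, 2, 1, 1], [1, 3, 2, 2, 1, 1], [1, 1, 3, 2, 1, 1], [1, 2, 3, 2, 1, 1], [1, 3, 3, 2, 1, 1], [1, 0, 0, 3, 1, 1], [0, 1, 0, 3, 1, 1], [0, 0, 1, 3, 1, 1], [1, 1, 1, 3, 1, 1], [1, 2, 1, 3, 1, 1], [1, 3, 1, 3, 1, 1], [1, 1, 2, 3, 1, 1], [1, 2, 2, 3, 1, 1], [1, 3, 2, 3, 1, 1], [1, 1, 3, 3, 1, 1], [1, 2, 3, 3, 1, 1], [1, 3, 3, 3, 1, 1], [1, 1, 0, 0, 2, 1], [1, 2, 0, 0, 2, 1], [1, 3, 0, 0, 2, 1], [1, 0, 1, 0, 2, 1], [0, 1, 1, 0, 2, 1]],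
    [[1, 0, 2, 0, 2, 1], [0, 1, 2, 0, 2, 1], [1, 0, 3, 0, 2, 1], [0, 1, 3, 0, 2, 1], [1, 0, 0, 1, 2, 1], [0, 1, 0, 1, 2, 1], [0, 0, 1, 1, 2, 1], [1, 1, 1, 1, 2, 1], [1, 2, 1, 1, 2, 1], [1, 3, 1, 1, 2, 1], [1, 1, 2, 1, 2, 1], [1, 2, 2, 1, 2, 1], [1, 3, 2, 1, 2, 1], [1, 1, 3, 1, 2, 1], [1, 2, 3, 1, 2, 1], [1, 3, 3, 1, 2, 1], [1, 0, 0, 2, 2, 1], [0, 1, 0, 2, 2, 1], [0, 0, 1, 2, 2, 1], [1, 1, 1, 2, 2, 1], [1, 2, 1, 2, 2, 1], [1, 3, 1, 2, 2, 1], [1, 1, 2, 2, 2, 1], [1, 2, 2, 2, 2, 1], [1, 3, 2, 2, 2, 1], [1, 1, 3, 2, 2, 1], [1, 2, 3, 2, 2, 1], [1, 3, 3, 2, 2, 1], [1, 0, 0, 3, 2, 1], [0, 1, 0, 3, 2, 1], [0, 0, 1, 3, 2, 1], [1, 1, 1, 3, 2, 1]],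
    [[1, 2, 1, 3, 2, 1], [1, 3, 1, 3, 2, 1], [1, 1, 2, 3, 2, 1], [1, 2, 2, 3, 2, 1], [1, 3, 2, 3, 2, 1], [1, 1, 3, 3, 2, 1], [1, 2, 3, 3, 2, 1], [1, 3, 3, 3, 2, 1], [1, 1, 0, 0, 3, 1], [1, 2, 0, 0, 3, 1], [1, 3, 0, 0, 3, 1], [1, 0, 1, 0, 3, 1], [0, 1, 1, 0, 3, 1], [1, 0, 2, 0, 3, 1], [0, 1, 2, 0, 3, 1], [1, 0, 3, 0, 3, 1], [0, 1, 3, 0, 3, 1], [1, 0, 0, 1, 3, 1], [0, 1, 0, 1, 3, 1], [0, 0, 1, 1, 3, 1], [1, 1, 1, 1, 3, 1], [1, 2, 1, 1, 3, 1], [1, 3, 1, 1, 3, 1], [1, 1, 2, 1, 3, 1], [1, 2, 2, 1, 3, 1], [1, 3, 2, 1, 3, 1], [1, 1, 3, 1, 3, 1], [1, 2, 3, 1, 3, 1], [1, 3, 3, 1, 3, 1], [1, 0, 0, 2, 3, 1], [0, 1, 0, 2, 3, 1], [0, 0, 1, 2, 3, 1]],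
    [[1, 1, 1, 2, 3, 1], [1, 2, 1, 2, 3, 1], [1, 3, 1, 2, 3, 1], [1, 1, 2, 2, 3, 1], [1, 2, 2, 2, 3, 1], [1, 3, 2, 2, 3, 1], [1, 1, 3, 2, 3, 1], [1, 2, 3, 2, 3, 1], [1, 3, 3, 2, 3, 1], [1, 0, 0, 3, 3, 1], [0, 1, 0, 3, 3, 1], [0, 0, 1, 3, 3, 1], [1, 1, 1, 3, 3, 1], [1, 2, 1, 3, 3, 1], [1, 3, 1, 3, 3, 1], [1, 1, 2, 3, 3, 1], [1, 2, 2, 3, 3, 1], [1, 3, 2, 3, 3, 1], [1, 1, 3, 3, 3, 1], [1, 2, 3, 3, 3, 1], [1, 3, 3, 3, 3, 1], [1, 0, 0, 0, 0, 2], [0, 1, 0, 0, 0, 2], [0, 0, 1, 0, 0, 2], [1, 1, 1, 0, 0, 2], [1, 2, 1, 0, 0, 2], [1, 3, 1, 0, 0, 2], [1, 1, 2, 0, 0, 2], [1, 2, 2, 0, 0, 2], [1, 3, 2, 0, 0, 2], [1, 1, 3, 0, 0, 2], [1, 2, 3, 0, 0, 2]],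
    [[1, 3, 3, 0, 0, 2], [0, 0, 0, 1, 0, 2], [1, 1, 0, 1, 0, 2], [1, 2, 0, 1, 0, 2], [1, 3, 0, 1, 0, 2], [1, 0, 1, 1, 0, 2], [0, 1, 1, 1, 0, 2], [1, 0, 2, 1, 0, 2], [0, 1, 2, 1, 0, 2], [1, 0, 3, 1, 0, 2], [0, 1, 3, 1, 0, 2], [1, 1, 0, 2, 0, 2], [1, 2, 0, 2, 0, 2], [1, 3, 0, 2, 0, 2], [1, 0, 1, 2, 0, 2], [0, 1, 1, 2, 0, 2], [1, 0, 2, 2, 0, 2], [0, 1, 2, 2, 0, 2], [1, 0, 3, 2, 0, 2], [0, 1, 3, 2, 0, 2], [1, 1, 0, 3, 0, 2], [1, 2, 0, 3, 0, 2], [1, 3, 0, 3, 0, 2], [1, 0, 1, 3, 0, 2], [0, 1, 1, 3, 0, 2], [1, 0, 2, 3, 0, 2], [0, 1, 2, 3, 0, 2], [1, 0, 3, 3, 0, 2], [0, 1, 3, 3, 0, 2], [0, 0, 0, 0, 1, 2], [1, 1, 0, 0, 1, 2], [1, 2, 0, 0, 1, 2]],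
    [[1, 3, 0, 0, 1, 2], [1, 0, 1, 0, 1, 2], [0, 1, 1, 0, 1, 2], [1, 0, 2, 0, 1, 2], [0, 1, 2, 0, 1, 2], [1, 0, 3, 0, 1, 2], [0, 1, 3, 0, 1, 2], [1, 0, 0, 1, 1, 2], [0, 1, 0, 1, 1, 2], [0, 0, 1, 1, 1, 2], [1, 1, 1, 1, 1, 2], [1, 2, 1, 1, 1, 2], [1, 3, 1, 1, 1, 2], [1, 1, 2, 1, 1, 2], [1, 2, 2, 1, 1, 2], [1, 3, 2, 1, 1, 2], [1, 1, 3, 1, 1, 2], [1, 2, 3, 1, 1, 2], [1, 3, 3, 1, 1, 2], [1, 0, 0, 2, 1, 2], [0, 1, 0, 2, 1, 2], [0, 0, 1, 2, 1, 2], [1, 1, 1, 2, 1, 2], [1, 2, 1, 2, 1, 2], [1, 3, 1, 2, 1, 2], [1, 1, 2, 2, 1, 2], [1, 2, 2, 2, 1, 2], [1, 3, 2, 2, 1, 2], [1, 1, 3, 2, 1, 2], [1, 2, 3, 2, 1, 2], [1, 3, 3, 2, 1, 2], [1, 0, 0, 3, 1, 2]],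
    [[0, 1, 0, 3, 1, 2], [0, 0, 1, 3, 1, 2], [1, 1, 1, 3, 1, 2], [1, 2, 1, 3, 1, 2], [1, 3, 1, 3, 1, 2], [1, 1, 2, 3, 1, 2], [1, 2, 2, 3, 1, 2], [1, 3, 2, 3, 1, 2], [1, 1, 3, 3, 1, 2], [1, 2, 3, 3, 1, 2], [1, 3, 3, 3, 1, 2], [1, 1, 0, 0, 2, 2], [1, 2, 0, 0, 2, 2], [1, 3, 0, 0, 2, 2], [1, 0, 1, 0, 2, 2], [0, 1, 1, 0, 2, 2], [1, 0, 2, 0, 2, 2], [0, 1, 2, 0, 2, 2], [1, 0, 3, 0, 2, 2], [0, 1, 3, 0, 2, 2], [1, 0, 0, 1, 2, 2], [0, 1, 0, 1, 2, 2], [0, 0, 1, 1, 2, 2], [1, 1, 1, 1, 2, 2], [1, 2, 1, 1, 2, 2], [1, 3, 1, 1, 2, 2], [1, 1, 2, 1, 2, 2], [1, 2, 2, 1, 2, 2], [1, 3, 2, 1, 2, 2], [1, 1, 3, 1, 2, 2], [1, 2, 3, 1, 2, 2], [1, 3, 3, 1, 2, 2]],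
    [[1, 0, 0, 2, 2, 2], [0, 1, 0, 2, 2, 2], [0, 0, 1, 2, 2, 2], [1, 1, 1, 2, 2, 2], [1, 2, 1, 2, 2, 2], [1, 3, 1, 2, 2, 2], [1, 1, 2, 2, 2, 2], [1, 2, 2, 2, 2, 2], [1, 3, 2, 2, 2, 2], [1, 1, 3, 2, 2, 2], [1, 2, 3, 2, 2, 2], [1, 3, 3, 2, 2, 2], [1, 0, 0, 3, 2, 2], [0, 1, 0, 3, 2, 2], [0, 0, 1, 3, 2, 2], [1, 1, 1, 3, 2, 2], [1, 2, 1, 3, 2, 2], [1, 3, 1, 3, 2, 2], [1, 1, 2, 3, 2, 2], [1, 2, 2, 3, 2, 2], [1, 3, 2, 3, 2, 2], [1, 1, 3, 3, 2, 2], [1, 2, 3, 3, 2, 2], [1, 3, 3, 3, 2, 2], [1, 1, 0, 0, 3, 2], [1, 2, 0, 0, 3, 2], [1, 3, 0, 0, 3, 2], [1, 0, 1, 0, 3, 2], [0, 1, 1, 0, 3, 2], [1, 0, 2, 0, 3, 2], [0, 1, 2, 0, 3, 2], [1, 0, 3, 0, 3, 2]],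
    [[0, 1, 3, 0, 3, 2], [1, 0, 0, 1, 3, 2], [0, 1, 0, 1, 3, 2], [0, 0, 1, 1, 3, 2], [1, 1, 1, 1, 3, 2], [1, 2, 1, 1, 3, 2], [1, 3, 1, 1, 3, 2], [1, 1, 2, 1, 3, 2], [1, 2, 2, 1, 3, 2], [1, 3, 2, 1, 3, 2], [1, 1, 3, 1, 3, 2], [1, 2, 3, 1, 3, 2], [1, 3, 3, 1, 3, 2], [1, 0, 0, 2, 3, 2], [0, 1, 0, 2, 3, 2], [0, 0, 1, 2, 3, 2], [1, 1, 1, 2, 3, 2], [1, 2, 1, 2, 3, 2], [1, 3, 1, 2, 3, 2], [1, 1, 2, 2, 3, 2], [1, 2, 2, 2, 3, 2], [1, 3, 2, 2, 3, 2], [1, 1, 3, 2, 3, 2], [1, 2, 3, 2, 3, 2], [1, 3, 3, 2, 3, 2], [1, 0, 0, 3, 3, 2], [0, 1, 0, 3, 3, 2], [0, 0, 1, 3, 3, 2], [1, 1, 1, 3, 3, 2], [1, 2, 1, 3, 3, 2], [1, 3, 1, 3, 3, 2], [1, 1, 2, 3, 3, 2]],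
    [[1, 2, 2, 3, 3, 2], [1, 3, 2, 3, 3, 2], [1, 1, 3, 3, 3, 2], [1, 2, 3, 3, 3, 2], [1, 3, 3, 3, 3, 2], [1, 0, 0, 0, 0, 3], [0, 1, 0, 0, 0, 3], [0, 0, 1, 0, 0, 3], [1, 1, 1, 0, 0, 3], [1, 2, 1, 0, 0, 3], [1, 3, 1, 0, 0, 3], [1, 1, 2, 0, 0, 3], [1, 2, 2, 0, 0, 3], [1, 3, 2, 0, 0, 3], [1, 1, 3, 0, 0, 3], [1, 2, 3, 0, 0, 3], [1, 3, 3, 0, 0, 3], [0, 0, 0, 1, 0, 3], [1, 1, 0, 1, 0, 3], [1, 2, 0, 1, 0, 3], [1, 3, 0, 1, 0, 3], [1, 0, 1, 1, 0, 3], [0, 1, 1, 1, 0, 3], [1, 0, 2, 1, 0, 3], [0, 1, 2, 1, 0, 3], [1, 0, 3, 1, 0, 3], [0, 1, 3, 1, 0, 3], [1, 1, 0, 2, 0, 3], [1, 2, 0, 2, 0, 3], [1, 3, 0, 2, 0, 3], [1, 0, 1, 2, 0, 3], [0, 1, 1, 2, 0, 3]],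
    [[1, 0, 2, 2, 0, 3], [0, 1, 2, 2, 0, 3], [1, 0, 3, 2, 0, 3], [0, 1, 3, 2, 0, 3], [1, 1, 0, 3, 0, 3], [1, 2, 0, 3, 0, 3], [1, 3, 0, 3, 0, 3], [1, 0, 1, 3, 0, 3], [0, 1, 1, 3, 0, 3], [1, 0, 2, 3, 0, 3], [0, 1, 2, 3, 0, 3], [1, 0, 3, 3, 0, 3], [0, 1, 3, 3, 0, 3], [0, 0, 0, 0, 1, 3], [1, 1, 0, 0, 1, 3], [1, 2, 0, 0, 1, 3], [1, 3, 0, 0, 1, 3], [1, 0, 1, 0, 1, 3], [0, 1, 1, 0, 1, 3], [1, 0, 2, 0, 1, 3], [0, 1, 2, 0, 1, 3], [1, 0, 3, 0, 1, 3], [0, 1, 3, 0, 1, 3], [1, 0, 0, 1, 1, 3], [0, 1, 0, 1, 1, 3], [0, 0, 1, 1, 1, 3], [1, 1, 1, 1, 1, 3], [1, 2, 1, 1, 1, 3], [1, 3, 1, 1, 1, 3], [1, 1, 2, 1, 1, 3], [1, 2, 2, 1, 1, 3], [1, 3, 2, 1, 1, 3]],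
    [[1, 1, 3, 1, 1, 3], [1, 2, 3, 1, 1, 3], [1, 3, 3, 1, 1, 3], [1, 0, 0, 2, 1, 3], [0, 1, 0, 2, 1, 3], [0, 0, 1, 2, 1, 3], [1, 1, 1, 2, 1, 3], [1, 2, 1, 2, 1, 3], [1, 3, 1, 2, 1, 3], [1, 1, 2, 2, 1, 3], [1, 2, 2, 2, 1, 3], [1, 3, 2, 2, 1, 3], [1, 1, 3, 2, 1, 3], [1, 2, 3, 2, 1, 3], [1, 3, 3, 2, 1, 3], [1, 0, 0, 3, 1, 3], [0, 1, 0, 3, 1, 3], [0, 0, 1, 3, 1, 3], [1, 1, 1, 3, 1, 3], [1, 2, 1, 3, 1, 3], [1, 3, 1, 3, 1, 3], [1, 1, 2, 3, 1, 3], [1, 2, 2, 3, 1, 3], [1, 3, 2, 3, 1, 3], [1, 1, 3, 3, 1, 3], [1, 2, 3, 3, 1, 3], [1, 3, 3, 3, 1, 3], [1, 1, 0, 0, 2, 3], [1, 2, 0, 0, 2, 3], [1, 3, 0, 0, 2, 3], [1, 0, 1, 0, 2, 3], [0, 1, 1, 0, 2, 3]],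
    [[1, 0, 2, 0, 2, 3], [0, 1, 2, 0, 2, 3], [1, 0, 3, 0, 2, 3], [0, 1, 3, 0, 2, 3], [1, 0, 0, 1, 2, 3], [0, 1, 0, 1, 2, 3], [0, 0, 1, 1, 2, 3], [1, 1, 1, 1, 2, 3], [1, 2, 1, 1, 2, 3], [1, 3, 1, 1, 2, 3], [1, 1, 2, 1, 2, 3], [1, 2, 2, 1, 2, 3], [1, 3, 2, 1, 2, 3], [1, 1, 3, 1, 2, 3], [1, 2, 3, 1, 2, 3], [1, 3, 3, 1, 2, 3], [1, 0, 0, 2, 2, 3], [0, 1, 0, 2, 2, 3], [0, 0, 1, 2, 2, 3], [1, 1, 1, 2, 2, 3], [1, 2, 1, 2, 2, 3], [1, 3, 1, 2, 2, 3], [1, 1, 2, 2, 2, 3], [1, 2, 2, 2, 2, 3], [1, 3, 2, 2, 2, 3], [1, 1, 3, 2, 2, 3], [1, 2, 3, 2, 2, 3], [1, 3, 3, 2, 2, 3], [1, 0, 0, 3, 2, 3], [0, 1, 0, 3, 2, 3], [0, 0, 1, 3, 2, 3], [1, 1, 1, 3, 2, 3]],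
    [[1, 2, 1, 3, 2, 3], [1, 3, 1, 3, 2, 3], [1, 1, 2, 3, 2, 3], [1, 2, 2, 3, 2, 3], [1, 3, 2, 3, 2, 3], [1, 1, 3, 3, 2, 3], [1, 2, 3, 3, 2, 3], [1, 3, 3, 3, 2, 3], [1, 1, 0, 0, 3, 3], [1, 2, 0, 0, 3, 3], [1, 3, 0, 0, 3, 3], [1, 0, 1, 0, 3, 3], [0, 1, 1, 0, 3, 3], [1, 0, 2, 0, 3, 3], [0, 1, 2, 0, 3, 3], [1, 0, 3, 0, 3, 3], [0, 1, 3, 0, 3, 3], [1, 0, 0, 1, 3, 3], [0, 1, 0, 1, 3, 3], [0, 0, 1, 1, 3, 3], [1, 1, 1, 1, 3, 3], [1, 2, 1, 1, 3, 3], [1, 3, 1, 1, 3, 3], [1, 1, 2, 1, 3, 3], [1, 2, 2, 1, 3, 3], [1, 3, 2, 1, 3, 3], [1, 1, 3, 1, 3, 3], [1, 2, 3, 1, 3, 3], [1, 3, 3, 1, 3, 3], [1, 0, 0, 2, 3, 3], [0, 1, 0, 2, 3, 3], [0, 0, 1, 2, 3, 3]],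
    [[1, 1, 1, 2, 3, 3], [1, 2, 1, 2, 3, 3], [1, 3, 1, 2, 3, 3], [1, 1, 2, 2, 3, 3], [1, 2, 2, 2, 3, 3], [1, 3, 2, 2, 3, 3], [1, 1, 3, 2, 3, 3], [1, 2, 3, 2, 3, 3], [1, 3, 3, 2, 3, 3], [1, 0, 0, 3, 3, 3], [0, 1, 0, 3, 3, 3], [0, 0, 1, 3, 3, 3], [1, 1, 1, 3, 3, 3], [1, 2, 1, 3, 3, 3], [1, 3, 1, 3, 3, 3], [1, 1, 2, 3, 3, 3], [1, 2, 2, 3, 3, 3], [1, 3, 2, 3, 3, 3], [1, 1, 3, 3, 3, 3], [1, 2, 3, 3, 3, 3], [1, 3, 3, 3, 3, 3]]]

/-- The tables. -/
noncomputable def tab : List ℕ :=
  [0x292cccbf901e9d5b7c51709ef37f91136e1748fa66e265bd0a84b4a201beba038bee4d40870ff2d54d4be72f5cdc1f9c5259f83d5bbb586eb46f960e528f3a0a0d2f2c7d648bb621edd55bdb14ebcbc9c5327e5a5e4a1b6da0361c855796143ad9b18169a42fb7b325d3dffaf559a2b4d9c46ea5ea4f5b8d30e8b395a277d9cc44a759092486209d131ecb543b570adfedea71941f164f19398c25cd788e55fdf8d677bf16af7dfbbc73769dd85a855825f537786ecdd251fc054ba9f5d88f785e905d2a9737a41c2cadb3ce7d5a98c75c234d98bf118b10c8ab813ee20dd5a99202e7c19aa584643bb776d842e75877c0df64abc2c3f146aebd382351ee2593810e4a6b3b18f30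ca98c0e747346924717c8f47133cc9ed7a2593908176d61bdb071700b0d4bbb97166fa5588ed68abed8c898f66ca3e6abd68ebf477ba92068ed48b8b04ad7bfba61306f8d1a9cf84a77c8e9d8f1a59b91bd34ae115b28c92b651c42bf367addb847c6eca3d4d783973224485c2b38307bbb9cb13ac8ca77dd68230e169c321aefb829fd71eadd507d51a2bad03957772ba3e98cf0d65ad9b935299d73be99754622d4a84303209c16a2b6f248e0ca46e8a683a57e90f22c4d2bc5135ed58d7ef006d6504c5d292d3bf9aef2baf951b984eaf04c7ec3d251e0b87ad10f5fd52fb5d43e5b5e6940f2b154f8a1d3c1cb4c4a2f08ed9d2c9d6f1646d118bf721f3d5fb2b6fa9ac30c0eebe6d625b0747300d7b79ef8b035faaad625ee599ae31a9c1cffbc167e303ed79143232caabb7409dce1391354ee841a73d6e2ce54e88775ddd4e4c1d73624c1d7ad1527e39c77f3b70c43abb552610444a6503e19d08bd6e35ffdad85b5bdc0bd0c08e9a90db486d029e6cf7c4f765de3b4ab8f4a2845cad2f85f9473b01119dc393951512a6d59ad72ea75492c452324f6318db785ff3f580909a94ce9a0b0feb139a7aefe2bb5a6c1525f01e0d831055cedf597f4e70447d7556e604d3cbfb49a66da48b70fa8cc4792739a0837e837552e8c75ba73230cbd87d8e0256500b1d3f66ac8b743079dec829c76eab559d7df2a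5c2dde8d766ab946ebcf5ba91470a7f58e3c5eeb0556a295c39f37c21a61d9b933aff527897442be44fa25262a0c39b9515e9540584f2e285b8a79d2667a4a271f035c43b5b174e2d0cc68aaf96cbbb078f33ed8c9ba8b7ddccd14780e7ea359298161ac0bf38e96127949dc5ae3a84dec9dd86de24009634b60bc3ba7b82e69c7ca30e5e62d6c909891eed57b155962f5908d8fdad454f9bf2bdd46009950c6dfd36881052e0ca5c291fe335a57d0e1ab9c29c57285e5b5a634ae9a530a314d89692226b27e96d1f2604ac91d2722b424d353586ce2e91935d6848a9311ea334aa8e12a212c9e8e5092624648a91e2304251782fc69cddd1e146594b398f37c680cf19533e688309b22ae4987014f33a1fa9f14a3386f4af88931c65ca69af9fe358a417b25a186af19a2a06c6ad8992dc43cbe91025c2bcdc9520333646f98b356530a71092563383ed963006e6c388fa6c41c929bdade5d8cc1932f21f8d311b36e360b11711de4583159421c44cd998a133434cd9333704905f0ed2ee3d8154ec2e445cdb56a113644978ea2586d2678051f434c5a9aaad64287810b2921066516428c39cde5860c4414a39833654a0b31992fe55851db0a76378b412317a07c731922606bc8f87d2b436cb09b427e508600b728203c630ee2f86c09b84127458c6e8bc1b438cd4caa0533545f8cb35b3505d1292964680c9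022106f06382a30449ca29ae346488a21732ea23c7f0f736b4105b0d128638807d0c2f454cdbcf20844846b8f33542e0831011763080fd742543ecda9120522c4818b21686a46184295c2cc5c9ab9563486e0eb1d20169906334d49ea2c9e1436963919bb3b298af56d94f2505090daff55a3304f2b320c1218e94a666a7c7913a1ec8ed75a5f3fa3287c27b0743a58a92e536cfc8b073138aac4515d35e6ec3907b3364ad4ba93044ad5898640d01e9828b0496b3c8d10c0e0c2d91aef45a490a731b2364f593a5b1588f5158a102836c872d543ecac930775463e4efaf315c9b4f18501a606c882dd5ce76c33937466280ca8a83465dc2506904e56ce9a1744a0c0312d31e61d49127d51eb2c6905e3963c197afb154c35a192a1cc41d619bf38a1084da6b0343a11a8a4356b1c9b0741eeaecb9a8739a110271fb1b40b1328a64865fc3b13b1349cc1727536e5ec0903630600ceba53144674c98e208c0dcf693041683c6b8e71dc62d71af768a320133031ac354b3a03048634f989f1a80ec442a548e6cc3311744613d0396b0106153185102a17c431f534ea0c8504b3d6274f28062c65bc0782a00470d09a572aa2303715301c04d70318480ac140350570681a4230620b0100270310741b8b7617edd45db6c12e2f96c320470aa0f41984f0581841f02b08a0fc268320721608cb64252d9e929280cb48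e3316025156fb1f68e67ca88651704110c8f40faa843fa1d4aa1b4f88b1632444a2341210b457a87e27ca751faa71644093fabf1ca4b4761bd59a1243e2610706e5878f12a0d3d00b51692ac4918c915a5345b9cf62e40d88b094829c57e90d1d6834a0aed58a37c9293118e2bcb68181bc91430211302075448dd0786c41697d51a3b56ca295c29e5189c95027443cb394b24e4f0918098ba53ba373ee7bd5baaf4de8bc718b60b40a49610516a1c4e090907ab240e2512e23708788725e2a45582519a1143521564a49d7c9190f08849c3295323d52e88127ecd51ca69342664401dd36a0594a86c08e6945288d0460bc2e18f5ae2d0fc9612b2aa4038a71160c4ab8050c665c8eaf11b2924859d55ca1acf3a270501bcffa670ba2e5028191c26b4269d90225a4c884357228c7524d50a381048d80c2a458395f30e71c2d8b31de010081a92f20e4ba817056594c48093d22248a93419e404a40ce0683fc901002923402c8d10401045eb741323004a8bc0022608a13511c3f84780c0ae0d42c1211220342b09004210060800,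
   0x1df3e47f914687487bd32022ed4084508e59566c2f21a9750a756ee1efbc99cb392d7c5bbc941240c4ac2b2e6b0d60746e36d1c30704e0e1bc36a076e29d48ca5941e5ad69c23152f0daaaaae59c8c53a11229de3e27595a309cb4bf710e7040881301e9cde0b7b406df5378df0ce19595b2966670ba672184a5b567c312ceb23e17a6eded9c58bd548acbd96b694c67d4ffb774d29e5dcb6f24dc0381bcd1fa2d562c2d2dddd3e67a90021cd91732e2e71ce2b0560e44d30a1b7c274c3186b0d1c2385a6d77add3a971534a69d93b256c62f5e79cf399ce38e9e76425c563c2952eb2e199637b23e45789f42e425d570ee19f3ba27671f6cde288d535effd12a5581b18c4597b45ec6c9c7a4e49db3e89957e2edcefb6d4cad14fbaf769f1047578ef22885117baffb16d42a5f0f6f7d14b1528b15c4798120a7944bc0af3de747fb3b4fdf2ba876133a7cd73b9f702e0c1b73f042e5427a9f4b61dcc8bed8c2a2d7a9311b6363c3789606d2e1dafd6a711bc16fefc6efced91f242bec92bc510ad5d2b87f41ae242aaa5841ed4048cf376fe4d19eb5b5f1ba575b00e8ed1c7a2f42685f58f555a8d58793f70ae6dccc55521ebc01b8f0b6a63c578d76a5358092b77675d7899b7c9e6bcc8c11871744998747e65cf7ae11926d6028f767e2b543834fa9cbbbd7b161a50d199e914ab65d2b5955e77624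af96a28046e6fcfcde0406c4b1c26e5fe8cd66a2ac788815ba67df37e0fbe9f53d75d016b7dd3853552e1da69fd4ce7861eaff3aadadd894afd9fbd8994944dcebbb7ab67260e29a8d7baf6b93823066225b297909aa8dc99375caeb4c5a412664d3ec7d70faba4cc8795c664b9e754f7a6ce048c718a5fd238754169442ca9d71a235aebc7495da4029f1142e759e9898b1cd3bf7b6ff6a4d4a7f0fe7114769f929ed2502c391cafcdfaaeb741d8bff8916c28f3ee7db13303cc2a4d35b00c69c3f1cdfa3f591d23676621af325ad04bec5f3da27483b1927a8b4b0824f2a0540bb732529ac77c355da1760dc197ae923b97d380e32cd8a1f7c70760fab35620fbdc730e2663d2987104e103a0a9b72215cd48b951ef4521c13822af55f765061d3dbc92f03a07cab9555deecce87f6fea42dd78b3512a85cb84b09251d15b11136b5cf1842f59cdb8cabb572add5a7c0f2e865f793b462c5cae95f17ea0c88ba305e0f388a771d256cac8190367ee1bb430bddac1474380235cd5ad531ac758fbcb49ed6cbb88354ee2c2882b071ca38f9177520ebd972b2eb134de94146ec2d84a137d2fec689b6ebe0b3a4c4f1e6cc4dfc1782a54ca8a711c6dfc917e4f09be909690640080fa4703985b11924647926a4446825c140252068684481f6cec95260ef404bd1612471b2294419b5348711212281a8815a61260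267915c9ce47e3a85f998176ae0a20431b06f0400de38ca98762773ec72460a006e27201ea840c02ad1898960e73c75b4057cb19a82c06407406192c28eb2957ad06a2939889c169ede53c2b0480c217e8f159aa29872c91c2da43c902210cc98b04724e8d8911001eeb0c9c8fd1e82148e0e32706c91bb4947289c478ac6663b86ea9523a914a59466683f094b3968cde8a62b229c41882b2c6745359e2c524acf58ca4868ecd8a4b4b496d14a88b1644b101c0320f00780b9a147c71c4d0421440080e8b30726a8309bd0385d4fc81932e618bd84004282c268051b85c8728c7374b309f9be45c6e0641cd1e0aed4e03f14e3145a17c5f4114e8b6a3fe9446785f50672866a8d4186b4110861c43d87a9b423008c008721261187f89f4260908a0204866cc3e88b0228504c81512a3a0461a304e2459d9071fc8e8899041f6a489d84825039c540f31f2d08502b52488cd0e8b966a9287493d0ea34c90a3d65670c3517860c6d8d02683f08c0590544a40f8703613dc6a500a0930ed796c1883d05602d96d414a15349663ce8217f2d14a0d71700be550d69462ac192c31741b065ca19b1a885f2838f8375620db098a7c5d861108af16dede04129422421d14a1862e9184f136110888878b76486897a8ad42a81085a1944cd5d719c52407ccea06f11ab88a823c654ad19c32642cca18e8d7686d2899aa423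ec505c2d45e4d1194b6e6f69248db05604a8d96b045ca8b0ee0041465e8ab1a802c7582b01a3566082982f0165900385a2e8588f79793d2d480415509e60cb296c3ba024612740a467110a106b66b81ba6a3f43583895c5d47312e98c41a7f0f016940cd998698b3d66342e9ec2d49905219304c8d43180a4242103a0d20241988700f0dc648471f23a6038149d53a46943402a214050069e540688c8b07762470854b1c43889033896274249152a522e8acfaa2d476c0d721942227d0860981aad61698db44a788a0ac169cadc24a7e31ea043e0bd36e0f120abf56c1fc721485361118f8ed33caa5658d115c4ad9f945578b3c7c14a202bcc6503513a6ed4037651e9c00c2d954e9d98f13e590a79a0b0f5ec501b42b153099984adf6e6a2598b0059cdf19bb18278c9caf9912bc0acc02714c20b486a7f4dc585471812e0d4db018e2fc9bdbba914bca403f19605c26c5504e2e60d0f306c33255cac9f70b258c3b2ba18c4a86232f2642e94e9bf066a5d102960d6ab840b215ae7f90f2f81beb78dcb5633e9e54c9c02ecd7c6712e4fa0e97d89c3969c83285c25a968601df53ea1c57afc49ebdc6592f178bfcd625434ed8818a5c35e95c5a9da534a090fa0758ed657086d36296117ad66d66989a8cc0a2bac6d2da0e04c0cda7508296c1daad4c6628fea730b0a2d76a0f0aab9cbeb744aa5dcecb723e299d5033e286aa98514257a9ed982ee6e0a8580b6d4dac2d0d8900c42298a8b00f64d0a7915220a4c8d2b3544655193236262858db4d6344dcbf9600585bc0600600694c530643340d8fd8d00f4140ce96b2a40c0ed85730a56c0dadd5569e839a171281a5782595ccd90b72602e2d50eb84c2a859db29e13b09596d85e2b4994ef2e96aa5a0f6a6b4c41296e2ef6ba9b0792d23c6b542595d3d454d2f800,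
   0x22dcb87a92da2a48a7a721a2bd43a8317dc95a0b1711dcecf1b0f3d1cab8f716e66aa415b57046a84c8b5d31ea654ba95525e43c794d76a4c57a78577ebe4d29f2e9ecacddb30e8ecdcd585709e6cbb1ae94feb93aac054faff3ad7b0f59daca98134de075dcb754d6dc4fa9f73fa7fbe47cb85a3550b996f46344cfbf1569e4d56be9841e660fbe17bef75ed81729e49cac7eb1ca48c7080cf01e1bc4ba7012fdc02b9951afd542b9f21e42dd7738e3a72ce4b0560dc84e0b0961681d02810fce9e61e9fafe31047d8fd33a87467c276ce866179b90aa1f43d73ce7e16439740e868be309078ba883db904f5e89dffbfb46f16bdcb9cf6b13519b9b45714c5a8b18c707480a1b56f0cbdfa12f8b08d52a9d85712d007e33f310db67e96d70ee1cc3786a24c489e50eac6c268870fe144c67cf1a60b4d18f11963dcc9bed7ca66d71c0715b00d6a767155d7d6dba5742bacf5b34e92cfc3c9b0e8a6b58eb1f64ac9caa9571d29dc94b737829cdbdb02f16ec3c1afb1baedc6daf35e2bbd76b393cec44f89c6e62c33969bd1062244596b22dd648995d175d5c5996345a8a4b9c31546d8db0a09416a9daca0d41ecbd96b33385d4b8ab23399c640c81b6f24bd388e2fe64ac759a17d5e7bce8c1186fbbca8c518e00d47a25515fd5d5a23745febb075d016a25d69617529ec0395effea062cc555223640f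92cf1a3bca59252a237e23c3f1cdc8d949bf641c6cd49c534dc4b8870ee1aaed5c7c0f2e87df1aaef42f9db495b4ea80dbf80f4da055b7aff5eedde007698a1d95f9ae789eb7dfc9692cb023e38f519a3fbcd999192653de82104e0a4f69eee69d45899af101d34db85b11a1c442852e521db9384b09211c228f8f86853e6b5f85284612b55556ac5597b346ab65187a58beb5e2b7ab001ff3dd8ed889fbbf691b23b123f291f2420c4178f36b635d4d8256caa7d9db3d36ac63a572f39ec539bb7d5faef5dda634cac05d9a674d24445e7f917240cb77f72ce42570add232755a2b516a6764ebb4d0d6744a3b9107e0f4ba97772a0d4bc778ef6f4cc4acb27a10cc294558627bb9ac8efb04de7ac579625528a574b2f5d24c1782aaf55fa4d81ab05a3860e11c2c338650d1c1c2f7e0fbe2660798b481f560ca452f693bedc0afa691c9bc1126a8fd1ea3b472284519435a260de6c1b59af5530a5eee20dd69b894aa105c66fedfa77cf0b4b691c15a7b430ba4cbbf986fba5244b97f13a4e5c9b8b281ddc4d98114a0ec9f97d275db3e87d6fb2e5d2d8334a6e3de383978ae1dc2b83702f0c53acf4baf63b7ac6eeaf2525a437a218ce986d0ddc0b809db3b9beaf06a85993e3044ec960aa28e6b4779b9a700aab68b62d86e46010025a6ce821312e20a86297b1886c27c829a840b27518720a3d8578f32fc1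fa5c944a59510db93585b5fcc09aead45e29b4c61e42628452b17805a9a5af15a51eb7d3084a4d4780b896d41cd8d3416850e42d7336841eb8c259e55dcba1049e36f07c0b39596ec998271d74dc7b8b83555ce77cb71e83de0213ead56f8c002f2f5620a3136375602c15862dc61a4313025c5fe4b9403645168042d15d520b816d9fd6eebb17c2d2260b85b2a0461ec257485c420b91769ed614ded2fad95bcd88c884c60c7f9af9d84e27c4f51dc21abac9b07b5a04cc569c559cd205f2a41b62d95622c69646d4f29853e2b01f1a01d82781d2195606c00d06865c30d51218282c9d230821c0374d886f64c9206d10f23c8a83602e174c595381839c898d400a1bc1b50f2220e08c4968b728cce1a093c694cf18e096286545a223c1e2cb4e0294280b055d11228833156865680c68658b2184931643186922c06232429e4888d315660cb0690296a047c3f08a55c2fc5521b69cc7899220194439181ac49e470bc82a50c9e1399f3514dbd3215c0beb4db6184316815a99584ee5dcbf25209e5ecad9554bcda4c18073205a8bb3574ce624c11d260e145319d96d47880496540c8081595730c558af9636b27d8eb1522de134b135231e79c97a754f4bd14297d6f2bc93a1f451a174fe358616bf53935650296cbd1744fe180c0a556cc5f0161dd5f47e9b5a545eebcd411f80c280cc29d5610dc0fd90a5d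4831298064fcb58fb97331cdc4b01640a07e5b01da41676c1da9566cac82188d58407ce21945922c44923419a35019192256200db1b239e0f41780537c20c5599b3948694b08513e230e41a21dc8dc4580f07e8a11181549cc88db86254c67801810176718d319803268cd500b13409d598e3580b107407428ece95e31427a8f4e60972463a55c0330841f54d1bc1c8ccc3d07218aa70de814594900421b41da4e5992325964745986968444c57a454949101e19956c8d84d87c47c24ccd21463e2b80f2121b8074f0a655dec45948d70d46bca12d1170c7558b3727c291503281804d12832a19c48198a2d0e24586fb2f2208a4a834d642318791022525312b9872d27ad2e98d5f29ed48b035ca7d5b6b5c0a4d6c2c3740ae1593797f2c274cf496b5ae81d3cafb5ba834e0aa306e294189a901c64cd72c61781010b1a401a23c70aaf14091cd3a2702e1b95a149130d3150877258ad464a3b59a3981a2be33833c5c93754ace58da4922e2a5a2ac52763bc6a92549ad0d5fac71d44a8408a162e6fc9c044572b0d1ca930f22214c83632a18d6793f6322a0ce8666261d8d280437221d902aa5507418923a4707089a8d11821048a09411c081958c867e538e88d968e3ace58a342a049a78f049646528aab18e3588881b4428ac5a0d364a7350ea2505019c1807f342a5d0f99f0c80594d9c91440e00e09c3568fc4834644848435a17552219178261b090ccb0bd0188b95eb3d1ca4e85aa9d0e68d59f2cc1a05210e33422a264a2b51248ced20b2314c460238f71e609481848296418a690720a4987e37a1f63e8809000023fc248f61e80887a82424e3e0a51082084a0a99753fea0c449c332e00822abb0ea6d55b9b3072388dc29206a244dd242042254d6a3314e04c4e9c702284d9a8e70f06ec118461f24247f000,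
   0x1e95808cd5f9eed1e8c9475eabb375ef66babf3bdefe2b8c4bbdd13ab6d6cad75aa2dd037bf77a2a5647c558a2bd43a8317ddcbe9ab756a9c4717db55a3abaaaa7302a8bb5af12fabbbad806ffdd8d48797709e854494b70654540a7f4fa9ecb5abaeded8caea6eeea9acb1a2d4525cc097834ba96d0b996f1694ccf7f549a49d2480b52e48d4a7faf6debc01a3706f0e420a2f1e30dc7ba2744a88d109114c203e0b90342a055089095c2b748c7c304680d00acb27a0acfc9455861ec3e9e50ea7acf4b2f0fe78cdc85512224b9d7450b272ba49cf399d339084508e70b8e849096d2c469b710a7639b9aee5e1742f8650ce68d2a9074be66bc0904f0e64cc898f31aa4cc476130aaa5b675d6d6a64698cb5423e3bc96eee2d7d3a9674dad5555ab156656cac8b951eaf55f94f516b04a49fb15a814a082115609c9c93726a4cd1c92f0024ad27c20ffb07d1f9872fe91c4f81922a04609a1b21a84c4aa514ae964808ff2da8d531a651ea8c5338ef55e5855c8e6fa257beb8df1ba36c6caed1a9ec468b0378deb5e2af325a4957d952f922ebe0bb959e2cd639f53ee7f4ff8a714a44d74a0941626d72a0d41dd439a9df3c216cd673969e6c4f69eedf9bfc3c877101c24388873821ac34732e2e7243071ee55d2da09d111dcf4289d7099d0b8c714ea6e3bd1bb0f96e062cbb78aae1c9f93b72df65b0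c476b1dde02c3f7f9db419839076f0e18b7585af63acb70eaef2525a437a245dd481d03e87df1bacf1af9e218436addee1abff6bafee1d8e51c312bc4c157db0340bbab7cae8c067e2fd1fadb4bd7852f4dbf7f9849fddb7aff5eeddc5ec5cf99f3d69b898c20b5c6be8fe702c0dbdb74b045d0be1332655f8829776e4dd97c78bee2e2b7bcf25e63cdc1d6faf3dbcc32f52f2bd3c2354aa7615971805df3bfa7987b01beec414d2d4da89b5631c9393b47629ca4eab4567acec29b0f69accd8b704e0e1cd91b27649c2d96b1f63ac6d9a74167ec4da173f692c2d84b0760ad6c7983f07b005158fb06a8cc1882f72251e26c4f04a50e28bef4330660dbaf2168745190f73e46c04a4500a4c462a41186485bdb7325303c4c7eefdae9d6f8a0fcab9bf07df88a3b5f9bf4faa3a5fbb9559aefde0c63162b44ab8b58a6303dcaf8f6a35cbcaf52ee31e17c2719eed4a679ef3b16d42954f2aa33c878f7d6685ccb9af0a675cec494e6d95b3c092ca9dc7e9697f25d3b4a9eeca62c8fa9b23a5edeabcd30671ced74f3a622c2b74709e6f598b376726cc378833ba69398888e5a6ad88b0d375c8c319a90d9c6cdf9a7389c4b8870ee1aca595b213cdc0b809f33e1be94e2a2cb1862ec5bad00963515fadf190308698c45a2b315e2c95b4ae86cecf4a8300668bd1703145b2c7582828650b51bdae5690ce58caf96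b8dd462932250b68980d35d6430a20c369c4786a13c23eb88a18726844686893b230bb86f146244d2ca688567443c5713d21cc68a284d656440a60ac61c4707a13323ac88a50f363e44c54134242bcc84941252c589c8b164e4985114221abe89d04a616428a38ab65c44830131240c08a405f5fe4585392f22ec4c83136246bd89f0a560e4946792e248b9c9a8755ac444a008366646c70938232b7c9f87f67e4504893722ab4c4014b24ecd8a488f68e42c6326a416c29550665d4769650546948886c28a3dcca93f0c765e8e873a63456b487d29e49ccc9618d761e8086429b45cb792d867646789530fc63c8686ca66496b8d6788667677c35a92426c6c802b246cc995787968c89c6b2723f4b6d378525f67ad478e660c83864a52484b995d87667c7582b27b40ec0c752c647ebf9430876867cc3c25e43ec49418585de74d5f06a69e7d8442a33cebc94b8775ee8cc7f2573feb5c75a7748ecdd5b88962e859568965f87b038a5c418bb478a84498bc1380976488b059abc440c714685c69a795681026a08005baa448ac114e0656608504ca6d3e2b905fab0462cf16206f65a7508225847ac55548b95c2875608b669292082a95450c614805a61a7f45aa643bab705927c410d116685b6207a072a614a2be13a8985d27d15c0be6828d077a89422bd5408b46427802ea5544ab5481a98480b61348b861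2814602b53f2c055086366a765648e367086460a78472ca5661706ee770b226c3dad60de2ac460d694616d6f0810e6a7d420d7d4e95c6d6891641c46c28f0e826849ada13897c6c48b4d6a54438d54d8294488dcd589a46e27c0d0aa0482da9529956e0755601986f4860c4ac5452db93019c6c07f0c6a6541ad50c82804a0d79429846c8790c0a7446ad75489756b6785689786f2824d4ab43f0db15e9556cc760b0a5d3d2db4e4a88402d8d541586de854dc299442d593c9696e87d55c9c16ec8e0daa59492d5c9580129e09c380931f027c7809b1241384e8640a02504d0e41ec2e84a8510dc2845d8f71dc2787c8bd1401884e04f178388950026b2098650691fa3746d0e819614c6e0cc0aa1a06687c1d21647d86c1b6228768ff1161ec8088c0da1f43d0571d8234d50c41a46281f83c0900b96581d55c0912d015544029251e645486c7a99e3462c0161ea07c829472ba03c0694126b0120481b1fb086918e50c21545793729a5169880e00b0100506a96a2c6130b78d037629955a7a4be94c0d813018018ad84b2a41cc248420640e91f24f43c7c82004405a0e01d84605e0ccc786115e5c86717b3361d06f98634c210d78a41e464907a433de7f911a323bc8481c8410620a917a033a478ce78e038c421672c254e9d81281f030040b30ad364208839be36e1f95fa9650eacc0b82304003ce18a912055c181db07a8995b29f03208933a930220341aa1708e8dc5197e3061782282b06e0d13f82158e059398074ac039031f747675ccb88111c5dccd16b39c688e59822dc5e8c71ab2c4568dd15f3165ccd719638459ce39bf2ec64cd39b333e558bf95336c61c968056e40a4d616c3626d0e6191318550b019d30a574de980350700b297d34a5a0e41a0310714e8999328564b89743725e5a98046cad4801800,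
   0x1ddd26a514920ece8a573addb3e87d6fb28dc0f9b0f1a8bd529ad53a89d12a2344298ce47593829e50a7574229a4758e34e1f23e5a034022fd417a33f2a1d71aaf5feae56a7415edcfd6dba5742bad76ab4e52ab581ae0e4eb757992d24abed6970b591c1d65acf58ab1d61ac157eaf5beafd226ba559ab1602b9555aa8fe68b40daa136e8a4d7a9952ea554982951e78d457c73ee7a4fe7bcf25e63cda173869d4e6a08f529b3d3a0f7cef8d0fa614bddf3bfbd1486953eea4b7927ccf882f06316d429e6f3ea341e83f3ba76cc5a40fc274d22c494e66750e9c738a9dd0c9bf37a6ebc8a9efde6cd19a9b4566acd49a7349e959da0d665eec72a0b1c1eabb375ef66c4bf38d2fe2c14b08cb2bec2c2884d6367fc5e7bf17254d8f7c564a7d5d8bb7771dcbe986168ef0de27db6a2f1cd189388272ccd807879ffcc999131e634ec98906661433c0b0730442eb43692d2e158132de0760e8492ce11e118cd1930ccad95965acbc5bc5729e1f62fb8edfe51384b8126e4f49ab8727e4edcb73d6c2b65ac75324eb5c91742e6dcbba5919202dd55b910e3edc38b90920e41481917751c739c8f91eeeb39a8f16aa685f5804ed222c44beeeca20c1279529aed626c4ef3aefe2886f0db0660d98379a18c51bd52f7003c2856f1efcc6284f186fe4b4965811ccc7abab1fdc9578ba35ddcaba4744e764cb82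b84dfa525c6b837124e5c9b8b282dfd5d7196c6ddc8a71521adbdb6b6b6d1c83a6b7925ed7dae751256d5d93c61297174f58212a209d8e8710ee1e6259cf002cf62199effa65e1dc3986f0d4ae819612044b9c2960f094b1c057fa5ac3486b82f055ec97d6a7034c0844f17083c185b7ff07dfd84b62ec3c2976310efb4487554cef953275af61eb3b5c137ae17de9a58ede193ba89512e2744fb230e5f03cb8a91561ebd08ad15f03c4c834faa5d4bb8a0fbe5e4047b588a3b59cb36f723a5989552aecad94c63162f05908b58a6303f6bf6fca35d88bf561a31e17c2719e7edd99e50ea9ed3ebbb0fe9fcdc85546301bc47870b300bc0a5b4b9debbca4f79629bb8bcf47ef6c468dd10afc3b08daebaf850da137d210c209df3c291cbf83769e61cf69ef05a0ad48c5510208e2ca352daa8e1881702a5c61680f01a02da099911e00e2399587dfebfc7f6feaa9c689b5631fabf48d5629f8ceab454a626d1ca3b69a2951e7cef9a81503a89165f0dde8bb50239d9a7b767e365ef7af7ba37d37a6b1de4a5ad74f6ca46dce7477364857caf5262e647d91f1e6ebb9891ce5ae7d73adf74dc8db390f1f9c6dbd90b6e5c4b8870ee1ab44a1acd729c0b80947721bea1c0388ecd01292329408922605240d880c26427811f081678330522016ce3ed2023802c9305c10803e8e4111fe57c394e887d3805d0920bf6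703b1950c945e9350d06401a875161e135cddd0d82333e1210a8123566e8e91dd2d4974ad19c6a46754d17a34a5f4131284963f88890c6567fd0fa3a45a06c50b3d494341212fb1aa834e98753b604cf51fc6da6340a0733666ecf73203e01c47a0791ea075180c45627400506533c684059dc348584260976e20e4cb1bc358010ac25c2d85808802845c3208e9181b25147e0c60489056f0c53e22e5760523d283049878022265020b531cb310a0060605f10b31d4548858bb3a65a2a47923c6f46fcef31c6dca84f22dc6ded6d090745266d5b22b46ca730c9356328575bd9175ded30931151f2ceda533e492d358d07742e8f5891fa44a7d57913a406cd519235384af56a9f46cc9e98f0fa45241499ae0450b850c220360a818c0b755cb01921f8550a30ea0632aca71ad2602d0dd54a0333326d08f95068cd44871136322a1943006608411b14a160410443344882996b2f45c8174ec0966c46e0422fc5889e47ba3f04a3396f8a53de3350f01a35e704568cb39eafd050a330eb343400732e5edaf17e2e2630d90340066f49012569e3c01391414033d0714241e9447b0e42020804e0e648608427afa40a15c071fd3945fcfb8e8516114350c346205c5d9441ba3040c10239c124362005600b4f405b4dc6400807c07a0e01f280390644af0322b20148f10d1c2c448e00117a425a70ea1be3c45607f03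2328fb0a20102d09c0601b81845501e3921102a85a30ca05972fe6528444f14b46e3fd2334159cb450c87b53e6f8eba346c60dc46af55849fcdb2ba38a6e52b27c6e45e48d91648ecfca792368e5259b90649e41d9b2ff1b6c05812f940cc35998e211c3a5a205e58ede4f907a2eead5a413e1c0d418b0800da2d9780be6ecb407e87e08eb04410b238cae56c0534d29e14c1783506013b2b83104b4939222983ac8595161c4fc5d340490300a01466923b5831476123bc4192e1187e5042f8510a40450e356c108331da35a5ad8da2b2a6d61aa9a253a571752e50ce84cf6a24554d70349d54b6a493636b334655919e25ba39c35b2c4a85918a2d254adc0f589539656caf9aa0625b43822718e3457680901805537a8a536008b11630585d44ea0b0b034c6c04d2e00f135b6c33664d6d8926267cd119e3546d644c1fb5769ed5598b6e870d85b031288cc87aaf53c6c5561a92dcda017a954b455d291652a8d4d97b3149c35d7894d1e64017730f3be3e18f93413e2c571b220dc79c9ab251123516baeb0a28089dafd0ac29d732226181d9bc1a75227356d1d65a81299909b27821c259ec15e348ec9e51209152f26a254b292bb6956eb0db516f4da5a5659c758a1057106225e1c9339a351a0d5513732ce6994caad0767112fb5f2ec6293eabc06c605b0265304611322852aa119aa2822a45cd29a552e40a8a7121234b3c6b34561481c9e8910a0bcc852834e46153826805c660990545b2214379e654c9985985c2589f93883f5526249830815c219a1ad36baacd4b3614b2a9193327286ce574b0462a03dbe28652eac9313574e89d57bb4226ec15741395909605584e08063c5e34b4e660d539664c210c98b0713423c6d20951eb182c88b2569dd472890746dd738ee29017ca08de056a109b2f6592a1d31800,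
   0x2524a39452865049f93d2764e49b9352664c49792d2564a4939252464848f91d2364648b9152264448790d216424839052064047f8fd1f63e47b8f51e63c604c0780b00e00bff7fafedfcbf77eafcdf8bef7dafadf4be77caf8df0bdf7baf6decbd77aaf4de8bcf79af2de4bc778af0de0bbf77aeeddcbb776aecdd8aa954ea9551aa153ea754da9952ea5549a9151ea3545a8950ea1541a814fe9f53da794ee9d539a714de9b535a694ce99531a614be9752da594ae95529a51129fcbf87eefd9fabf47e6fc9f8bf07defb9f6bec7d6fa9f4be87cef99f2be47c6f89f0be07bef79eebdc7b6f69ecbd87aef59eabd47a6f4a3bc768eb1d239c728e31c237c6e8db1b235c6a8d31a233c668cb19231c628c31822fc5e8bb1722dc5a8b31622bc568ab15229c528a314227c4e89b13225dd7bad756ea5d3ba5746e85cfb9d736e65cbb95726e45c7b8d716e25c3b85706e05bfb7d6f6de5bbb756e6dc5b7b6d6d6da5b3b656c6d85afb5d6b6d65aba4f49a92d24a4748a90d20a3f47a8ed1ca3746a8cd18a2f45a8ad14a2744a88d10a1f43a86d0ca1742a84d08a0f41a82d04a0740a80d009ff3fa7ecfc9f73e9e8bd079ef39e6bcc796f29e4bc878ef19e2bc4786f09e0bc077eef9debbc776ee9dcbb876eed9dabb4766ec9d8bb075eeb9d6bac756eaa68cd099f33a66ccc99732a64cc898f31a62cc4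98730a60cc097f2fa5ecbc9772ea5ccb896f2da5acb49672ca58cb095f2ba56cac9572aa54ca894f29a52e31c618bf1762dc598af15629c5189f13625c4988f11621c4187f0f61dc3986f0d619c3185f0b615c2984f09611c2183f0760dc1982f05609c1181f03605b03602bfd7eafb5f2bdd7aaf35e2bbd76aeb5d2b9d72ae35c2b7d6eadb5b2b5d6aad35a2b3d66acb592b1d62ac3582afd5eabb572add5aab3562abd56aab6aa10c2083f07a0ec1c83706a0cc1882f05a0ac1482704a08c1081f03a06c0c81702a04c0880f01a02c0480700a00c007feff9febfc7f6fea24c4888f11a22c4488710a20c4087f0fa1ec3c8770ea1cc3886f0da1ac348670ca18c3085f0ba16c2c8570aa14c2884f09a12c2484708ad4da8b4f69ad2da4b4768ad0da0b3f67aced9cb3766accd98b2f65acad94b2764ac8d90b1f63ac6d8cb1762ac4d88b0f61ac2d84b0760a7ccf89ef3da7acf49e73ca78cf09df3ba76cec9d73aa74ce89cf39a72ce49c738a70ce09bf37a6ecdc9b736a6ccd89af35a6acd49a7349d4ba874ee99d2ba4746e89d0ba073ee79ceb9c736e69ccb9872ee59cab94726e49c8b9071ee39c6b8c716e29c4b8870ee19c2b84706e09c0b806fedf9be80606801c320011c41c8311120c61dc3b0320e61e83a02225c0cc3f0786ce1ec3a9140464bc3f8791004543e87c1c80d4728810cad587194a2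2652c270020241582780302c15c2500c0340b02600d0380b4e99572f45eceb9532fc5fcaf15b3ba574ad15f3c25840802a0c00800702b0bc0840a0590b40140c0580b6010f99732f05d4fb9772e85e4aa1553fa604ac1594025f44d8941440d8508bd1480e43302e18c34436030198340c92535fe6eccb2575f66fd0da5b4b86850fa5f4c0674450911d0108440901d41105603c16e2645503b16a301391b746a9d53b1b34729e56c9953789f56a999380a04138500a604c130510a405c0504d2180740584b21a06ceb1523f47ece91563fc7fced1df3b8570ef1db3c05808500f03c17c8581103e1842a0150501702a819052174f91723e87e4fb1763f07d4ea1d54005f0ec1d93f86004989f2302a05d09d22e2988706918a3288806b188321692134749f96b21747c9e96d19a440b756f19e438b844288624439c4208c2483b48d0ae12c2cc8e8b017e2e51b2f35e86d1192f75f06e10a2585f88f50c2546009044f09514a0e04e0bc1460dc3402f19633c350311923392919347e9ed2b1974769fd6d99b3389856f99f3409744388f1cc10c4688e1d81145583a1642605683d170304d92775ea6d4db2735f26e50ca554f86f50aa595007047b12b2743fc7b92a27c3f87a1342881207913528412589a97574aed8ba9357cafd4f29b63aa754d29f642a849b04620c5209c0472105249e1002044b0a010120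64b599ab3570ad59bab7568ae54a29567ab054c299682af44909a22c29c5d8a02322a48786718631c8886d184335092d35f46f90b2d75fc6e90d25a5c08750f25e5b88844188b2463a44108924a3ac8e0b112e2d88d8af17c2d17b2334689d1792374709e16a198478bf56c194480c04a70f81f44eca78f91f64fc990f325050c998f52525158b292674ced8929667ccfd8d31f638a718f31b640a809313928c4249393728e41c7e93d2a24107e1412a0415992b2668ce59b2b6670cd58a315680af18c319678b00b396331a644040096a4d50f51ee2d65bcc120730c80cb21e531482cb41e931c83cb81ed2d87c50220830a624121306c4dacf11e6420830c19872da5c4d5a6b35e9bc1f120080105329a934a9a4e5a8f51673daf3646a6dd0e2a85392a2561ac755aac4b71eb2d47bcb11663c679cf21e841c828b496531663cc619041a844c2209310814370f00e01c53522b354bacd72ef4dc8bdacb5b6aaddc690d31a83786b0d71b63646d0d81b83746a8df1c03858330248c908e130348ea1921a8238cc1d43a8338e70d112e24c668d8624c39aa35312235ce699719a24cc89cd42643489a112ae9452b94e528e39ca2927b0b496c3d869cc5209454624d6227417322634e99d28310522745782ec4608b116a6c360bc4d62ed4629c138a6d3626b5ac35f6c2da5aeb5c6ccdb9b03686e4dc5b2b6d6dedd8770ef0de3c4e230550891544249390c25abb796e6dd55532f55ccad512a6646c9d94324694d3952aa959eb2d662d069ad4564345588d25012063d87c1152ea45cbb88f11f07e485122e85c88a18524e494c39ad37b6d4dc122304490c21a1346658cc151aa75a2b34129316c6db19532e556abd63343584d1d52325594d2d5432959cd3d56331560cb5a234858ab24a614d6f4df193322698d41bc000,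
   0x293d26a4b49291d22a434828fd1ea3b4728dd1aa334628bd16a2b45289d12a2344287d0ea1b43285d0aa1342283d06a0b41281d02a034027fcfe9fb3f27dc778ed1d63a4738e51c63846f8dd1b63646b8d51a6344678cd196324638c51863045f8bd1762e45b8b51662c4578ad1562a4538a51462844f89d1362644bbaf75aeadd4ba774ae8dd0b9f73ae6dccb9772ae4dc8b8f71ae2dc4b8770ae0dc0b7f6fadedbcb776eadcdb8b6f6dadadb4b676cad8db0b5f6bad6dacb576a9e8bd079ef39e6bcc796f29e4bc878ef19e2bc4786f09e0bc077eef9debbc776ee9dcbb876eed9dabb4766ec9d8bb075eeb9d6bac756eaac0d80aff5fabed7caf75eabcd78aef5dabad74ae75cab8d70adf5bab6d6cad75aab4d68acf59ab2d64ac758ab0d60abf57aaed5cab756aacd58aaf55aaacd19a133e674cd99932e654c999131e634c598930e614c19812fe5f4bd9792ee5d4b99712de5b4b59692ce594b19612be574ad9592ae554a995129e534a5c638c317e2ec5b8b315e2ac538a313e26c4b89311e22c438830fe1ec3b8730de1ac338630be16c2b85309e12c2384307e0ec1b83305e0ac1382303e06c0b12a10c2083f07a0ec1c83706a0cc1882f05a0ac1482704a08c1081f03a06c0c81702a04c0880f01a02c0480700a00c007feff9febfc7f6feaaa553aa5546a854fa9d536a654ba95526a4547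a8d516a2543a85506a053fa7d4f69e53ba754e69c537a6d4d69a533a654c69852fa5d4b69652ba554a6944a494728a50ca093f27a4ec9c93726a4cc9892f25a4ac9492724a48c9091f23a46c8c91722a44c8890f21a42c8490720a40c808ff1fa3ec7c8f71ea3cc78c0980f01601c017feff5fdbf97eefd5f9bf17defb5f5be97cef95f1be17bef75edbd97aef55e9bd179ef35e5bc978ef15e1bc177eef5ddbb976eed5d9bb13e9fcbf87eefd9fabf47e6fc9f8bf07defb9f6bec7d6fa9f4be87cef99f2be47c6f89f0be07bef79eebdc7b6f69ecbd87aef59eabd47a6f4a7ccf89ef3da7acf49e73ca78cf09df3ba76cec9d73aa74ce89cf39a72ce49c738a70ce09bf37a6ecdc9b736a6ccd89af35a6acd49a734a24c4888f11a22c4488710a20c4087f0fa1ec3c8770ea1cc3886f0da1ac348670ca18c3085f0ba16c2c8570aa14c2884f09a12c2484708ad4da8b4f69ad2da4b4768ad0da0b3f67aced9cb3766accd98b2f65acad94b2764ac8d90b1f63ac6d8cb1762ac4d88b0f61ac2d84b07609d4ba874ee99d2ba4746e89d0ba073ee79ceb9c736e69ccb9872ee59cab94726e49c8b9071ee39c6b8c716e29c4b8870ee19c2b84706e09c0b806fedf9be81d07813426079272254498bb2301e1b8944070360080bd2383d07a8d96ce1f03006107225ca287d23a044008dd07a264608bf038370849082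324e12d25b2ae7542a02e0d6170ed16b2be5b40500605a1942806905e164f31644e09c43802c012030af16c2c07c44f8721620d53f32c3306240101518e344cf17c400684b91a363ea341f8ae1bc2ccd520b31e6b4628ca032014d117361ea74198b00fc2dcbd21b33e5f4620c60300104d8d215e105572fc31066401814196340c71ac4606447c0e70864011b1b4580b0472048046080e71bc3a0905652cb38e9147e8421da411251bb39e6f40f0240923c42886721e158ab1d45c0b843210c00e034f71dc3e0585752eb3ce5942990e0da174b51db3de7740580821a1c50121355ebf4898a81002d90d17b3fe874618c802e0a04d0d414e4858729c4507e41381319a33d1720c3208c44f0741524558f28c3f08a413012192338ff21c340805092034fecb48f8a61c02c9051ab45e834610cc02c0a59d33b46e6d47d1221d6414dd24b47e9340f8222523947c8e92463fce32446a0d447812804a0851f24c4807443102a25e4d1332544d0b64270660621616f25c2b0565712534ce954991300561bcb11634debb42a8300d8169492f34eea54428862824b14529b44e5d4190ac0fe2e49593d11624553284610aa44e8d3156100c3214560a049513c10e2413b2946309e45087315a0d0cb204500ac54132354ea144208a2804b54d28b3ee6941f0aa1be2d5992c356eb14a314a08e38cd91b357ecf47e0441d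44087704629a5215b2c4570d247b0e808a405a72cc390725292e35aeb949992e21618ce91d35be974291100d416c3710a2624d56b2e45b09a42786822215d372ec3d07a4a713b11223d8b2f44f0c645007514a450fb1a4640c459128360ec944188c27e5457d32b32e8148f0a21c22d17929362ebd44108827c541952fb30e854890a41022e0a793a11a23983324550c244e0d514648113174620c8471126296525a3334690ae47b8e624a3f95f33c4708e56133368ecd4a394c24e3bd2124369eb347d9241d840ccd18a3026c4ef95c2de7b0b71de2ba7b5b0b7028603d159fb33662d10210360601bbb5203406cdf24e39a8f4dfa3c49e730fd22a44284531a582b65c0b39544be9b14f1764fa655afb6b06c469a9b730740ed471a655a614db9c459eaf159ac8396701aab5409412d352da2a4788eb2ee4bc5996e9e52aa9b530af12d2765b4b6a1e617d692592b47856d9534d678d301d85e05a1312e93d45c4c9a7b3e6c6dae3560ec1ddb436e1ae1ecbc2a0430c01932f652ca194ba745eec5143aa464ec118ab0554a9d5ac8926b0251b60bc6e826111182614aa8f91926349e997b0c5fec7103a2442e7d147aac53e9f0d39842ee651049a9662a450c979602a85ad0ba6c4259bb0be6ea3010f20e35c5f8bf99c43e7f0d798c41e8b1169fd33a634c1aab446c2db03661ac1e9bc3721b436cd4290410cc1593394747055da3369670da01b85a0921a12c9394945b23651e41795d34a3848c99f24636cb391ab4d57a71568b41372925bd37920c41d69ae83d6780eb9e45deb717f21663a7d5adb7b22c45db1b6f06e46d9720661a89523a3467ed31a1b38476941392a2532a252bad45ce9912b2e64cab55be35726c4dd89b035469cd942f8530a21af36d2840396333656ad159bab458ed11893025f2ca5ae800]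

/-- The letter 0. -/
noncomputable def g0 : ℕ := 0
/-- The letter 1. -/
noncomputable def g1 : ℕ := 1
/-- The letter 2. -/
noncomputable def g2 : ℕ := 2
/-- The letter 3. -/
noncomputable def g3 : ℕ := 3
/-- The letter 4. -/
noncomputable def g4 : ℕ := 4
/-- The letter 5. -/
noncomputable def g5 : ℕ := 5
/-- The letter 6. -/
noncomputable def g6 : ℕ := 6

/-- Part 0 of words0. -/
noncomputable def words0_0 : List (List ℕ) :=
  [[],
   [g0],
   [g0, g0],
   [g1, g0],
   [g2, g0],
   [g3, g0],
   [g4, g0],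
   [g5, g0],
   [g6, g0],
   [g0, g0, g0],
   [g1, g0, g0],
   [g2, g0, g0],
   [g3, g0, g0],
   [g4, g0, g0],
   [g5, g0, g0],
   [g6, g0, g0],
   [g0, g1, g0],
   [g1, g1, g0],
   [g2, g1, g0],
   [g3, g1, g0],
   [g4, g1, g0],
   [g5, g1, g0],
   [g0, g2, g0],
   [g2, g2, g0],
   [g3, g2, g0],
   [g4, g2, g0],
   [g5, g2, g0],
   [g6, g2, g0],
   [g0, g3, g0],
   [g1, g3, g0],
   [g3, g3, g0],
   [g4, g3, g0],
   [g6, g3, g0],
   [g0, g4, g0],
   [g1, g4, g0],
   [g2, g4, g0],
   [g3, g4, g0],
   [g4, g4, g0],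
   [g5, g4, g0],
   [g6, g4, g0],
   [g0, g5, g0],
   [g1, g5, g0],
   [g2, g5, g0],
   [g3, g5, g0],
   [g6, g5, g0],
   [g0, g6, g0],
   [g1, g6, g0],
   [g2, g6, g0],
   [g3, g6, g0],
   [g5, g6, g0],
   [g1, g0, g0, g0],
   [g2, g0, g0, g0],
   [g3, g0, g0, g0],
   [g4, g0, g0, g0],
   [g5, g0, g0, g0],
   [g6, g0, g0, g0],
   [g0, g1, g0, g0],
   [g1, g1, g0, g0],
   [g2, g1, g0, g0],
   [g3, g1, g0, g0],
   [g4, g1, g0, g0],
   [g5, g1, g0, g0],
   [g0, g2, g0, g0],
   [g1, g2, g0, g0]]

/-- Part 1 of words0. -/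
noncomputable def words0_1 : List (List ℕ) :=
  [[g2, g2, g0, g0],
   [g3, g2, g0, g0],
   [g4, g2, g0, g0],
   [g5, g2, g0, g0],
   [g6, g2, g0, g0],
   [g1, g3, g0, g0],
   [g2, g3, g0, g0],
   [g4, g3, g0, g0],
   [g5, g3, g0, g0],
   [g6, g3, g0, g0],
   [g0, g4, g0, g0],
   [g1, g4, g0, g0],
   [g2, g4, g0, g0],
   [g5, g4, g0, g0],
   [g6, g4, g0, g0],
   [g0, g5, g0, g0],
   [g1, g5, g0, g0],
   [g0, g6, g0, g0],
   [g1, g6, g0, g0],
   [g2, g6, g0, g0],
   [g3, g6, g0, g0],
   [g0, g0, g1, g0],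
   [g1, g0, g1, g0],
   [g2, g0, g1, g0],
   [g3, g0, g1, g0],
   [g4, g0, g1, g0],
   [g5, g0, g1, g0],
   [g6, g0, g1, g0],
   [g0, g1, g1, g0],
   [g1, g1, g1, g0],
   [g2, g1, g1, g0],
   [g3, g1, g1, g0],
   [g4, g1, g1, g0],
   [g5, g1, g1, g0],
   [g0, g2, g1, g0],
   [g2, g2, g1, g0],
   [g5, g2, g1, g0],
   [g6, g2, g1, g0],
   [g0, g3, g1, g0],
   [g1, g3, g1, g0],
   [g2, g3, g1, g0],
   [g3, g3, g1, g0],
   [g4, g3, g1, g0],
   [g6, g3, g1, g0],
   [g0, g4, g1, g0],
   [g1, g4, g1, g0],
   [g2, g4, g1, g0],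
   [g3, g4, g1, g0],
   [g4, g4, g1, g0],
   [g5, g4, g1, g0],
   [g6, g4, g1, g0],
   [g0, g5, g1, g0],
   [g2, g5, g1, g0],
   [g6, g5, g1, g0],
   [g0, g0, g2, g0],
   [g1, g0, g2, g0],
   [g4, g0, g2, g0],
   [g5, g0, g2, g0],
   [g6, g0, g2, g0],
   [g0, g2, g2, g0],
   [g1, g2, g2, g0],
   [g2, g2, g2, g0],
   [g4, g2, g2, g0],
   [g5, g2, g2, g0]]

/-- Part 2 of words0. -/
noncomputable def words0_2 : List (List ℕ) :=
  [[g0, g3, g2, g0],
   [g2, g3, g2, g0],
   [g5, g3, g2, g0],
   [g0, g4, g2, g0],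
   [g1, g4, g2, g0],
   [g2, g4, g2, g0],
   [g3, g4, g2, g0],
   [g4, g4, g2, g0],
   [g5, g4, g2, g0],
   [g6, g4, g2, g0],
   [g1, g5, g2, g0],
   [g3, g5, g2, g0],
   [g0, g6, g2, g0],
   [g1, g6, g2, g0],
   [g3, g6, g2, g0],
   [g4, g6, g2, g0],
   [g0, g0, g3, g0],
   [g1, g0, g3, g0],
   [g3, g0, g3, g0],
   [g5, g0, g3, g0],
   [g1, g1, g3, g0],
   [g3, g1, g3, g0],
   [g5, g1, g3, g0],
   [g6, g1, g3, g0],
   [g0, g3, g3, g0],
   [g1, g3, g3, g0],
   [g2, g3, g3, g0],
   [g5, g3, g3, g0],
   [g6, g3, g3, g0],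
   [g1, g4, g3, g0],
   [g3, g4, g3, g0],
   [g5, g4, g3, g0],
   [g0, g6, g3, g0],
   [g1, g6, g3, g0],
   [g3, g6, g3, g0],
   [g5, g6, g3, g0],
   [g0, g0, g4, g0],
   [g1, g0, g4, g0],
   [g2, g0, g4, g0],
   [g3, g0, g4, g0],
   [g4, g0, g4, g0],
   [g0, g1, g4, g0],
   [g6, g1, g4, g0],
   [g0, g2, g4, g0],
   [g1, g2, g4, g0],
   [g2, g2, g4, g0],
   [g3, g2, g4, g0],
   [g4, g2, g4, g0],
   [g6, g2, g4, g0],
   [g0, g3, g4, g0],
   [g6, g3, g4, g0],
   [g0, g4, g4, g0],
   [g1, g4, g4, g0],
   [g2, g4, g4, g0],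
   [g0, g5, g4, g0],
   [g1, g5, g4, g0],
   [g3, g5, g4, g0],
   [g0, g6, g4, g0],
   [g1, g6, g4, g0],
   [g4, g6, g4, g0],
   [g0, g0, g5, g0],
   [g1, g0, g5, g0],
   [g2, g0, g5, g0],
   [g3, g0, g5, g0]]

/-- Part 3 of words0. -/
noncomputable def words0_3 : List (List ℕ) :=
  [[g4, g0, g5, g0],
   [g6, g0, g5, g0],
   [g0, g1, g5, g0],
   [g2, g1, g5, g0],
   [g3, g1, g5, g0],
   [g4, g1, g5, g0],
   [g0, g2, g5, g0],
   [g2, g2, g5, g0],
   [g0, g3, g5, g0],
   [g1, g3, g5, g0],
   [g4, g3, g5, g0],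
   [g1, g6, g5, g0],
   [g2, g6, g5, g0],
   [g0, g0, g6, g0],
   [g1, g0, g6, g0],
   [g2, g0, g6, g0],
   [g3, g0, g6, g0],
   [g4, g0, g6, g0],
   [g5, g0, g6, g0],
   [g0, g1, g6, g0],
   [g2, g1, g6, g0],
   [g4, g1, g6, g0],
   [g5, g1, g6, g0],
   [g3, g2, g6, g0],
   [g4, g2, g6, g0],
   [g0, g3, g6, g0],
   [g2, g3, g6, g0],
   [g5, g3, g6, g0],
   [g6, g3, g6, g0],
   [g0, g5, g6, g0],
   [g1, g5, g6, g0],
   [g2, g5, g6, g0],
   [g0, g1, g0, g0, g0],
   [g1, g1, g0, g0, g0],
   [g3, g1, g0, g0, g0],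
   [g4, g1, g0, g0, g0],
   [g0, g2, g0, g0, g0],
   [g1, g2, g0, g0, g0],
   [g2, g2, g0, g0, g0],
   [g3, g2, g0, g0, g0],
   [g4, g2, g0, g0, g0],
   [g5, g2, g0, g0, g0],
   [g6, g2, g0, g0, g0],
   [g0, g3, g0, g0, g0],
   [g2, g3, g0, g0, g0],
   [g3, g3, g0, g0, g0],
   [g0, g4, g0, g0, g0],
   [g1, g4, g0, g0, g0],
   [g2, g4, g0, g0, g0],
   [g3, g4, g0, g0, g0],
   [g4, g4, g0, g0, g0],
   [g6, g4, g0, g0, g0],
   [g0, g5, g0, g0, g0],
   [g1, g5, g0, g0, g0],
   [g2, g5, g0, g0, g0],
   [g3, g5, g0, g0, g0],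
   [g0, g6, g0, g0, g0],
   [g1, g6, g0, g0, g0],
   [g3, g6, g0, g0, g0],
   [g4, g6, g0, g0, g0],
   [g5, g6, g0, g0, g0],
   [g3, g0, g1, g0, g0],
   [g0, g1, g1, g0, g0],
   [g4, g1, g1, g0, g0]]

/-- Part 4 of words0. -/
noncomputable def words0_4 : List (List ℕ) :=
  [[g0, g2, g1, g0, g0],
   [g1, g2, g1, g0, g0],
   [g2, g2, g1, g0, g0],
   [g4, g2, g1, g0, g0],
   [g3, g3, g1, g0, g0],
   [g4, g3, g1, g0, g0],
   [g5, g3, g1, g0, g0],
   [g2, g4, g1, g0, g0],
   [g3, g4, g1, g0, g0],
   [g4, g4, g1, g0, g0],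
   [g0, g5, g1, g0, g0],
   [g1, g5, g1, g0, g0],
   [g3, g5, g1, g0, g0],
   [g0, g0, g2, g0, g0],
   [g1, g0, g2, g0, g0],
   [g2, g0, g2, g0, g0],
   [g6, g0, g2, g0, g0],
   [g0, g1, g2, g0, g0],
   [g1, g1, g2, g0, g0],
   [g2, g1, g2, g0, g0],
   [g3, g1, g2, g0, g0],
   [g4, g1, g2, g0, g0],
   [g0, g2, g2, g0, g0],
   [g1, g2, g2, g0, g0],
   [g2, g2, g2, g0, g0],
   [g3, g2, g2, g0, g0],
   [g3, g3, g2, g0, g0],
   [g4, g3, g2, g0, g0],
   [g6, g3, g2, g0, g0],
   [g6, g4, g2, g0, g0],
   [g3, g5, g2, g0, g0],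
   [g0, g6, g2, g0, g0],
   [g1, g6, g2, g0, g0],
   [g0, g1, g3, g0, g0],
   [g1, g1, g3, g0, g0],
   [g3, g1, g3, g0, g0],
   [g4, g1, g3, g0, g0],
   [g1, g2, g3, g0, g0],
   [g3, g2, g3, g0, g0],
   [g4, g2, g3, g0, g0],
   [g5, g2, g3, g0, g0],
   [g0, g4, g3, g0, g0],
   [g2, g4, g3, g0, g0],
   [g5, g4, g3, g0, g0],
   [g0, g5, g3, g0, g0],
   [g0, g6, g3, g0, g0],
   [g2, g6, g3, g0, g0],
   [g3, g0, g4, g0, g0],
   [g0, g1, g4, g0, g0],
   [g1, g1, g4, g0, g0],
   [g4, g1, g4, g0, g0],
   [g6, g1, g4, g0, g0],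
   [g2, g2, g4, g0, g0],
   [g3, g2, g4, g0, g0],
   [g1, g5, g4, g0, g0],
   [g0, g6, g4, g0, g0],
   [g1, g6, g4, g0, g0],
   [g3, g0, g5, g0, g0],
   [g2, g1, g5, g0, g0],
   [g4, g1, g5, g0, g0],
   [g5, g1, g5, g0, g0],
   [g0, g0, g6, g0, g0],
   [g2, g0, g6, g0, g0],
   [g4, g0, g6, g0, g0]]

/-- Part 5 of words0. -/
noncomputable def words0_5 : List (List ℕ) :=
  [[g0, g1, g6, g0, g0],
   [g2, g1, g6, g0, g0],
   [g3, g1, g6, g0, g0],
   [g4, g1, g6, g0, g0],
   [g5, g1, g6, g0, g0],
   [g0, g2, g6, g0, g0],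
   [g6, g2, g6, g0, g0],
   [g1, g3, g6, g0, g0],
   [g2, g3, g6, g0, g0],
   [g1, g0, g0, g1, g0],
   [g0, g1, g0, g1, g0],
   [g2, g1, g0, g1, g0],
   [g4, g1, g0, g1, g0],
   [g6, g1, g0, g1, g0],
   [g0, g2, g0, g1, g0],
   [g2, g2, g0, g1, g0],
   [g3, g2, g0, g1, g0],
   [g0, g3, g0, g1, g0],
   [g2, g3, g0, g1, g0],
   [g5, g3, g0, g1, g0],
   [g6, g3, g0, g1, g0],
   [g0, g6, g0, g1, g0],
   [g0, g0, g1, g1, g0],
   [g3, g0, g1, g1, g0],
   [g4, g0, g1, g1, g0],
   [g0, g1, g1, g1, g0],
   [g1, g1, g1, g1, g0],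
   [g2, g1, g1, g1, g0],
   [g4, g1, g1, g1, g0],
   [g5, g1, g1, g1, g0],
   [g2, g2, g1, g1, g0],
   [g3, g2, g1, g1, g0],
   [g4, g2, g1, g1, g0],
   [g0, g3, g1, g1, g0],
   [g5, g3, g1, g1, g0],
   [g0, g4, g1, g1, g0],
   [g1, g4, g1, g1, g0],
   [g3, g4, g1, g1, g0],
   [g0, g5, g1, g1, g0],
   [g1, g5, g1, g1, g0],
   [g0, g0, g2, g1, g0],
   [g2, g0, g2, g1, g0],
   [g4, g0, g2, g1, g0],
   [g3, g2, g2, g1, g0],
   [g5, g2, g2, g1, g0],
   [g0, g5, g2, g1, g0],
   [g4, g6, g2, g1, g0],
   [g5, g6, g2, g1, g0],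
   [g0, g0, g3, g1, g0],
   [g1, g0, g3, g1, g0],
   [g3, g0, g3, g1, g0],
   [g4, g0, g3, g1, g0],
   [g5, g0, g3, g1, g0],
   [g6, g0, g3, g1, g0],
   [g0, g1, g3, g1, g0],
   [g3, g1, g3, g1, g0],
   [g0, g2, g3, g1, g0],
   [g5, g2, g3, g1, g0],
   [g4, g3, g3, g1, g0],
   [g0, g4, g3, g1, g0],
   [g4, g4, g3, g1, g0],
   [g0, g6, g3, g1, g0],
   [g1, g6, g3, g1, g0],
   [g2, g6, g3, g1, g0]]

/-- Part 6 of words0. -/
noncomputable def words0_6 : List (List ℕ) :=
  [[g3, g6, g3, g1, g0],
   [g0, g0, g4, g1, g0],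
   [g1, g0, g4, g1, g0],
   [g3, g0, g4, g1, g0],
   [g5, g0, g4, g1, g0],
   [g1, g1, g4, g1, g0],
   [g2, g1, g4, g1, g0],
   [g0, g2, g4, g1, g0],
   [g2, g2, g4, g1, g0],
   [g3, g2, g4, g1, g0],
   [g6, g2, g4, g1, g0],
   [g0, g3, g4, g1, g0],
   [g1, g3, g4, g1, g0],
   [g2, g4, g4, g1, g0],
   [g3, g4, g4, g1, g0],
   [g0, g5, g4, g1, g0],
   [g2, g5, g4, g1, g0],
   [g3, g5, g4, g1, g0],
   [g1, g6, g4, g1, g0],
   [g2, g6, g4, g1, g0],
   [g1, g0, g5, g1, g0],
   [g2, g0, g5, g1, g0],
   [g3, g0, g5, g1, g0],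
   [g4, g0, g5, g1, g0],
   [g5, g0, g5, g1, g0],
   [g4, g2, g5, g1, g0],
   [g0, g6, g5, g1, g0],
   [g0, g0, g0, g2, g0],
   [g1, g0, g0, g2, g0],
   [g3, g0, g0, g2, g0],
   [g4, g0, g0, g2, g0],
   [g5, g0, g0, g2, g0],
   [g0, g1, g0, g2, g0],
   [g1, g1, g0, g2, g0],
   [g5, g1, g0, g2, g0],
   [g1, g6, g0, g2, g0],
   [g2, g6, g0, g2, g0],
   [g0, g0, g2, g2, g0],
   [g1, g0, g2, g2, g0],
   [g2, g0, g2, g2, g0],
   [g3, g0, g2, g2, g0],
   [g4, g0, g2, g2, g0],
   [g5, g0, g2, g2, g0],
   [g0, g1, g2, g2, g0],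
   [g1, g1, g2, g2, g0],
   [g2, g1, g2, g2, g0],
   [g4, g1, g2, g2, g0],
   [g0, g5, g2, g2, g0],
   [g1, g5, g2, g2, g0],
   [g4, g0, g3, g2, g0],
   [g5, g0, g3, g2, g0],
   [g4, g2, g3, g2, g0],
   [g1, g5, g3, g2, g0],
   [g3, g5, g3, g2, g0],
   [g3, g0, g4, g2, g0],
   [g6, g0, g4, g2, g0],
   [g3, g1, g4, g2, g0],
   [g4, g1, g4, g2, g0],
   [g0, g2, g4, g2, g0],
   [g3, g2, g4, g2, g0],
   [g5, g2, g4, g2, g0],
   [g0, g3, g4, g2, g0],
   [g1, g3, g4, g2, g0],
   [g1, g4, g4, g2, g0]]

/-- Part 7 of words0. -/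
noncomputable def words0_7 : List (List ℕ) :=
  [[g6, g4, g4, g2, g0],
   [g0, g5, g4, g2, g0],
   [g2, g5, g4, g2, g0],
   [g1, g1, g5, g2, g0],
   [g4, g3, g5, g2, g0],
   [g1, g0, g6, g2, g0],
   [g0, g1, g6, g2, g0],
   [g1, g1, g6, g2, g0],
   [g3, g1, g6, g2, g0],
   [g5, g1, g6, g2, g0],
   [g1, g3, g6, g2, g0],
   [g2, g3, g6, g2, g0],
   [g5, g3, g6, g2, g0],
   [g1, g0, g0, g3, g0],
   [g2, g0, g0, g3, g0],
   [g3, g0, g0, g3, g0],
   [g3, g1, g0, g3, g0],
   [g3, g3, g0, g3, g0],
   [g0, g5, g0, g3, g0],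
   [g3, g5, g0, g3, g0],
   [g1, g1, g1, g3, g0],
   [g6, g1, g1, g3, g0],
   [g6, g5, g1, g3, g0],
   [g2, g0, g3, g3, g0],
   [g3, g0, g3, g3, g0],
   [g4, g0, g3, g3, g0],
   [g6, g0, g3, g3, g0],
   [g1, g1, g3, g3, g0],
   [g4, g1, g3, g3, g0],
   [g6, g1, g3, g3, g0],
   [g2, g6, g3, g3, g0],
   [g3, g1, g4, g3, g0],
   [g0, g3, g4, g3, g0],
   [g4, g3, g4, g3, g0],
   [g0, g0, g6, g3, g0],
   [g3, g0, g6, g3, g0],
   [g4, g0, g6, g3, g0],
   [g0, g1, g6, g3, g0],
   [g0, g5, g6, g3, g0],
   [g2, g0, g0, g4, g0],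
   [g0, g1, g0, g4, g0],
   [g2, g2, g0, g4, g0],
   [g5, g2, g0, g4, g0],
   [g6, g2, g0, g4, g0],
   [g0, g3, g0, g4, g0],
   [g3, g3, g0, g4, g0],
   [g5, g3, g0, g4, g0],
   [g0, g4, g0, g4, g0],
   [g2, g0, g1, g4, g0],
   [g1, g6, g1, g4, g0],
   [g6, g0, g2, g4, g0],
   [g1, g1, g2, g4, g0],
   [g5, g1, g2, g4, g0],
   [g0, g2, g2, g4, g0],
   [g2, g6, g2, g4, g0],
   [g3, g6, g2, g4, g0],
   [g0, g0, g3, g4, g0],
   [g2, g0, g3, g4, g0],
   [g3, g0, g3, g4, g0],
   [g4, g0, g3, g4, g0],
   [g5, g0, g3, g4, g0],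
   [g6, g0, g3, g4, g0],
   [g1, g0, g4, g4, g0],
   [g1, g1, g4, g4, g0]]

/-- Part 8 of words0. -/
noncomputable def words0_8 : List (List ℕ) :=
  [[g3, g1, g4, g4, g0],
   [g0, g2, g4, g4, g0],
   [g1, g2, g4, g4, g0],
   [g0, g0, g5, g4, g0],
   [g1, g0, g5, g4, g0],
   [g6, g3, g5, g4, g0],
   [g1, g0, g6, g4, g0],
   [g2, g0, g6, g4, g0],
   [g3, g0, g6, g4, g0],
   [g6, g0, g6, g4, g0],
   [g2, g1, g6, g4, g0],
   [g0, g0, g0, g5, g0],
   [g6, g0, g0, g5, g0],
   [g1, g1, g0, g5, g0],
   [g4, g1, g0, g5, g0],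
   [g1, g3, g0, g5, g0],
   [g0, g4, g0, g5, g0],
   [g1, g4, g0, g5, g0],
   [g3, g4, g0, g5, g0],
   [g0, g6, g0, g5, g0],
   [g1, g0, g1, g5, g0],
   [g2, g0, g1, g5, g0],
   [g3, g0, g1, g5, g0],
   [g4, g0, g1, g5, g0],
   [g0, g2, g1, g5, g0],
   [g1, g3, g1, g5, g0],
   [g2, g3, g1, g5, g0],
   [g2, g0, g2, g5, g0],
   [g3, g0, g2, g5, g0],
   [g4, g0, g2, g5, g0],
   [g5, g0, g2, g5, g0],
   [g6, g0, g2, g5, g0],
   [g6, g2, g2, g5, g0],
   [g0, g1, g6, g5, g0],
   [g2, g1, g6, g5, g0],
   [g0, g0, g0, g6, g0],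
   [g3, g0, g0, g6, g0],
   [g4, g0, g0, g6, g0],
   [g3, g1, g0, g6, g0],
   [g0, g2, g0, g6, g0],
   [g6, g2, g0, g6, g0],
   [g1, g3, g0, g6, g0],
   [g2, g3, g0, g6, g0],
   [g3, g3, g0, g6, g0],
   [g4, g3, g0, g6, g0],
   [g5, g3, g0, g6, g0],
   [g0, g4, g0, g6, g0],
   [g1, g4, g0, g6, g0],
   [g2, g4, g0, g6, g0],
   [g1, g5, g0, g6, g0],
   [g4, g4, g1, g6, g0],
   [g0, g2, g3, g6, g0],
   [g1, g2, g3, g6, g0],
   [g4, g0, g5, g6, g0],
   [g4, g1, g1, g0, g0, g0],
   [g5, g1, g1, g0, g0, g0],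
   [g2, g4, g1, g0, g0, g0],
   [g3, g4, g1, g0, g0, g0],
   [g2, g0, g2, g0, g0, g0],
   [g6, g1, g2, g0, g0, g0],
   [g2, g2, g2, g0, g0, g0],
   [g6, g3, g2, g0, g0, g0],
   [g1, g5, g2, g0, g0, g0],
   [g0, g2, g3, g0, g0, g0]]

/-- Part 9 of words0. -/
noncomputable def words0_9 : List (List ℕ) :=
  [[g4, g2, g3, g0, g0, g0],
   [g6, g3, g3, g0, g0, g0],
   [g0, g3, g4, g0, g0, g0],
   [g2, g4, g4, g0, g0, g0],
   [g3, g4, g4, g0, g0, g0],
   [g0, g6, g4, g0, g0, g0],
   [g4, g0, g5, g0, g0, g0],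
   [g1, g2, g5, g0, g0, g0],
   [g0, g3, g5, g0, g0, g0],
   [g0, g0, g6, g0, g0, g0],
   [g1, g0, g6, g0, g0, g0],
   [g4, g0, g6, g0, g0, g0],
   [g5, g0, g6, g0, g0, g0],
   [g1, g3, g0, g1, g0, g0],
   [g0, g0, g1, g1, g0, g0],
   [g4, g0, g1, g1, g0, g0],
   [g1, g2, g2, g1, g0, g0],
   [g2, g2, g2, g1, g0, g0],
   [g0, g3, g3, g1, g0, g0],
   [g0, g5, g3, g1, g0, g0],
   [g2, g2, g4, g1, g0, g0],
   [g0, g3, g4, g1, g0, g0],
   [g2, g0, g5, g1, g0, g0],
   [g3, g0, g5, g1, g0, g0],
   [g6, g0, g5, g1, g0, g0],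
   [g0, g1, g5, g1, g0, g0],
   [g0, g0, g0, g2, g0, g0],
   [g3, g0, g0, g2, g0, g0],
   [g5, g0, g0, g2, g0, g0],
   [g1, g0, g1, g2, g0, g0],
   [g4, g1, g1, g2, g0, g0],
   [g0, g4, g1, g2, g0, g0],
   [g0, g2, g2, g2, g0, g0],
   [g4, g6, g4, g2, g0, g0],
   [g0, g1, g6, g2, g0, g0],
   [g4, g1, g6, g2, g0, g0],
   [g5, g1, g1, g3, g0, g0],
   [g3, g0, g4, g3, g0, g0],
   [g2, g0, g5, g3, g0, g0],
   [g2, g0, g6, g3, g0, g0],
   [g2, g2, g6, g3, g0, g0],
   [g3, g2, g6, g3, g0, g0],
   [g0, g3, g0, g4, g0, g0],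
   [g3, g2, g2, g4, g0, g0],
   [g0, g0, g6, g4, g0, g0],
   [g1, g0, g6, g4, g0, g0],
   [g1, g5, g1, g5, g0, g0],
   [g0, g0, g0, g6, g0, g0],
   [g6, g2, g0, g6, g0, g0],
   [g3, g2, g1, g6, g0, g0],
   [g2, g3, g1, g6, g0, g0],
   [g0, g4, g1, g6, g0, g0],
   [g2, g0, g2, g6, g0, g0],
   [g3, g0, g2, g6, g0, g0],
   [g0, g6, g2, g6, g0, g0],
   [g0, g1, g0, g0, g1, g0],
   [g2, g2, g1, g0, g1, g0],
   [g0, g0, g2, g0, g1, g0],
   [g0, g2, g2, g0, g1, g0],
   [g0, g0, g3, g0, g1, g0],
   [g1, g0, g3, g0, g1, g0],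
   [g2, g0, g3, g0, g1, g0],
   [g3, g0, g3, g0, g1, g0],
   [g4, g0, g3, g0, g1, g0]]

/-- Part 10 of words0. -/
noncomputable def words0_10 : List (List ℕ) :=
  [[g2, g0, g6, g0, g1, g0],
   [g5, g0, g6, g0, g1, g0],
   [g0, g1, g1, g1, g1, g0],
   [g0, g2, g1, g1, g1, g0],
   [g5, g4, g1, g1, g1, g0],
   [g2, g2, g2, g1, g1, g0],
   [g0, g3, g2, g1, g1, g0],
   [g0, g4, g2, g1, g1, g0],
   [g1, g0, g4, g1, g1, g0],
   [g0, g1, g4, g1, g1, g0],
   [g0, g4, g6, g2, g1, g0],
   [g3, g1, g0, g3, g1, g0],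
   [g4, g1, g0, g3, g1, g0],
   [g2, g4, g0, g3, g1, g0],
   [g1, g5, g0, g3, g1, g0],
   [g3, g6, g0, g3, g1, g0],
   [g1, g0, g1, g3, g1, g0],
   [g6, g0, g1, g3, g1, g0],
   [g4, g0, g2, g3, g1, g0],
   [g6, g0, g2, g3, g1, g0],
   [g1, g0, g4, g3, g1, g0],
   [g2, g0, g0, g4, g1, g0],
   [g0, g3, g0, g4, g1, g0],
   [g0, g2, g1, g4, g1, g0],
   [g5, g0, g2, g4, g1, g0],
   [g0, g1, g3, g4, g1, g0],
   [g2, g1, g0, g5, g1, g0],
   [g4, g1, g0, g5, g1, g0],
   [g5, g2, g0, g5, g1, g0],
   [g6, g2, g0, g5, g1, g0],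
   [g3, g3, g0, g5, g1, g0],
   [g6, g3, g0, g5, g1, g0],
   [g3, g5, g0, g5, g1, g0],
   [g1, g0, g0, g0, g2, g0],
   [g0, g2, g6, g0, g2, g0],
   [g5, g2, g0, g2, g2, g0],
   [g2, g3, g0, g2, g2, g0],
   [g1, g5, g0, g2, g2, g0],
   [g0, g4, g1, g2, g2, g0],
   [g3, g0, g5, g4, g2, g0],
   [g0, g1, g0, g0, g3, g0],
   [g0, g3, g3, g0, g3, g0],
   [g2, g0, g5, g0, g3, g0],
   [g3, g0, g0, g6, g3, g0],
   [g3, g0, g5, g6, g3, g0],
   [g0, g6, g2, g0, g4, g0],
   [g0, g5, g1, g2, g4, g0],
   [g3, g2, g0, g3, g4, g0],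
   [g1, g4, g0, g3, g4, g0],
   [g2, g5, g0, g3, g4, g0],
   [g2, g1, g0, g6, g4, g0],
   [g2, g6, g2, g0, g6, g0],
   [g3, g0, g1, g6, g2, g0, g0]]

/-- Part 0 of cert0. -/
noncomputable def cert0_0 : List (ℕ × List ℕ) :=
  [(1, []),
   (2, []),
   (9, []),
   (16, []),
   (22, []),
   (28, []),
   (33, []),
   (40, []),
   (45, []),
   (49, [g5, g2, g4, g2, g1, g1, g2, g2, g2, g6, g4, g3, g6, g5]),
   (56, []),
   (62, []),
   (8, [g3, g5, g1, g5, g1, g3, g4, g2, g4, g2, g6, g3, g6, g5]),
   (74, []),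
   (79, []),
   (81, []),
   (85, []),
   (92, []),
   (98, []),
   (102, []),
   (108, []),
   (115, []),
   (118, []),
   (123, []),
   (128, []),
   (131, []),
   (43, [g1, g2, g2, g1, g2, g4, g2, g2, g4, g3, g4, g4, g5]),
   (140, []),
   (144, []),
   (90, [g3, g4, g2, g1, g1, g1, g2, g2, g4, g2, g2, g2, g5, g6, g4, g3, g6]),
   (152, []),
   (78, [g1, g6, g2, g1, g2, g1, g4, g2, g2, g6, g3, g2, g6, g3, g6, g5]),
   (160, []),
   (164, []),
   (169, []),
   (171, []),
   (177, []),
   (179, []),
   (182, []),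
   (185, []),
   (188, []),
   (194, []),
   (198, []),
   (200, []),
   (44, [g2, g2, g3, g2, g1, g1, g3, g4, g2, g2, g2, g3, g4, g4, g6]),
   (205, []),
   (211, []),
   (183, [g1, g3, g2, g2, g1, g1, g6, g5, g2, g4, g2, g2, g3, g3, g6]),
   (217, []),
   (221, []),
   (224, []),
   (228, []),
   (235, []),
   (238, []),
   (244, []),
   (248, []),
   (42, [g1, g4, g4, g1, g1, g1, g4, g3, g2, g2, g6, g2, g5, g6, g5, g3, g5]),
   (254, []),
   (256, []),
   (70, [g4, g1, g1, g2, g4, g2, g6, g2, g2, g2, g4, g3, g4, g4, g5]),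
   (127, [g1, g5, g1, g5, g1, g2, g6, g2, g2, g6, g3, g3, g3, g5, g6, g5]),
   (266, []),
   (269, []),
   (273, [])]

/-- Part 1 of cert0. -/
noncomputable def cert0_1 : List (ℕ × List ℕ) :=
  [(278, []),
   (154, [g2, g2, g4, g1, g3, g2, g4, g4, g3, g2, g5, g6, g3, g5]),
   (50, [g3, g1, g1, g1, g6, g4, g2, g4, g2, g2, g6, g4, g3, g6]),
   (223, [g2, g4, g1, g3, g1, g6, g2, g2, g4, g3, g2, g5, g4, g4, g3, g6]),
   (287, []),
   (289, []),
   (88, [g5, g1, g1, g1, g5, g1, g4, g4, g3, g2, g5, g3, g3, g3, g5]),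
   (297, []),
   (300, []),
   (301, []),
   (63, [g1, g1, g6, g1, g1, g3, g4, g2, g3, g6, g2, g3, g5]),
   (304, []),
   (280, [g2, g3, g1, g6, g2, g4, g4, g2, g2, g3, g3, g3, g5]),
   (77, [g1, g3, g2, g1, g2, g2, g2, g6, g2, g4, g3, g5, g6, g5]),
   (311, []),
   (122, [g6, g2, g4, g2, g1, g3, g6, g2, g4, g2, g2, g5, g3, g4, g4, g5, g6]),
   (80, [g3, g1, g2, g2, g1, g1, g4, g2, g4, g4, g2, g2, g4]),
   (317, []),
   (320, []),
   (325, []),
   (129, [g2, g2, g3, g2, g1, g1, g3, g2, g6, g2, g2, g4, g4, g3, g3]),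
   (3, [g3, g2, g2, g1, g1, g3, g4, g2, g2, g2, g4, g3, g5, g6]),
   (330, []),
   (334, []),
   (337, []),
   (231, [g6, g2, g1, g1, g4, g1, g6, g2, g6, g4, g3, g5, g6, g5]),
   (141, [g2, g4, g2, g4, g1, g1, g3, g6, g2, g2, g5, g3]),
   (341, []),
   (342, []),
   (345, []),
   (245, [g3, g6, g1, g1, g1, g3, g4, g2, g3, g6, g2, g4, g3, g6, g5]),
   (353, []),
   (355, []),
   (358, []),
   (360, []),
   (288, [g4, g2, g1, g4, g3, g1, g3, g4, g2, g2, g3, g5, g4, g4, g3]),
   (365, []),
   (157, [g1, g2, g1, g4, g1, g6, g2, g6, g4, g3]),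
   (368, []),
   (374, []),
   (376, []),
   (230, [g2, g3, g1, g2, g1, g1, g3, g4, g2, g2, g4, g3, g3, g6, g5]),
   (379, []),
   (381, []),
   (385, []),
   (292, [g1, g6, g2, g2, g1, g1, g4, g6, g2, g4, g4, g3, g3, g6]),
   (391, []),
   (395, []),
   (277, [g4, g2, g6, g1, g1, g1, g2, g6, g2, g3, g4, g4]),
   (399, []),
   (15, [g2, g6, g1, g4, g1, g6, g2, g3, g3, g3]),
   (359, [g6, g2, g6, g3, g2, g1, g2, g5, g2, g4, g2, g2, g5, g3, g3, g3, g6]),
   (398, [g1, g4, g2, g2, g2, g1, g2, g2, g4, g2, g6, g5, g3, g6, g5]),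
   (410, []),
   (411, []),
   (416, []),
   (119, [g3, g1, g4, g2, g1, g6, g4, g2, g4, g2, g2, g4, g3, g4, g4, g6]),
   (199, [g6, g4, g1, g5, g1, g2, g2, g4, g2, g2, g2, g6, g3, g3, g3, g5]),
   (167, [g1, g2, g1, g1, g2, g1, g3, g2, g6, g5, g3, g6, g5]),
   (421, []),
   (427, []),
   (332, [g5, g2, g6, g3, g2, g1, g3, g4, g2, g4, g2, g2, g6, g3, g5, g3, g6, g5]),
   (215, [g3, g2, g1, g6, g1, g1, g4, g2, g6, g2, g3]),
   (431, [])]

/-- Part 2 of cert0. -/
noncomputable def cert0_2 : List (ℕ × List ℕ) :=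
  [(402, [g3, g3, g2, g1, g6, g2, g2, g6, g2, g3, g5, g3, g6]),
   (429, [g2, g6, g2, g2, g2, g1, g3, g5, g2, g4, g2, g2, g3, g5, g3, g5]),
   (51, [g2, g5, g1, g1, g2, g1, g2, g4, g4, g2, g2, g2, g3, g4, g4]),
   (226, [g6, g2, g4, g2, g1, g4, g2, g4, g4, g2, g2, g3, g3, g3, g5, g6, g5]),
   (413, [g3, g6, g1, g1, g3, g4, g2, g2, g2, g3, g4, g4]),
   (442, []),
   (445, []),
   (415, [g5, g2, g4, g1, g1, g6, g2, g4, g4, g2, g2, g3, g3, g5, g6]),
   (449, []),
   (4, [g3, g4, g4, g2, g1, g2, g4, g2, g4, g4, g2, g2, g5, g6, g4, g3, g5, g6]),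
   (328, [g1, g3, g4, g1, g1, g1, g2, g6, g2, g3, g6, g2, g2, g6, g3, g6]),
   (433, [g6, g2, g4, g1, g3, g2, g6, g2, g2, g2, g6, g3, g5, g3, g5, g6, g5]),
   (251, [g3, g6, g1, g1, g1, g1, g4, g4, g2, g2, g4, g3, g5]),
   (454, []),
   (357, [g3, g2, g2, g2, g1, g1, g3, g4, g2, g2, g2, g4, g4, g3, g3]),
   (37, [g5, g3, g4, g1, g1, g6, g2, g6, g2, g6, g5, g3, g5, g6]),
   (5, [g1, g2, g2, g1, g4, g4, g3, g2, g3, g5, g4, g4, g3, g6]),
   (351, [g2, g1, g3, g1, g1, g1, g3, g6, g2, g2, g3, g5, g4, g4, g3]),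
   (191, [g5, g2, g3, g1, g1, g2, g4, g6, g3, g6]),
   (466, []),
   (448, [g1, g2, g6, g3, g1, g1, g3, g2, g3, g4, g2, g5, g6, g4, g3, g6]),
   (388, [g1, g1, g3, g1, g1, g2, g2, g4, g2, g2, g2, g3, g3, g3, g5]),
   (326, [g5, g4, g1, g1, g1, g1, g3, g4, g2, g6, g2, g2, g2, g3, g3, g5, g6]),
   (295, [g4, g2, g1, g1, g1, g1, g6, g3, g2, g2, g6, g3, g2, g5, g6, g4, g3, g5]),
   (26, [g4, g4, g1, g1, g1, g3, g4, g2, g2, g2, g4, g4, g5]),
   (173, [g5, g1, g3, g1, g1, g4, g2, g3, g4, g2, g4, g3, g4, g4, g5, g6, g5]),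
   (147, [g6, g1, g1, g4, g1, g2, g4, g4, g2, g2, g2, g3, g6, g5, g3]),
   (158, [g4, g2, g1, g1, g1, g4, g3, g2, g2, g6, g2, g5, g6, g4, g3, g5]),
   (233, [g2, g6, g2, g4, g1, g4, g2, g4, g4, g2, g2, g4, g3, g6, g5]),
   (239, [g6, g2, g3, g1, g1, g2, g3, g6, g2, g2, g4, g3, g6, g5]),
   (480, []),
   (424, [g5, g1, g4, g3, g1, g4, g2, g4, g2, g2, g4, g4, g3, g3]),
   (482, []),
   (485, []),
   (121, [g3, g6, g2, g4, g1, g3, g5, g2, g4, g2, g2, g6, g3, g5, g6, g5]),
   (486, []),
   (36, [g3, g4, g2, g1, g1, g1, g2, g5, g2, g4, g2, g2, g6, g5, g3, g6, g5]),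
   (488, []),
   (145, [g4, g1, g1, g1, g3, g2, g3, g4, g2, g6, g5]),
   (492, []),
   (495, []),
   (281, [g1, g1, g4, g4, g2, g1, g6, g2, g3, g6, g2, g2, g4, g3, g5, g6, g5]),
   (101, [g5, g3, g1, g3, g5, g1, g2, g2, g4, g4, g2, g2, g6]),
   (96, [g2, g4, g2, g1, g1, g4, g2, g6, g2, g5, g4, g4, g3]),
   (237, [g4, g4, g1, g3, g1, g2, g5, g2, g4, g2, g2, g5, g6, g4, g3, g6]),
   (501, []),
   (282, [g5, g2, g1, g6, g1, g1, g1, g2, g2, g3, g4, g2, g4, g4, g3, g3, g6]),
   (14, [g1, g2, g1, g4, g2, g4, g6, g3, g3, g3, g6, g5]),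
   (265, [g1, g5, g1, g4, g1, g1, g2, g4, g4, g2, g2, g3, g5, g4, g4, g3, g6]),
   (504, []),
   (87, [g3, g1, g1, g1, g4, g3, g2, g4, g4, g4, g3, g3, g6, g5]),
   (420, [g2, g4, g1, g4, g2, g1, g1, g5, g2, g4, g2, g4, g4, g4, g3, g3, g5]),
   (323, [g2, g5, g2, g1, g1, g2, g3, g4, g2, g2, g2, g4, g3, g6]),
   (513, []),
   (515, []),
   (11, [g2, g6, g1, g1, g4, g2, g2, g2, g6, g2, g5, g3, g4, g4]),
   (184, [g6, g1, g3, g2, g1, g6, g2, g4, g4, g4, g3, g3, g5, g6, g5]),
   (414, [g4, g2, g2, g1, g4, g2, g4, g4, g4, g3, g3, g6]),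
   (109, [g4, g3, g2, g2, g1, g3, g4, g2, g2, g3, g6, g5, g3, g5, g6]),
   (522, [g3, g6, g1, g1, g3, g6, g2, g2, g5, g6, g5, g3, g6]),
   (523, []),
   (364, [g1, g3, g6, g1, g1, g4, g6, g2, g2, g4, g4, g3, g6]),
   (460, [g6, g3, g1, g1, g4, g2, g4, g6, g3, g5, g6]),
   (452, [g3, g4, g1, g1, g3, g4, g2, g4, g4, g2, g2, g6, g3, g5, g3, g6])]

/-- Part 3 of cert0. -/
noncomputable def cert0_3 : List (ℕ × List ℕ) :=
  [(528, []),
   (531, []),
   (46, [g1, g6, g3, g2, g1, g4, g2, g2, g6, g3, g2, g4, g6]),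
   (536, []),
   (130, [g3, g6, g3, g1, g1, g1, g1, g4, g2, g3, g4, g2, g2, g5, g3, g3, g3, g5]),
   (406, [g3, g4, g1, g3, g2, g2, g6, g2, g3, g5, g3]),
   (510, [g4, g1, g3, g4, g1, g1, g4, g3, g2, g2, g6, g2, g3, g5, g3, g5, g6]),
   (202, [g2, g3, g1, g1, g1, g4, g2, g6, g2, g4, g2, g2, g4, g3, g3, g5, g6, g5]),
   (459, [g1, g4, g1, g1, g1, g1, g2, g3, g4, g2, g2, g2, g4, g4, g6]),
   (524, [g2, g6, g3, g1, g1, g1, g1, g3, g2, g4, g4, g3, g2, g6, g3, g3, g3, g5, g6, g5]),
   (135, [g6, g5, g3, g1, g1, g2, g3, g4, g2, g2, g2, g3, g3, g3, g5]),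
   (545, []),
   (506, [g2, g4, g2, g1, g1, g1, g1, g4, g2, g2, g2, g6, g2, g5, g6, g5, g3, g6]),
   (547, []),
   (505, [g1, g4, g1, g1, g2, g1, g1, g3, g2, g3, g4, g2, g4, g3, g3]),
   (551, []),
   (23, [g1, g2, g3, g1, g1, g4, g4, g2, g2, g6, g4, g3, g5]),
   (558, []),
   (148, [g2, g5, g4, g1, g1, g4, g6, g2, g6, g3, g2, g4, g3, g5]),
   (197, [g4, g1, g1, g2, g1, g4, g2, g6, g2, g4, g2, g2, g4, g3, g3, g5, g6]),
   (400, [g1, g4, g1, g4, g2, g1, g4, g4, g2, g6, g2, g2, g2, g6, g5, g3, g6]),
   (133, [g1, g4, g1, g1, g2, g1, g1, g4, g2, g4, g4, g2, g2, g4, g6, g3, g5, g6]),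
   (425, [g2, g5, g1, g1, g2, g1, g2, g2, g2, g5, g6, g4, g3, g5, g6, g5]),
   (126, [g2, g4, g4, g2, g2, g1, g6, g2, g3, g4, g2, g3, g6, g5, g3, g6, g5]),
   (207, [g2, g6, g2, g4, g1, g6, g2, g2, g3, g4, g2, g6, g3, g6]),
   (407, [g1, g4, g1, g1, g6, g5, g2, g4, g2, g2, g6, g3, g5, g6]),
   (563, []),
   (423, [g5, g1, g4, g3, g1, g4, g4, g2, g2, g4, g2, g5, g3, g6, g5]),
   (405, [g1, g6, g1, g2, g1, g1, g2, g2, g6, g2, g2, g4, g4, g4, g5]),
   (0, [g4, g1, g1, g6, g1, g1, g1, g2, g2, g3, g4, g3, g2, g4, g4, g5, g6, g5]),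
   (250, [g1, g6, g1, g1, g3, g4, g3, g2, g3, g6, g5, g3, g5]),
   (61, [g1, g2, g1, g1, g2, g1, g3, g2, g4, g2, g2, g2, g4, g6, g3, g3, g3]),
   (66, [g6, g1, g2, g1, g1, g4, g2, g3, g6, g2, g4, g3]),
   (468, [g3, g1, g1, g1, g2, g2, g6, g2, g5, g4, g4, g3]),
   (25, [g1, g2, g2, g4, g1, g3, g2, g4, g2, g2, g2, g3, g3, g3, g6, g5]),
   (455, [g4, g1, g1, g1, g3, g2, g4, g2, g3, g4, g4, g4, g5, g6]),
   (456, [g1, g2, g1, g2, g1, g4, g6, g2, g4, g4, g4, g5]),
   (514, [g2, g2, g2, g1, g2, g6, g2, g4, g2, g2, g4, g3, g4, g4]),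
   (69, [g1, g1, g3, g4, g1, g1, g2, g3, g4, g2, g2, g4, g4, g4, g3, g3, g6, g5]),
   (212, [g6, g2, g4, g1, g6, g2, g2, g4, g4, g2, g2, g5, g6, g4, g3, g5]),
   (500, [g4, g1, g4, g1, g3, g1, g6, g2, g4, g4, g2, g2, g3, g5, g4, g4, g3]),
   (408, [g2, g5, g1, g4, g2, g1, g3, g4, g2, g6, g2, g2, g2, g3, g5, g3, g5]),
   (372, [g2, g5, g1, g4, g2, g1, g4, g2, g4, g4, g2, g2, g3, g4, g4, g4, g5, g6]),
   (146, [g2, g2, g1, g3, g2, g3, g4, g3, g2, g4, g6, g3, g5, g6, g5]),
   (575, []),
   (530, [g6, g2, g4, g1, g6, g2, g4, g4, g2, g2, g5, g4, g4, g3, g5, g6]),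
   (232, [g4, g3, g2, g1, g4, g6, g2, g4, g2, g2, g4, g3, g3, g5, g6, g5]),
   (552, [g1, g2, g2, g4, g1, g3, g2, g2, g4, g2, g4, g4, g3, g3, g6]),
   (507, [g2, g4, g2, g4, g1, g6, g3, g2, g6, g3, g6, g5]),
   (578, []),
   (367, [g1, g5, g1, g4, g1, g1, g6, g2, g4, g4, g2, g2, g3, g5, g3, g5, g6]),
   (581, []),
   (561, [g2, g3, g3, g2, g1, g4, g4, g2, g6, g2, g2, g2, g5, g6, g5, g3, g5, g6, g5]),
   (99, [g3, g5, g3, g1, g1, g1, g4, g2, g2, g2, g5, g3, g3, g3, g5, g6, g5]),
   (571, [g1, g4, g1, g4, g2, g1, g1, g3, g4, g2, g3, g6, g2, g3, g4, g4, g5, g6]),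
   (584, []),
   (585, []),
   (324, [g4, g2, g1, g4, g1, g3, g2, g4, g2, g2, g4, g4, g3, g3, g6]),
   (176, [g2, g4, g1, g2, g1, g3, g4, g3, g2, g5, g6, g4, g3]),
   (27, [g1, g6, g2, g2, g1, g1, g2, g2, g3, g4, g3, g2, g3, g5, g3, g6]),
   (93, [g2, g2, g6, g1, g1, g1, g4, g6, g2, g6, g3, g2, g4, g4, g4, g5]),
   (529, [g6, g1, g4, g1, g1, g2, g6, g2, g2, g4, g3, g3, g5]),
   (590, []),
   (542, [g6, g3, g1, g1, g1, g1, g6, g2, g2, g6, g2, g2, g6, g4, g3, g5])]

/-- Part 4 of cert0. -/
noncomputable def cert0_4 : List (ℕ × List ℕ) :=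
  [(279, [g4, g6, g1, g1, g2, g3, g4, g2, g2, g2, g4, g4, g5, g6, g5]),
   (390, [g2, g6, g1, g1, g6, g2, g6, g3, g2, g4, g4, g4, g6, g5]),
   (316, [g5, g1, g3, g4, g1, g1, g2, g2, g6, g2, g2, g3, g3, g5]),
   (302, [g1, g3, g2, g2, g3, g1, g2, g3, g6, g2, g4, g4, g4, g3, g3]),
   (594, []),
   (236, [g6, g5, g1, g2, g1, g1, g6, g2, g2, g3, g4, g2, g6, g3, g3, g3, g5]),
   (595, []),
   (263, [g5, g2, g4, g1, g1, g3, g4, g2, g4, g2, g2, g4, g4, g4, g5, g6, g5]),
   (597, []),
   (470, [g1, g1, g4, g1, g6, g3, g2, g6, g2, g2, g3, g5, g4, g4, g3, g5]),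
   (125, [g1, g1, g3, g4, g1, g1, g4, g2, g6, g3, g2, g5, g3, g6]),
   (601, []),
   (503, [g1, g1, g3, g1, g1, g4, g2, g6, g2, g4, g2, g2, g3, g3]),
   (602, []),
   (498, [g1, g2, g1, g2, g1, g3, g2, g3, g4, g2, g6, g3, g5, g3, g5, g6, g5]),
   (310, [g1, g6, g1, g2, g1, g1, g2, g2, g3, g4, g2, g2, g5, g3]),
   (39, [g5, g4, g1, g4, g2, g1, g4, g2, g6, g2, g3, g3, g3, g5, g6]),
   (206, [g5, g6, g2, g2, g1, g5, g2, g4, g2, g2, g5, g6, g4, g3, g5]),
   (73, [g6, g1, g4, g3, g1, g3, g2, g3, g4, g4, g6]),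
   (291, [g6, g3, g2, g3, g1, g3, g2, g6, g2, g4, g4, g3, g6]),
   (499, [g6, g3, g1, g3, g1, g4, g2, g2, g6, g3, g2, g4, g4, g5, g6, g5]),
   (607, []),
   (258, [g3, g1, g3, g2, g1, g1, g3, g4, g2, g6, g2, g2, g2, g5, g6, g5]),
   (554, [g1, g1, g4, g1, g4, g2, g6, g2, g5, g6, g3, g6]),
   (608, []),
   (396, [g5, g3, g1, g1, g1, g3, g6, g2, g2, g6, g4, g3]),
   (60, [g1, g5, g6, g1, g1, g3, g2, g4, g2, g2, g2, g5, g6, g4, g3]),
   (59, [g3, g5, g3, g1, g2, g2, g2, g6, g3, g2, g3, g5, g3, g5, g6]),
   (64, [g3, g5, g3, g1, g1, g1, g6, g2, g2, g6, g2, g2, g6, g5, g3, g6]),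
   (599, [g3, g1, g2, g1, g3, g5, g2, g4, g2, g3, g5, g3, g6, g5]),
   (559, [g3, g1, g1, g6, g2, g6, g3, g2, g4, g3]),
   (356, [g1, g3, g1, g1, g1, g2, g6, g2, g2, g6, g2, g4, g6, g3, g5]),
   (610, []),
   (383, [g3, g5, g1, g1, g2, g1, g2, g4, g4, g2, g2, g6, g3, g5, g3]),
   (100, [g6, g2, g2, g1, g1, g3, g2, g4, g2, g3, g5, g3, g6, g5]),
   (349, [g6, g1, g1, g4, g1, g3, g4, g2, g6, g2, g2, g2, g4, g6, g3, g5, g6, g5]),
   (369, [g3, g4, g1, g1, g1, g4, g6, g2, g6, g3, g2, g3, g6, g5, g3, g5, g6, g5]),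
   (103, [g4, g3, g2, g2, g1, g1, g6, g2, g2, g4, g3, g2, g4, g3, g6]),
   (560, [g4, g2, g1, g5, g1, g2, g6, g2, g3, g6, g2, g2, g4, g4, g4, g3, g3, g5, g6]),
   (603, [g1, g3, g1, g6, g3, g2, g2, g6, g3, g2, g3, g5, g3]),
   (497, [g1, g4, g6, g3, g2, g1, g6, g3, g2, g2, g6, g3, g2, g5, g6, g4, g3, g5, g6]),
   (570, [g3, g1, g3, g2, g4, g1, g2, g4, g2, g4, g2, g2, g4, g5, g6]),
   (566, [g4, g1, g4, g1, g3, g1, g3, g2, g6, g2, g3, g6, g5, g3]),
   (384, [g1, g5, g1, g5, g1, g2, g2, g2, g3, g5, g6]),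
   (573, [g1, g5, g3, g1, g1, g1, g4, g2, g6, g2, g4, g2, g2, g5, g3, g3, g3, g5, g6, g5]),
   (274, [g3, g4, g4, g1, g3, g1, g4, g2, g3, g4, g2, g2, g5, g3, g4, g4, g6]),
   (409, [g1, g2, g1, g4, g1, g4, g3, g2, g4, g4, g3, g5, g6, g5]),
   (618, []),
   (315, [g1, g2, g2, g1, g6, g2, g6, g2, g3, g5, g3, g5]),
   (344, [g4, g1, g4, g1, g1, g3, g2, g3, g4, g2, g6, g5, g3]),
   (113, [g5, g2, g1, g3, g1, g1, g1, g2, g6, g3, g6, g5]),
   (222, [g6, g4, g2, g1, g1, g1, g3, g4, g3, g2, g6, g3]),
   (378, [g5, g3, g2, g2, g1, g4, g5, g6]),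
   (284, [g3, g3, g1, g1, g1, g1, g2, g4, g4, g2, g2, g4, g4, g3, g3, g6, g5]),
   (338, [g2, g4, g2, g1, g1, g2, g4, g2, g4, g2, g2, g6, g5, g3, g5, g6, g5]),
   (620, []),
   (462, [g1, g4, g2, g1, g1, g1, g6, g2, g6, g3, g2, g5, g3, g5, g6]),
   (174, [g2, g1, g3, g2, g1, g2, g3, g4, g3, g2, g4, g4, g3, g6, g5]),
   (387, [g1, g2, g1, g3, g4, g2, g3, g5, g6, g5]),
   (473, [g5, g2, g1, g3, g1, g1, g1, g4, g2, g4, g2, g3, g3, g3, g6]),
   (309, [g4, g6, g1, g1, g6, g2, g2, g4, g3, g2, g4, g3, g3, g5, g6, g5]),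
   (623, []),
   (469, [g3, g2, g3, g1, g1, g1, g3, g2, g6, g2, g2, g3, g4, g4, g5, g6]),
   (319, [g5, g6, g1, g5, g1, g2, g2, g3, g6, g2, g3, g5, g4, g4, g3, g5])]

/-- Part 5 of cert0. -/
noncomputable def cert0_5 : List (ℕ × List ℕ) :=
  [(550, [g2, g6, g3, g1, g1, g2, g6, g2, g3, g6, g2, g2, g5, g3, g3, g3, g5]),
   (526, [g2, g1, g4, g3, g1, g2, g4, g4, g2, g2, g5, g3, g3, g3, g6, g5]),
   (192, [g1, g5, g1, g1, g2, g1, g2, g5, g2, g4, g2, g2, g4, g4, g4, g3, g3, g6, g5]),
   (627, []),
   (471, [g3, g1, g5, g4, g1, g1, g6, g3, g2, g6, g2, g2, g3]),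
   (136, [g1, g4, g1, g4, g2, g1, g1, g6, g2, g2, g2, g3, g3, g3, g6, g5]),
   (630, []),
   (214, [g3, g2, g2, g3, g1, g6, g5, g2, g4, g2, g2, g3, g4, g4, g4, g6, g5]),
   (453, [g1, g6, g1, g2, g1, g1, g2, g4, g2, g6, g2, g2, g2, g3, g6, g5, g3, g6, g5]),
   (631, []),
   (624, [g1, g2, g1, g4, g3, g1, g3, g2, g6, g2, g2, g2, g4, g4, g3, g3, g5, g6, g5]),
   (106, [g5, g2, g6, g3, g2, g1, g6, g2, g2, g2, g4, g4, g4, g3, g3, g5, g6]),
   (67, [g4, g6, g3, g2, g1, g6, g2, g3, g4, g2, g3, g5, g4, g4, g3, g5, g6, g5]),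
   (619, [g5, g1, g5, g1, g3, g5, g2, g4, g2, g2, g3, g5, g4, g4, g3, g5, g6]),
   (633, []),
   (634, []),
   (86, [g4, g1, g5, g1, g2, g2, g2, g4, g2, g6, g3]),
   (635, []),
   (271, [g5, g2, g1, g6, g1, g1, g1, g4, g2, g3, g4, g2, g5]),
   (299, [g1, g2, g2, g3, g1, g3, g2, g2, g6, g2, g6, g3, g3, g3]),
   (117, [g4, g1, g3, g2, g2, g4, g2, g6, g3, g3, g3, g6]),
   (438, [g5, g2, g2, g1, g1, g5, g4, g6, g2, g4, g2, g2, g6, g4, g3, g5, g6]),
   (565, [g4, g2, g2, g2, g1, g1, g6, g3, g2, g2, g6, g3, g2, g6, g3, g6, g5]),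
   (143, [g3, g5, g2, g1, g1, g2, g2, g4, g4, g3, g2, g4, g5, g6, g5]),
   (567, [g1, g3, g1, g1, g1, g4, g2, g3, g6, g5, g3, g5, g6, g5]),
   (259, [g2, g1, g2, g1, g1, g4, g2, g4, g4, g5]),
   (642, []),
   (643, []),
   (186, [g4, g2, g1, g1, g1, g1, g4, g2, g5, g2, g4, g2, g4, g4, g4, g5, g6, g5]),
   (275, [g2, g1, g2, g1, g3, g2, g6, g2, g6, g3, g6]),
   (246, [g1, g4, g1, g1, g1, g1, g3, g4, g2, g2, g2, g3, g4, g4, g4, g5, g6]),
   (646, []),
   (647, []),
   (440, [g1, g5, g3, g2, g1, g6, g3, g2, g2, g6, g3, g2, g6, g3, g5, g3]),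
   (564, [g2, g4, g1, g2, g1, g6, g2, g2, g2, g4]),
   (636, [g2, g3, g1, g1, g1, g4, g3, g2, g6, g2, g2, g5, g6, g3, g5, g6]),
   (649, []),
   (511, [g4, g2, g4, g2, g1, g4, g3, g2, g3, g6]),
   (346, [g1, g1, g3, g2, g1, g2, g3, g4, g2, g6, g5, g3, g5, g6]),
   (371, [g1, g3, g2, g2, g1, g1, g4, g6, g2, g6, g3, g2, g5, g4, g4, g3, g5]),
   (268, [g3, g6, g1, g3, g5, g1, g6, g2, g6, g3, g2, g3, g5, g3, g6, g5]),
   (394, [g2, g6, g3, g1, g1, g1, g1, g2, g2, g3, g4, g2, g4, g6, g3, g3, g3, g6, g5]),
   (458, [g4, g1, g5, g3, g1, g3, g2, g6, g2, g6, g3, g5, g3, g5, g6, g5]),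
   (598, [g2, g2, g4, g1, g2, g5, g2, g4, g2, g2, g3, g6]),
   (557, [g3, g5, g2, g3, g1, g1, g3, g6, g2, g2, g3, g3, g6, g5]),
   (477, [g4, g6, g3, g2, g1, g4, g2, g5, g2, g4, g2, g4, g4, g5]),
   (650, []),
   (285, [g1, g5, g1, g5, g1, g6, g2, g3, g6, g2, g2, g3, g6, g5, g3, g5]),
   (19, [g6, g2, g6, g2, g3, g5, g6]),
   (533, [g4, g2, g2, g3, g1, g2, g2, g6, g4, g3, g5, g6, g5]),
   (465, [g5, g1, g5, g4, g6, g2, g4, g2, g2, g4, g6]),
   (366, [g6, g1, g2, g2, g1, g1, g2, g2, g2, g6, g2, g3, g5, g4, g4, g3, g6]),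
   (588, [g1, g1, g1, g2, g1, g4, g2, g6, g2, g2, g2, g4, g4, g4, g5, g6]),
   (527, [g4, g4, g2, g4, g1, g2, g2, g4, g4, g3, g2, g6, g5, g3, g5]),
   (293, [g1, g1, g3, g1, g3, g2, g3, g4, g2, g5, g3, g3, g3, g6]),
   (219, [g3, g6, g1, g2, g4, g1, g4, g2, g4, g2, g3, g6, g5, g3, g6]),
   (111, [g3, g1, g4, g2, g1, g4, g3, g2, g2, g6, g2, g4, g3, g4, g4, g6]),
   (218, [g1, g6, g2, g2, g1, g1, g2, g4, g4, g3, g2, g6, g5, g3, g6]),
   (451, [g1, g5, g1, g2, g1, g1, g3, g2, g4, g4, g3, g2, g6, g3, g5, g3]),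
   (303, [g4, g1, g2, g1, g1, g2, g3, g4, g3, g2, g4, g6, g3, g3, g3, g6]),
   (517, [g4, g4, g2, g1, g6, g2, g2, g4, g4, g2, g2, g6, g3, g5, g3, g5, g6]),
   (532, [g5, g1, g3, g4, g1, g1, g2, g4, g4, g2, g2, g2, g3, g6, g5, g3, g5, g6]),
   (655, [g1, g5, g2, g2, g1, g1, g3, g2, g3, g4, g3, g2, g3, g6, g5, g3, g5, g6]),
   (534, [g1, g1, g2, g3, g1, g1, g6, g2, g3, g4, g2, g4, g4, g3, g6])]

/-- Part 6 of cert0. -/
noncomputable def cert0_6 : List (ℕ × List ℕ) :=
  [(637, [g2, g5, g1, g4, g1, g1, g1, g2, g6, g2, g6, g4, g3, g6]),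
   (653, [g1, g3, g1, g2, g3, g1, g2, g6, g2, g2, g2, g6, g4, g3, g5, g6, g5]),
   (234, [g5, g2, g1, g5, g1, g6, g3, g5, g3]),
   (662, []),
   (361, [g5, g1, g1, g2, g1, g6, g4, g2, g4, g2, g2, g4, g4, g4, g5, g6, g5]),
   (587, [g2, g6, g3, g1, g1, g1, g1, g2, g3, g6, g2, g6, g3, g3, g3, g5, g6, g5]),
   (663, []),
   (490, [g4, g1, g1, g3, g2, g1, g5, g2, g4, g2, g5, g6, g5]),
   (472, [g1, g1, g3, g1, g1, g1, g3, g4, g2, g5, g4, g4, g3, g5]),
   (632, [g2, g6, g4, g1, g2, g1, g1, g4, g2, g2, g2, g6, g2, g5, g3, g6, g5]),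
   (352, [g3, g2, g2, g3, g1, g2, g6, g2, g2, g3, g3, g3, g6, g5]),
   (437, [g4, g2, g3, g4, g1, g1, g3, g2, g4, g2, g4, g6, g3, g3, g3, g5]),
   (665, []),
   (638, [g3, g2, g3, g1, g4, g2, g4, g4, g2, g2, g5, g4, g4, g3]),
   (267, [g4, g4, g1, g1, g1, g6, g2, g4, g2, g2, g4, g4, g4, g3, g3, g5]),
   (57, [g6, g1, g1, g4, g1, g6, g2, g2, g6, g2, g2, g3, g6, g5]),
   (161, [g1, g1, g3, g1, g1, g1, g5, g2, g4, g2, g5, g3, g4, g4]),
   (474, [g4, g3, g4, g1, g3, g6, g2, g4, g2, g2, g4, g3, g4, g4, g6]),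
   (24, [g2, g4, g2, g4, g1, g3, g2, g2, g6, g3, g2, g5, g3, g4, g4, g6]),
   (645, [g2, g4, g1, g3, g1, g1, g1, g6, g3, g2, g6, g2, g2, g6, g3, g6]),
   (242, [g6, g3, g1, g1, g3, g2, g2, g6, g2, g4, g4, g4, g3, g3, g6, g5]),
   (84, [g6, g1, g1, g4, g1, g2, g2, g3, g4, g3, g2, g6, g5, g3, g5, g6]),
   (41, [g1, g1, g2, g2, g3, g1, g6, g2, g4, g4, g3, g2, g5, g6, g3, g5]),
   (48, [g3, g1, g2, g1, g3, g2, g2, g6, g3, g2, g3, g3, g3, g5, g6, g5]),
   (156, [g3, g1, g3, g2, g1, g1, g4, g2, g3, g6, g2, g4, g4, g4, g5, g6, g5]),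
   (252, [g4, g2, g1, g4, g2, g3, g4, g2, g2, g3, g6]),
   (600, [g5, g3, g1, g4, g1, g1, g3, g2, g2, g6, g3, g2, g3]),
   (443, [g3, g2, g2, g1, g4, g4, g2, g6, g2, g2, g2, g4, g4, g4, g5]),
   (657, [g2, g3, g4, g3, g1, g4, g2, g2, g2, g6, g2, g4, g4, g4, g6]),
   (83, [g1, g3, g2, g2, g3, g1, g4, g2, g2, g2, g4, g2, g3, g4, g4, g5, g6]),
   (519, [g4, g6, g1, g1, g2, g2, g6, g3, g2, g4, g6, g3, g3, g3, g6, g5]),
   (162, [g1, g4, g4, g1, g1, g1, g4, g2, g2, g5, g3, g5, g6]),
   (120, [g6, g1, g4, g3, g1, g4, g2, g6, g2, g5, g6, g5, g3, g5, g6]),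
   (17, [g2, g3, g1, g1, g1, g4, g2, g6, g2, g6, g3, g5, g3, g6]),
   (213, [g1, g5, g1, g5, g1, g4, g2, g2, g6, g3, g2, g5, g3, g4, g4, g5]),
   (659, [g5, g6, g1, g1, g2, g3, g4, g2, g5, g6, g3, g5, g6, g5]),
   (674, []),
   (658, [g4, g3, g1, g3, g1, g1, g4, g2, g6, g2, g2, g2, g5, g3, g3, g3, g5, g6]),
   (494, [g2, g1, g5, g1, g4, g6, g2, g6, g3, g2, g5, g3, g4, g4, g5]),
   (489, [g5, g1, g2, g1, g4, g2, g5, g2, g4, g2, g6, g3, g6, g5]),
   (626, [g5, g1, g4, g3, g1, g3, g4, g2, g4, g2, g2, g4, g6, g3, g6, g5]),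
   (327, [g2, g2, g1, g1, g1, g1, g3, g2, g4, g2, g2, g2, g4, g4, g4, g3, g3, g5, g6, g5]),
   (52, [g3, g5, g1, g3, g4, g2, g6, g2, g2, g2, g3, g3, g6, g5]),
   (75, [g2, g2, g3, g1, g3, g2, g3, g4, g3, g2, g5, g3, g5]),
   (457, [g3, g1, g2, g3, g1, g1, g4, g2, g4, g2, g2, g3, g4, g4, g4, g6]),
   (579, [g4, g2, g4, g1, g1, g2, g3, g4, g2, g2, g2, g4, g4, g5, g6]),
   (678, []),
   (313, [g3, g5, g1, g3, g4, g2, g6, g2, g2, g2, g4, g3, g3, g5, g6]),
   (270, [g1, g4, g1, g4, g2, g1, g1, g6, g4, g2, g4, g2, g2, g3, g3, g3, g5, g6]),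
   (549, [g6, g3, g1, g1, g2, g3, g4, g2, g4, g4, g5]),
   (97, [g5, g1, g1, g1, g5, g1, g6, g2, g2, g3, g4, g2, g4, g3, g4, g4, g5]),
   (373, [g4, g1, g5, g3, g2, g1, g5, g4, g6, g2, g4, g2, g2, g4, g4, g6]),
   (605, [g2, g1, g3, g4, g1, g1, g2, g4, g4, g2, g2, g4, g3, g4, g4, g5]),
   (484, [g2, g3, g1, g5, g3, g1, g2, g2, g6, g3, g2, g5, g3, g5, g6, g5]),
   (76, [g1, g3, g4, g1, g1, g2, g2, g3, g4, g3, g2, g3, g4, g4, g4, g5, g6]),
   (339, [g1, g2, g2, g1, g2, g1, g4, g4, g2, g2, g4, g2, g3, g4, g4]),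
   (95, [g2, g2, g3, g1, g1, g3, g6, g2, g5, g4, g4, g3, g5]),
   (255, [g1, g1, g3, g4, g3, g2, g1, g3, g2, g3, g4, g2, g3, g6, g5, g3, g5, g6]),
   (260, [g2, g2, g1, g3, g4, g1, g2, g2, g6, g3, g2, g5, g3, g5, g6, g5]),
   (137, [g2, g2, g1, g1, g1, g2, g3, g6, g2, g2, g4, g3, g3, g5, g6]),
   (10, [g1, g3, g2, g6, g1, g1, g2, g2, g4, g3, g2, g3, g5, g4, g4, g3, g6, g5]),
   (574, [g5, g2, g1, g3, g1, g1, g1, g4, g2, g4, g2, g4, g3, g3]),
   (479, [g3, g6, g1, g1, g1, g4, g2, g2, g6, g3, g2, g5, g6, g3, g5, g6, g5]),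
   (664, [g6, g1, g1, g1, g1, g1, g4, g2, g2, g2, g5, g3, g4, g4])]

/-- Part 7 of cert0. -/
noncomputable def cert0_7 : List (ℕ × List ℕ) :=
  [(612, [g2, g2, g6, g1, g1, g1, g2, g2, g6, g2, g2, g4, g3, g5]),
   (132, [g3, g6, g1, g1, g2, g2, g3, g4, g2, g6, g3, g5, g6, g5]),
   (417, [g4, g6, g2, g1, g1, g4, g2, g6, g2, g4, g4, g4, g3, g3, g6]),
   (261, [g5, g3, g1, g1, g1, g1, g5, g4, g6, g2, g4, g2, g2, g3, g3, g6]),
   (426, [g2, g3, g3, g2, g1, g2, g6, g3, g2, g5, g6, g3, g5, g6]),
   (249, [g1, g5, g1, g5, g1, g2, g5, g2, g4, g2, g2, g4, g4]),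
   (553, [g1, g1, g3, g2, g1, g4, g3, g6, g5]),
   (264, [g2, g4, g1, g6, g1, g1, g1, g5, g2, g4, g2, g6, g3, g6]),
   (672, [g4, g3, g2, g1, g6, g2, g3, g6, g2, g2, g3, g4, g4, g4, g5, g6]),
   (20, [g3, g4, g4, g1, g3, g1, g2, g2, g4, g3, g2, g4, g3, g5, g6, g5]),
   (107, [g6, g2, g1, g1, g4, g4, g3, g2, g3, g4, g4, g6, g5]),
   (30, [g4, g2, g3, g4, g1, g1, g2, g2, g3, g6, g2, g5, g6, g5, g3, g6, g5]),
   (203, [g1, g4, g2, g4, g1, g3, g4, g2, g4, g4, g2, g2, g3, g6, g5, g3, g5]),
   (680, []),
   (586, [g6, g1, g2, g1, g1, g2, g2, g4, g4, g3, g2, g6, g3, g3, g3, g5]),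
   (208, [g1, g5, g3, g2, g1, g6, g2, g2, g4, g6, g3, g3, g3, g6, g5]),
   (393, [g1, g3, g6, g1, g2, g1, g1, g3, g2, g6, g2, g3, g6, g5, g3, g6, g5]),
   (681, []),
   (582, [g1, g1, g2, g2, g1, g1, g2, g6, g2, g2, g6, g3, g5, g3, g5, g6]),
   (447, [g2, g1, g2, g2, g1, g3, g2, g6, g2, g4, g4]),
   (521, [g4, g2, g4, g1, g2, g3, g4, g2, g4, g3, g4, g4, g6, g5]),
   (483, [g6, g2, g3, g1, g2, g2, g4, g2, g6]),
   (307, [g2, g4, g2, g4, g1, g1, g4, g4, g3, g2, g5, g4, g4, g3, g6]),
   (138, [g2, g1, g5, g1, g3, g4, g2, g6, g2, g2, g2, g5, g6, g3, g5, g6]),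
   (58, [g1, g3, g1, g1, g4, g2, g3, g6, g2, g6, g5, g3, g5]),
   (124, [g5, g1, g1, g1, g5, g1, g6, g3, g2, g6, g2, g6, g3, g3, g3, g5, g6]),
   (508, [g1, g4, g4, g3, g1, g1, g1, g3, g2, g2, g4, g2, g6, g5, g3, g6]),
   (577, [g2, g2, g1, g5, g1, g2, g2, g3, g4, g3, g2, g3, g4, g4]),
   (12, [g3, g4, g1, g2, g2, g4, g2, g3, g5, g3, g6]),
   (660, [g2, g2, g2, g1, g1, g4, g2, g4, g2, g2, g4, g6, g3, g3, g3, g5]),
   (314, [g3, g6, g1, g2, g4, g1, g2, g4, g4, g2, g2, g3, g3, g3, g5, g6, g5]),
   (640, [g3, g1, g5, g3, g1, g4, g6, g2, g3, g4, g4, g6, g5]),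
   (155, [g1, g4, g1, g5, g1, g5, g2, g4, g2, g2, g3]),
   (331, [g3, g2, g1, g6, g2, g2, g2, g5, g4, g4, g3, g5]),
   (435, [g1, g2, g1, g2, g2, g1, g3, g2, g2, g6, g2, g3, g3, g5]),
   (318, [g1, g4, g6, g3, g2, g1, g6, g2, g2, g3, g4, g4, g4, g5, g6]),
   (104, [g1, g4, g4, g3, g1, g1, g1, g2, g2, g3, g4, g2, g2, g4, g4, g4, g5, g6, g5]),
   (89, [g1, g4, g1, g1, g3, g6, g2, g2, g4, g3, g3]),
   (580, [g3, g1, g4, g1, g1, g3, g4, g2, g2, g4, g3]),
   (461, [g4, g2, g2, g2, g1, g1, g4, g3, g2, g2, g6, g2, g5, g4, g4, g3, g6, g5]),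
   (569, [g3, g1, g5, g3, g1, g2, g4, g2, g4, g4, g2, g2, g6, g3]),
   (648, [g1, g4, g1, g3, g1, g4, g2, g3, g4, g2, g4, g5]),
   (110, [g3, g2, g3, g1, g3, g4, g2, g3, g6, g2, g3, g6]),
   (685, []),
   (175, [g6, g1, g1, g1, g1, g4, g2, g6, g2, g6]),
   (340, [g1, g1, g3, g1, g1, g3, g2, g3, g4, g2, g6, g5]),
   (546, [g2, g6, g2, g1, g2, g1, g2, g4, g2, g2, g4, g2, g4, g3, g3, g5, g6]),
   (163, [g2, g1, g1, g4, g1, g2, g2, g4, g4, g2, g2, g4, g4, g3, g5]),
   (615, [g2, g5, g1, g4, g2, g1, g6, g2, g3]),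
   (583, [g2, g2, g4, g2, g4, g1, g1, g3, g4, g2, g6, g2, g2, g2, g3, g5, g4, g4, g3, g5, g6]),
   (432, [g1, g1, g3, g1, g1, g1, g4, g2, g3, g6, g2, g3, g5, g4, g4, g3, g6]),
   (253, [g3, g2, g4, g2, g1, g1, g1, g2, g4, g3, g2, g3, g3, g3, g5, g6, g5]),
   (686, []),
   (153, [g2, g4, g2, g1, g3, g2, g4, g2, g4, g3, g4, g4, g5, g6]),
   (272, [g4, g1, g6, g1, g1, g3, g2, g6, g2, g2, g3, g6, g5, g3, g6]),
   (604, [g1, g6, g1, g2, g1, g1, g2, g3, g4, g2, g3, g4, g4, g5, g6, g5]),
   (6, [g2, g2, g1, g1, g1, g1, g2, g6, g2, g2, g4, g6, g3, g6]),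
   (13, [g1, g5, g2, g2, g2, g1, g4, g4, g2, g2, g2, g3, g4, g4, g5, g6]),
   (556, [g3, g3, g1, g1, g1, g2, g4, g2, g2, g4, g2, g5, g6, g4, g3, g6]),
   (687, [g3, g2, g6, g1, g1, g2, g3, g4, g2, g3, g4, g4, g4, g6, g5]),
   (401, [g2, g2, g6, g1, g1, g1, g4, g4, g3, g2, g5, g3, g3, g3, g5]),
   (286, [g1, g6, g4, g3, g2, g1, g6, g2, g3, g6, g2, g2, g3, g3, g3, g6]),
   (444, [g5, g2, g1, g5, g1, g3, g6, g2, g4, g2, g2, g4, g3, g6]),
   (142, [g2, g1, g4, g3, g1, g3, g2, g3, g4, g2, g2, g4, g6, g3, g3, g3, g5, g6, g5])]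

/-- Part 8 of cert0. -/
noncomputable def cert0_8 : List (ℕ × List ℕ) :=
  [(673, [g1, g5, g1, g2, g1, g1, g6, g2, g6, g3, g2, g4, g4, g4]),
   (305, [g1, g2, g2, g1, g2, g1, g4, g2, g2, g4, g2, g3, g5, g4, g4, g3, g6]),
   (682, [g3, g1, g2, g1, g3, g6, g2, g6, g5, g3, g5]),
   (38, [g1, g3, g2, g2, g1, g1, g4, g2, g4, g2, g2, g5, g6, g3, g6, g5]),
   (382, [g3, g1, g3, g5, g1, g2, g6, g2, g3, g6, g2, g2, g4, g4, g4, g3, g3, g6, g5]),
   (294, [g4, g2, g3, g4, g1, g1, g2, g4, g2, g6, g3]),
   (178, [g1, g2, g2, g2, g1, g1, g6, g3, g2, g6, g2, g2, g4, g4, g5, g6, g5]),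
   (502, [g3, g1, g5, g2, g1, g1, g6, g2, g2, g4, g4, g2, g2, g5, g6, g4, g3, g6, g5]),
   (298, [g1, g2, g2, g4, g1, g1, g4, g4, g2, g2, g4, g2, g3, g3, g5]),
   (225, [g4, g2, g1, g1, g1, g1, g2, g2, g2, g3, g5, g4, g4, g3, g5, g6, g5]),
   (525, [g5, g3, g1, g1, g1, g1, g3, g2, g6, g2, g2, g5, g3, g4, g4, g5, g6]),
   (241, [g1, g2, g2, g4, g1, g1, g2, g2, g6, g3, g2, g3, g6, g5, g3, g6]),
   (386, [g2, g2, g1, g1, g1, g2, g3, g6, g2, g5, g3, g4, g4, g5, g6]),
   (187, [g2, g1, g3, g2, g5, g6, g4, g3, g5]),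
   (596, [g6, g1, g2, g1, g1, g1, g4, g4, g2, g4, g2, g3, g3, g3, g5, g6, g5]),
   (32, [g1, g1, g6, g2, g3, g6, g2, g2, g4, g6, g3, g6, g5]),
   (322, [g3, g1, g1, g1, g1, g3, g2, g2, g4, g3, g2, g3, g6, g5, g3]),
   (666, [g2, g4, g1, g4, g2, g1, g1, g4, g2, g6, g3, g2, g6, g3, g3, g3, g5, g6, g5]),
   (172, [g4, g2, g1, g1, g1, g1, g2, g2, g3, g6, g2, g3, g6, g5, g3, g6, g5]),
   (622, [g3, g1, g2, g3, g1, g3, g2, g3, g4, g3, g2, g4, g6, g3, g3, g3, g5, g6, g5]),
   (606, [g5, g1, g4, g2, g1, g3, g4, g2, g2, g3, g5, g3, g5]),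
   (348, [g5, g2, g2, g1, g1, g2, g6, g3, g2, g3, g4, g4, g4, g5, g6]),
   (105, [g1, g4, g3, g1, g2, g2, g2, g6, g2, g3, g5, g3, g6]),
   (543, [g6, g1, g1, g4, g6, g2, g6, g3, g2, g3, g6, g5, g3, g5, g6]),
   (568, [g1, g1, g1, g4, g1, g3, g2, g6, g2, g2, g2, g3, g5, g3, g5, g6]),
   (34, [g3, g1, g6, g3, g2, g1, g2, g6, g2, g3, g6]),
   (436, [g3, g1, g3, g1, g1, g1, g3, g2, g3, g4, g3, g2, g4, g5, g6]),
   (336, [g3, g1, g1, g6, g2, g2, g6, g2, g2, g3, g3, g3, g5]),
   (539, [g2, g3, g1, g1, g1, g6, g2, g2, g3, g3, g5, g6, g5]),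
   (227, [g1, g5, g2, g1, g1, g3, g5, g2, g4, g2, g4, g4, g4, g3, g3, g5, g6, g5]),
   (72, [g5, g1, g4, g3, g1, g3, g4, g2, g4, g4, g2, g2, g4, g4, g6, g5]),
   (166, [g4, g1, g4, g3, g1, g3, g2, g3, g6, g2, g4, g4, g3, g3, g6]),
   (29, [g2, g3, g1, g1, g4, g2, g4, g4]),
   (614, [g3, g2, g2, g3, g1, g6, g3, g2, g5, g4, g4, g3, g5, g6, g5]),
   (139, [g2, g1, g1, g2, g1, g4, g6, g2, g4, g2, g2, g3, g5, g6, g5]),
   (476, [g3, g1, g1, g5, g4, g6, g2, g4, g2, g2, g4, g4]),
   (94, [g4, g6, g1, g1, g4, g2, g3, g4, g2, g4, g3]),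
   (422, [g5, g3, g1, g1, g1, g1, g3, g2, g3, g4, g4, g4, g5, g6, g5]),
   (82, [g3, g4, g2, g2, g2, g1, g1, g2, g2, g2, g4, g2, g5, g6, g3, g6, g5]),
   (134, [g1, g4, g1, g3, g1, g6, g2, g2, g4, g4, g3, g3, g5, g6]),
   (617, [g3, g4, g2, g3, g6, g2, g6, g4, g3, g6]),
   (544, [g4, g6, g2, g4, g1, g2, g2, g3, g4, g2, g4, g4, g3, g6]),
   (392, [g4, g6, g3, g1, g3, g1, g4, g2, g6, g2, g4, g2, g2, g4, g3, g3, g6, g5]),
   (496, [g4, g3, g1, g1, g2, g1, g2, g2, g6, g3, g2, g5, g3, g4, g4, g5]),
   (204, [g2, g5, g1, g4, g1, g1, g1, g4, g2, g2, g4, g2, g4, g3, g4, g4]),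
   (189, [g3, g3, g1, g1, g1, g1, g2, g4, g2, g6, g3, g5, g6, g5]),
   (628, [g1, g5, g1, g3, g5, g2, g4, g2, g2, g5, g4, g4, g3, g6, g5]),
   (509, [g1, g2, g1, g4, g2, g6, g3, g2, g4, g6, g3, g3, g3, g5, g6, g5]),
   (412, [g3, g1, g1, g3, g1, g1, g3, g2, g4, g4, g3, g2, g3, g5, g6]),
   (54, [g5, g1, g2, g2, g6, g2, g6, g3, g5]),
   (329, [g1, g1, g1, g3, g1, g1, g6, g3, g2, g2, g6, g3, g2, g6, g3, g3, g3, g5, g6]),
   (419, [g4, g1, g6, g1, g1, g4, g2, g6, g2, g4, g2, g2, g3, g6, g5, g3]),
   (609, [g2, g2, g1, g3, g4, g1, g6, g2, g4, g2, g2, g5, g4, g4, g3, g5]),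
   (450, [g1, g1, g1, g1, g5, g2, g4, g2, g4, g3, g6, g5]),
   (520, [g3, g4, g4, g2, g1, g2, g3, g6, g2, g4, g4, g3, g6]),
   (639, [g3, g1, g3, g1, g2, g4, g2, g4, g3, g6, g5]),
   (195, [g1, g4, g3, g2, g1, g4, g6, g2, g6, g4, g3, g5, g6, g5]),
   (165, [g2, g4, g2, g2, g1, g1, g3, g4, g3, g2, g5, g3, g5, g6]),
   (71, [g2, g2, g3, g1, g1, g3, g4, g2, g2, g4, g3]),
   (370, [g3, g1, g2, g2, g1, g1, g4, g4, g3, g2, g4, g4, g3, g3, g5, g6]),
   (467, [g1, g5, g3, g1, g3, g2, g3, g5, g3, g6]),
   (441, [g6, g2, g4, g2, g1, g3, g2, g4, g2, g2, g2, g6, g3, g5, g3, g5]),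
   (216, [g2, g3, g1, g1, g3, g2, g2, g6, g2, g4, g4, g3]),
   (308, [g3, g4, g3, g1, g3, g2, g4, g2, g2, g6, g4, g3, g5, g6])]

/-- Part 9 of cert0. -/
noncomputable def cert0_9 : List (ℕ × List ℕ) :=
  [(276, [g4, g1, g2, g1, g2, g5, g2, g4, g2, g2, g6, g4, g3]),
   (31, [g4, g1, g1, g1, g1, g4, g2, g2, g4, g2, g5, g6, g5, g3, g5]),
   (7, [g1, g1, g2, g1, g1, g4, g2, g4, g2, g5, g6, g3, g5]),
   (220, [g4, g1, g1, g1, g1, g2, g6, g2, g4, g2, g2, g6, g5, g3, g5, g6, g5]),
   (621, [g6, g1, g5, g3, g2, g1, g4, g2, g2, g6, g3, g2, g6, g4, g3, g6, g5]),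
   (644, [g6, g4, g3, g2, g1, g6, g2, g6, g3, g2, g3, g3, g3, g5, g6]),
   (652, [g3, g4, g3, g2, g1, g2, g3, g4, g2, g4, g3, g5]),
   (240, [g3, g5, g1, g5, g1, g6, g2, g4, g4, g3, g2, g6, g3, g6, g5]),
   (676, [g3, g2, g1, g3, g2, g1, g1, g6, g2, g2, g2, g6, g3, g3, g3]),
   (55, [g6]),
   (312, [g2, g1, g4, g3, g1, g6, g2, g3, g4, g2, g5, g3, g4, g4]),
   (116, [g3, g6, g1, g3, g5, g1, g2, g4, g4, g2, g2, g5, g3, g3, g3, g5, g6]),
   (201, [g2, g1, g3, g4, g1, g5, g6, g3, g5, g6, g5]),
   (114, [g5, g6, g3, g1, g3, g1, g3, g4, g2, g4, g2, g5, g4, g4, g3, g6]),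
   (306, [g6, g2, g2, g1, g1, g3, g2, g2, g6, g2, g6, g3, g5, g3, g6]),
   (670, [g5, g6, g3, g1, g3, g1, g2, g5, g3, g6]),
   (375, [g1, g5, g1, g2, g3, g6, g2, g2, g5, g6, g4, g3, g6]),
   (68, [g1, g1, g3, g2, g1, g4, g2, g6, g3, g2, g4, g4, g4, g3, g3, g6]),
   (418, [g2, g3, g1, g1, g1, g3, g2, g2, g4, g3, g2, g6, g3, g5, g6]),
   (572, [g1, g1, g1, g4, g1, g2, g6, g2, g4, g3, g4, g4, g5, g6]),
   (321, [g1, g4, g1, g1, g2, g1, g1, g4, g2, g6, g2, g3, g5, g4, g4, g3, g5, g6]),
   (677, [g2, g4, g1, g4, g2, g1, g1, g2, g6, g2, g3, g6, g2, g2, g3, g4, g4, g5, g6, g5]),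
   (193, [g2, g1, g4, g3, g1, g2, g6, g2, g3, g6, g2, g2, g4, g3, g3, g6, g5]),
   (611, [g1, g4, g2, g2, g2, g1, g4, g2, g4, g4, g2, g2]),
   (625, [g2, g1, g5, g2, g2, g1, g1, g4, g2, g6, g3, g2, g3, g6, g5]),
   (389, [g1, g1, g1, g2, g2, g2, g6, g2, g4, g4, g6]),
   (47, [g3, g1, g3, g1, g1, g1, g2, g3, g5, g6, g5]),
   (151, [g2, g4, g2, g1, g1, g4, g2, g3, g6, g2, g3, g5, g4, g4, g3, g5, g6, g5]),
   (18, [g4, g1, g6, g1, g1, g1, g2, g4, g4, g2, g2, g2, g3, g5, g4, g4, g3, g6, g5]),
   (538, [g3, g1, g3, g4, g1, g1, g3, g4, g2, g4, g2, g4, g5, g6]),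
   (362, [g2, g4, g1, g6, g1, g1, g1, g2, g6, g2, g4, g2, g2, g6, g3, g5, g3, g5]),
   (112, [g3, g4, g3, g1, g1, g1, g4, g2, g2, g2, g3, g4, g4]),
   (91, [g4, g2, g4, g1, g1, g4, g4, g2, g6, g3, g5, g3, g5, g6, g5]),
   (491, [g2, g4, g2, g4, g1, g3, g4, g2, g4, g2, g2, g4, g3, g6]),
   (548, [g4, g2, g1, g5, g1, g3, g4, g2, g3, g6, g2, g5, g6, g3, g5, g6, g5]),
   (404, [g3, g6, g3, g2, g1, g2, g4, g3, g2, g4, g3, g4, g4, g5, g6]),
   (430, [g4, g3, g2, g4, g1, g3, g6, g2, g2, g6, g4, g3, g5, g6, g5]),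
   (354, [g1, g4, g1, g2, g1, g3, g2, g6, g3, g3, g3, g6, g5]),
   (675, [g5, g4, g2, g1, g1, g1, g3, g4, g2, g4, g4, g2, g2, g6, g4, g3, g6]),
   (555, [g6, g1, g2, g4, g1, g4, g2, g6, g3, g2, g5, g6, g4, g3, g5, g6, g5]),
   (679, [g3, g1, g1, g2, g1, g2, g2, g3, g4, g2, g4, g3, g4, g4, g5, g6]),
   (170, [g2, g6, g2, g1, g1, g4, g2, g2, g5, g6, g3]),
   (481, [g1, g1, g1, g1, g2, g4, g4, g3, g3, g6]),
   (654, [g1, g4, g1, g4, g1, g4, g6, g2, g6, g3, g2, g6, g3, g3, g3, g5]),
   (475, [g2, g1, g4, g1, g1, g1, g4, g3, g2, g2, g6, g2, g4, g4, g4, g5, g6, g5]),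
   (168, [g4, g1, g5, g1, g2, g6, g2, g2, g2, g6, g3, g6, g5]),
   (667, [g1, g3, g2, g4, g1, g2, g2, g3, g4, g2, g2, g4, g4, g3, g5, g6]),
   (589, [g1, g3, g4, g1, g1, g2, g2, g4, g2, g2, g2, g6, g3, g3, g3, g6, g5]),
   (540, [g2, g1, g2, g1, g5, g2, g4, g2, g6, g3, g3, g3]),
   (493, [g4, g1, g1, g2, g1, g1, g4, g4, g2, g2, g4, g2, g4, g4, g5, g6]),
   (159, [g1, g1, g6, g2, g2, g6, g2, g4, g3, g4, g4, g6]),
   (180, [g6, g2, g2, g2, g1, g3, g2, g4, g2, g2, g5, g3, g4, g4, g6]),
   (209, [g2, g1, g5, g1, g4, g2, g6, g2, g4, g2, g2, g3, g4, g4, g6, g5]),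
   (487, [g1, g4, g4, g3, g1, g1, g1, g4, g2, g5, g6]),
   (150, [g1, g1, g3, g1, g4, g2, g4, g2, g4, g6, g3, g6]),
   (562, [g2, g2, g1, g2, g2, g6, g3, g2, g5, g6, g4, g3, g5, g6, g5]),
   (257, [g2, g2, g2, g1, g2, g2, g3, g4, g2, g2, g6, g5, g3]),
   (689, [g3, g1, g5, g2, g1, g1, g2, g3, g4, g2, g2, g3, g6, g5, g3, g5]),
   (668, [g2, g3, g1, g1, g2, g4, g2, g2, g2, g4, g5, g6, g5]),
   (283, [g3, g2, g3, g1, g1, g1, g2, g4, g4, g2, g2, g2, g6]),
   (683, [g3, g4, g4, g1, g3, g1, g3, g4, g2, g4, g4, g2, g2, g4, g4, g4, g6]),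
   (691, [g4, g4, g2, g2, g1, g4, g4, g2, g2, g3, g4, g4, g4, g5, g6]),
   (478, [g3, g4, g4, g1, g3, g1, g4, g4, g2, g2, g4, g2, g6, g3, g5, g3, g5, g6, g5]),
   (181, [g4, g1, g1, g2, g1, g3, g4, g2, g2, g2, g5, g4, g4, g3])]

/-- Part 10 of cert0. -/
noncomputable def cert0_10 : List (ℕ × List ℕ) :=
  [(446, [g3, g2, g2, g2, g1, g1, g4, g2, g3, g4, g2, g6, g4, g3, g5, g6, g5]),
   (53, [g6, g5, g1, g4, g3, g1, g4, g2, g2, g2, g4, g2, g4, g4, g6]),
   (692, [g3, g2, g2, g2, g1, g1, g4, g3, g2, g5, g3, g3, g3, g6]),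
   (651, [g2, g2, g4, g1, g1, g6, g2, g2, g4, g3, g2, g5, g6, g5, g3, g5, g6, g5]),
   (243, [g1, g2, g1, g2, g1, g4, g4, g2, g6, g2, g2, g2, g3, g6]),
   (516, [g2, g5, g1, g1, g2, g1, g2, g5, g2, g4, g2, g2, g5, g3]),
   (535, [g3, g1, g2, g3, g1, g2, g4, g3, g2, g3, g3, g3]),
   (149, [g3, g2, g3, g1, g2, g2, g2, g6, g3, g2, g4, g4, g5, g6, g5]),
   (592, [g5, g1, g1, g2, g1, g2, g2, g6, g2, g6, g5, g3, g5, g6]),
   (684, [g1, g5, g1, g4, g1, g1, g6, g5, g2, g4, g2, g2, g3, g3, g3, g5, g6, g5]),
   (21, [g5, g2, g1, g1, g4, g1, g4, g6, g2, g6, g3, g2, g3, g6, g5, g3, g5, g6, g5]),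
   (347, [g5, g2, g2, g1, g1, g2, g4, g4, g2, g2, g2, g6, g3, g5, g3, g6]),
   (65, [g2, g2, g4, g1, g1, g4, g6, g2, g4, g2, g2, g6, g3, g3, g3, g6, g5]),
   (428, [g2, g2, g6, g1, g1, g6, g2, g3, g4, g2, g3, g3, g3, g6, g5]),
   (333, [g5, g1, g5, g4, g1, g1, g2, g3, g6, g2, g5, g6, g5, g3, g6, g5]),
   (690, [g6, g1, g3, g2, g3, g1, g4, g3, g2, g6, g2, g2, g6, g4, g3, g6]),
   (290, [g1, g2, g3, g2, g2, g1, g3, g2, g3, g4, g3, g2, g3, g6]),
   (380, [g6, g5, g1, g2, g1, g1, g2, g4, g2, g2, g2, g4, g4, g3, g3, g5]),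
   (463, [g3, g2, g1, g5, g1, g2, g4, g2, g2, g4, g2, g3, g3]),
   (671, [g2, g2, g3, g1, g3, g5, g2, g4, g2, g4, g6, g3, g5, g6]),
   (656, [g3, g4, g1, g5, g3, g1, g2, g4, g2, g4, g4, g2, g2, g4, g6, g3, g3, g3, g5]),
   (512, [g3, g4, g2, g2, g3, g1, g3, g4, g2, g2, g4, g4, g6]),
   (397, [g3, g1, g6, g3, g2, g1, g2, g6, g2, g4, g2, g2, g4, g4, g3, g3, g6, g5]),
   (464, [g1, g5, g2, g2, g2, g1, g4, g6, g2, g6, g3, g2, g6, g4, g3]),
   (262, [g1, g5, g3, g2, g1, g2, g4, g2, g4, g4, g2, g2, g5, g4, g4, g3, g6]),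
   (537, [g2, g1, g3, g2, g1, g4, g2, g6, g2, g5, g6, g4, g3, g6, g5]),
   (576, [g3, g2, g1, g2, g1, g4, g4, g2, g2, g4, g4, g4, g5, g6]),
   (363, [g2, g1, g1, g2, g1, g3, g4, g2, g4, g2, g6, g3, g5, g3, g6]),
   (335, [g3, g1, g3, g2, g1, g1, g2, g6, g2, g2, g4, g6, g3, g3, g3, g5, g6, g5]),
   (669, [g1, g1, g6, g1, g1, g4, g2, g2, g6, g3, g2, g5, g3, g4, g4]),
   (629, [g6, g4, g1, g4, g3, g1, g3, g4, g2, g2, g2, g3, g3, g5, g6, g5]),
   (377, [g2, g1, g1, g1, g1, g1, g4, g4, g2, g4, g2, g3, g3, g3, g5, g6, g5]),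
   (196, [g1, g4, g4, g3, g1, g1, g1, g2, g4, g2, g4, g4, g4, g3, g3, g6]),
   (661, [g4, g1, g6, g2, g4, g4, g2, g2, g4, g4, g3, g5, g6]),
   (343, [g1, g4, g2, g6, g1, g1, g1, g4, g2, g6, g2, g4, g6, g3, g3, g3]),
   (190, [g1, g4, g1, g2, g3, g4, g2, g2, g2, g3]),
   (247, [g1, g1, g1, g2, g1, g3, g4, g2, g6, g2, g2, g2]),
   (541, [g1, g6, g3, g2, g2, g6, g3, g2, g5, g6, g4, g3]),
   (210, [g5, g1, g3, g4, g1, g1, g2, g2, g4, g3, g2, g4, g4, g4, g3, g3, g6, g5]),
   (688, [g2, g1, g3, g2, g1, g2, g6, g2, g2, g5, g3, g4, g4]),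
   (591, [g1, g6, g2, g2, g1, g1, g2, g4, g2, g4, g2, g2, g4, g4, g4, g3, g3, g5, g6]),
   (350, [g4, g3, g2, g4, g1, g2, g6, g2, g2, g2, g5, g3, g3, g3, g5, g6, g5]),
   (229, [g2, g4, g1, g5, g4, g6, g2, g4, g2, g2, g5, g3, g4, g4, g6, g5]),
   (35, [g1, g3, g1, g1, g3, g2, g6, g2, g2, g2, g5, g3, g3, g3]),
   (593, [g3, g5, g1, g6, g3, g2, g6, g2, g2, g6, g3, g5, g3, g6]),
   (613, [g3, g1, g3, g2, g1, g1, g2, g2, g6, g3, g6, g5]),
   (641, [g1, g3, g6, g1, g1, g6, g3, g2, g6, g2, g2, g3, g4, g4, g5, g6]),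
   (296, [g6, g1, g2, g2, g1, g1, g2, g2, g6, g2, g2, g3, g5, g4, g4, g3, g6]),
   (616, [g1, g2, g2, g1, g2, g1, g4, g3, g3]),
   (518, [g4, g2, g6, g1, g1, g1, g4, g2, g2, g2, g5, g3, g3, g3, g6]),
   (403, [g5, g2, g1, g1, g4, g1, g4, g2, g4, g4, g2, g2, g5, g6, g4, g3, g5, g6, g5]),
   (439, [g3, g1, g1, g1, g4, g2, g2, g4, g4, g4, g5, g6]),
   (434, [g5, g3, g1, g4, g1, g1, g3, g2, g2, g4, g2, g4, g4, g4, g3, g3, g5]),
   (0, [g1]),
   (3, []),
   (10, []),
   (17, []),
   (8, [g2, g1, g1, g4, g1, g6, g5, g2, g4, g2, g2, g4, g4, g3, g3, g5, g6]),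
   (29, []),
   (34, []),
   (41, []),
   (46, []),
   (50, []),
   (57, [])]

/-- Part 11 of cert0. -/
noncomputable def cert0_11 : List (ℕ × List ℕ) :=
  [(63, []),
   (69, []),
   (75, []),
   (80, []),
   (82, []),
   (86, []),
   (93, []),
   (77, [g1, g1, g5, g1, g2, g3, g4, g2, g2, g5, g3, g3, g3, g6, g5]),
   (103, []),
   (109, []),
   (26, [g6, g5, g1, g4, g3, g1, g3, g2, g4, g2, g2, g3, g3, g3, g5]),
   (119, []),
   (124, []),
   (47, [g1, g3, g6, g1, g1, g3, g4, g2, g2, g5, g3, g3, g3]),
   (132, []),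
   (138, []),
   (141, []),
   (145, []),
   (148, []),
   (153, []),
   (157, []),
   (161, []),
   (165, []),
   (56, [g1, g2, g1, g4, g1, g3, g4, g2, g4, g4, g2, g2, g5, g3, g5]),
   (172, []),
   (130, [g1, g2, g1, g4, g3, g1, g2, g6, g3, g2, g5, g6, g3, g6, g5]),
   (180, []),
   (183, []),
   (186, []),
   (189, []),
   (160, [g2, g1, g3, g4, g1, g1, g2, g6, g3, g2, g5, g3]),
   (175, [g6, g1, g2, g1, g1, g1, g3, g5, g2, g4, g2, g2, g3, g3]),
   (201, []),
   (203, []),
   (206, []),
   (32, [g2, g3, g3, g2, g1, g4, g6, g2, g4, g3, g4, g4, g6, g5]),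
   (162, [g4, g1, g4, g1, g3, g1, g4, g2, g2, g6, g3, g2, g4, g4, g6]),
   (156, [g4, g2, g4, g1, g1, g3, g4, g2, g4, g2, g2, g6, g4, g3, g5]),
   (222, []),
   (225, []),
   (229, []),
   (59, [g1, g2, g2, g2, g1, g1, g6, g2, g2, g6, g2, g2, g3, g6]),
   (239, []),
   (245, []),
   (249, []),
   (190, [g2, g3, g3, g1, g1, g1, g5, g2, g4, g2, g2, g5, g6, g3, g5]),
   (1, [g4, g4, g1, g5, g1, g2, g4, g4, g2, g2, g5, g3, g4, g4]),
   (257, []),
   (233, [g2, g4, g2, g1, g1, g1, g1, g2, g2, g3, g4, g2, g6, g5, g3, g6]),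
   (200, [g3, g1, g1, g2, g1, g1, g4, g2, g6, g2, g5, g3, g5, g6, g5]),
   (267, []),
   (270, []),
   (274, []),
   (279, []),
   (85, [g3, g1, g2, g1, g1, g3, g2, g2, g4, g3, g2, g4, g4, g4, g3, g3]),
   (60, [g1, g2, g6, g1, g4, g1, g4, g2, g3, g4, g2, g4, g5]),
   (99, [g1, g2, g1, g5, g1, g4, g2, g2, g4, g2, g5, g3, g4, g4, g5, g6, g5]),
   (288, []),
   (290, []),
   (293, []),
   (9, [g5, g3, g2, g2, g1, g6, g2, g2, g4, g4, g2, g2, g6, g3, g3, g3, g5, g6]),
   (271, [g4, g2, g1, g1, g1, g1, g3, g6, g2, g5, g6, g3, g5, g6, g5]),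
   (298, [g1, g5, g1, g6, g2, g2, g4, g3, g2, g4, g3, g6]),
   (107, [g4, g1, g1, g3, g2, g1, g4, g4, g2, g4, g2, g4, g3, g5, g6])]

/-- Part 12 of cert0. -/
noncomputable def cert0_12 : List (ℕ × List ℕ) :=
  [(305, []),
   (284, [g1, g2, g1, g1, g6, g2, g2, g4, g4, g2, g2, g4, g4, g4, g3, g3, g6, g5]),
   (310, []),
   (312, []),
   (111, [g2, g2, g1, g4, g2, g5, g2, g4, g2, g4, g5, g6]),
   (302, [g3, g2, g3, g1, g4, g2, g2, g4, g2, g5, g4, g4, g3, g6, g5]),
   (97, [g1, g4, g3, g1, g6, g5, g2, g4, g2, g2, g3, g3, g3, g5, g6, g5]),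
   (76, [g1, g2, g1, g2, g1, g3, g2, g2, g4, g3, g2, g4, g4, g3, g3, g5, g6]),
   (304, [g3, g4, g1, g5, g3, g1, g3, g2, g4, g2, g4, g3, g4, g4, g5, g6, g5]),
   (327, []),
   (329, []),
   (20, [g1, g3, g4, g1, g1, g3, g6, g2, g4, g2, g2, g6, g5, g3, g6]),
   (193, [g5, g3, g1, g2, g2, g4, g4, g3, g2, g4, g6, g3, g3, g3, g5]),
   (251, [g2, g2, g1, g2, g1, g2, g6, g2, g2, g6, g2, g5, g3, g5, g6]),
   (89, [g2, g1, g3, g1, g1, g1, g2, g2, g4, g3, g6]),
   (217, [g1, g1, g1, g3, g1, g1, g6, g4, g2, g4, g2, g2, g4, g6, g3, g6, g5]),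
   (54, [g4, g2, g1, g2, g1, g1, g4, g6, g2, g5, g6, g3, g6, g5]),
   (106, [g1, g2, g6, g1, g4, g1, g4, g6, g2, g4, g5, g6, g5]),
   (346, []),
   (325, [g1, g1, g3, g2, g1, g4, g2, g4, g4, g2, g2, g3, g5, g4, g4, g3, g5, g6]),
   (259, [g4, g1, g3, g1, g2, g2, g3, g4, g2, g2, g4, g4, g3, g3, g5]),
   (356, []),
   (359, []),
   (287, [g2, g1, g3, g2, g2, g1, g2, g2, g3, g4, g2]),
   (126, [g5, g1, g3, g4, g1, g1, g2, g6, g2, g2, g2, g3, g6, g5, g3]),
   (149, [g1, g1, g4, g2, g1, g1, g2, g5, g2, g4, g2, g4, g5]),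
   (65, [g2, g6, g2, g1, g2, g1, g2, g2, g6, g3, g2, g5, g6, g5, g3, g5, g6, g5]),
   (369, []),
   (100, [g2, g5, g2, g4, g2, g2, g3, g3, g3, g5]),
   (147, [g5, g3, g1, g4, g1, g1, g4, g3, g2, g3, g6, g5, g3, g5]),
   (307, [g4, g4, g2, g2, g1, g2, g3, g6, g2, g2, g4, g6, g3, g6]),
   (143, [g1, g2, g4, g2, g2, g2, g3, g3, g5]),
   (382, []),
   (386, []),
   (389, []),
   (260, [g5, g1, g2, g1, g1, g6, g2, g2, g3, g4, g2, g5, g6, g5, g3, g6, g5]),
   (396, []),
   (72, [g2, g3, g1, g1, g1, g4, g2, g2, g6, g3, g2, g4, g3, g3]),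
   (223, [g1, g5, g1, g2, g1, g6, g2, g6, g2, g3, g4, g4, g6, g5]),
   (402, []),
   (404, []),
   (67, [g3, g1, g5, g1, g2, g2, g6, g2, g2, g6, g3, g3, g3]),
   (235, [g1, g2, g6, g3, g2, g1, g4, g4, g2, g2, g4, g2, g6, g5, g3, g6]),
   (412, []),
   (417, []),
   (263, [g2, g4, g1, g2, g2, g6, g3, g2, g5, g6, g3]),
   (238, [g2, g3, g4, g3, g1, g3, g4, g4]),
   (419, []),
   (422, []),
   (428, []),
   (380, [g6, g1, g4, g1, g1, g4, g2, g2, g4, g4, g2, g2, g6, g4, g3, g6, g5]),
   (36, [g3, g4, g4, g2, g1, g3, g4, g2, g4, g2, g2, g6, g5, g3, g6]),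
   (432, []),
   (219, [g3, g2, g2, g1, g1, g2, g4, g4, g2, g2, g2, g5, g3, g3, g3, g6, g5]),
   (403, [g1, g2, g1, g1, g2, g1, g4, g2, g4, g5]),
   (436, []),
   (318, [g6, g2, g1, g1, g5, g4, g6, g2, g4, g2, g2, g3, g6, g5, g3, g6, g5]),
   (135, [g3, g1, g2, g3, g1, g1, g3, g2, g6, g2, g2, g5, g3, g4, g4, g6]),
   (27, [g6, g1, g4, g1, g2, g6, g2, g2, g4, g4, g3, g5, g6, g5]),
   (446, []),
   (447, []),
   (250, [g4, g1, g3, g2, g3, g6, g2, g4, g5]),
   (195, [g1, g2, g1, g4, g1, g4, g2, g6, g2, g4, g2, g2, g5, g3, g4, g4, g5, g6]),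
   (451, [])]

/-- Part 13 of cert0. -/
noncomputable def cert0_13 : List (ℕ × List ℕ) :=
  [(178, [g6, g1, g4, g1, g2, g4, g2, g2, g4, g2, g5, g4, g4, g3, g6, g5]),
   (453, []),
   (455, []),
   (458, []),
   (349, [g3, g1, g2, g4, g1, g1, g4, g2, g4, g2, g2, g4, g4, g4]),
   (461, []),
   (306, [g1, g4, g2, g1, g1, g4, g2, g4, g4, g2, g2, g4, g4, g4, g3, g3]),
   (220, [g5, g1, g4, g1, g1, g1, g2, g2, g6, g2, g2, g5, g4, g4, g3]),
   (55, [g1, g4, g3, g2, g1, g2, g2, g3, g4, g3, g2, g4, g3, g6, g5]),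
   (468, []),
   (91, [g1, g2, g4, g1, g1, g6, g2, g2, g2, g3, g6, g5, g3, g6, g5]),
   (121, [g1, g2, g1, g1, g2, g1, g2, g2, g3, g6, g2, g5, g6, g3]),
   (73, [g4, g2, g4, g1, g3, g2, g3, g4, g3, g2, g4, g4, g4, g3, g3, g5, g6]),
   (45, [g6, g3, g1, g6, g1, g1, g2, g3, g4, g2, g5, g6, g3, g6]),
   (475, []),
   (275, [g1, g1, g6, g1, g1, g2, g2, g2, g6, g2, g4, g4, g4]),
   (392, [g3, g1, g3, g2, g1, g1, g3, g2, g4, g4, g3, g2, g6, g5, g3, g5]),
   (58, [g3, g2, g6, g1, g1, g3, g5, g2, g4, g2, g2, g3, g5, g6, g5]),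
   (204, [g5, g3, g4, g1, g1, g3, g2, g6, g2, g5, g6, g4, g3, g5, g6]),
   (390, [g3, g6, g1, g2, g4, g1, g4, g2, g3, g6, g2, g4, g4, g6]),
   (81, [g5, g1, g2, g2, g6, g2, g2, g5, g3, g3, g3, g6, g5]),
   (240, [g4, g2, g4, g1, g1, g2, g4, g2, g6, g2, g2, g2, g6, g3, g5, g3, g5, g6, g5]),
   (40, [g6, g1, g1, g4, g1, g3, g2, g6, g2, g2, g2, g4, g3, g3, g6, g5]),
   (332, [g6, g1, g1, g6, g2, g6, g3, g2, g5, g3, g4, g4]),
   (101, [g3, g1, g3, g1, g1, g2, g2, g3, g6, g2, g3, g3, g3, g5, g6]),
   (129, [g3, g5, g2, g3, g1, g1, g3, g4, g2, g4, g4, g2, g2, g3, g3]),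
   (347, [g3, g6, g1, g1, g1, g2, g2, g2, g4, g3, g2, g5, g6, g5, g3, g5, g6, g5]),
   (244, [g4, g2, g4, g1, g1, g6, g5, g2, g4, g2, g2, g5, g6, g5, g3, g5, g6]),
   (114, [g2, g6, g1, g4, g1, g6, g3, g2, g5, g4, g4, g3]),
   (79, [g1, g2, g1, g3, g2, g1, g6, g2, g4, g4, g2, g2, g6, g5, g3, g5]),
   (2, [g1, g4, g1, g5, g1, g2, g2, g2, g4, g3, g2, g4, g4, g6, g5]),
   (497, []),
   (457, [g1, g4, g3, g1, g1, g1, g4, g2, g3, g6, g2, g4, g3]),
   (499, []),
   (105, [g3, g3, g1, g1, g1, g1, g3, g5, g2, g4, g2, g2, g4, g3, g3]),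
   (316, [g1, g1, g2, g1, g2, g6, g2, g2, g2, g5, g3, g4, g4, g5, g6]),
   (292, [g2, g6, g2, g4, g1, g2, g6, g2, g6, g4, g3, g6]),
   (342, [g3, g4, g1, g5, g3, g1, g4, g2, g6, g2, g4, g2, g2, g6, g5]),
   (194, [g5, g6, g2, g1, g5, g1, g2, g2, g3, g4, g3, g2, g6, g5, g3, g5, g6, g5]),
   (459, [g4, g1, g4, g1, g3, g1, g5, g2, g4, g2, g2, g4, g4, g4, g5, g6]),
   (510, []),
   (511, []),
   (514, []),
   (516, []),
   (182, [g3, g4, g1, g1, g1, g2, g6, g2, g2, g2, g4, g4, g3, g5]),
   (159, [g3, g1, g3, g1, g1, g3, g2, g4, g2, g2, g2, g3, g3, g3, g6]),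
   (518, []),
   (431, [g4, g1, g1, g1, g2, g2, g4, g4, g2, g2, g3, g3, g3, g5, g6]),
   (11, [g3, g6, g1, g1, g1, g5, g4, g6, g2, g4, g2, g2, g6, g4, g3, g5, g6, g5]),
   (483, [g2, g1, g1, g1, g1, g1, g3, g4, g3, g2, g3, g3, g5, g6, g5]),
   (525, []),
   (104, [g1, g2, g1, g1, g3, g4, g2, g2, g4, g6, g3, g6]),
   (527, []),
   (529, []),
   (448, [g3, g5, g2, g1, g1, g6, g3, g2, g6, g2, g4, g3, g6]),
   (532, []),
   (336, [g4, g4, g2, g1, g2, g4, g2, g2, g2, g6, g4, g3, g6]),
   (537, []),
   (522, [g4, g2, g4, g1, g6, g2, g4, g4, g2, g2, g5, g3, g3, g3, g6, g5]),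
   (505, [g1, g2, g3, g2, g2, g1, g5, g4, g6, g2, g4, g2, g2, g5, g6, g4, g3, g5]),
   (498, [g1, g2, g1, g4, g3, g1, g4, g6, g2, g2, g5, g6, g5, g3, g6, g5]),
   (314, [g3, g1, g2, g2, g1, g1, g6, g2, g2, g6, g2, g2]),
   (226, [g2, g3, g1, g1, g4, g1, g4, g4, g2, g2, g4, g2, g4, g4]),
   (140, [g5, g3, g2, g2, g1, g3, g5, g2, g4, g2, g2, g5, g3, g4, g4, g5, g6])]

/-- Part 14 of cert0. -/
noncomputable def cert0_14 : List (ℕ × List ℕ) :=
  [(437, [g5, g3, g4, g1, g1, g3, g2, g6, g2, g4, g3, g5, g6, g5]),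
   (137, [g3, g2, g1, g3, g2, g1, g1, g2, g2, g2, g3, g3, g3, g5, g6, g5]),
   (35, [g2, g4, g1, g4, g3, g2, g5, g6, g4, g3, g5, g6, g5]),
   (531, [g3, g4, g2, g1, g1, g1, g3, g4, g2, g4, g2, g4, g4, g3, g5]),
   (449, [g5, g2, g3, g1, g1, g3, g2, g4, g2, g2, g2, g5, g6, g5, g3]),
   (553, []),
   (559, []),
   (561, []),
   (463, [g2, g4, g3, g1, g4, g2, g2, g2, g6, g2, g5, g3, g3, g3, g6, g5]),
   (393, [g1, g5, g1, g2, g1, g2, g2, g6, g2, g2, g5, g3, g3, g3, g6, g5]),
   (122, [g2, g2, g1, g4, g1, g1, g1, g6, g2, g6, g2, g6, g3, g6, g5]),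
   (367, [g4, g3, g2, g1, g3, g2, g4, g3, g4, g4]),
   (286, [g6, g2, g4, g2, g1, g6, g2, g4, g4, g2, g2, g4, g6, g5]),
   (213, [g6, g3, g1, g1, g4, g4, g2, g4, g2, g2, g3, g4, g4, g5]),
   (142, [g1, g2, g1, g1, g1, g2, g6, g2, g5, g4, g4, g3, g6]),
   (564, []),
   (351, [g4, g2, g1, g1, g1, g1, g2, g5, g2, g4, g2, g3, g6]),
   (92, [g3, g4, g4, g1, g3, g1, g2, g4, g2, g2, g2, g6, g4, g3, g5]),
   (429, [g2, g4, g1, g4, g2, g1, g1, g4, g2, g5, g2, g4, g2, g5, g3, g5, g6]),
   (462, [g1, g2, g1, g3, g2, g1, g2, g4, g4, g3, g2, g4]),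
   (361, [g4, g3, g4, g1, g1, g2, g4, g2, g5, g6, g4, g3, g5, g6]),
   (478, [g6, g3, g1, g6, g1, g1, g3, g2, g6, g2, g2, g4, g6, g3, g6, g5]),
   (88, [g1, g5, g6, g1, g1, g2, g2, g2, g6, g3, g2, g3, g3, g5]),
   (350, [g1, g3, g2, g2, g1, g4, g2, g3, g4, g2, g2, g5, g3, g3, g3]),
   (492, [g3, g6, g3, g2, g1, g5, g4, g6, g2, g4, g2, g2, g6, g3, g3, g3]),
   (377, [g2, g2, g2, g1, g1, g2, g3, g4, g3, g2, g4, g3, g3, g6, g5]),
   (309, [g1, g1, g2, g2, g3, g1, g2, g2, g4, g2, g2, g2, g3, g5, g3, g5, g6, g5]),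
   (544, [g1, g4, g2, g1, g4, g2, g5, g6, g4, g3, g5]),
   (150, [g1, g4, g1, g1, g2, g1, g1, g4, g2, g2, g2, g4, g2, g5, g3, g4, g4, g6]),
   (566, [g3, g3, g1, g1, g1, g1, g2, g4, g2, g4, g4, g2, g2, g4, g5, g6]),
   (574, []),
   (252, [g4, g3, g1, g3, g4, g2, g4, g2, g3, g6, g5, g3]),
   (487, [g5, g2, g2, g1, g1, g2, g5, g2, g4, g2, g5, g6, g4, g3]),
   (74, [g2, g1, g1, g1, g1, g1, g3, g6, g2, g2, g6, g5]),
   (440, [g4, g2, g4, g2, g1, g1, g4, g2, g3, g6, g2, g6, g4, g3]),
   (381, [g1, g4, g1, g1, g1, g1, g2, g2, g4, g4, g2, g2, g3, g3, g5, g6, g5]),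
   (139, [g3, g5, g2, g1, g1, g1, g2, g4, g2, g2, g4, g5, g6, g5]),
   (484, [g5, g1, g4, g1, g1, g2, g4, g2, g4, g4, g2, g2, g5, g6, g3, g5, g6]),
   (253, [g1, g4, g4, g2, g1, g2, g6, g2, g3, g6, g2, g2, g4, g3, g4, g4, g5]),
   (568, [g1, g6, g1, g1, g3, g4, g2, g4, g4, g2, g2, g6, g4, g3]),
   (489, [g4, g2, g1, g5, g1, g3, g2, g2, g4, g2, g5, g6, g5, g3, g6]),
   (317, [g3, g5, g3, g2, g1, g4, g3, g2, g6, g2, g2, g6, g3, g6]),
   (387, [g4, g1, g5, g1, g5, g1, g3, g2, g2, g6, g2, g5, g6, g5, g3, g5, g6, g5]),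
   (583, []),
   (479, [g2, g4, g2, g2, g1, g1, g6, g2, g6, g2, g5, g6, g4, g3]),
   (586, []),
   (291, [g2, g4, g1, g4, g2, g1, g1, g4, g4, g2, g2, g6, g3, g3, g3, g5]),
   (378, [g1, g3, g2, g1, g4, g2, g3, g4, g2, g2, g4, g4, g3, g6, g5]),
   (353, [g1, g1, g3, g4, g1, g1, g4, g2, g3, g5, g4, g4, g3, g5]),
   (264, [g3, g4, g3, g1, g1, g1, g3, g2, g6, g2, g3, g5]),
   (589, []),
   (368, [g1, g6, g3, g2, g1, g2, g4, g2, g2, g4, g2, g6, g4, g3, g6]),
   (477, [g4, g1, g1, g3, g1, g1, g6, g2, g4, g4, g3, g2, g6, g4, g3, g5, g6, g5]),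
   (62, [g2, g3, g3, g2, g1, g2, g2, g4, g4, g3, g2, g5, g6, g5, g3, g5]),
   (127, [g2, g2, g1, g2, g1, g3, g6, g2, g4, g3, g4, g4, g5]),
   (592, []),
   (334, [g4, g1, g1, g4, g2, g1, g3, g2, g2, g6, g3, g2, g6, g5, g3, g6]),
   (308, [g3, g1, g3, g2, g3, g1, g2, g2, g4, g4, g2, g2, g6, g3, g5]),
   (572, [g2, g4, g3, g2, g1, g2, g2, g5, g3, g3, g3, g5]),
   (467, [g5, g3, g4, g1, g1, g3, g6, g2, g2, g6, g5, g3, g5, g6]),
   (579, [g3, g1, g1, g1, g1, g6, g4, g2, g4, g2, g2, g6, g3, g5, g3, g6]),
   (430, [g1, g5, g2, g2, g2, g1, g6, g2, g6, g3, g2, g4, g4, g6, g5]),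
   (303, [g3, g4, g1, g4, g4, g2, g2, g4, g2, g3, g6, g5, g3, g5]),
   (123, [g6, g2, g1, g1, g2, g6, g2, g2, g2, g4, g4, g3, g6, g5])]

/-- Part 15 of cert0. -/
noncomputable def cert0_15 : List (ℕ × List ℕ) :=
  [(360, [g4, g2, g1, g1, g1, g4, g2, g2, g4, g6, g3, g6, g5]),
   (276, [g4, g1, g1, g6, g1, g1, g1, g2, g2, g4, g2, g6, g4, g3]),
   (411, [g2, g1, g6, g1, g1, g1, g3, g2, g4, g2, g2, g4, g4, g4, g3, g3]),
   (538, [g1, g5, g1, g1, g2, g1, g4, g2, g5, g2, g4, g2, g5, g4, g4, g3, g5, g6, g5]),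
   (546, [g6, g1, g2, g1, g1, g2, g4, g2, g4, g2, g2, g4, g4, g5]),
   (232, [g1, g1, g4, g2, g1, g1, g6, g2, g5, g4, g4, g3, g6]),
   (605, []),
   (444, [g4, g1, g5, g6, g1, g1, g2, g4, g4, g3, g2, g3, g5, g4, g4, g3, g5, g6]),
   (258, [g3, g1, g3, g2, g1, g1, g2, g6, g2, g6, g5, g3, g5, g6]),
   (324, [g3, g4, g2, g1, g1, g1, g6, g2, g4, g4, g3, g2, g3, g3, g3, g6]),
   (571, [g5, g2, g1, g6, g1, g1, g1, g4, g2, g6, g3, g2, g3, g4, g4, g5, g6]),
   (198, [g1, g3, g4, g3, g2, g1, g3, g2, g2, g4, g3, g2, g3, g3, g6]),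
   (52, [g3, g6, g1, g3, g5, g1, g6, g2, g2, g4, g4, g4, g3, g3, g5]),
   (237, [g2, g6, g1, g4, g1, g3, g2, g4, g2, g2, g2, g5, g4, g4, g3, g6]),
   (113, [g6, g3, g2, g3, g1, g4, g2, g3, g4, g2, g2, g4, g4, g5, g6, g5]),
   (39, [g4, g1, g1, g2, g1, g1, g3, g2, g4, g2, g2, g2, g4, g4, g3, g3, g5]),
   (283, [g1, g3, g1, g2, g3, g4, g2, g2, g2, g3, g5, g3, g5, g6]),
   (37, [g3, g5, g3, g1, g6, g2, g2, g4, g3, g2, g4, g4, g6]),
   (524, [g4, g6, g1, g2, g4, g1, g3, g2, g6, g2, g4, g4, g4, g3, g3, g5, g6, g5]),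
   (503, [g1, g2, g1, g1, g3, g4, g2, g4, g4, g2, g2, g4, g6, g3, g6, g5]),
   (410, [g1, g4, g2, g1, g1, g2, g2, g6, g3, g2, g4, g4, g6]),
   (562, [g2, g6, g2, g1, g1, g6, g2, g3, g6, g2, g2, g5, g6, g5, g3, g6, g5]),
   (469, [g2, g3, g1, g5, g3, g1, g6, g2, g2, g6, g2, g3, g5, g4, g4, g3, g5, g6, g5]),
   (196, [g4, g1, g1, g1, g2, g3, g4, g3, g2, g4, g3, g4, g4, g6]),
   (6, [g1, g1, g2, g1, g6, g2, g2, g6, g2, g2, g5, g4, g4, g3, g5]),
   (289, [g2, g1, g2, g3, g1, g1, g4, g2, g4, g2, g6, g3, g5, g6, g5]),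
   (384, [g3, g5, g3, g1, g6, g2, g4, g4, g2, g2, g5, g4, g4, g3, g5]),
   (438, [g3, g5, g3, g1, g1, g1, g2, g4, g4, g3, g2, g4, g4, g4, g3, g3, g5]),
   (174, [g6, g3, g2, g3, g1, g2, g4, g2, g2, g4, g2, g5, g6, g3, g6]),
   (433, [g6, g2, g2, g1, g2, g4, g2, g2, g4, g2, g5, g4, g4, g3, g6, g5]),
   (385, [g3, g1, g1, g4, g4, g2, g4, g2, g2, g3, g3, g3, g6, g5]),
   (268, [g4, g3, g1, g4, g1, g1, g4, g2, g2, g2, g4, g2, g5, g3, g4, g4, g6, g5]),
   (338, [g4, g6, g1, g1, g3, g2, g4, g2, g2, g2, g4, g4, g3, g3]),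
   (185, [g6, g3, g5, g2, g1, g1, g2, g3, g5, g4, g4, g3, g6]),
   (71, [g2, g4, g4, g2, g2, g1, g6, g3, g2, g6, g2, g2, g3, g4, g4, g5, g6]),
   (22, [g1, g2, g2, g4, g1, g1, g2, g4, g4, g2, g2, g2, g4, g5, g6, g5]),
   (281, [g3, g1, g5, g1, g6, g2, g6, g3, g2, g3, g5, g3, g6]),
   (450, [g4, g3, g1, g3, g1, g1, g2, g2, g4, g2, g5, g4, g4, g3, g6]),
   (13, [g4, g2, g4, g2, g1, g3, g4, g2, g2, g4, g4, g3, g5, g6, g5]),
   (110, [g2, g2, g1, g1, g1, g4, g4, g2, g4, g2, g2, g4, g4, g6, g5]),
   (128, [g2, g1, g3, g4, g1, g4, g2, g2, g2, g4, g2, g3, g4, g4]),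
   (95, [g1, g2, g1, g1, g2, g4, g2, g2, g4, g2, g5, g6, g3, g5, g6, g5]),
   (14, [g3, g4, g3, g1, g6, g3, g2, g6, g2, g2, g4, g3, g3, g5, g6, g5]),
   (501, [g6, g2, g2, g1, g1, g6, g4, g2, g4, g2, g2, g6, g5, g3, g5]),
   (621, []),
   (612, [g2, g5, g2, g2, g1, g1, g4, g4, g3, g2, g3, g5, g3]),
   (573, [g1, g1, g2, g4, g1, g4, g3, g2, g2, g6, g2, g4, g3, g3, g6]),
   (144, [g1, g6, g4, g3, g2, g1, g2, g3, g6, g2, g4, g6, g3]),
   (53, [g2, g4, g1, g1, g1, g1, g2, g2, g3, g6, g2, g4, g4, g5, g6, g5]),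
   (622, []),
   (134, [g6, g2, g6, g3, g2, g1, g5, g2, g4, g2, g5, g6, g4, g3, g5]),
   (401, [g3, g6, g1, g3, g5, g1, g3, g4, g2, g4, g2, g2, g4, g3, g3, g5, g6, g5]),
   (578, [g4, g2, g1, g2, g1, g1, g4, g2, g6, g2, g2, g2, g5, g3, g4, g4, g6, g5]),
   (4, [g3, g6, g1, g1, g1, g1, g2, g6, g2, g2, g2, g5, g6]),
   (277, [g3, g2, g4, g1, g2, g2, g2, g5, g3, g4, g4, g5, g6]),
   (7, [g3, g4, g1, g1, g1, g3, g2, g3, g4, g2, g2, g3, g5, g3, g5, g6, g5]),
   (331, [g1, g4, g2, g1, g4, g2, g6, g2, g3, g3, g6, g5]),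
   (87, [g1, g1, g3, g1, g1, g6, g2, g4, g4, g3, g2, g4, g5, g6, g5]),
   (364, [g1, g5, g2, g1, g1, g3, g4, g3, g2, g3, g3, g5, g6]),
   (577, [g1, g4, g1, g5, g1, g2, g3, g4, g2, g4, g4, g3, g5]),
   (120, [g3, g6, g3, g1, g1, g1, g1, g3, g2, g6, g2, g3, g5, g3, g6, g5]),
   (563, [g5, g1, g2, g1, g3, g6, g2, g2, g6, g3, g5, g3, g5, g6]),
   (24, [g4, g2, g6, g1, g1, g1, g4, g4, g2, g2, g4, g3, g6, g5]),
   (296, [g1, g1, g1, g3, g1, g1, g4, g2, g4, g4, g4, g3, g3, g6])]

/-- Part 16 of cert0. -/
noncomputable def cert0_16 : List (ℕ × List ℕ) :=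
  [(348, [g6, g2, g2, g1, g1, g4, g2, g4, g2, g3, g5, g4, g4, g3, g5, g6, g5]),
   (163, [g2, g1, g4, g1, g1, g1, g2, g4, g2, g2, g3, g5, g4, g4, g3, g6]),
   (354, [g4, g2, g3, g4, g3, g1, g2, g6, g2, g4, g2, g2, g3, g5, g3]),
   (28, [g1, g2, g1, g2, g2, g1, g6, g2, g6, g3, g2, g5, g3, g5, g6, g5]),
   (575, [g4, g4, g2, g4, g1, g4, g4, g2, g4, g2, g3, g6, g5, g3, g6, g5]),
   (23, [g2, g3, g1, g2, g1, g1, g4, g3, g2, g2, g6, g2, g3, g3, g5]),
   (636, []),
   (481, [g5, g1, g5, g1, g6, g2, g2, g4, g6, g3, g6]),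
   (399, [g2, g6, g3, g2, g1, g2, g4, g2, g2, g4]),
   (493, [g5, g1, g4, g3, g1, g6, g2, g4, g4, g3, g2, g6, g5, g3, g5, g6]),
   (635, [g3, g1, g5, g3, g1, g4, g6, g2, g6, g3, g5, g3, g5, g6, g5]),
   (502, [g6, g1, g2, g4, g1, g6, g2, g2, g2, g3, g3, g3, g5, g6]),
   (170, [g3, g2, g2, g1, g6, g2, g2, g3, g4, g2, g4, g4, g4, g5]),
   (611, [g5, g2, g2, g1, g1, g2, g4, g4, g3, g2, g3, g3, g5]),
   (624, [g4, g3, g1, g2, g4, g4, g3, g2, g3, g5, g3, g5]),
   (169, [g5, g2, g1, g1, g1, g2, g4, g4, g2, g2, g3, g4, g4, g4]),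
   (421, [g5, g3, g2, g1, g6, g2, g2, g2, g4, g4, g3, g3, g5, g6]),
   (626, [g4, g3, g1, g3, g2, g2, g6, g3, g2, g5, g6, g3, g6]),
   (70, [g5, g6, g2, g1, g5, g1, g6, g3, g2, g6, g2, g2, g6, g3, g3, g3, g5, g6, g5]),
   (166, [g6, g1, g1, g4, g1, g2, g4, g2, g2, g4, g2, g3, g4, g4, g4, g5, g6, g5]),
   (319, [g3, g2, g1, g5, g1, g6, g4, g2, g4, g2, g2, g6, g3, g5, g6]),
   (375, [g1, g5, g1, g2, g1, g3, g2, g3, g6, g2, g4, g6, g3, g3, g3, g6]),
   (400, [g1, g2, g4, g1, g1, g4, g2, g2, g3, g5, g4, g4, g3]),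
   (363, [g3, g1, g2, g3, g1, g1, g3, g2, g6, g2, g2, g5, g6, g4, g3, g5]),
   (648, []),
   (188, [g2, g1, g3, g2, g2, g1, g6, g3, g2, g6, g2, g6, g3, g5, g3, g6]),
   (500, [g3, g5, g3, g2, g1, g2, g6, g2, g4, g2, g2, g4, g5]),
   (394, [g1, g4, g1, g4, g1, g2, g3, g4, g3, g2, g5, g3, g4, g4, g6, g5]),
   (25, [g1, g3, g1, g5, g2, g4, g2, g2, g5, g3, g4, g4]),
   (295, [g3, g5, g3, g2, g2, g1, g2, g2, g4, g2, g2, g2, g4, g3, g4, g4, g5, g6, g5]),
   (167, [g2, g4, g1, g1, g4, g2, g3, g4, g2, g3, g6, g5, g3, g6, g5]),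
   (68, [g2, g1, g1, g2, g4, g4, g2, g2, g2, g5, g6, g4, g3, g6, g5]),
   (409, [g4, g6, g2, g4, g1, g2, g2, g2, g6, g3, g2, g4, g4, g6, g5]),
   (580, [g3, g4, g2, g4, g1, g2, g2, g6, g3, g2, g5, g3, g4, g4, g5, g6, g5]),
   (548, [g3, g2, g6, g1, g1, g1, g4, g2, g4, g2, g6, g4, g3, g5, g6]),
   (224, [g1, g3, g5, g1, g2, g2, g3, g6, g2, g4, g6, g3, g6, g5]),
   (549, [g6, g1, g2, g1, g1, g3, g4, g2, g2, g2, g4, g4, g4, g3, g3, g5]),
   (255, [g6, g3, g1, g3, g1, g6, g3, g2, g2, g6, g3, g2, g4, g3, g6, g5]),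
   (519, [g3, g2, g1, g3, g2, g1, g1, g4, g2, g2, g4, g6, g3, g5, g6, g5]),
   (557, [g2, g2, g1, g1, g1, g4, g2, g3, g6, g2, g3, g3, g5, g6, g5]),
   (652, [g5, g2, g3, g1, g1, g4, g4, g3, g2, g4, g4, g5, g6, g5]),
   (654, []),
   (545, [g4, g2, g2, g3, g1, g5, g4, g6, g2, g4, g2, g2, g4, g3, g3, g5]),
   (656, []),
   (218, [g3, g1, g3, g2, g1, g1, g3, g6, g2, g4, g2, g2, g3, g3, g3, g5, g6, g5]),
   (657, [g6, g4, g1, g4, g3, g1, g4, g6, g2, g2, g3, g4, g4]),
   (5, [g2, g2, g1, g3, g4, g1, g6, g4, g2, g4, g2, g2, g3, g3, g6, g5]),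
   (90, [g1, g6, g1, g1, g4, g4, g2, g4, g2, g2, g5, g3, g4, g4, g6, g5]),
   (660, []),
   (570, [g1, g2, g2, g4, g1, g2, g2, g2, g4, g3, g2, g3, g5, g4, g4, g3, g6, g5]),
   (242, [g6, g2, g1, g1, g3, g4, g2, g4, g4, g2, g2, g4, g5, g6]),
   (476, [g3, g1, g3, g1, g1, g1, g4, g6, g2, g6, g3, g5, g6]),
   (515, [g1, g6, g1, g1, g4, g2, g2, g6, g3, g3, g3, g5, g6, g5]),
   (146, [g2, g6, g3, g1, g1, g4, g2, g6, g2, g5, g6, g5]),
   (482, [g3, g1, g6, g3, g2, g1, g2, g3, g6, g2, g4, g4, g6, g5]),
   (66, [g4, g1, g1, g6, g1, g1, g1, g6, g2, g4, g4, g3, g2, g4, g3, g3, g6]),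
   (590, [g4, g1, g4, g1, g3, g1, g4, g4, g2, g2, g3, g3, g3, g6]),
   (322, [g3, g3, g1, g1, g1, g3, g2, g6, g2, g2, g5, g6, g5, g3, g5, g6]),
   (256, [g4, g3, g1, g1, g1, g3, g4, g2, g2, g2, g5, g6, g4, g3, g5]),
   (254, [g1, g1, g1, g4, g1, g2, g6, g3, g5, g6, g5]),
   (558, [g4, g1, g1, g1, g3, g4, g3, g2, g5, g3, g6, g5]),
   (619, [g1, g1, g2, g3, g1, g1, g4, g4, g2, g5, g4, g4, g3, g5, g6, g5]),
   (434, [g2, g4, g1, g3, g1, g2, g2, g4, g2, g2, g2, g5]),
   (192, [g4, g1, g4, g1, g3, g1, g2, g2, g2, g6, g2, g4, g3, g4, g4, g5, g6])]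

/-- Part 17 of cert0. -/
noncomputable def cert0_17 : List (ℕ × List ℕ) :=
  [(168, [g1, g1, g2, g2, g1, g1, g4, g2, g4, g2, g2, g3, g6, g5, g3, g5, g6, g5]),
   (246, [g1, g1, g1, g1, g2, g2, g2, g6, g2, g3, g4, g4, g5]),
   (439, [g1, g2, g6, g3, g2, g1, g3, g4, g2, g3, g6, g2, g4, g3, g4, g4, g5]),
   (48, [g3, g4, g3, g1, g4, g2, g2, g2, g6, g2, g6, g3, g5]),
   (582, [g4, g1, g6, g1, g1, g1, g2, g2, g3, g4, g2, g2, g3, g3, g5, g6]),
   (301, [g1, g2, g3, g1, g4, g4, g2, g3, g5, g4, g4, g3, g5, g6, g5]),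
   (131, [g4, g1, g4, g1, g3, g1, g4, g4, g2, g2, g4, g2, g4, g3, g6]),
   (265, [g1, g1, g6, g1, g1, g3, g2, g2, g4, g3, g2, g4, g4, g4, g6]),
   (445, [g1, g4, g1, g3, g1, g4, g4, g2, g2, g2, g5, g3, g3, g3]),
   (520, [g4, g1, g1, g1, g5, g1, g4, g2, g4, g2, g3, g6]),
   (454, [g3, g1, g2, g4, g1, g1, g6, g2, g2, g6, g4, g3, g5, g6, g5]),
   (599, [g2, g1, g2, g1, g1, g5, g2, g4, g2, g2, g5, g6, g5, g3, g5, g6]),
   (372, [g1, g4, g1, g1, g2, g1, g1, g2, g4, g2, g3, g5, g6, g5]),
   (634, [g2, g6, g4, g1, g2, g1, g1, g2, g4, g2, g2, g4, g2, g3, g3, g3]),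
   (616, [g4, g3, g2, g2, g1, g2, g2, g4, g2, g2, g2, g5, g6, g5]),
   (343, [g5, g1, g4, g2, g1, g2, g2, g2, g6, g3, g2, g6, g3, g5, g3]),
   (673, []),
   (177, [g2, g4, g2, g4, g1, g1, g3, g6, g2, g4, g3, g3, g5, g6]),
   (588, [g4, g1, g1, g2, g1, g1, g2, g4, g2, g2, g2, g6, g3, g3, g3, g5]),
   (509, [g2, g4, g1, g4, g1, g6, g2, g2, g6, g2, g2, g4, g4, g3]),
   (666, [g6, g1, g1, g1, g1, g3, g2, g6, g2, g2, g5, g6, g3, g5, g6, g5]),
   (603, [g2, g3, g4, g1, g1, g1, g2, g6, g2, g2, g4, g4, g3, g3, g6, g5]),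
   (51, [g6, g3, g2, g3, g1, g6, g2, g4, g4, g3, g2, g4, g4, g4]),
   (435, [g2, g1, g3, g2, g2, g1, g2, g4, g2, g6, g2, g2, g2, g5, g6, g5, g3, g5, g6, g5]),
   (602, [g1, g5, g2, g2, g1, g1, g6, g2, g2, g6, g2, g6, g3, g5, g3]),
   (313, [g5, g3, g1, g4, g1, g1, g4, g2, g3, g4, g2]),
   (230, [g4, g2, g2, g2, g1, g1, g6, g2, g6, g2, g6, g4, g3, g5]),
   (374, [g1, g6, g1, g2, g4, g1, g6, g2, g4, g2, g2]),
   (671, [g1, g1, g1, g6, g1, g1, g2, g6, g2, g4, g2, g2, g4, g6, g3, g6, g5]),
   (639, [g3, g1, g2, g2, g2, g5, g3, g3, g3, g6]),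
   (608, [g6, g4, g1, g4, g3, g1, g4, g2, g2, g2, g4, g2, g4, g6, g3, g3, g3, g5]),
   (677, []),
   (569, [g3, g1, g2, g3, g1, g1, g2, g4, g2, g2, g4, g2, g5, g6, g3, g5]),
   (31, [g1, g6, g1, g1, g1, g1, g4, g2, g4, g4, g3, g2, g5, g6, g4, g3, g5, g6]),
   (158, [g3, g2, g4, g1, g5, g4, g6, g2, g4, g2, g2, g5, g6, g4, g3, g5]),
   (42, [g2, g1, g2, g1, g2, g1, g6, g2, g4, g4, g2, g2, g6, g3, g5]),
   (294, [g3, g1, g6, g1, g1, g2, g3, g4, g2, g2, g2, g3]),
   (171, [g3, g1, g4, g2, g2, g4, g4, g2, g2, g4, g6, g3, g6]),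
   (490, [g1, g2, g1, g4, g1, g3, g4, g2, g4, g2, g2, g5, g4, g4, g3, g5, g6]),
   (261, [g4, g1, g3, g1, g1, g1, g3, g6, g2, g6, g3, g3, g3, g6]),
   (321, [g3, g2, g6, g1, g1, g3, g5, g2, g4, g2, g2, g3, g5, g6, g5]),
   (243, [g1, g1, g4, g3, g1, g6, g3, g2, g4, g4, g4, g6, g5]),
   (282, [g1, g2, g2, g4, g1, g1, g6, g2, g6, g3, g2, g5, g3, g4, g4, g5]),
   (44, [g5, g3, g2, g2, g1, g5, g2, g4, g2, g6, g5, g3, g5, g6]),
   (33, [g3, g2, g3, g1, g1, g1, g3, g4, g2, g4, g2, g4]),
   (517, [g3, g2, g4, g1, g4, g2, g4, g2, g2, g3, g4, g4, g5]),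
   (84, [g2, g3, g1, g1, g1, g3, g2, g6, g2, g2, g3, g3]),
   (649, [g6, g1, g5, g1, g4, g4, g2, g4, g2, g2, g4, g3, g3, g6]),
   (30, [g1, g2, g1, g4, g1, g2, g6, g2, g5, g3, g5, g6, g5]),
   (665, [g4, g1, g2, g3, g1, g1, g4, g2, g2, g4, g4, g2, g2, g5, g6, g5, g3, g5, g6, g5]),
   (333, [g5, g2, g1, g3, g1, g1, g1, g3, g2, g4, g2, g2, g4, g4, g3, g3, g5, g6]),
   (43, [g6, g3, g5, g2, g1, g1, g3, g4, g2, g2, g4, g6, g3, g6, g5]),
   (184, [g2, g5, g4, g1, g1, g6, g2, g6, g2, g4, g3, g4, g4, g6, g5]),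
   (151, [g1, g3, g1, g2, g3, g1, g4, g3, g2, g5, g4, g4, g3]),
   (542, [g1, g2, g1, g5, g1, g4, g2, g2, g4, g4, g2, g2, g6, g4, g3, g5]),
   (133, [g4, g6, g3, g2, g1, g2, g3, g6, g2, g2, g5, g3, g4, g4, g5]),
   (456, [g1, g1, g1, g1, g1, g2, g3, g6, g2, g2, g3, g5, g3]),
   (344, [g3, g4, g2, g1, g1, g1, g2, g4, g4, g2, g2, g3, g3, g3, g5]),
   (326, [g1, g1, g2, g1, g1, g2, g2, g2, g4, g3, g2, g3, g4, g4, g4, g6]),
   (534, [g4, g3, g1, g3, g1, g1, g5, g4, g6, g2, g4, g2, g2, g5, g3, g5, g6]),
   (470, [g3, g1, g6, g3, g2, g1, g4, g2, g3, g4, g2, g2, g4, g4, g3, g3, g6, g5]),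
   (352, [g4, g2, g4, g1, g6, g2, g4, g4, g3, g2, g5]),
   (398, [g3, g2, g1, g3, g2, g1, g1, g2, g3, g4, g2, g2, g4, g3, g5, g6]),
   (617, [g1, g6, g3, g1, g1, g6, g2, g2, g6, g2, g2, g6, g5])]

/-- Part 18 of cert0. -/
noncomputable def cert0_18 : List (ℕ × List ℕ) :=
  [(596, [g3, g2, g2, g2, g1, g1, g3, g2, g3, g6, g2, g5, g6, g4, g3]),
   (530, [g2, g1, g2, g4, g1, g6, g2, g2, g4, g3, g2, g5, g4, g4, g3, g6, g5]),
   (606, [g4, g1, g3, g1, g3, g4, g3, g2, g4, g4, g4, g5, g6, g5]),
   (664, [g1, g1, g4, g2, g1, g6, g3, g2, g6, g2, g2, g5, g6, g5, g3, g5]),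
   (395, [g5, g2, g3, g1, g1, g6, g3, g2, g6, g2, g2, g6, g5, g3, g6]),
   (644, [g2, g2, g4, g1, g3, g4, g2, g4, g2, g6, g3, g5]),
   (460, [g1, g4, g1, g5, g1, g2, g2, g4, g4, g2, g2, g4, g3, g4, g4]),
   (551, [g3, g1, g1, g4, g1, g2, g2, g2, g6, g3, g2, g6, g4, g3, g5, g6, g5]),
   (181, [g6, g3, g1, g1, g1, g1, g6, g2, g2, g6, g2, g2]),
   (125, [g2, g2, g3, g1, g1, g3, g2, g3, g4, g2, g4, g4, g3, g3, g5, g6]),
   (234, [g6, g5, g1, g4, g3, g1, g3, g4, g3, g2, g6, g3, g5, g3, g5]),
   (526, [g2, g2, g3, g1, g1, g2, g2, g2, g4, g3, g2, g4, g4, g3, g5, g6, g5]),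
   (540, [g3, g4, g1, g1, g2, g2, g4, g4, g2, g2, g5, g3, g3, g3, g5, g6, g5]),
   (587, [g2, g6, g3, g2, g1, g2, g4, g2, g4, g2, g2, g6, g3, g5, g6, g5]),
   (521, [g6, g1, g1, g1, g2, g5, g2, g4, g2, g2, g4, g3, g4, g4, g5]),
   (623, [g3, g4, g2, g1, g2, g2, g6, g3, g2, g3, g5, g4, g4, g3, g5]),
   (12, [g2, g6, g2, g1, g2, g1, g2, g2, g2, g4, g3, g2, g4, g3, g6, g5]),
   (383, [g6, g5, g1, g4, g3, g1, g2, g2, g2, g6, g2, g6, g3, g5, g3, g6]),
   (607, [g3, g1, g3, g2, g1, g1, g6, g2, g2, g4, g4, g2, g2, g4, g6, g3, g5, g6]),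
   (567, [g3, g1, g1, g2, g1, g1, g4, g2, g4, g2, g3, g5, g4, g4, g3, g6, g5]),
   (241, [g3, g1, g1, g4, g1, g3, g4, g2, g3, g6, g2, g3, g4, g4]),
   (637, [g2, g5, g1, g4, g1, g1, g1, g2, g3, g4, g3, g2, g6, g3, g3, g3, g6, g5]),
   (584, [g5, g3, g1, g1, g1, g1, g6, g2, g4, g4, g2, g2, g4, g6, g3, g5, g6]),
   (472, [g1, g3, g2, g1, g6, g2, g4, g2, g2, g5, g3, g4, g4]),
   (216, [g3, g4, g3, g1, g2, g4, g2, g4, g2, g2, g3, g4, g4, g5, g6]),
   (427, [g1, g2, g2, g4, g1, g2, g5, g2, g4, g2, g4, g6, g3, g6]),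
   (187, [g4, g6, g2, g1, g1, g4, g2, g3, g6, g5, g3, g6]),
   (539, [g2, g4, g1, g1, g1, g1, g4, g6, g2, g4, g2, g2, g3, g3, g5, g6]),
   (441, [g1, g6, g1, g1, g1, g2, g2, g3, g4, g2, g2, g4, g4, g3]),
   (629, [g3, g5, g1, g4, g4, g2, g4, g2, g3, g5, g4, g4, g3, g5, g6, g5]),
   (116, [g1, g4, g2, g1, g1, g6, g2, g4, g2, g2, g4, g6, g5]),
   (227, [g1, g1, g3, g4, g3, g2, g1, g3, g6, g2, g4, g2, g2]),
   (136, [g1, g2, g6, g1, g4, g1, g4, g2, g2, g6, g3, g2, g4, g4, g5]),
   (215, [g4, g2, g2, g2, g1, g4, g4, g2, g4, g4, g4, g3, g3, g5, g6, g5]),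
   (357, [g1, g2, g6, g1, g4, g1, g2, g4, g4, g2, g2, g2, g4, g4, g4, g3, g3, g6]),
   (98, [g1, g1, g4, g1, g4, g2, g3, g6, g2, g4, g6]),
   (550, [g6, g1, g2, g1, g1, g3, g2, g3, g4, g3, g2, g3, g6, g5, g3, g5, g6, g5]),
   (628, [g3, g4, g3, g2, g1, g2, g3, g6, g2, g3, g3, g5, g6, g5]),
   (365, [g5, g3, g2, g2, g1, g6, g2, g2, g6, g3, g3, g3, g5]),
   (49, [g1, g1, g2, g3, g1, g1, g3, g4, g2, g3, g6, g2, g4, g4, g4, g3, g3]),
   (593, [g4, g1, g4, g1, g1, g3, g5, g2, g4, g2, g2, g6, g3, g5, g3, g6]),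
   (465, [g2, g6, g3, g1, g1, g4, g6, g2, g4, g4, g5, g6]),
   (285, [g4, g1, g4, g2, g1, g1, g3, g4, g2, g4, g4, g2, g2, g4, g3, g4, g4]),
   (212, [g3, g3, g1, g1, g1, g1, g6, g2, g2, g3, g4, g2, g5, g6, g3, g6, g5]),
   (330, [g3, g2, g1, g6, g1, g1, g2, g6, g2, g4, g2, g2, g4, g6, g3, g6]),
   (613, [g3, g1, g2, g1, g4, g1, g3, g2, g4, g2, g2, g5, g6, g4, g3, g6]),
   (300, [g2, g6, g1, g1, g4, g3, g2, g6, g2, g2, g3, g5, g4, g4, g3, g5, g6]),
   (633, [g1, g5, g1, g4, g1, g1, g2, g2, g6, g3, g2, g3, g5, g3, g6, g5]),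
   (688, []),
   (248, [g4, g1, g5, g1, g5, g1, g4, g2, g3, g4, g2, g2, g4, g4, g4, g6]),
   (442, [g1, g3, g4, g3, g2, g1, g3, g4, g3, g2, g3, g4, g4, g5, g6]),
   (340, [g4, g6, g3, g1, g3, g1, g6, g2, g6, g3, g2, g4, g3, g5, g6]),
   (328, [g3, g1, g5, g1, g4, g2, g4, g2, g2, g4, g3]),
   (176, [g5, g3, g1, g4, g2, g2, g4, g2, g3, g3, g3, g5]),
   (299, [g1, g4, g3, g1, g1, g1, g3, g4, g2, g2, g4, g6, g3, g6, g5]),
   (625, [g3, g6, g1, g1, g1, g4, g6, g2, g2, g5, g3, g5, g6, g5]),
   (197, [g1, g4, g1, g4, g1, g4, g6, g2, g6, g3, g2, g6, g4, g3]),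
   (362, [g1, g4, g3, g2, g1, g6, g2, g2, g2, g4, g6, g3, g3, g3, g5, g6, g5]),
   (420, [g1, g5, g3, g1, g6, g2, g3, g6, g2, g2, g5, g6, g5, g3, g5]),
   (210, [g2, g4, g1, g3, g2, g3, g4, g2, g3, g3, g3]),
   (102, [g2, g1, g3, g2, g1, g3, g2, g2, g6, g2, g4, g4, g3, g5, g6]),
   (651, [g1, g5, g3, g2, g1, g6, g2, g4, g4, g2, g2, g4, g6, g5]),
   (424, [g5, g3, g2, g2, g1, g2, g6, g2, g4, g2, g2, g6, g5]),
   (236, [g1, g2, g6, g1, g1, g4, g3, g2, g2, g6, g2, g4, g4, g3, g3])]

/-- Part 19 of cert0. -/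
noncomputable def cert0_19 : List (ℕ × List ℕ) :=
  [(659, [g4, g1, g4, g3, g1, g2, g2, g2, g5, g4, g4, g3, g5]),
   (339, [g4, g2, g1, g5, g1, g3, g2, g6, g2, g2, g6, g3, g3, g3, g6, g5]),
   (320, [g1, g3, g2, g2, g3, g1, g4, g2, g4, g2, g5, g6, g4, g3, g5, g6, g5]),
   (83, [g1, g2, g4, g1, g2, g1, g6, g2, g4, g4, g3, g2]),
   (464, [g4, g3, g4, g1, g2, g4, g2, g4, g2, g2, g3, g4, g4, g4, g5, g6]),
   (406, [g1, g4, g2, g1, g1, g1, g2, g4, g2, g2, g2, g3, g5, g6, g5]),
   (615, [g3, g3, g2, g1, g3, g2, g4, g2, g2, g6, g3, g3, g3, g6]),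
   (179, [g2, g6, g2, g1, g2, g1, g2, g2, g6, g2, g2, g3, g3, g3, g5, g6]),
   (618, [g1, g6, g2, g1, g2, g1, g2, g2, g6, g2, g5, g6, g4, g3, g6, g5]),
   (341, [g1, g4, g1, g4, g1, g2, g3, g4, g2, g2, g2, g5, g6, g3, g6, g5]),
   (337, [g4, g4, g1, g3, g1, g3, g2, g3, g6, g2, g4, g3, g5]),
   (672, [g1, g4, g2, g2, g2, g1, g3, g4, g2, g4, g2, g2, g3, g4, g4, g4, g5, g6]),
   (683, [g6, g3, g2, g3, g1, g4, g2, g2, g2, g4, g2, g5, g6, g5]),
   (371, [g2, g4, g1, g2, g1, g3, g2, g3, g4, g2, g2, g5, g6, g5, g3]),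
   (443, [g3, g1, g1, g1, g1, g2, g5, g2, g4, g2, g2, g4, g6, g5]),
   (16, [g4, g2, g4, g2, g1, g1, g4, g2, g6, g2, g4, g2, g2, g5, g6, g4, g3]),
   (600, [g2, g2, g1, g2, g2, g4, g2, g2, g2, g5]),
   (508, [g1, g1, g4, g3, g1, g3, g4, g3, g2, g3, g5, g3]),
   (355, [g4, g3, g3, g1, g1, g1, g2, g4, g4, g3, g2, g5, g4, g4, g3, g5, g6]),
   (594, [g5, g3, g2, g2, g1, g5, g2, g4, g2, g2, g3, g6, g5]),
   (278, [g1, g2, g1, g2, g2, g1, g3, g2, g4, g2, g2, g4, g4, g3, g6, g5]),
   (609, [g5, g2, g1, g3, g1, g1, g1, g2, g5, g2, g4, g2, g4, g4, g3, g3, g6]),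
   (507, [g5, g1, g6, g2, g2, g4, g6, g3, g6, g5]),
   (262, [g2, g4, g1, g2, g1, g6, g3, g2, g6, g2, g2, g6, g3, g5, g3, g5, g6, g5]),
   (555, [g5, g4, g1, g4, g2, g1, g4, g2, g4, g4, g2, g2, g6, g4, g3, g6]),
   (494, [g3, g1, g2, g1, g1, g2, g4, g2, g6, g2, g2, g2, g5, g6, g4, g3, g6, g5]),
   (591, [g3, g5, g1, g5, g1, g4, g4, g2, g3, g3, g3]),
   (650, [g4, g3, g1, g1, g2, g1, g2, g6, g2, g4, g2, g2, g4, g6, g3, g3, g3, g5, g6, g5]),
   (554, [g2, g6, g1, g1, g6, g2, g2, g6, g2, g2, g4, g4, g6, g5]),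
   (297, [g1, g3, g6, g1, g1, g3, g2, g4, g2, g2, g4, g4, g4, g3, g3]),
   (118, [g1, g4, g2, g1, g1, g2, g2, g3, g4, g3, g2, g4, g4, g3, g6, g5]),
   (598, [g4, g3, g2, g2, g1, g1, g3, g2, g4, g2, g3, g3, g3, g6, g5]),
   (414, [g1, g4, g2, g1, g2, g6, g2, g4, g3, g4, g4, g5, g6, g5]),
   (552, [g2, g1, g1, g2, g1, g1, g3, g6, g2, g4, g3, g4, g4, g5, g6, g5]),
   (415, [g2, g4, g1, g4, g2, g1, g1, g2, g5, g2, g4, g2, g5, g6, g5, g3, g5, g6]),
   (61, [g2, g2, g3, g2, g1, g1, g3, g4, g2, g2, g2, g3, g5, g4, g4, g3, g5, g6, g5]),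
   (533, [g1, g6, g3, g2, g1, g3, g2, g4, g2, g5, g3, g5, g6]),
   (680, [g3, g2, g1, g3, g2, g1, g1, g3, g2, g4, g2, g2, g3, g3, g3, g5]),
   (543, [g5, g1, g2, g1, g1, g4, g4, g3, g2, g3, g6, g5, g3, g5, g6, g5]),
   (576, [g3, g2, g6, g1, g1, g4, g2, g4, g2, g6, g3, g5, g6]),
   (15, [g2, g2, g1, g2, g4, g1, g6, g3, g2, g6, g2, g6, g3, g5, g3, g5, g6, g5]),
   (21, [g2, g1, g5, g3, g1, g4, g2, g2, g2, g3, g5, g4, g4, g3, g6]),
   (173, [g2, g4, g1, g1, g2, g4, g2, g2, g2, g4, g4, g3]),
   (247, [g5, g3, g1, g4, g1, g1, g5, g6, g5]),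
   (358, [g3, g1, g1, g1, g3, g4, g2, g6, g2, g2, g2, g6, g3, g3, g3, g6]),
   (645, [g4, g3, g2, g2, g1, g4, g2, g6, g2, g4, g6, g3, g3, g3, g5, g6]),
   (388, [g1, g5, g1, g4, g1, g1, g3, g2, g4, g4, g3, g2, g3, g5, g6]),
   (228, [g4, g1, g1, g1, g5, g1, g2, g2, g4, g3, g4, g4, g5, g6]),
   (94, [g3, g5, g1, g4, g2, g3, g4, g2, g2, g5, g4, g4, g3, g6, g5]),
   (512, [g5, g1, g1, g2, g1, g4, g2, g2, g6, g3, g2, g6, g5]),
   (345, [g2, g6, g3, g1, g1, g1, g1, g2, g4, g2, g6, g2, g2, g2, g4, g4, g5, g6]),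
   (155, [g3, g5, g2, g1, g1, g1, g4, g4, g3, g2, g3, g6, g5, g3, g5, g6]),
   (315, [g1, g4, g2, g2, g2, g1, g2, g2, g4, g6, g3]),
   (38, [g1, g4, g2, g1, g1, g1, g2, g5, g2, g4, g2, g3, g4, g4, g4, g6]),
   (191, [g4, g2, g1, g2, g1, g4, g2, g6, g2, g4, g2, g2, g6, g3, g5, g3, g6, g5]),
   (565, [g2, g6, g4, g1, g2, g1, g1, g4, g2, g6, g2, g5, g3, g4, g4, g6]),
   (117, [g1, g4, g1, g3, g1, g2, g3, g4, g3, g2, g3, g3, g5]),
   (418, [g3, g1, g2, g2, g1, g1, g4, g2, g3, g4, g2, g2, g5, g3]),
   (231, [g2, g6, g2, g4, g1, g2, g6, g2, g2, g2, g3, g5, g3, g6]),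
   (18, [g2, g4, g2, g1, g1, g1, g4, g2, g2, g6, g3, g2, g4, g4, g4, g3, g3, g6]),
   (211, [g4, g1, g2, g1, g1, g4, g4, g2, g2, g2, g3, g5, g3, g6]),
   (154, [g5, g3, g2, g2, g1, g6, g2, g2, g4, g4, g2, g2, g6, g4, g3, g5, g6, g5]),
   (473, [g5, g2, g1, g5, g1, g3, g4, g2, g4, g2, g4, g3, g6]),
   (466, [g4, g2, g3, g4, g1, g1, g4, g2, g6, g3, g2, g4, g6, g3, g3, g3, g5, g6])]

/-- Part 20 of cert0. -/
noncomputable def cert0_20 : List (ℕ × List ℕ) :=
  [(682, [g2, g1, g3, g2, g1, g4, g4, g2, g2, g2, g3, g3, g5]),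
   (504, [g5, g2, g2, g1, g1, g4, g2, g2, g2, g6, g2, g5, g3, g4, g4, g6]),
   (632, [g4, g3, g4, g1, g1, g6, g3, g2, g4, g4, g3, g5, g6, g5]),
   (19, [g4, g1, g1, g2, g1, g1, g3, g5, g2, g4, g2, g6, g5]),
   (496, [g4, g2, g4, g2, g1, g1, g5, g2, g4, g2, g2, g4, g6, g3, g6, g5]),
   (513, [g1, g2, g5, g2, g1, g1, g2, g3, g4, g2, g3, g4, g4]),
   (323, [g1, g5, g2, g1, g1, g4, g2, g6, g2, g4, g2, g2, g3, g4, g4, g5, g6]),
   (670, [g5, g4, g1, g4, g2, g1, g2, g4, g2, g2, g4, g2, g5, g3, g3, g3, g5, g6, g5]),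
   (269, [g4, g3, g1, g3, g4, g2, g3, g6, g2, g4, g3, g3, g6]),
   (335, [g1, g6, g2, g1, g2, g1, g3, g6, g2, g2, g4, g3, g4, g4, g6, g5]),
   (684, [g2, g1, g1, g1, g1, g1, g2, g3, g6, g2, g4, g4, g3, g3]),
   (471, [g2, g2, g1, g4, g1, g1, g1, g3, g2, g4, g2, g2, g2, g5, g6, g5]),
   (495, [g5, g1, g5, g4, g1, g1, g3, g2, g4, g4, g3, g2, g3, g5, g3, g5, g6, g5]),
   (687, [g6, g2, g1, g1, g3, g2, g4, g2, g2, g2, g3, g3, g5]),
   (627, [g5, g4, g1, g1, g2, g2, g4, g2, g2, g2, g6, g4, g3, g6]),
   (96, [g2, g3, g1, g4, g2, g2, g2, g3, g3, g3, g5]),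
   (641, [g4, g1, g4, g3, g1, g3, g2, g3, g4, g2, g3, g4, g4, g6]),
   (311, [g1, g1, g4, g2, g1, g4, g2, g6, g2, g2, g2, g3, g5, g4, g4, g3]),
   (585, [g2, g4, g3, g2, g1, g2, g2, g4, g2, g4, g3, g3, g6]),
   (108, [g1, g2, g2, g1, g3, g6, g2, g4, g4, g4, g6, g5]),
   (221, [g3, g6, g1, g5, g1, g4, g6, g2, g2, g6, g5, g3, g6]),
   (675, [g3, g1, g3, g2, g3, g1, g6, g2, g3, g4, g2, g6, g3, g3, g3, g5, g6, g5]),
   (397, [g5, g1, g5, g4, g1, g1, g2, g2, g2, g4, g2, g5, g3, g5, g6]),
   (474, [g5, g4, g1, g4, g2, g1, g3, g2, g3, g4, g2, g5, g6, g5, g3, g5, g6, g5]),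
   (214, [g1, g4, g3, g2, g1, g3, g2, g3, g4, g3, g2, g5, g6, g3, g6]),
   (199, [g1, g1, g4, g4, g2, g1, g6, g2, g3, g4, g4, g5, g6, g5]),
   (207, [g2, g6, g2, g1, g2, g1, g3, g2, g3, g4, g3, g2, g4, g4, g6, g5]),
   (523, [g4, g2, g2, g2, g1, g2, g6, g2, g3, g6, g2, g2, g4, g5, g6, g5]),
   (366, [g4, g1, g5, g3, g2, g1, g4, g4, g2, g4, g2, g2, g3, g3, g6]),
   (164, [g3, g1, g3, g6, g1, g1, g4, g2, g6, g2, g4, g2, g2, g5]),
   (491, [g4, g1, g1, g1, g1, g1, g4, g2, g6, g3, g2, g5, g3, g4, g4, g5, g6, g5]),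
   (426, [g5, g3, g1, g1, g1, g2, g2, g4, g3, g2, g5, g4, g4, g3, g5, g6, g5]),
   (64, [g2, g1, g3, g2, g1, g6, g2, g4, g3, g6, g5]),
   (658, [g1, g1, g1, g6, g1, g1, g2, g5, g2, g4, g2, g4, g4, g3, g5, g6, g5]),
   (209, [g2, g1, g3, g1, g1, g1, g4, g3, g2, g2, g6, g2, g4, g4, g4, g3, g3]),
   (391, [g6, g3, g2, g4, g1, g2, g2, g3, g4, g2, g6, g3, g3, g3, g6, g5]),
   (662, [g2, g2, g2, g1, g1, g2, g6, g2, g3, g6, g2, g2, g3, g6, g5]),
   (280, [g4, g6, g2, g1, g1, g3, g4, g2, g6, g2, g2, g2, g4, g6, g3, g3, g3, g5]),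
   (112, [g4, g4, g1, g3, g1, g6, g2, g4, g4, g3, g2, g6, g4, g3, g6]),
   (205, [g4, g2, g3, g4, g3, g1, g2, g3, g6, g2, g3, g4, g4, g5, g6]),
   (685, [g4, g1, g1, g1, g1, g1, g6, g3, g2, g2, g6, g3, g2, g3, g4, g4, g4]),
   (452, [g5, g1, g2, g1, g1, g6, g2, g2, g3, g5, g3, g6, g5]),
   (485, [g6, g4, g1, g2, g1, g1, g2, g3, g4, g2, g2, g4, g3, g5, g6, g5]),
   (376, [g6, g2, g4, g1, g2, g2, g4, g4, g6, g5]),
   (638, [g5, g6, g1, g5, g1, g2, g6, g2, g4, g2, g2, g6, g3, g5]),
   (272, [g1, g3, g1, g1, g6, g2, g6, g2, g4, g6, g3, g3, g3, g5, g6]),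
   (486, [g6, g2, g2, g1, g4, g2, g2, g4, g2, g3, g4, g4, g6]),
   (273, [g2, g6, g4, g1, g2, g1, g1, g4, g4, g2, g3, g4, g4, g4, g5, g6, g5]),
   (208, [g3, g4, g1, g1, g4, g4, g2, g6, g2, g2, g2, g4, g4, g5]),
   (640, [g2, g2, g1, g2, g4, g1, g4, g2, g5, g2, g4, g2, g5, g6, g4, g3, g5, g6, g5]),
   (691, [g1, g5, g2, g1, g1, g2, g4, g2, g6, g2, g2, g2, g3, g4, g4, g5, g6, g5]),
   (692, [g3, g4, g4, g2, g1, g2, g2, g2, g6, g2, g3, g4, g4, g5]),
   (408, [g3, g1, g3, g1, g4, g4, g2, g2, g6, g3]),
   (604, [g2, g6, g1, g4, g1, g3, g2, g3, g6, g2, g5]),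
   (655, [g2, g3, g1, g1, g4, g4, g2, g2, g4, g2, g4, g4, g3, g5, g6]),
   (679, [g2, g2, g1, g3, g4, g1, g2, g2, g6, g2, g3, g5, g6]),
   (480, [g1, g1, g5, g2, g1, g1, g3, g2, g3, g4, g2, g2, g4, g4, g4, g3, g3, g5, g6]),
   (202, [g3, g2, g3, g1, g1, g1, g4, g2, g6, g3, g2, g4, g3]),
   (581, [g4, g1, g1, g1, g5, g1, g4, g2, g2, g6, g3, g2, g4, g4, g4, g3, g3]),
   (535, [g2, g4, g2, g1, g1, g1, g4, g4, g3, g2, g3, g5, g3, g5, g6]),
   (405, [g1, g3, g4, g3, g2, g1, g4, g4, g2, g2, g2]),
   (669, [g2, g4, g3, g1, g2, g2, g3, g6, g2, g4, g6, g3]),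
   (686, [g1, g2, g2, g4, g1, g1, g4, g2, g3, g4, g2, g5, g4, g4, g3, g5, g6]),
   (690, [g5, g2, g1, g5, g1, g2, g2, g2, g5, g3, g3, g3, g6, g5])]

/-- Part 21 of cert0. -/
noncomputable def cert0_21 : List (ℕ × List ℕ) :=
  [(661, [g6, g5, g1, g4, g3, g1, g2, g3, g4, g2, g2, g4, g3, g4, g4]),
   (597, [g6, g2, g3, g1, g1, g2, g4, g4, g2, g2, g2, g5, g3, g4, g4, g5]),
   (556, [g1, g1, g4, g3, g1, g3, g4, g2, g6, g2, g2, g2, g4, g4, g3]),
   (667, [g4, g1, g1, g2, g1, g1, g2, g3, g3, g3, g6]),
   (681, [g1, g4, g1, g4, g2, g1, g1, g2, g2, g4, g2, g4, g3, g3, g5, g6, g5]),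
   (373, [g2, g4, g2, g2, g1, g1, g2, g4, g3, g4, g4, g5, g6]),
   (630, [g6, g1, g1, g3, g2, g3, g4, g3, g2, g3, g5, g4, g4, g3]),
   (152, [g4, g4, g1, g1, g2, g1, g3, g4, g2, g6, g4, g3, g5, g6]),
   (676, [g3, g6, g2, g4, g1, g4, g2, g3, g6, g2, g4, g3, g3, g6]),
   (674, [g1, g1, g4, g1, g2, g1, g4, g2, g6, g2, g3, g6, g5, g3, g5]),
   (678, [g4, g2, g1, g4, g2, g4, g2, g5, g3, g5, g6]),
   (689, [g5, g2, g4, g2, g1, g1, g6, g2, g6, g3, g2, g4, g3, g4, g4]),
   (668, [g6, g1, g5, g1, g4, g2, g6, g3, g2, g4, g4, g3, g3, g5, g6, g5]),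
   (78, [g4, g4, g2, g2, g1, g4, g3, g2, g2, g6, g2, g3, g4, g4, g4, g6, g5]),
   (488, [g5, g1, g3, g1, g1, g6, g3, g2, g6, g2, g2, g5, g3, g4, g4, g5]),
   (647, [g5, g6, g2, g2, g1, g2, g6, g2, g3, g6, g2, g2, g4, g3, g4, g4]),
   (631, [g6, g2, g5, g4, g1, g1, g3, g2, g4, g2, g6, g3, g3, g3, g5]),
   (528, [g5, g2, g1, g6, g1, g1, g1, g4, g2, g4, g4, g3, g2, g3, g4, g4, g6]),
   (646, [g6, g4, g2, g2, g1, g1, g5, g4, g6, g2, g4, g2, g2, g3, g5, g4, g4, g3, g5, g6]),
   (413, [g1, g3, g2, g2, g1, g1, g2, g2, g3, g5, g4, g4, g3, g5, g6, g5]),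
   (407, [g6, g2, g1, g5, g1, g2, g6, g2, g2, g6, g2, g5, g3, g3, g3, g6, g5]),
   (370, [g1, g5, g2, g2, g2, g1, g2, g2, g2, g4, g3, g2, g5, g6, g5, g3, g5, g6, g5]),
   (416, [g1, g6, g5, g3, g2, g1, g3, g4, g2, g4, g2, g3, g5, g4, g4, g3]),
   (115, [g4, g1, g1, g1, g1, g1, g3, g2, g2, g6, g3, g2, g4, g3, g4, g4, g6, g5]),
   (425, [g1, g1, g2, g1, g5, g2, g4, g2, g2, g4, g4, g4, g3, g3, g5, g6, g5]),
   (536, [g2, g2, g4, g2, g4, g1, g1, g2, g5, g2, g4, g2, g6, g4, g3]),
   (620, [g1, g3, g2, g2, g1, g1, g3, g2, g6, g2, g2, g4, g3, g4, g4, g5, g6, g5]),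
   (379, [g1, g2, g1, g2, g1, g2, g2, g2, g6, g2, g3, g4, g4, g4, g5]),
   (547, [g5, g6, g1, g1, g4, g4, g2, g4, g2, g2, g4, g6, g3, g5, g6, g5]),
   (541, [g6, g4, g1, g5, g1, g5, g2, g4, g2, g2, g4, g6, g3]),
   (595, [g3, g4, g2, g2, g3, g1, g6, g2, g2, g2, g4, g6, g3, g5, g6]),
   (653, [g1, g1, g1, g2, g6, g2, g2, g6, g2, g3, g4, g4, g4]),
   (560, [g3, g1, g3, g1, g2, g2, g3, g4, g2, g3, g5, g3, g5]),
   (614, [g3, g1, g3, g1, g5, g4, g6, g2, g4, g2, g2, g6, g4, g3, g6, g5]),
   (506, [g2, g6, g1, g1, g3, g4, g2, g5, g3, g4, g4, g6]),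
   (642, [g2, g1, g4, g1, g1, g1, g4, g2, g4, g2, g2, g3, g5, g6, g5]),
   (601, [g4, g1, g1, g4, g2, g1, g4, g6, g2, g2, g4, g6]),
   (266, [g1, g4, g2, g4, g1, g2, g2, g2, g4, g3, g4, g4, g5, g6]),
   (643, [g4, g2, g4, g2, g1, g6, g2, g2, g6, g2, g2, g6, g4, g3]),
   (663, [g3, g2, g1, g5, g1, g4, g2, g4, g2, g2, g6, g3, g3, g3, g6]),
   (610, [g3, g2, g3, g1, g1, g1, g3, g2, g6, g2, g5, g6, g5, g3, g5, g6]),
   (423, [g1, g2, g3, g2, g2, g1, g4, g2, g3, g4, g2, g2, g4, g4, g6, g5]),
   (0, [g2]),
   (4, []),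
   (11, []),
   (18, []),
   (23, []),
   (1, [g1, g4, g2, g2, g1, g4, g3, g2, g6, g2, g2, g4, g3, g5, g6]),
   (35, []),
   (42, []),
   (47, []),
   (51, []),
   (58, []),
   (64, []),
   (70, []),
   (76, []),
   (50, [g4, g2, g2, g3, g1, g3, g2, g4, g4, g3, g2, g4, g6, g3, g5]),
   (83, []),
   (87, []),
   (94, []),
   (99, []),
   (104, []),
   (110, []),
   (116, [])]

/-- Part 22 of cert0. -/
noncomputable def cert0_22 : List (ℕ × List ℕ) :=
  [(8, [g1, g1, g1, g5, g1, g3, g4, g2, g6, g2, g2, g2, g4, g6, g3, g3, g3, g6]),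
   (125, []),
   (129, []),
   (133, []),
   (120, [g1, g5, g1, g2, g4, g2, g2, g2, g4, g4, g4]),
   (135, [g3, g2, g3, g1, g1, g1, g6, g5, g2, g4, g2, g2, g3, g6, g5, g3, g5]),
   (117, [g3, g1, g2, g1, g4, g1, g4, g4, g3, g2, g3, g4, g4, g6]),
   (131, [g6, g1, g4, g1, g2, g3, g6, g5, g3, g5, g6, g5]),
   (154, []),
   (85, [g1, g3, g2, g2, g1, g1, g2, g2, g4, g4, g3, g2, g5, g6, g3, g5, g6]),
   (92, [g4, g1, g3, g1, g6, g3, g2, g3, g4, g4, g4, g5, g6, g5]),
   (166, []),
   (84, [g1, g5, g1, g2, g1, g2, g5, g2, g4, g2, g5, g3, g4, g4, g5, g6]),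
   (173, []),
   (6, [g2, g2, g1, g2, g4, g1, g6, g4, g2, g4, g2, g2, g3, g3, g6, g5]),
   (181, []),
   (26, [g2, g6, g2, g3, g5]),
   (38, [g3, g3, g1, g1, g1, g1, g2, g6, g2, g2, g6, g2, g4, g3, g4, g4, g6]),
   (190, []),
   (195, []),
   (199, []),
   (32, [g1, g6, g3, g1, g1, g2, g4, g3, g2, g5, g4, g4, g3, g6]),
   (204, []),
   (207, []),
   (212, []),
   (165, [g2, g4, g3, g1, g1, g1, g4, g2, g2, g6, g3, g2, g3, g5, g3, g5, g6]),
   (218, []),
   (223, []),
   (79, [g3, g1, g6, g1, g1, g4, g2, g6, g2, g3, g3, g3, g5]),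
   (230, []),
   (236, []),
   (240, []),
   (246, []),
   (93, [g4, g1, g3, g1, g1, g1, g3, g2, g6, g3, g5, g3, g5, g6, g5]),
   (105, [g3, g1, g1, g2, g1, g1, g5, g4, g6, g2, g4, g2, g2, g5, g6, g4, g3, g6]),
   (174, [g6, g2, g6, g3, g2, g1, g4, g6, g2, g6, g3, g2, g4, g6, g3, g3, g3, g5]),
   (258, []),
   (160, [g6, g1, g4, g2, g1, g1, g2, g2, g3, g3, g3, g5, g6]),
   (263, []),
   (91, [g1, g2, g2, g4, g1, g1, g2, g2, g2, g3, g4, g4]),
   (271, []),
   (275, []),
   (280, []),
   (77, [g2, g1, g1, g3, g4, g2, g2, g5, g6, g4, g3, g6]),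
   (13, [g5, g2, g2, g1, g1, g2, g6, g2, g2, g2, g5, g6, g5, g3, g5, g6, g5]),
   (213, [g1, g2, g1, g1, g1, g2, g6, g2, g2, g2, g4, g3, g3, g5, g6]),
   (72, [g1, g2, g2, g1, g1, g4, g2, g2, g2, g6, g2, g4, g6]),
   (20, [g2, g3, g1, g1, g1, g2, g3, g4, g2, g3, g3, g6, g5]),
   (186, [g1, g1, g6, g1, g1, g2, g6, g2, g2, g4, g3, g6]),
   (298, []),
   (282, [g2, g1, g1, g2, g2, g6, g2, g5, g4, g4, g3, g6, g5]),
   (302, []),
   (191, [g2, g2, g1, g4, g1, g1, g1, g2, g4, g4, g3, g2, g3, g5, g4, g4, g3, g6, g5]),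
   (200, [g3, g1, g4, g6, g2, g6, g3, g2, g3, g5, g3, g6]),
   (308, []),
   (67, [g3, g2, g6, g2, g4, g3, g5, g6]),
   (73, [g2, g1, g2, g1, g2, g1, g2, g2, g2, g4, g2, g5, g6]),
   (249, [g3, g5, g1, g5, g1, g2, g3, g4, g2, g2, g2, g3, g4, g4, g4]),
   (314, []),
   (318, []),
   (321, []),
   (34, [g1, g2, g1, g1, g4, g4, g2, g2, g2, g3, g6, g5, g3]),
   (328, []),
   (220, [g2, g4, g1, g4, g1, g3, g2, g3, g6, g2, g4, g5, g6, g5])]

/-- Part 23 of cert0. -/
noncomputable def cert0_23 : List (ℕ × List ℕ) :=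
  [(331, []),
   (335, []),
   (338, []),
   (59, [g1, g4, g1, g4, g2, g1, g1, g2, g4, g2, g5, g3, g4, g4, g5]),
   (188, [g3, g4, g1, g5, g3, g1, g3, g2, g2, g6, g2, g5, g4, g4, g3, g5, g6]),
   (89, [g4, g1, g1, g1, g2, g4, g2, g4, g6]),
   (62, [g3, g4, g1, g1, g3, g4, g2, g3, g5, g4, g4, g3]),
   (347, []),
   (350, []),
   (28, [g3, g2, g2, g1, g2, g3, g4, g3, g2, g5, g6, g5, g3, g5]),
   (292, [g1, g1, g2, g4, g1, g2, g5, g2, g4, g2, g4, g3, g4, g4, g5]),
   (147, [g4, g2, g4, g2, g1, g3, g2, g3, g4, g2, g4, g6, g3, g5, g6, g5]),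
   (361, []),
   (46, [g3, g4, g1, g5, g3, g1, g2, g2, g3, g4, g2, g2, g5, g6, g3, g6, g5]),
   (97, [g2, g1, g2, g1, g2, g1, g3, g2, g6, g2, g2, g3, g4, g4, g4]),
   (65, [g5, g1, g2, g1, g1, g6, g2, g2, g3, g4, g2, g6, g4, g3, g6, g5]),
   (206, [g2, g1, g2, g1, g1, g4, g2, g2, g5, g3, g4, g4, g5]),
   (274, [g2, g3, g3, g2, g1, g2, g2, g2, g4, g3, g2, g6, g3, g3, g3, g5, g6]),
   (356, [g5, g1, g3, g4, g1, g1, g4, g2, g4, g4, g2, g2, g5, g3, g4, g4]),
   (146, [g3, g2, g6, g1, g1, g1, g3, g4, g2, g4, g2, g2, g6, g3, g5, g6, g5]),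
   (377, [g2, g3, g1, g2, g1, g4, g6, g3]),
   (383, []),
   (82, [g2, g6, g2, g1, g1, g2, g6, g2, g2, g3, g5, g4, g4, g3]),
   (390, []),
   (392, []),
   (171, [g1, g3, g1, g2, g3, g1, g3, g2, g3, g4, g2, g2, g6, g3, g5, g3, g5]),
   (397, []),
   (400, []),
   (403, []),
   (405, []),
   (354, [g1, g1, g1, g1, g1, g6, g2, g2, g6, g2, g5, g6, g5]),
   (253, [g1, g2, g1, g4, g1, g3, g2, g2, g4, g2, g5, g3, g4, g4, g6, g5]),
   (355, [g1, g1, g3, g2, g1, g6, g3, g2, g2, g6, g3, g2, g3, g3, g3, g5]),
   (86, [g2, g1, g3, g1, g1, g1, g4, g2, g2, g4, g2, g4, g3, g5, g6, g5]),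
   (130, [g1, g4, g1, g4, g2, g1, g3, g6, g2, g4, g2, g2, g5, g6, g5, g3, g5, g6]),
   (202, [g1, g1, g1, g5, g1, g3, g4, g2, g6, g2, g2, g2, g4, g6, g3, g3, g3, g6]),
   (420, []),
   (423, []),
   (429, []),
   (5, [g1, g6, g3, g1, g1, g6, g5, g3, g5]),
   (244, [g1, g2, g1, g2, g2, g1, g4, g4, g2, g2, g6, g3, g5, g3, g5, g6]),
   (343, [g6, g3, g1, g1, g1, g1, g2, g6, g2, g3, g6, g5, g3, g6, g5]),
   (193, [g1, g3, g1, g2, g4, g2, g6, g2, g2, g2, g6, g5, g3, g6]),
   (155, [g1, g6, g3, g1, g1, g6, g5, g3, g5]),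
   (39, [g2, g6, g4, g1, g2, g1, g1, g5, g2, g4, g2, g6, g3, g6]),
   (149, [g2, g3, g1, g6, g1, g1, g2, g2, g3, g4, g4, g5]),
   (217, [g2, g1, g1, g1, g1, g1, g4, g4, g3, g2, g4, g6]),
   (272, [g2, g1, g4, g2, g2, g1, g2, g4, g3, g3, g5, g6]),
   (25, [g5, g3, g2, g2, g1, g6, g2, g2, g3, g4, g2, g4]),
   (365, [g5, g1, g3, g4, g1, g1, g2, g4, g2, g2, g2, g3, g4, g4, g4, g6]),
   (450, []),
   (36, [g2, g1, g3, g2, g1, g2, g3, g4, g2, g5, g3, g4, g4]),
   (161, [g6, g1, g3, g5, g1, g2, g2, g2, g6, g3, g2, g4, g4, g3, g3, g5, g6]),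
   (162, [g2, g1, g3, g2, g1, g2, g4, g4, g2, g2, g6, g3, g3, g3, g5]),
   (291, [g4, g2, g4, g1, g2, g6, g2, g2, g4, g4, g4]),
   (178, [g1, g6, g1, g1, g1, g1, g4, g2, g4, g2, g4, g6, g3, g5, g6]),
   (459, []),
   (444, []),
   (462, []),
   (90, [g1, g2, g1, g4, g2, g4, g2, g2, g3, g4, g4, g4]),
   (364, [g2, g5, g1, g1, g2, g1, g4, g4, g2, g2, g4, g2, g4, g6, g3, g3, g3]),
   (106, [g3, g1, g2, g1, g4, g1, g4, g4, g3, g2, g3, g4, g4, g6]),
   (21, [g1, g2, g1, g4, g1, g4, g2, g2, g4, g2, g5, g6, g5]),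
   (382, [g2, g2, g3, g1, g1, g4, g6, g2, g4, g2, g2, g4, g6, g3, g3, g3, g6])]

/-- Part 24 of cert0. -/
noncomputable def cert0_24 : List (ℕ × List ℕ) :=
  [(395, [g2, g6, g4, g1, g2, g1, g1, g2, g3, g4, g2, g4, g6, g5]),
   (268, [g4, g1, g1, g1, g5, g1, g3, g2, g2, g4, g3, g2, g4, g3, g4, g4, g6, g5]),
   (471, []),
   (169, [g1, g5, g1, g1, g2, g1, g2, g2, g4, g4, g3, g5]),
   (127, []),
   (279, [g4, g6, g3, g1, g3, g1, g3, g2, g4, g2, g2, g4, g4, g4, g5, g6, g5]),
   (478, []),
   (430, [g1, g3, g1, g6, g2, g4, g2, g2, g4, g4, g3, g6, g5]),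
   (456, [g2, g2, g1, g4, g2, g5, g2, g4, g2, g6, g3, g3, g3, g5, g6, g5]),
   (121, [g2, g6, g2, g1, g2, g1, g6, g2, g4, g4, g2, g2, g6, g5]),
   (61, [g1, g4, g3, g2, g1, g2, g4, g3, g2, g5, g3, g3, g3, g6]),
   (396, [g2, g3, g2, g1, g1, g2, g4, g2, g2, g2, g3, g5, g3, g5, g6]),
   (7, [g1, g4, g2, g4, g1, g4, g2, g2, g2, g6, g2, g5, g3, g3, g3, g5, g6, g5]),
   (437, [g2, g1, g3, g2, g1, g6, g2, g4, g4, g2, g2, g6, g3, g3, g3, g5]),
   (487, []),
   (219, [g3, g6, g2, g4, g1, g3, g4, g2, g4, g2, g2, g5, g4, g4, g3, g6, g5]),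
   (489, []),
   (402, [g2, g6, g2, g1, g2, g1, g2, g3, g4, g2, g2, g2, g6]),
   (250, [g2, g6, g1, g4, g1, g4, g2, g4, g2, g2, g4, g4, g3, g5, g6, g5]),
   (496, []),
   (469, [g3, g4, g2, g2, g3, g1, g2, g5, g2, g4, g2, g3, g4, g4, g5]),
   (378, [g3, g2, g1, g2, g1, g2, g4, g3, g2, g3, g3, g3, g5, g6, g5]),
   (353, [g2, g3, g3, g1, g1, g1, g2, g6, g2, g5, g3, g4, g4, g5, g6]),
   (137, [g4, g3, g1, g3, g1, g1, g4, g2, g3, g4, g2, g2, g4, g6, g3, g3, g3, g5, g6, g5]),
   (481, [g2, g6, g4, g1, g2, g1, g1, g5, g2, g4, g2, g6, g3, g6]),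
   (136, [g5, g3, g2, g2, g1, g6, g5, g2, g4, g2, g2, g3, g3, g5]),
   (502, []),
   (505, []),
   (453, [g1, g6, g1, g2, g1, g1, g3, g6, g2, g2, g4, g4, g4, g6, g5]),
   (24, [g2, g2, g3, g1, g1, g3, g2, g2, g6, g2, g4, g6, g3, g5, g6, g5]),
   (232, [g3, g4, g2, g2, g2, g1, g1, g2, g2, g6, g3, g2, g4, g6, g3, g3, g3, g5]),
   (435, [g4, g1, g6, g1, g1, g1, g6, g2, g4, g4, g4, g5, g6, g5]),
   (157, [g6, g4, g1, g5, g1, g2, g4, g2, g4, g2, g2, g4, g4, g4]),
   (516, [g1, g6, g1, g1, g1, g1, g6, g2, g2, g3, g4, g2, g4, g3, g4, g4, g5, g6]),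
   (30, [g1, g4, g2, g2, g1, g2, g3, g6, g2, g4, g4, g4, g5, g6]),
   (519, []),
   (522, []),
   (362, [g1, g6, g1, g1, g1, g3, g2, g6, g2, g2, g5, g6, g5, g3, g5, g6]),
   (172, [g1, g6, g2, g3, g1, g2, g4, g4, g3, g3, g6, g5]),
   (235, [g1, g2, g1, g3, g2, g6, g2, g6, g3, g3, g3, g5, g6]),
   (262, [g4, g2, g1, g1, g4, g2, g2, g4, g2, g4, g4, g3, g5]),
   (305, [g3, g6, g1, g2, g1, g1, g3, g2, g2, g6, g2, g4, g4, g3, g3, g5]),
   (463, [g5, g6, g3, g1, g3, g1, g3, g6, g2, g4, g2, g2, g6, g5, g3]),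
   (289, [g5, g1, g5, g4, g1, g1, g4, g2, g4, g2, g2, g4, g3]),
   (533, []),
   (336, [g1, g5, g1, g1, g2, g1, g3, g2, g2, g6, g2, g5, g6, g4, g3, g6, g5]),
   (538, []),
   (138, [g4, g1, g4, g1, g3, g1, g4, g2, g5, g2, g4, g2, g3, g4, g4, g4, g5, g6]),
   (539, []),
   (139, [g1, g4, g2, g2, g1, g4, g3, g2, g6, g2, g2, g4, g3, g5, g6]),
   (37, [g3, g4, g4, g1, g3, g1, g2, g6, g2, g2, g4, g5, g6]),
   (40, [g2, g3, g1, g5, g3, g1, g6, g3, g2, g5, g3, g3, g3, g5, g6]),
   (306, [g3, g1, g2, g1, g4, g2, g4, g2, g3, g5, g3]),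
   (546, []),
   (49, [g3, g4, g1, g1, g1, g1, g3, g4, g2, g3, g6, g2, g3, g3, g5, g6]),
   (304, [g1, g2, g1, g1, g2, g1, g3, g6, g2, g2, g4, g3, g3, g6]),
   (370, [g1, g3, g2, g1, g1, g2, g6, g2, g2, g6, g2, g4, g3, g3, g5, g6, g5]),
   (408, [g4, g3, g1, g1, g2, g1, g6, g2, g2, g4, g4, g2, g2, g4, g6, g5]),
   (554, []),
   (560, []),
   (425, [g1, g3, g2, g2, g3, g1, g2, g2, g2, g4, g4, g4]),
   (214, [g6, g1, g1, g4, g1, g2, g2, g4, g2, g2, g2, g3, g5, g3, g6, g5]),
   (3, [g3, g1, g5, g3, g1, g2, g2, g3, g4, g2, g2, g3, g3, g5, g6, g5]),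
   (101, [g6, g4, g1, g4, g3, g1, g6, g2, g2, g6, g2, g2, g5, g6, g3, g5, g6])]

/-- Part 25 of cert0. -/
noncomputable def cert0_25 : List (ℕ × List ℕ) :=
  [(511, [g2, g1, g1, g4, g1, g3, g4, g2, g2, g2, g4, g6, g3, g3, g3]),
   (159, [g2, g6, g4, g1, g2, g1, g1, g5, g2, g4, g2, g6, g3, g6]),
   (187, [g2, g1, g3, g2, g1, g4, g2, g2, g2, g6, g2, g4, g5, g6]),
   (182, [g2, g1, g4, g1, g2, g2, g4, g3, g2, g6, g3, g3, g3, g5, g6]),
   (517, [g4, g6, g3, g1, g3, g1, g3, g2, g3, g4, g2, g3, g5, g3, g5, g6]),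
   (22, [g4, g4, g2, g1, g4, g2, g3, g4, g2, g2, g4, g4, g4, g5, g6]),
   (189, [g5, g2, g1, g6, g1, g1, g1, g2, g2, g2, g4, g2, g4, g4, g5, g6]),
   (563, [g2, g4, g3, g1, g2, g4, g2, g5, g6, g5, g3, g5, g6, g5]),
   (419, [g4, g1, g2, g1, g3, g4, g2, g6, g2, g2, g2, g5, g3, g3, g3, g5]),
   (432, [g4, g1, g1, g3, g2, g1, g6, g2, g2, g2, g5, g3, g4, g4, g5, g6]),
   (270, [g4, g1, g4, g1, g3, g1, g2, g4, g4, g3, g2, g3, g6, g5, g3, g5, g6, g5]),
   (234, [g4, g2, g1, g2, g1, g1, g3, g2, g2, g6, g2, g6, g4, g3, g5]),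
   (12, [g2, g3, g4, g1, g1, g6, g2, g4, g4, g2, g2, g6, g3, g3, g3, g5]),
   (568, []),
   (570, []),
   (53, [g4, g4, g4, g2, g1, g2]),
   (572, []),
   (360, [g2, g1, g1, g4, g1, g6, g2, g2, g3, g4, g2, g3, g4, g4, g4]),
   (63, [g2, g1, g6, g1, g1, g3, g4, g2, g4, g2, g4, g3, g5]),
   (164, [g5, g2, g4, g2, g1, g1, g2, g6, g4, g3, g6]),
   (257, [g2, g4, g1, g1, g1, g1, g5, g2, g4, g2, g2, g3, g4, g4, g4]),
   (31, [g6, g1, g2, g2, g1, g1, g3, g4, g2, g2, g2, g5, g6, g5, g3, g6, g5]),
   (510, [g1, g5, g1, g2, g1, g6, g5, g2, g4, g2, g2, g4, g3, g3, g6, g5]),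
   (428, [g2, g1, g3, g2, g2, g1, g6, g2, g2, g6, g2, g2, g4, g4, g4, g3, g3, g6]),
   (410, [g2, g4, g2, g4, g1, g3, g2, g6, g2, g2, g2, g6, g3, g3, g3, g6]),
   (251, [g4, g4, g4, g2, g1, g4, g2, g6, g2, g3, g5]),
   (349, [g4, g1, g3, g1, g1, g1, g4, g2, g6, g2, g3, g5, g6]),
   (348, [g4, g1, g3, g1, g1, g1, g2, g6, g2, g2, g6, g4, g3, g6, g5]),
   (579, []),
   (233, [g4, g6, g5]),
   (452, [g5, g3, g1, g1, g6, g3, g2, g2, g6, g3, g2, g3, g6, g5, g3, g6, g5]),
   (320, [g4, g3, g4, g1, g3, g6, g2, g2, g4, g6, g3, g3, g3, g6]),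
   (81, [g3, g6, g1, g1, g2, g2, g3, g4, g2, g2, g5, g3, g3, g3]),
   (389, [g5, g1, g5, g1, g2, g2, g4, g4, g2, g2, g5, g6, g5, g3, g5]),
   (407, [g6, g2, g1, g1, g4, g1, g2, g3, g6, g2, g4, g6, g3, g3, g3, g5, g6, g5]),
   (309, [g2, g3, g3, g1, g1, g1, g3, g2, g4, g2, g2, g6, g4, g3, g5, g6]),
   (241, [g3, g4, g3, g2, g5, g3, g3, g3, g6]),
   (242, [g4, g4, g2, g4, g6]),
   (566, [g1, g3, g1, g1, g2, g1, g2, g2, g4, g2, g4, g6, g3, g3, g3, g6]),
   (467, [g3, g1, g5, g2, g1, g1, g2, g6, g2, g2, g6, g2, g5, g6, g5]),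
   (261, [g4, g3, g2, g2, g1, g1, g3, g4, g2, g6, g2, g2, g2, g4, g3, g3, g5, g6, g5]),
   (359, [g1, g1, g3, g1, g3, g2, g6, g2, g4, g4, g4, g5, g6]),
   (55, [g1, g6, g1, g2, g1, g1, g3, g5, g2, g4, g2, g2, g3, g3, g5]),
   (224, [g2, g4, g2, g1, g4, g2, g2, g2, g4, g2, g3, g4, g4, g4, g5, g6]),
   (593, []),
   (192, [g1, g2, g6, g3, g1, g1, g4, g4, g3, g2, g4, g4, g4, g6]),
   (259, [g3, g4, g2, g1, g1, g1, g3, g2, g3, g4, g3, g2, g4, g4, g3, g5]),
   (431, [g1, g2, g1, g1, g2, g1, g2, g6, g3, g2, g4, g3, g3]),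
   (391, [g1, g3, g4, g1, g1, g1, g4, g2, g2, g6, g3, g2, g5, g3, g3, g3, g6, g5]),
   (596, []),
   (324, [g4, g1, g1, g6, g1, g1, g1, g3, g2, g4]),
   (264, [g1, g3, g1, g1, g2, g2, g4, g4, g2, g2, g4, g4, g4, g3, g3, g5]),
   (598, []),
   (327, [g6, g2, g4, g1, g4, g3, g2, g2, g6, g2, g4, g4, g5]),
   (574, [g3, g2, g4, g1, g6, g4, g2, g4, g2, g2, g6, g3, g3, g3, g5, g6]),
   (482, [g4, g3, g1, g3, g1, g4, g6, g2, g6, g3, g2, g3, g5]),
   (225, [g5, g1, g4, g1, g1, g3, g2, g3, g4, g2, g2, g4, g4, g5, g6, g5]),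
   (43, [g2, g1, g2, g4, g1, g3, g2, g3, g4, g3, g2, g5, g3, g3, g3]),
   (307, [g4, g2, g1, g2, g1, g5, g3, g3, g3, g5, g6, g5]),
   (486, [g1, g4, g2, g1, g1, g1, g6, g2, g2, g4, g6, g3, g3, g3, g6]),
   (484, [g1, g4, g1, g1, g1, g2, g3, g4, g2, g2, g2, g6, g4, g3, g5, g6, g5]),
   (490, [g1, g4, g3, g1, g3, g4, g2, g2, g2, g5, g6, g5]),
   (315, [g1, g3, g1, g5, g1, g4, g2, g2, g2, g6, g2, g3, g4, g4, g4, g5, g6]),
   (346, [g2, g1, g2, g1, g1, g2, g3, g6, g2, g2, g6, g4, g3])]

/-- Part 26 of cert0. -/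
noncomputable def cert0_26 : List (ℕ × List ℕ) :=
  [(600, [g2, g2, g6, g1, g1, g1, g4, g2, g2, g2, g4, g2, g6, g3, g3, g3, g5]),
   (179, [g4, g2, g1, g2, g1, g2, g4, g2, g2, g2, g4, g4, g3, g3]),
   (310, [g1, g2, g4, g1, g1, g4, g2, g3, g4, g2, g2, g5, g6, g5, g3, g5, g6, g5]),
   (68, [g6, g4, g1, g4, g3, g1, g6, g2, g2, g6, g2, g2, g6, g3, g5, g3, g6]),
   (366, [g4, g6, g1, g1, g4, g2, g5, g2, g4, g2, g3, g3, g3, g5, g6]),
   (140, [g4, g1, g6, g1, g1, g3, g6, g2, g2, g4, g5]),
   (283, [g2, g1, g1, g3, g2, g4, g4, g3, g2, g3, g5, g3, g5, g6]),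
   (399, [g1, g3, g5, g1, g4, g3, g2, g2, g6, g2, g3, g3, g3, g5, g6]),
   (71, [g2, g1, g2, g1, g1, g4, g2, g4, g2, g2, g4, g5, g6, g5]),
   (387, [g3, g6, g1, g1, g1, g1, g6, g3, g6, g5]),
   (52, [g3, g1, g3, g4, g1, g1, g2, g4, g3, g2, g4, g4, g3]),
   (470, [g2, g1, g4, g2, g2, g1, g6, g2, g3, g4, g2, g4, g5, g6, g5]),
   (455, [g1, g1, g4, g4, g2, g1, g6, g2, g4, g2, g2, g6]),
   (398, [g1, g4, g1, g1, g1, g2, g6, g2, g5, g4, g4, g3, g5, g6, g5]),
   (497, [g3, g1, g3, g2, g4, g1, g4, g2, g2, g2, g6, g2, g3, g5, g4, g4, g3, g6, g5]),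
   (381, [g3, g4, g2, g2, g2, g1, g1, g2, g4, g2, g2, g2, g3, g4, g4, g5, g6]),
   (299, [g6, g1, g3, g2, g1, g4, g4, g2, g6, g2, g2, g2, g5, g6, g3, g5, g6, g5]),
   (394, [g3, g2, g2, g1, g4, g2, g6, g3, g2, g5, g3, g5, g6]),
   (515, [g3, g2, g1, g2, g1, g3, g5, g2, g4, g2, g4, g4, g4, g6]),
   (535, [g4, g1, g4, g3, g1, g2, g2, g4, g4, g3, g2, g3, g3, g3, g5, g6]),
   (562, [g1, g6, g2, g1, g2, g1, g3, g2, g4, g4, g3, g2, g5, g4, g4, g3]),
   (296, [g2, g1, g2, g1, g1, g4, g2, g4, g2, g2, g4, g5, g6, g5]),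
   (614, []),
   (615, []),
   (616, []),
   (342, [g1, g4, g4, g2, g1, g2, g6, g2, g2, g2, g4, g6, g3, g3, g3, g5]),
   (537, [g2, g1, g3, g2, g1, g2, g3, g4, g3, g2, g3, g5, g4, g4, g3, g5, g6]),
   (483, [g6, g1, g4, g1, g1, g2, g3, g6, g2, g2, g6, g3, g3, g3, g6, g5]),
   (215, [g1, g3, g5, g1, g4, g4, g2, g4, g4, g6]),
   (134, [g3, g5, g3, g1, g6, g3, g2, g4, g6, g3, g3, g3]),
   (313, [g1, g1, g1, g1, g1, g6, g2, g4, g4, g2, g2, g3, g5, g6, g5]),
   (14, [g3, g1, g3, g2, g1, g1, g2, g4, g3, g2, g6, g3, g5, g6, g5]),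
   (2, [g5, g2, g1, g6, g1, g1, g1, g6, g3, g2, g2, g6, g3, g2, g3, g5, g3]),
   (555, [g5, g1, g4, g1, g1, g4, g4, g2, g4, g2, g5, g3, g3, g3, g5, g6, g5]),
   (142, [g2, g6, g3, g1, g1, g1, g1, g2, g2, g6, g3, g2, g3, g6]),
   (66, [g1, g1, g2, g1, g1, g2, g6, g2, g2, g6, g2, g6, g3, g3, g3, g6]),
   (386, [g5, g2, g1, g5, g1, g2, g6, g2, g2, g2, g6, g3, g5, g6]),
   (458, [g1, g2, g1, g1, g4, g2, g6, g2, g2, g2, g3, g5, g3, g6]),
   (549, [g3, g5, g2, g1, g1, g1, g3, g2, g6, g2, g4, g3, g4, g4, g5, g6, g5]),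
   (439, [g1, g3, g4, g2, g4, g4, g2, g2, g6, g4, g3]),
   (468, [g1, g1, g2, g1, g6, g2, g6, g3, g2, g3, g5, g4, g4, g3, g5]),
   (583, [g2, g1, g2, g3, g1, g1, g5, g4, g6, g2, g4, g2, g2, g6, g4, g3]),
   (526, [g3, g2, g6, g1, g1, g3, g5, g2, g4, g2, g3, g6, g5, g3, g6]),
   (322, [g5, g1, g3, g1, g1, g1, g2, g4, g4, g2, g2, g4, g6, g3, g3, g3, g5, g6, g5]),
   (626, []),
   (447, [g1, g6, g1, g2, g1, g1, g2, g2, g2, g5, g6, g3, g5, g6]),
   (575, [g4, g3, g4, g1, g2, g3, g4, g2, g2, g2, g4, g4, g3, g3, g5, g6]),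
   (628, []),
   (380, [g5, g3, g1, g1, g1, g1, g4, g6, g2, g4, g2, g2, g3, g5, g4, g4, g3, g5, g6, g5]),
   (319, [g3, g6, g3, g1, g1, g1, g1, g2, g6, g3, g2, g4, g6, g3, g3, g3, g6, g5]),
   (15, [g2, g1, g2, g1, g1, g2, g3, g4, g2, g2, g2, g4, g3, g5, g6, g5]),
   (74, [g1, g6, g1, g1, g1, g1, g2, g2, g6, g2, g2, g6, g3]),
   (153, [g2, g3, g1, g6, g1, g1, g2, g5, g2, g4, g2, g6, g3, g5, g3, g6, g5]),
   (632, []),
   (168, [g2, g1, g2, g1, g4, g4, g2, g4, g5, g6, g5]),
   (277, [g1, g6, g2, g4, g1, g4, g2, g4, g2, g2, g3, g6, g5, g3, g5, g6, g5]),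
   (527, [g4, g1, g1, g3, g2, g1, g6, g3, g2, g6, g2, g5, g3, g4, g4, g6, g5]),
   (196, [g5, g1, g1, g2, g1, g4, g2, g6, g2, g2, g2, g3, g6, g5, g3, g6]),
   (203, [g2, g3, g4, g1, g1, g3, g6, g2, g4, g2, g2, g4, g6, g3, g3, g3, g6, g5]),
   (637, []),
   (434, [g4, g1, g1, g3, g2, g1, g6, g2, g6, g2, g3, g3, g3, g5, g6]),
   (238, [g2, g4, g1, g4, g1, g4, g3, g2, g2, g6, g2, g3, g4, g4]),
   (438, [g2, g3, g1, g2, g4, g2, g6, g2, g2, g2, g6, g5, g3, g5, g6, g5]),
   (640, [])]

/-- Part 27 of cert0. -/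
noncomputable def cert0_27 : List (ℕ × List ℕ) :=
  [(254, [g2, g2, g1, g2, g4, g4, g3, g2, g3, g4, g4, g5]),
   (184, [g4, g4, g1, g3, g1, g6, g3, g2, g6, g3, g5]),
   (582, [g6, g1, g3, g5, g1, g3, g2, g3, g4, g3, g2, g3, g3, g3]),
   (323, [g5, g6, g2, g1, g5, g1, g3, g4, g2, g2, g2, g6, g3, g6]),
   (446, [g2, g1, g3, g2, g1, g4, g4, g3, g2, g4, g4, g3, g5, g6]),
   (436, [g2, g6, g3, g1, g1, g4, g4, g2, g4, g2, g4, g4, g3, g6, g5]),
   (332, [g1, g2, g1, g1, g3, g4, g2, g2, g2, g4, g4, g4, g3, g3, g6]),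
   (573, [g6, g2, g1, g1, g4, g1, g2, g6, g2, g2, g6, g2, g4, g3, g4, g4, g5]),
   (645, []),
   (211, [g5, g6, g3, g1, g3, g1, g2, g4, g4, g3, g2, g4, g6, g3, g5, g6, g5]),
   (148, [g5, g2, g1, g6, g1, g1, g1, g4, g2, g6, g3, g2, g4, g4, g3, g3, g5, g6]),
   (145, [g4, g1, g1, g2, g1, g1, g6, g2, g2, g5, g4, g4, g3, g6, g5]),
   (352, [g1, g1, g3, g1, g1, g2, g4, g4, g3, g2, g4, g3, g4, g4, g6, g5]),
   (480, [g6, g3, g2, g3, g1, g3, g5, g4, g4, g3, g6]),
   (363, [g3, g4, g1, g5, g3, g1, g6, g3, g2, g6, g2, g6, g3]),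
   (96, [g2, g1, g5, g1, g6, g2, g3, g6]),
   (460, [g5, g6, g3, g1, g3, g1, g4, g2, g4, g2, g3, g4, g4]),
   (175, [g2, g5, g4, g1, g1, g3, g6, g2, g4, g2, g2, g6, g3, g5, g3, g5, g6]),
   (584, [g6, g4, g2, g1, g1, g1, g2, g2, g3, g6, g2, g3, g4, g4, g5, g6]),
   (27, [g2, g1, g2, g2, g1, g2, g4, g2, g2, g2, g5, g3, g3, g3, g6, g5]),
   (156, [g6, g4, g1, g5, g1, g3, g4, g2, g3, g6, g2, g6, g3, g5, g6]),
   (409, [g2, g4, g2, g4, g1, g1, g3, g2, g6, g2, g5, g6]),
   (465, [g3, g1, g3, g1, g4, g2, g2, g4, g4, g2, g2, g4, g4, g4, g5, g6, g5]),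
   (98, [g1, g6, g1, g1, g2, g3, g4, g2, g3, g4, g4, g4, g5]),
   (281, [g4, g1, g3, g1, g2, g4, g3, g2, g4, g4, g4, g6, g5]),
   (286, [g5, g1, g2, g1, g1, g6, g2, g2, g3, g4, g2, g6, g4, g3, g6, g5]),
   (351, [g2, g1, g3, g1, g1, g1, g5, g2, g4, g2, g2, g4, g3, g4, g4]),
   (102, [g2, g2, g2, g1, g2, g2, g4, g4, g3, g2, g4, g3]),
   (652, [g3, g4, g1, g1, g1, g3, g4, g2, g4, g4, g2, g2, g6, g3, g5, g3, g5]),
   (653, []),
   (635, [g5, g1, g1, g2, g1, g4, g6, g2, g5, g6, g3, g5, g6, g5]),
   (507, [g4, g2, g3, g1, g2, g4, g4, g2, g2, g5, g3, g5, g6]),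
   (641, [g6, g4, g2, g2, g1, g1, g3, g2, g4, g2, g2, g4, g6]),
   (590, [g2, g3, g3, g1, g1, g1, g4, g2, g2, g4, g2, g3, g3, g6]),
   (523, [g1, g3, g1, g1, g2, g1, g2, g5, g2, g4, g2, g2, g4, g3, g3, g6]),
   (100, [g2, g2, g2, g1, g1, g3, g4, g3, g2, g6, g3]),
   (589, [g4, g6, g3, g1, g3, g1, g3, g2, g6, g2, g2, g4, g3, g4, g4, g5]),
   (414, [g2, g1, g1, g4, g6, g2, g6, g3, g2, g4, g4, g3, g3, g6]),
   (609, [g2, g1, g4, g2, g2, g1, g4, g2, g6, g2, g4, g2, g2, g5, g3, g3, g3, g6, g5]),
   (312, [g1, g6, g2, g1, g2, g1, g2, g4, g4, g2, g2, g2, g3, g4, g4, g4, g5]),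
   (565, [g3, g1, g2, g3, g1, g2, g3, g6, g2, g2, g4, g4]),
   (592, [g4, g3, g2, g2, g1, g6, g2, g5, g3, g3, g3, g5, g6, g5]),
   (170, [g1, g2, g2, g1, g1, g2, g2, g2, g4, g3, g3, g6, g5]),
   (661, []),
   (252, [g6, g1, g4, g3, g1, g2, g2, g6, g3, g2, g5, g6, g5, g3, g5, g6, g5]),
   (445, [g2, g3, g1, g2, g2, g4, g2, g4, g4, g4, g6, g5]),
   (475, [g6, g4, g1, g5, g1, g6, g2, g3, g4, g2, g6, g3, g3, g3, g5]),
   (612, [g1, g1, g1, g3, g1, g1, g3, g2, g3, g4, g3, g2, g5, g3, g5]),
   (577, [g2, g3, g1, g1, g4, g1, g3, g2, g6, g2, g2, g4, g6, g3, g3, g3, g5, g6]),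
   (201, [g4, g1, g1, g4, g2, g1, g2, g3, g6, g2, g6, g3, g5, g6]),
   (401, [g5, g3, g1, g6, g3, g2, g2, g6, g3, g2, g4, g4, g3, g6]),
   (114, [g2, g5, g4, g1, g1, g2, g2, g3, g4, g2, g2, g4, g4, g3, g3, g5, g6]),
   (384, [g2, g3, g1, g2, g1, g6, g3, g5, g3, g5, g6]),
   (88, [g4, g2, g4, g2, g1, g1, g2, g6, g2, g2, g4, g4, g3, g5]),
   (476, [g2, g2, g1, g3, g4, g1, g4, g4, g2, g4, g2, g6, g3, g5, g3, g6]),
   (107, [g6, g5, g1, g4, g3, g1, g6, g2, g2, g6, g2, g2, g4]),
   (284, [g2, g1, g4, g2, g2, g1, g4, g2, g6, g2, g4, g2, g2, g4, g4, g4, g3, g3, g5, g6, g5]),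
   (326, [g4, g3, g1, g3, g1, g2, g6, g2, g4, g3, g4, g4, g5, g6, g5]),
   (393, [g5, g3, g1, g6, g3, g2, g2, g6, g3, g2, g4, g4, g3, g6]),
   (69, [g5, g6, g1, g1, g4, g2, g2, g2, g4, g2, g6, g5, g3]),
   (222, [g3, g3, g1, g1, g1, g2, g6, g3, g3, g3]),
   (113, [g5, g1, g4, g1, g1, g6, g2, g4, g4, g2, g2, g3]),
   (666, []),
   (311, [g2, g5, g1, g4, g1, g1, g1, g2, g4, g3, g2, g4, g4, g4, g5, g6, g5])]

/-- Part 28 of cert0. -/
noncomputable def cert0_28 : List (ℕ × List ℕ) :=
  [(198, [g6, g5, g1, g4, g3, g1, g2, g4, g2, g4, g4, g2, g2, g4, g4, g3, g3, g5, g6]),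
   (273, [g4, g2, g3, g4, g3, g1, g4, g6, g2, g4, g2, g2, g3, g3, g3]),
   (559, [g4, g6, g3, g2, g1, g6, g3, g2, g2, g6, g3, g2, g6, g4, g3]),
   (19, [g2, g1, g4, g2, g2, g1, g2, g3, g4, g2, g2, g5, g6, g4, g3, g5]),
   (340, [g3, g2, g1, g3, g2, g1, g1, g3, g2, g2, g4, g3, g2, g3, g3, g3, g6, g5]),
   (412, [g3, g2, g1, g5, g1, g6, g2, g3, g6, g2, g2, g4, g4, g4, g5, g6, g5]),
   (634, [g4, g1, g4, g1, g3, g2, g2, g6, g2, g4, g6, g3, g3, g3, g5, g6, g5]),
   (473, [g1, g2, g1, g2, g4, g2, g4, g4, g2, g2, g5, g6, g5]),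
   (647, [g3, g6, g1, g2, g1, g1, g3, g4, g2, g3, g6, g2, g3, g6, g5, g3, g5, g6, g5]),
   (610, [g5, g6, g2, g1, g5, g1, g6, g3, g2, g6, g2, g2, g4, g6, g3, g3, g3, g6]),
   (543, [g1, g5, g1, g4, g1, g1, g4, g2, g4, g2, g5, g4, g4, g3, g5, g6]),
   (17, [g1, g4, g2, g1, g3, g6, g2, g3, g6, g5, g3, g6, g5]),
   (288, [g4, g1, g1, g1, g3, g4, g2, g4, g2, g4, g3, g4, g4, g5, g6]),
   (493, [g4, g1, g5, g3, g1, g2, g2, g4, g2, g2, g2, g4, g4, g5]),
   (448, [g1, g3, g4, g1, g1, g6, g2, g2, g2, g6, g4, g3, g6, g5]),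
   (330, [g3, g5, g1, g2, g2, g3, g6, g2, g4, g4, g4, g3, g3, g5]),
   (656, [g3, g1, g5, g4, g1, g1, g3, g4, g2, g2, g2, g3, g5, g4, g4, g3]),
   (424, [g5, g6, g1, g1, g2, g4, g2, g4, g2, g2, g3, g6, g5]),
   (676, []),
   (631, [g2, g1, g4, g1, g1, g1, g6, g2, g2, g6, g2, g2, g6, g3, g3, g3, g6, g5]),
   (248, [g5, g2, g1, g1, g4, g1, g3, g2, g2, g6, g3, g2, g6, g3, g3, g3, g5]),
   (345, [g2, g6, g2, g4, g1, g2, g2, g3, g4, g2, g4, g3, g4, g4, g5, g6, g5]),
   (247, [g3, g2, g1, g6, g1, g1, g4, g2, g6, g2, g4, g2, g2, g5, g3]),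
   (317, [g5, g1, g3, g1, g1, g1, g4, g2, g4, g2, g2, g4, g4, g4, g3, g3, g6, g5]),
   (132, [g3, g4, g1, g1, g1, g1, g3, g2, g2, g6, g2, g4, g6, g3, g3, g3, g5, g6]),
   (303, [g2, g4, g1, g3, g1, g1, g1, g2, g4, g2, g2, g3, g6, g5, g3, g5]),
   (44, [g2, g5, g1, g2, g1, g6, g2, g3, g6, g2, g2, g4, g4, g3, g3, g6]),
   (427, [g1, g4, g1, g4, g2, g1, g1, g4, g2, g3, g4, g2, g4, g4, g3]),
   (150, [g5, g1, g1, g1, g5, g1, g2, g2, g4, g2, g4, g3, g4, g4, g5, g6]),
   (75, [g3, g1, g2, g1, g3, g4, g2, g3, g6, g2, g4, g3, g4, g4, g5, g6, g5]),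
   (256, [g4, g1, g1, g1, g1, g1, g6, g3, g2, g6, g2, g4, g3, g4, g4]),
   (57, [g2, g3, g1, g1, g1, g2, g4, g4, g3, g2, g4, g3, g4, g4, g6]),
   (339, [g1, g1, g4, g4, g2, g1, g2, g2, g3, g4, g2, g2, g5, g3, g4, g4, g5]),
   (524, [g2, g6, g2, g1, g2, g1, g2, g4, g2, g2, g2, g5, g6, g5, g3, g5, g6]),
   (625, [g4, g1, g4, g1, g1, g3, g2, g3, g4, g2, g4, g4, g4, g5, g6]),
   (60, [g4, g1, g2, g1, g6, g2, g3, g4, g2, g4, g6, g3, g5, g6]),
   (454, [g4, g2, g4, g1, g2, g2, g3, g4, g2, g2, g4, g4, g3, g3, g6]),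
   (503, [g2, g1, g3, g2, g1, g6, g2, g4, g4, g2, g2, g6, g3, g3, g3, g5]),
   (122, [g3, g2, g4, g2, g1, g1, g1, g4, g2, g3, g4, g2, g6, g3, g5]),
   (440, [g3, g5, g2, g3, g1, g1, g4, g2, g6, g3, g2, g4, g4, g5, g6, g5]),
   (665, [g3, g5, g2, g3, g1, g1, g6, g2, g6, g3, g2, g5, g3, g3, g3, g5, g6, g5]),
   (433, [g4, g3, g2, g1, g4, g6, g2, g6, g5, g3, g5]),
   (143, [g3, g1, g2, g3, g1, g1, g4, g4, g3, g2, g4, g3, g3, g5, g6]),
   (604, [g6, g1, g4, g3, g1, g4, g2, g2, g4, g2, g5, g6, g4, g3, g6]),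
   (255, [g2, g4, g1, g3, g1, g2, g2, g4, g4, g3, g2, g3, g3, g3]),
   (119, [g3, g1, g3, g2, g1, g1, g2, g2, g2, g6, g2, g4, g3, g3, g5, g6, g5]),
   (344, [g6, g1, g4, g2, g1, g1, g6, g3, g2, g5]),
   (158, [g5, g1, g3, g4, g1, g1, g2, g3, g3, g3]),
   (627, [g1, g4, g6, g3, g2, g1, g2, g2, g4, g2, g2, g2, g4, g4, g4, g5]),
   (231, [g1, g4, g1, g6, g3, g2, g6, g2, g3, g4, g4, g5, g6, g5]),
   (141, [g2, g4, g2, g4, g1, g2, g2, g6, g2, g4, g6, g3, g3, g3, g5, g6]),
   (48, [g1, g6, g1, g1, g1, g1, g4, g2, g4, g2, g4, g6, g3, g5, g6]),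
   (548, [g2, g1, g4, g3, g1, g2, g5, g2, g4, g2, g3, g4, g4, g5, g6]),
   (293, [g6, g4, g2, g2, g1, g1, g2, g4, g2, g4, g4, g2, g2, g4, g4, g5]),
   (245, [g5, g2, g1, g1, g4, g2, g4, g2, g2, g4, g3, g4, g4, g6]),
   (530, [g5, g6, g2, g2, g1, g6, g2, g2, g6, g2, g5, g3, g4, g4, g6]),
   (151, [g1, g1, g6, g2, g2, g4, g3, g2, g6, g3, g6, g5]),
   (664, [g3, g1, g3, g4, g1, g1, g2, g5, g2, g4, g2, g2, g4, g4, g5, g6]),
   (128, [g1, g2, g4, g1, g6, g2, g4, g4, g6, g5]),
   (56, [g5, g1, g4, g3, g1, g2, g2, g3, g4, g3, g2, g6, g3, g3, g3, g5]),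
   (682, []),
   (95, [g4, g4, g2, g2, g1, g2, g3, g4, g2, g3, g5, g3, g6, g5]),
   (54, [g6, g1, g5, g1, g6, g2, g2, g3, g4, g2, g5, g6, g4, g3, g5]),
   (295, [g5, g3, g1, g4, g1, g1, g2, g2, g2, g4, g3, g2, g3, g3, g3, g5])]

/-- Part 29 of cert0. -/
noncomputable def cert0_29 : List (ℕ × List ℕ) :=
  [(464, [g3, g1, g1, g1, g1, g4, g2, g5, g2, g4, g2, g3, g5, g3, g5, g6]),
   (474, [g3, g4, g1, g1, g2, g6, g2, g2, g6, g2, g4, g3, g4, g4, g6, g5]),
   (379, [g4, g2, g4, g1, g3, g2, g6, g2, g2, g4, g4, g4, g5, g6]),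
   (376, [g1, g2, g1, g1, g2, g2, g6, g2, g2, g4, g4, g5]),
   (594, [g1, g2, g2, g1, g2, g1, g3, g4, g2, g4, g2, g3, g5]),
   (607, [g5, g6, g2, g2, g1, g4, g2, g4, g4, g2, g2, g5, g4, g4, g3, g5, g6]),
   (197, [g4, g6, g3, g2, g1, g2, g6, g2, g2, g3, g3, g5, g6]),
   (441, [g3, g1, g3, g2, g1, g1, g6, g2, g2, g6, g2, g2, g3, g5, g4, g4, g3, g6, g5]),
   (216, [g1, g3, g1, g2, g3, g1, g4, g2, g2, g2, g4, g2, g4, g4, g5]),
   (265, [g2, g3, g2, g2, g1, g2, g3, g6, g2, g2, g3, g3, g3, g6, g5]),
   (385, [g1, g5, g3, g2, g1, g4, g4, g2, g2, g2, g4, g6, g3]),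
   (163, [g1, g6, g3, g1, g1, g2, g4, g3, g2, g5, g4, g4, g3, g6]),
   (561, [g6, g3, g5, g2, g1, g1, g3, g2, g3, g4, g2, g2, g5, g6, g3, g6]),
   (329, [g1, g2, g6, g1, g1, g2, g4, g2, g4, g2, g2, g6, g3, g5, g3, g5, g6]),
   (375, [g1, g2, g2, g4, g1, g2, g2, g3, g6, g2, g5, g6, g4, g3, g5]),
   (243, [g3, g1, g3, g2, g4, g1, g4, g3, g2, g6, g2, g2, g6, g3, g3, g3, g5]),
   (426, [g6, g3, g1, g1, g1, g1, g3, g4, g2, g2, g2, g5, g6, g3, g5, g6]),
   (485, [g4, g6, g1, g2, g4, g1, g3, g2, g4, g2, g5, g6, g3, g5, g6, g5]),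
   (525, [g4, g1, g1, g3, g2, g1, g3, g6, g2, g4, g2, g2, g4, g3, g6, g5]),
   (499, [g4, g1, g2, g3, g1, g1, g6, g2, g4, g2, g2, g6, g3, g3, g3, g6, g5]),
   (180, [g3, g2, g1, g3, g4, g2, g3, g6, g2, g4, g3, g3, g5, g6, g5]),
   (571, [g1, g2, g4, g1, g3, g4, g2, g4, g2, g2, g5, g3, g6]),
   (109, [g4, g1, g3, g1, g3, g2, g6, g2, g2, g2, g5, g6, g5, g3, g5]),
   (167, [g6, g3, g2, g4, g1, g2, g2, g6, g2, g2, g6, g3, g5]),
   (276, [g3, g2, g6, g1, g1, g1, g5, g2, g4, g2, g2, g6, g5, g3, g5, g6, g5]),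
   (671, [g2, g1, g1, g1, g1, g1, g3, g4, g2, g4, g4, g2, g2, g3, g6, g5, g3, g6, g5]),
   (421, [g5, g6, g3, g1, g3, g1, g6, g4, g2, g4, g2, g2, g5, g4, g4, g3, g6, g5]),
   (498, [g3, g2, g1, g5, g1, g5, g2, g4, g2, g2, g3, g5]),
   (357, [g2, g3, g2, g2, g1, g2, g3, g4, g3, g2, g5, g6, g3, g6]),
   (576, [g1, g1, g1, g1, g2, g2, g3, g4, g2, g2, g5, g6]),
   (334, [g1, g4, g1, g3, g1, g6, g5, g2, g4, g2, g2, g6, g4, g3, g5]),
   (205, [g2, g1, g5, g2, g2, g1, g1, g2, g2, g4, g3, g2, g3, g5, g4, g4, g3, g5, g6]),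
   (544, [g1, g2, g3, g1, g1, g4, g2, g6, g2, g4, g2, g2, g4, g6, g3]),
   (176, [g1, g6, g2, g2, g1, g1, g2, g3, g4, g2, g2, g2, g3, g3]),
   (531, [g1, g1, g4, g2, g1, g2, g4, g4, g2, g2, g4, g3, g6, g5]),
   (528, [g3, g4, g2, g1, g4, g6, g2, g4, g6, g3, g3, g3]),
   (597, [g4, g1, g5, g1, g3, g2, g3, g4, g2, g5, g3, g6]),
   (297, [g4, g2, g1, g1, g4, g2, g2, g3, g3, g3, g6, g5]),
   (689, []),
   (269, [g6, g2, g4, g1, g5, g2, g4, g2, g5, g6, g3, g6, g5]),
   (418, [g4, g2, g1, g4, g3, g1, g2, g3, g6, g2, g2, g5, g4, g4, g3, g5, g6, g5]),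
   (368, [g2, g4, g3, g2, g1, g6, g2, g2, g5, g3, g6]),
   (629, [g1, g2, g4, g1, g1, g4, g4, g2, g2, g4, g2, g4, g4, g6]),
   (513, [g5, g2, g1, g3, g1, g1, g1, g4, g2, g6, g2, g4, g3, g4, g4, g6, g5]),
   (457, [g4, g1, g2, g1, g1, g3, g4, g3, g2, g5, g6]),
   (619, [g1, g1, g3, g1, g1, g4, g4, g2, g2, g4, g2, g5, g3, g3, g3]),
   (606, [g5, g1, g4, g3, g1, g3, g4, g2, g4, g2, g2]),
   (514, [g6, g1, g3, g2, g3, g1, g3, g2, g4, g2, g2, g3, g3, g5, g6, g5]),
   (690, []),
   (520, [g2, g4, g1, g2, g4, g2, g4, g4, g2, g2, g4, g3, g5]),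
   (521, [g2, g2, g2, g1, g3, g4, g2, g2, g4, g4, g4, g3, g3, g6]),
   (662, [g2, g2, g1, g5, g1, g2, g6, g2, g3, g6, g2, g2, g3, g5, g4, g4, g3, g6]),
   (226, [g6, g2, g6, g3, g2, g1, g2, g4, g2, g2, g4, g2, g5, g3, g4, g4, g5, g6, g5]),
   (678, [g1, g1, g1, g4, g1, g2, g2, g2, g4, g3, g2, g3, g5, g3, g5]),
   (124, [g1, g6, g5, g3, g2, g1, g2, g3, g6, g2, g5, g6, g5, g3, g5]),
   (624, [g5, g1, g4, g1, g1, g1, g6, g3, g2, g4, g6]),
   (358, [g4, g6, g1, g1, g2, g3, g4, g2, g2, g6, g5, g3]),
   (301, [g3, g4, g1, g1, g1, g3, g4, g2, g2, g2, g5, g3, g3, g3]),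
   (683, [g1, g2, g6, g3, g1, g1, g2, g4, g2, g2, g4, g2, g6, g4, g3, g5, g6]),
   (529, [g3, g4, g1, g5, g3, g1, g2, g6, g2, g4, g3]),
   (183, [g4, g1, g1, g2, g1, g1, g6, g2, g6, g3, g2, g4, g6, g3, g5, g6, g5]),
   (532, [g3, g1, g5, g3, g1, g6, g3, g2, g2, g6, g3, g2, g3, g3, g3, g6]),
   (551, [g1, g3, g1, g5, g1, g3, g2, g2, g4, g2, g4, g4, g6]),
   (337, [g6, g3, g2, g4, g1, g4, g4, g2, g2, g4, g4, g3, g6])]

/-- Part 30 of cert0. -/
noncomputable def cert0_30 : List (ℕ × List ℕ) :=
  [(601, [g4, g3, g2, g2, g1, g4, g2, g2, g2, g4, g2, g3, g3, g5, g6]),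
   (608, [g6, g1, g5, g1, g2, g2, g6, g2, g2, g4, g6, g5]),
   (595, [g4, g3, g3, g1, g1, g1, g3, g2, g2, g6, g3, g2, g4, g4, g4, g5, g6]),
   (578, [g1, g6, g1, g1, g1, g1, g6, g2, g2, g6, g2, g5, g6, g4, g3, g5, g6]),
   (16, [g1, g5, g1, g1, g2, g1, g3, g2, g2, g6, g2, g5, g6, g4, g3, g6, g5]),
   (536, [g4, g6, g3, g1, g3, g1, g6, g2, g2, g4, g3, g2, g3, g5, g3, g5, g6]),
   (115, [g1, g2, g2, g1, g1, g6, g2, g2, g6, g2, g2, g6, g3, g3, g3, g5]),
   (685, [g5, g1, g4, g1, g1, g6, g2, g2, g2, g4, g4, g6]),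
   (668, [g5, g2, g1, g3, g1, g1, g1, g4, g2, g2, g6, g4, g3, g5, g6]),
   (495, [g6, g1, g2, g2, g1, g1, g4, g4, g2, g4, g2, g2, g3, g4, g4, g4, g5, g6]),
   (443, [g3, g3, g1, g1, g1, g1, g2, g6, g2, g2, g6, g2, g4, g3, g4, g4, g6]),
   (177, [g1, g4, g1, g1, g2, g1, g1, g2, g2, g4, g2, g4, g4, g3, g5]),
   (41, [g3, g1, g5, g3, g1, g2, g2, g3, g4, g2, g2, g3, g3, g5, g6, g5]),
   (300, [g2, g3, g3, g2, g1, g4, g3, g2, g2, g6, g2, g6, g4, g3, g6]),
   (494, [g3, g2, g3, g1, g5, g2, g4, g2, g2, g6, g3, g3, g3]),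
   (580, [g6, g1, g2, g1, g1, g4, g2, g2, g2, g6, g2, g4, g4, g3, g5, g6]),
   (556, [g2, g2, g4, g1, g2, g3, g4, g2, g2, g4, g4, g3, g3, g5, g6]),
   (605, [g1, g2, g2, g4, g1, g2, g6, g2, g4, g2, g2, g5, g6, g3, g5, g6, g5]),
   (691, []),
   (649, [g4, g4, g2, g4, g1, g2, g2, g4, g3, g2, g3, g5]),
   (210, [g4, g4, g2, g4, g1, g3, g2, g6, g2, g2, g4, g4, g3, g3, g6]),
   (540, [g6, g3, g2, g2, g1, g1, g2, g4, g2, g6, g2, g2, g2, g5, g6, g4, g3, g5]),
   (651, [g6, g1, g3, g5, g1, g2, g2, g4, g4, g3, g2, g3, g3, g3]),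
   (266, [g2, g4, g1, g3, g1, g6, g2, g3, g6, g2, g2, g4, g4, g4, g5, g6, g5]),
   (267, [g3, g1, g2, g1, g4, g1, g3, g4, g2, g3, g6, g2, g4, g3, g3, g5]),
   (599, [g5, g3, g1, g1, g2, g2, g6, g2, g3, g5, g4, g4, g3, g5]),
   (449, [g3, g2, g4, g2, g1, g1, g1, g2, g6, g2, g2, g6, g3, g5, g6, g5]),
   (687, [g1, g4, g2, g4, g1, g2, g2, g2, g6, g2, g6, g5, g3, g5, g6]),
   (367, [g3, g4, g1, g5, g3, g1, g2, g2, g3, g4, g2, g2, g5, g3, g4, g4]),
   (388, [g1, g3, g1, g4, g2, g3, g4, g2, g4, g4, g4]),
   (239, [g4, g3, g4, g1, g4, g2, g4, g2, g2, g5, g3, g3, g3]),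
   (29, [g1, g2, g6, g3, g1, g1, g6, g4, g2, g4, g2, g2, g3, g5, g4, g4, g3, g6, g5]),
   (80, [g2, g6, g2, g2, g1, g3, g4, g2, g3, g6, g2, g3, g4, g4, g4, g6, g5]),
   (316, [g1, g3, g2, g2, g3, g1, g2, g2, g2, g4, g3, g2, g4, g5]),
   (581, [g3, g2, g1, g6, g1, g1, g3, g2, g4, g2, g5, g6, g4, g3, g6]),
   (111, [g2, g3, g4, g1, g1, g3, g6, g2, g2, g5, g3, g4, g4, g5]),
   (227, [g4, g6, g1, g1, g2, g2, g2, g4, g2, g3, g3]),
   (488, [g2, g1, g3, g2, g1, g6, g2, g4, g4, g2, g2, g3, g6, g5, g3, g6, g5]),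
   (622, [g2, g6, g1, g4, g1, g2, g5, g2, g4, g2, g2, g5, g6, g4, g3, g5]),
   (229, [g4, g4, g4, g2, g1, g3, g2, g2, g6, g3, g2, g6, g3, g3, g3]),
   (144, [g6, g1, g1, g1, g1, g1, g6, g2, g3, g4, g2, g4, g6]),
   (479, [g2, g4, g2, g1, g1, g1, g3, g4, g2, g4, g2, g4, g5, g6]),
   (33, [g2, g4, g3, g2, g1, g4, g2, g4, g2, g2, g3, g5, g6]),
   (644, [g4, g1, g3, g1, g1, g1, g2, g6, g2, g2, g3, g5]),
   (501, [g6, g5, g1, g2, g1, g1, g3, g2, g6, g2, g4, g4, g5, g6]),
   (564, [g2, g3, g4, g1, g1, g3, g4, g2, g2, g6, g3, g5, g3, g6, g5]),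
   (602, [g1, g1, g2, g1, g1, g2, g2, g3, g4, g2, g2, g3, g3, g5]),
   (228, [g2, g4, g1, g6, g1, g1, g1, g6, g2, g2, g4, g3, g2, g4, g4, g4, g6]),
   (126, [g4, g1, g1, g1, g1, g2, g2, g4, g3, g4, g4, g5, g6, g5]),
   (558, [g3, g3, g1, g1, g1, g6, g2, g2, g4, g6, g3, g5, g6]),
   (290, [g2, g1, g5, g1, g2, g2, g4, g3, g2, g4, g3, g3, g5, g6]),
   (657, [g6, g1, g1, g1, g1, g2, g6, g2, g2, g2, g4, g3, g3, g5, g6]),
   (603, [g2, g2, g6, g1, g1, g6, g2, g3, g6, g2, g2, g5, g4, g4, g3, g5, g6]),
   (585, [g4, g3, g2, g4, g1, g2, g6, g2, g4, g6, g3, g6, g5]),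
   (552, [g6, g5, g3, g1, g1, g4, g2, g4, g2, g6, g3, g3, g3, g5]),
   (569, [g3, g1, g5, g4, g1, g1, g3, g2, g2, g6, g3, g2, g4, g6, g3]),
   (103, [g1, g4, g2, g1, g1, g3, g2, g3, g4, g3, g2, g3, g6, g5, g3, g5]),
   (10, [g1, g4, g2, g1, g1, g3, g2, g3, g4, g2, g2, g4, g6, g3, g5]),
   (112, [g5, g2, g1, g1, g1, g3, g2, g2, g6, g2, g3, g5, g4, g4, g3, g5, g6, g5]),
   (591, [g2, g1, g3, g4, g1, g4, g6, g2, g6, g3, g2, g3, g3]),
   (621, [g2, g3, g4, g3, g1, g3, g2, g3, g6, g2, g3, g5, g4, g4, g3, g6]),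
   (406, [g1, g4, g4, g2, g2, g1, g3, g5, g2, g4, g2, g2, g3, g5, g4, g4, g3]),
   (477, [g2, g2, g1, g5, g1, g4, g4, g3, g3, g6]),
   (508, [g3, g1, g6, g1, g1, g3, g5, g2, g4, g2, g3, g5, g6, g5])]

/-- Part 31 of cert0. -/
noncomputable def cert0_31 : List (ℕ × List ℕ) :=
  [(672, [g6, g2, g2, g1, g1, g4, g6, g2, g4, g2, g2, g6, g5, g3]),
   (45, [g4, g1, g1, g2, g1, g4, g2, g3, g4, g2, g3, g6, g5, g3, g5]),
   (553, [g5, g1, g5, g4, g1, g1, g2, g3, g4, g2, g2, g6, g3, g3, g3, g5, g6]),
   (675, [g6, g5, g1, g2, g1, g1, g2, g6, g2, g4, g2, g2, g3]),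
   (567, [g5, g2, g3, g1, g1, g3, g5, g2, g4, g2, g6]),
   (680, [g1, g4, g2, g6, g1, g1, g1, g6, g2, g3, g4, g2, g6, g4, g3]),
   (679, [g3, g1, g3, g1, g1, g3, g2, g6, g5, g3, g6]),
   (504, [g1, g1, g3, g2, g1, g2, g4, g2, g4, g4, g2, g2, g4, g4, g4, g3, g3, g5, g6]),
   (461, [g3, g1, g2, g3, g1, g1, g3, g2, g3, g3, g5, g6, g5]),
   (221, [g5, g3, g2, g2, g1, g2, g2, g2, g4, g2, g4, g4, g6]),
   (373, [g2, g1, g1, g4, g1, g3, g2, g6, g2, g2, g2, g5, g3]),
   (285, [g5, g1, g3, g4, g1, g1, g6, g2, g2, g6, g2, g5, g3, g3, g3]),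
   (643, [g3, g1, g6, g2, g3, g6, g2, g2, g3, g6, g5, g3, g5, g6]),
   (512, [g2, g1, g4, g1, g6, g2, g4, g4, g3, g2, g5, g6, g5, g3]),
   (237, [g1, g4, g2, g4, g1, g4, g2, g2, g4, g2, g3, g6, g5, g3, g6]),
   (642, [g1, g5, g2, g3, g1, g1, g2, g4, g2, g6, g2, g2, g2, g4, g4, g3, g3, g6]),
   (422, [g2, g4, g1, g1, g3, g2, g4, g2, g2, g3, g6, g5]),
   (500, [g1, g1, g4, g1, g2, g1, g2, g2, g4, g2, g6, g4, g3, g6, g5]),
   (617, [g3, g1, g3, g2, g1, g1, g2, g2, g3, g6, g2, g5, g4, g4, g3, g5, g6]),
   (78, [g3, g2, g3, g1, g4, g6, g2, g6, g3, g2, g4, g3, g3, g5]),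
   (541, [g2, g5, g1, g4, g1, g1, g1, g5, g2, g4, g2, g2, g6, g3, g6]),
   (294, [g2, g1, g1, g3, g4, g2, g2, g5, g6, g4, g3, g6]),
   (654, [g2, g2, g4, g1, g4, g2, g4, g3, g5]),
   (152, [g1, g4, g2, g2, g2, g1, g4, g2, g3, g4, g2, g4, g4, g4, g3, g3, g6]),
   (9, [g2, g4, g3, g2, g1, g3, g2, g4, g2, g2, g4, g4, g4, g5, g6]),
   (613, [g4, g1, g1, g3, g2, g4, g4, g3, g2, g3, g3]),
   (491, [g1, g2, g1, g1, g6, g2, g6, g3, g2, g4, g6, g3, g3, g3]),
   (287, [g4, g6, g1, g5, g1, g5, g4, g6, g2, g4, g2, g2, g5, g3, g3, g3]),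
   (108, [g4, g2, g3, g4, g3, g1, g2, g5, g2, g4, g2, g2, g5, g4, g4, g3, g5, g6, g5]),
   (673, [g3, g6, g1, g1, g1, g2, g2, g3, g4, g3, g2, g6, g4, g3, g6, g5]),
   (611, [g6, g5, g3, g2, g1, g2, g4, g2, g4, g3, g3]),
   (325, [g5, g1, g4, g3, g1, g2, g2, g3, g6, g2, g4, g4, g5, g6, g5]),
   (472, [g2, g1, g5, g2, g2, g1, g1, g3, g4, g2, g4, g2, g5, g4, g4, g3, g5, g6]),
   (208, [g3, g1, g3, g5, g1, g2, g2, g2, g4, g3, g2, g5, g3, g3, g3, g5]),
   (451, [g1, g4, g1, g3, g1, g4, g2, g2, g6, g3, g2, g4, g4, g4, g6]),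
   (674, [g5, g2, g6, g3, g2, g1, g6, g3, g2, g6, g2, g4, g4, g3]),
   (659, [g3, g1, g3, g4, g1, g1, g6, g2, g2, g6, g2, g2, g5, g6, g5, g3, g6, g5]),
   (618, [g1, g2, g1, g4, g6, g2, g6, g3, g2, g5, g4, g4, g3, g5, g6, g5]),
   (639, [g5, g3, g1, g3, g5, g1, g2, g6, g2, g2, g2, g4, g4, g4, g3, g3, g5]),
   (638, [g2, g3, g3, g2, g1, g2, g2, g6, g2, g4, g4, g5]),
   (194, [g3, g2, g1, g2, g1, g3, g2, g4, g2, g4, g4, g3, g3, g6, g5]),
   (374, [g3, g3, g1, g1, g1, g1, g3, g2, g6, g2, g2, g3, g4, g4]),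
   (534, [g5, g2, g1, g5, g1, g2, g4, g2, g2, g2, g3, g3, g5]),
   (646, [g2, g4, g2, g4, g1, g1, g6, g2, g6, g2, g4, g4, g3, g3, g5, g6, g5]),
   (655, [g3, g1, g3, g2, g3, g1, g2, g2, g3, g5, g3, g5, g6, g5]),
   (692, [g1, g6, g1, g2, g4, g1, g3, g2, g2, g4, g3, g2, g6, g4, g3, g5]),
   (492, [g4, g1, g1, g2, g1, g1, g3, g4, g2, g4, g2, g2, g4, g5, g6, g5]),
   (417, [g1, g6, g5, g3, g2, g1, g4, g4, g2, g6, g2, g2, g2, g5, g6, g3, g6, g5]),
   (636, [g2, g4, g3, g2, g1, g2, g2, g3, g6, g2, g4, g3, g6]),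
   (630, [g6, g1, g4, g1, g3, g2, g2, g6, g2, g6, g5, g3, g5]),
   (633, [g3, g5, g3, g1, g4, g4, g2, g2, g2, g4]),
   (677, [g1, g4, g1, g1, g2, g1, g1, g2, g2, g4, g4, g2, g2, g4, g6, g3, g6, g5]),
   (415, [g5, g2, g2, g1, g1, g4, g2, g3, g4, g2, g2, g4, g3, g6, g5]),
   (542, [g2, g4, g1, g3, g1, g2, g6, g2, g2, g2, g6, g4, g3, g6]),
   (369, [g2, g1, g5, g2, g2, g1, g1, g5, g2, g4, g2, g2]),
   (586, [g1, g5, g1, g2, g1, g1, g2, g2, g6, g3, g2, g4, g4, g3, g5]),
   (648, [g3, g1, g3, g2, g4, g1, g2, g2, g2, g4, g3, g2, g5, g6, g3, g5]),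
   (663, [g2, g1, g1, g2, g1, g1, g3, g5]),
   (547, [g1, g6, g1, g1, g4, g2, g3, g6, g2, g4, g4, g6, g5]),
   (466, [g1, g6, g2, g1, g2, g1, g3, g2, g6, g2, g2, g4, g3, g5, g6, g5]),
   (411, [g1, g4, g2, g1, g1, g3, g4, g2, g2, g3]),
   (658, [g2, g3, g1, g5, g3, g1, g4, g6, g2, g5, g3, g5]),
   (404, [g4, g1, g4, g2, g1, g1, g3, g2, g5, g6, g4, g3, g6, g5]),
   (118, [g1, g1, g5, g1, g4, g2, g4, g2, g6, g5, g3, g6, g5])]

/-- Part 32 of cert0. -/
noncomputable def cert0_32 : List (ℕ × List ℕ) :=
  [(185, [g1, g1, g1, g3, g4, g3, g2, g3, g3, g5]),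
   (623, [g3, g1, g2, g3, g1, g2, g5, g2, g4, g2, g4, g4, g5, g6, g5]),
   (260, [g4, g3, g1, g1, g2, g1, g6, g2, g4, g4, g3, g2, g4, g4, g6, g5]),
   (333, [g3, g1, g1, g1, g1, g4, g3, g2, g2, g6, g2, g5, g6, g5, g3, g5, g6, g5]),
   (684, [g2, g2, g1, g4, g1, g1, g1, g3, g4, g2, g4, g3, g3, g6, g5]),
   (442, [g6, g1, g3, g2, g1, g2, g2, g4, g2, g2, g2, g4, g6, g3, g5, g6]),
   (550, [g2, g1, g3, g4, g1, g3, g2, g4, g2, g2, g2, g4, g6, g3, g3, g3, g5]),
   (506, [g1, g1, g1, g3, g1, g1, g3, g2, g3, g4, g3, g2, g3, g5, g3, g5]),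
   (557, [g1, g1, g3, g2, g4, g2, g2, g2, g4, g4, g5]),
   (681, [g4, g6, g2, g4, g1, g3, g2, g3, g4, g3, g2, g6, g4, g3, g6, g5]),
   (670, [g2, g1, g2, g1, g1, g6, g2, g4, g2, g2, g4, g3, g4, g4, g5, g6]),
   (667, [g4, g1, g1, g3, g4, g2, g2, g2, g4, g4, g5]),
   (620, [g5, g4, g1, g4, g2, g1, g6, g2, g3, g5, g4, g4, g3, g6, g5]),
   (341, [g1, g6, g1, g1, g4, g2, g4, g4, g2, g2, g4, g6, g3, g3, g3, g6, g5]),
   (688, [g1, g4, g2, g2, g2, g1, g5, g2, g4, g2, g2, g6, g4, g3, g5, g6]),
   (278, [g1, g4, g1, g1, g1, g6, g3, g2, g6, g2, g3, g5, g3, g6, g5]),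
   (413, [g6, g2, g6, g3, g2, g1, g3, g4, g2, g4, g2, g2, g6, g3, g6, g5]),
   (209, [g5, g3, g2, g1, g4, g2, g6, g2, g6, g3, g5]),
   (371, [g2, g1, g2, g2, g1, g4, g4, g2, g3, g5, g4, g4, g3, g5]),
   (416, [g5, g4, g1, g1, g1, g1, g3, g2, g4, g4, g3, g2, g3, g5, g4, g4, g3, g6, g5]),
   (587, [g1, g4, g1, g4, g2, g1, g6, g2, g2, g4, g4, g2, g2, g5, g6, g5, g3, g5, g6, g5]),
   (545, [g1, g2, g2, g4, g1, g2, g5, g2, g4, g2, g2, g3, g5, g4, g4, g3, g6]),
   (686, [g1, g2, g1, g2, g3, g6, g2, g4, g4, g5, g6]),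
   (372, [g4, g3, g2, g2, g1, g1, g3, g2, g3, g6, g2, g6, g4, g3, g5, g6]),
   (660, [g1, g1, g4, g3, g1, g5, g2, g4, g2, g2, g5, g6, g5, g3, g5, g6, g5]),
   (509, [g2, g6, g3, g1, g1, g1, g1, g4, g2, g2, g2, g5, g6, g4, g3, g6, g5]),
   (123, [g3, g1, g2, g3, g1, g1, g2, g4, g4, g2, g2, g4, g3, g6]),
   (669, [g3, g4, g1, g2, g2, g2, g4, g2, g4, g6, g3, g3, g3, g6, g5]),
   (588, [g5, g3, g4, g1, g1, g2, g3, g6, g2, g4, g3, g5, g6, g5]),
   (518, [g2, g3, g1, g1, g4, g1, g3, g4, g2, g6, g2, g2, g2, g4, g4, g6]),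
   (650, [g2, g2, g1, g5, g1, g3, g6, g2, g6, g3, g5, g6, g5]),
   (0, [g3]),
   (5, []),
   (12, []),
   (19, []),
   (24, []),
   (30, []),
   (36, []),
   (43, []),
   (48, []),
   (52, []),
   (59, []),
   (65, []),
   (2, [g2, g5, g2, g2, g1, g1, g3, g4, g3, g2, g4, g6, g3, g3, g3, g5, g6, g5]),
   (71, [g3, g2, g3, g1, g4, g6, g2, g6, g3, g2, g4, g3, g3, g5]),
   (77, [g3, g1, g3, g2, g1, g1, g2, g4, g3, g2, g6, g3, g5, g6, g5]),
   (84, []),
   (88, []),
   (95, []),
   (94, [g1, g1, g1, g1, g1, g6, g2, g2, g6, g2, g5, g6, g5]),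
   (105, []),
   (111, []),
   (56, [g6, g1, g3, g2, g1, g3, g2, g6, g2, g5, g6, g3, g6, g5]),
   (22, [g1, g3, g2, g2, g3, g1, g2, g2, g6, g2, g4, g6, g3, g5, g6]),
   (23, [g1, g6, g3, g1, g1, g6, g5, g3, g5]),
   (92, [g4, g1, g1, g2, g1, g3, g2, g4, g4, g3, g2, g5, g3]),
   (134, []),
   (139, []),
   (142, []),
   (146, []),
   (149, []),
   (39, [g2, g6, g4, g1, g2, g1, g1, g5, g2, g4, g2, g6, g3, g6]),
   (158, []),
   (162, [])]

/-- Part 33 of cert0. -/
noncomputable def cert0_33 : List (ℕ × List ℕ) :=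
  [(167, []),
   (83, [g1, g3, g4, g1, g1, g5, g2, g4, g2, g2, g4, g4, g4, g3, g3, g5, g6]),
   (174, []),
   (32, [g2, g1, g3, g2, g1, g6, g2, g4, g4, g2, g2, g6, g3, g3, g3, g5]),
   (8, [g2, g1, g3, g2, g1, g2, g4, g4, g2, g2, g6, g3, g3, g3, g5]),
   (184, []),
   (1, [g2, g1, g3, g2, g1, g6, g2, g4, g4, g2, g2, g6, g3, g3, g3, g5]),
   (191, []),
   (196, []),
   (130, []),
   (155, []),
   (202, [g2, g1, g3, g2, g1, g6, g2, g4, g4, g2, g2, g6, g3, g3, g3, g5]),
   (208, []),
   (116, [g2, g3, g1, g2, g1, g4, g3, g3, g5]),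
   (215, []),
   (156, []),
   (178, []),
   (226, []),
   (231, []),
   (237, []),
   (241, []),
   (247, []),
   (250, []),
   (253, []),
   (57, [g1, g6, g1, g1, g2, g6, g2, g4, g2, g2, g4, g5, g6]),
   (192, [g3, g1, g4, g2, g1, g2, g4, g6, g3, g3, g3, g6]),
   (260, []),
   (264, []),
   (268, []),
   (199, [g2, g1, g2, g4, g1, g3, g2, g3, g4, g3, g2, g5, g3, g3, g3]),
   (276, []),
   (281, []),
   (282, []),
   (76, [g4, g2, g4, g2, g1, g1, g2, g2, g6, g2, g2, g5, g3, g3, g3, g5, g6, g5]),
   (286, []),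
   (67, [g1, g2, g2, g1, g1, g4, g2, g2, g2, g6, g2, g4, g6]),
   (291, []),
   (294, []),
   (13, [g2, g1, g2, g1, g1, g4, g3, g2, g4, g4]),
   (299, [g2, g1, g2, g1, g2, g1, g2, g6, g3, g2, g4, g3, g3, g5]),
   (78, [g2, g1, g2, g1, g2, g1, g2, g6, g3, g2, g4, g3, g3, g5]),
   (303, []),
   (216, [g2, g6, g2, g1, g2, g1, g4, g2, g3, g6, g2, g4, g6, g3, g3, g3, g5, g6]),
   (309, []),
   (14, [g2, g1, g1, g3, g4, g2, g2, g5, g6, g4, g3, g6]),
   (73, [g6, g1, g3, g2, g1, g4, g4, g2, g6, g2, g2, g2, g5, g6, g3, g5, g6, g5]),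
   (313, []),
   (80, [g1, g2, g6, g1, g4, g1, g6, g3, g2, g3, g5, g4, g4, g3, g5]),
   (9, [g3, g2, g1, g2, g1, g2, g4, g4, g4, g3, g3, g6]),
   (322, []),
   (34, [g2, g1, g6, g1, g1, g2, g2, g2, g4, g3, g2, g5, g3, g4, g4, g5]),
   (15, [g2, g5, g2, g2, g1, g1, g3, g4, g3, g2, g4, g6, g3, g3, g3, g5, g6, g5]),
   (85, [g1, g2, g2, g4, g1, g1, g6, g2, g3, g6, g2, g2, g4, g4, g5]),
   (86, [g1, g3, g2, g2, g3, g1, g3, g2, g2, g4, g2, g4, g3, g3, g6]),
   (336, []),
   (193, [g1, g4, g1, g1, g1, g1, g4, g2, g2, g2, g4, g4, g3, g5]),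
   (74, [g2, g1, g2, g3, g1, g1, g2, g5, g2, g4, g2, g4, g4, g6]),
   (172, [g5, g3, g2, g1, g3, g2, g6, g2, g2, g4, g3, g4, g4, g5]),
   (258, [g2, g5, g2, g1, g1, g5, g2, g4, g2, g5, g6, g4, g3, g6, g5]),
   (343, []),
   (239, [g2, g6, g3, g1, g1, g3, g4, g2, g3, g6, g2, g3, g5, g3, g5]),
   (351, []),
   (17, [g2, g4, g2, g4, g1, g1, g3, g2, g6, g2, g5, g6]),
   (357, [])]

/-- Part 34 of cert0. -/
noncomputable def cert0_34 : List (ℕ × List ℕ) :=
  [(211, [g1, g1, g1, g4, g1, g3, g5, g2, g4, g2, g4, g4, g4, g5]),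
   (98, [g3, g1, g2, g3, g1, g1, g3, g2, g4, g2, g4, g6, g3, g3, g3]),
   (363, []),
   (147, [g3, g1, g4, g2, g1, g4, g4, g2, g2, g4, g2, g4, g5, g6]),
   (79, [g6, g1, g5, g3, g2, g1, g2, g2, g4, g3, g2, g4, g6]),
   (370, []),
   (375, []),
   (212, [g3, g1, g6, g3, g2, g1, g6, g2, g3, g4, g2, g4, g4, g5, g6, g5]),
   (148, [g3, g2, g2, g3, g1, g6, g2, g3, g6, g2, g2, g4, g4, g5, g6]),
   (104, [g2, g2, g2, g1, g1, g3, g4, g3, g2, g3, g4, g4, g4, g6]),
   (384, []),
   (387, []),
   (348, [g4, g6, g2, g4, g1, g2, g2, g4, g2, g2, g2, g5, g6, g5, g3]),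
   (393, []),
   (378, []),
   (398, []),
   (401, []),
   (113, [g2, g3, g1, g2, g1, g4, g6, g3]),
   (406, []),
   (352, [g2, g3, g1, g5, g3, g1, g6, g2, g2, g5, g4, g4, g3]),
   (377, [g2, g2, g2, g1, g1, g3, g4, g3, g2, g3, g4, g4, g4, g6]),
   (413, []),
   (164, [g2, g4, g2, g1, g1, g4, g6, g2, g2, g5, g3, g3, g3]),
   (127, [g1, g4, g1, g4, g2, g1, g3, g6, g2, g4, g2, g2, g5, g6, g5, g3, g5, g6]),
   (218, [g1, g3, g4, g1, g1, g3, g2, g4, g4, g3, g2, g4]),
   (126, [g6, g3, g2, g2, g1, g1, g2, g2, g6, g2, g3, g4, g4, g6]),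
   (424, []),
   (317, [g2, g6, g2, g1, g1, g4, g2, g2, g4, g2, g4, g4]),
   (26, [g1, g4, g2, g2, g1, g4, g3, g2, g6, g2, g2, g4, g3, g5, g6]),
   (122, [g1, g5, g1, g2, g4, g2, g2, g2, g4, g4, g4]),
   (120, [g1, g6, g1, g1, g2, g2, g2, g6, g3, g2, g6, g4, g3, g5, g6, g5]),
   (353, [g6, g2, g3, g1, g1, g2, g5, g2, g4, g2, g3, g6, g5, g3, g5, g6]),
   (7, []),
   (437, []),
   (438, []),
   (440, []),
   (443, []),
   (344, [g4, g1, g1, g2, g1, g3, g2, g4, g4, g3, g2, g5, g3]),
   (27, [g3, g4, g2, g4, g2, g4, g4, g3, g5, g6, g5]),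
   (312, [g3, g1, g1, g1, g1, g2, g2, g3, g4, g2, g2, g4, g3, g4, g4, g6, g5]),
   (42, [g3, g4, g2, g4, g2, g4, g4, g3, g5, g6, g5]),
   (108, [g2, g6, g1, g1, g1, g4, g4, g2, g2, g2, g3, g6, g5, g3, g5]),
   (279, [g3, g1, g2, g1, g1, g2, g3, g4, g3, g2, g5, g6, g4, g3, g6]),
   (107, [g4, g3, g1, g3, g1, g1, g2, g2, g3, g6, g2, g5, g3, g5, g6]),
   (456, []),
   (175, [g2, g5, g4, g1, g1, g6, g2, g6, g3, g2, g4, g4, g6]),
   (452, [g2, g6, g4, g1, g2, g1, g1, g4, g2, g2, g2, g4, g2, g5]),
   (463, []),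
   (464, []),
   (465, []),
   (467, []),
   (3, [g2, g4, g2, g4, g1, g3, g4, g2, g4, g2, g2, g3, g4, g4, g6]),
   (195, [g4, g6, g3, g1, g3, g1, g2, g4, g2, g5, g6, g4, g3, g5, g6]),
   (335, [g2, g4, g1, g1, g4, g2, g5, g2, g4, g2, g4, g5, g6, g5]),
   (431, [g2, g2, g1, g1, g1, g1, g3, g4, g2, g2, g2, g3, g6, g5]),
   (472, []),
   (330, [g2, g6, g2, g1, g2, g1, g3, g2, g3, g4, g2, g5, g3, g3, g3, g5]),
   (271, [g3, g1, g1, g1, g1, g2, g4, g4, g2, g2, g2, g4, g6, g3, g3, g3, g5, g6, g5]),
   (129, []),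
   (37, [g2, g1, g3, g2, g1, g2, g4, g4, g2, g2, g6, g3, g3, g3, g5]),
   (479, []),
   (187, [g2, g6, g4, g1, g2, g1, g1, g5, g2, g4, g2, g6, g3, g6]),
   (49, [g2, g1, g3, g2, g1, g6, g2, g4, g4, g2, g2, g6, g3, g3, g3, g5]),
   (483, [])]

/-- Part 35 of cert0. -/
noncomputable def cert0_35 : List (ℕ × List ℕ) :=
  [(217, [g6, g1, g1, g4, g2, g2, g6, g3, g2, g4, g3]),
   (6, [g2, g6, g4, g1, g2, g1, g1, g5, g2, g4, g2, g6, g3, g6]),
   (481, [g2, g1, g3, g2, g1, g6, g2, g4, g4, g2, g2, g6, g3, g3, g3, g5]),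
   (455, [g2, g2, g4, g1, g1, g3, g2, g6, g2, g2, g5, g6, g3, g6, g5]),
   (47, [g1, g2, g1, g1, g1, g3, g4, g2, g4, g2, g4]),
   (346, [g6, g4, g1, g5, g1, g4, g2, g6, g3, g2, g5, g6, g5, g3, g5, g6, g5]),
   (493, []),
   (349, [g2, g1, g1, g4, g4, g2, g3, g4, g4, g5, g6, g5]),
   (421, [g2, g3, g3, g2, g1, g3, g6, g2, g2, g4, g3, g3, g5, g6]),
   (171, [g1, g3, g2, g2, g1, g4, g2, g6, g3, g2, g4, g4, g4]),
   (170, [g2, g4, g3, g1, g1, g1, g4, g2, g4, g2, g5, g6, g3, g5, g6]),
   (301, [g1, g1, g6, g1, g1, g5, g2, g4, g2, g6, g3, g6, g5]),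
   (173, [g1, g4, g2, g2, g1, g2, g2, g3, g4, g2, g2, g5, g4, g4, g3, g6, g5]),
   (154, [g2, g6, g4, g1, g2, g1, g1, g5, g2, g4, g2, g6, g3, g6]),
   (135, [g2, g2, g3, g2, g1, g1, g2, g2, g3, g4, g2, g2, g4, g4, g4, g3, g3]),
   (503, []),
   (506, []),
   (220, [g2, g1, g3, g2, g1, g6, g2, g4, g4, g2, g2, g6, g3, g3, g3, g5]),
   (179, [g1, g2, g1, g4, g3, g1, g3, g2, g3, g6, g5, g3, g5, g6]),
   (512, []),
   (181, [g3, g4, g1, g1, g1, g1, g2, g4, g2, g4, g4, g4, g5]),
   (138, [g4, g1, g5, g6, g1, g1, g2, g3, g5, g6, g5]),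
   (259, [g3, g1, g5, g2, g1, g1, g4, g2, g2, g4, g4, g2, g2, g3, g3, g6]),
   (163, [g2, g1, g3, g2, g1, g6, g2, g4, g4, g2, g2, g6, g3, g3, g3, g5]),
   (520, []),
   (249, [g1, g5, g1, g2, g1, g1, g4, g2, g2, g6, g3, g2, g3, g3, g5]),
   (517, []),
   (289, [g1, g5, g6, g1, g1, g2, g2, g4, g4, g2, g2, g4, g4, g4, g6]),
   (457, [g5, g2, g1, g1, g4, g1, g3, g2, g3, g4, g2, g2, g4, g6, g3, g5, g6]),
   (58, [g4, g2, g1, g1, g4, g2, g2, g2, g6, g2, g6, g3, g3, g3]),
   (91, [g6, g1, g5, g1, g3, g4, g2, g5, g6, g4, g3, g6, g5]),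
   (530, []),
   (470, [g4, g1, g3, g4, g2, g6, g2, g2, g2, g5, g6, g3, g5]),
   (534, []),
   (500, [g2, g4, g2, g4, g1, g2, g6, g2, g2, g6, g2, g4, g6, g3, g3, g3, g5]),
   (128, [g1, g1, g1, g2, g4, g4, g2, g2, g2, g3, g4, g4, g4, g6, g5]),
   (323, [g4, g1, g5, g1, g2, g3, g6, g2, g4, g4, g4, g3, g3, g5, g6, g5]),
   (540, []),
   (62, [g2, g5, g1, g2, g1, g2, g2, g3, g6, g2, g5, g6, g5, g3]),
   (75, [g2, g3, g1, g1, g1, g2, g4, g2, g4, g4, g2, g2, g4, g4, g3, g6]),
   (516, [g1, g1, g5, g1, g4, g2, g2, g4, g4, g4, g6, g5]),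
   (219, []),
   (90, [g1, g2, g2, g1, g2, g6, g2, g2, g2, g4, g3, g4, g4, g6, g5]),
   (362, [g3, g1, g2, g4, g1, g1, g4, g2, g3, g4, g2, g5, g6, g5, g3, g6, g5]),
   (548, []),
   (550, []),
   (115, [g6, g1, g1, g2, g6, g2, g2, g2, g6, g4, g3, g5]),
   (555, []),
   (551, [g3, g2, g4, g1, g4, g4, g2, g2, g4, g2, g3, g5, g4, g4, g3]),
   (102, [g6, g2, g3, g1, g1, g4, g2, g6, g2, g2, g2, g4, g4, g4, g5]),
   (97, [g5, g1, g5, g1, g4, g4, g2, g2, g4, g4, g4]),
   (368, [g5, g1, g2, g1, g4, g6, g2, g4, g2, g2, g3, g6, g5]),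
   (280, [g4, g1, g1, g1, g5, g1, g6, g3, g2, g4, g6, g3, g3, g3]),
   (18, [g2, g3, g1, g2, g1, g4, g3, g3, g5]),
   (514, [g4, g3, g1, g3, g1, g1, g6, g2, g2, g2, g4, g3, g4, g4, g6]),
   (223, [g4, g2, g6, g2, g2, g2, g4, g4, g6]),
   (263, [g2, g5, g1, g4, g1, g1, g1, g4, g2, g2, g2, g4, g2, g3, g6, g5, g3, g6]),
   (121, [g3, g2, g4, g2, g1, g1, g1, g4, g2, g2, g6, g3, g2, g5, g6, g3, g6]),
   (435, []),
   (159, [g2, g1, g3, g2, g1, g6, g2, g4, g4, g2, g2, g6, g3, g3, g3, g5]),
   (82, [g2, g1, g1, g2, g1, g4, g2, g3, g4, g2, g4, g6, g5]),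
   (222, [g3, g1, g3, g2, g1, g1, g4, g2, g4, g2, g2, g6, g3, g5, g3]),
   (200, [g3, g4, g2, g2, g2, g1, g1, g4, g4, g2, g2, g6, g4, g3, g6]),
   (242, [g4, g1, g1, g1, g5, g1, g4, g4, g2, g4, g2, g2, g5, g6, g3, g5, g6, g5])]

/-- Part 36 of cert0. -/
noncomputable def cert0_36 : List (ℕ × List ℕ) :=
  [(229, [g2, g4, g1, g2, g1, g2, g2, g6, g2, g2, g5, g4, g4, g3, g6, g5]),
   (70, [g4, g1, g1, g1, g3, g4, g2, g4, g4, g2, g2, g5, g6, g4, g3, g6]),
   (569, []),
   (397, [g2, g3, g1, g2, g1, g3, g2, g5, g3, g4, g4]),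
   (93, [g3, g2, g3, g1, g1, g2, g4, g2, g2, g2, g5, g6, g4, g3, g6, g5]),
   (243, [g3, g6, g2, g2, g5]),
   (51, [g4, g6, g3, g3, g3, g5, g6, g5]),
   (232, [g3, g2, g4, g4, g3, g2, g4, g4, g4, g5, g6]),
   (233, [g2, g2, g2, g5, g6, g4, g3, g6, g5]),
   (234, [g4, g4, g2, g5, g4, g4, g3, g5]),
   (189, [g2, g4, g2, g4, g1, g1, g4, g2, g2, g6, g3, g2, g4, g4, g4, g3, g3, g5, g6]),
   (451, [g4, g4, g3, g1, g1, g1, g4, g4, g2, g5, g3, g4, g4, g5, g6, g5]),
   (81, [g3, g6, g1, g1, g2, g2, g3, g4, g3, g2, g3, g4, g4, g4, g5, g6]),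
   (538, [g3, g2, g4, g1, g4, g2, g2, g6, g3, g2, g6, g4, g3, g5]),
   (225, [g2, g4, g1, g2, g1, g2, g2, g3, g4, g2, g4, g4, g4, g3, g3, g5, g6]),
   (53, [g3, g4, g3, g2, g4, g3, g4, g4]),
   (256, [g6, g3, g1, g3, g1, g3, g6, g2, g2, g6, g3, g6, g5]),
   (580, []),
   (331, [g5, g1, g4, g1, g1, g1, g4, g2, g2, g2, g6, g2, g3, g3, g3, g6, g5]),
   (133, [g2, g4, g2, g1, g3, g2, g3, g5, g6]),
   (361, [g1, g4, g2, g2, g1, g2, g3, g6, g2, g3, g3, g3, g5, g6]),
   (246, [g2, g2, g2, g5, g6, g4, g3, g6, g5]),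
   (267, [g2, g6, g1, g4, g1, g6, g4, g2, g4, g2, g2, g6, g3, g5]),
   (404, [g2, g1, g2, g3, g1, g1, g6, g4, g2, g4, g2, g2, g6, g3, g5, g3, g5, g6]),
   (213, [g1, g2, g1, g3, g2, g1, g6, g2, g4, g4, g3, g2, g4, g6, g3, g6]),
   (577, []),
   (252, [g5, g6, g5, g3, g5]),
   (386, [g1, g2, g2, g4, g1, g1, g6, g2, g2, g4, g3, g2, g4, g4, g5, g6]),
   (350, [g4, g1, g5, g1, g5, g1, g4, g2, g4, g2, g2, g6, g3, g3, g3, g6]),
   (574, [g1, g1, g2, g2, g1, g1, g2, g6, g2, g2, g4]),
   (293, [g4, g1, g1, g6, g1, g1, g1, g3, g2, g5, g3, g3, g3, g5]),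
   (240, [g4, g2, g1, g4, g3, g1, g4, g2, g4, g2, g2, g4, g3, g3, g6, g5]),
   (567, [g3, g6, g1, g2, g4, g1, g3, g2, g2, g6, g2, g4, g4, g5]),
   (40, [g6, g2, g3, g1, g1, g6, g2, g4, g2, g2, g4, g4, g3, g6, g5]),
   (151, [g1, g1, g3, g1, g1, g1, g3, g4, g2, g4, g2, g2, g3, g4, g4, g4, g6]),
   (593, [g1, g2, g1, g2, g1, g3, g6, g2, g4, g4, g4, g3, g3, g5]),
   (305, [g1, g4, g1, g1, g1, g3, g6, g2, g4, g2, g2, g3, g5, g3, g5, g6]),
   (201, [g6, g3, g1, g3, g1, g4, g4, g2, g6, g2, g2, g2, g4, g4, g3, g3, g5, g6]),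
   (427, [g6, g4, g1, g2, g1, g1, g3, g5, g2, g4, g2, g3, g3]),
   (563, [g1, g3, g4, g1, g6, g5, g2, g4, g2, g2, g4, g4, g3, g3, g6, g5]),
   (445, [g3, g4, g1, g1, g1, g6, g2, g2, g6, g2, g4, g4, g4, g5, g6]),
   (599, []),
   (360, [g3, g6, g1, g1, g1, g2, g2, g6, g2, g2, g3, g3, g3, g6]),
   (144, [g1, g2, g1, g4, g1, g2, g2, g3, g4, g2, g4, g6, g5]),
   (603, []),
   (224, [g1, g4, g1, g2, g1, g4, g2, g4, g4, g3, g2, g4, g4, g5]),
   (35, [g6, g4, g1, g2, g1, g1, g2, g2, g2, g6, g3, g2, g4, g4, g4]),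
   (272, [g3, g1, g2, g1, g4, g1, g2, g4, g2, g4, g4, g3, g6, g5]),
   (533, [g1, g4, g2, g1, g2, g2, g4, g4, g3, g2, g4, g4, g4, g6]),
   (484, [g6, g4, g1, g5, g1, g2, g2, g4, g4, g3, g5, g6]),
   (205, [g1, g3, g4, g1, g1, g3, g5, g2, g4, g2, g6, g3, g5, g3]),
   (576, [g1, g3, g2, g4, g1, g2, g6, g2, g4, g2, g2, g3, g4, g4, g5, g6, g5]),
   (402, [g1, g4, g2, g6, g1, g1, g1, g6, g2, g6, g3, g2, g6, g3, g5, g3, g5, g6]),
   (278, [g3, g1, g1, g2, g1, g2, g2, g4, g2, g4, g3, g5, g6, g5]),
   (125, [g6, g5, g3, g2, g1, g4, g4, g2, g4, g2, g5, g6, g4, g3, g5]),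
   (186, [g4, g1, g1, g1, g2, g4, g3, g2, g5, g6, g4, g3, g6]),
   (515, [g3, g2, g1, g3, g2, g1, g1, g3, g5, g2, g4, g2, g4, g4, g3, g3, g6]),
   (310, [g4, g3, g1, g4, g1, g1, g3, g2, g3, g4, g2, g2, g3, g3, g3, g6, g5]),
   (110, [g3, g5, g3, g2, g2, g1, g6, g2, g3, g4, g2, g3, g3, g3, g5, g6]),
   (394, [g1, g6, g1, g1, g2, g2, g2, g6, g2, g4, g3, g3, g6, g5]),
   (400, [g3, g6, g1, g3, g5, g1, g6, g5, g2, g4, g2, g2, g3, g5, g4, g4, g3, g6, g5]),
   (298, [g2, g1, g2, g1, g2, g1, g2, g6, g3, g2, g4, g3, g3, g5]),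
   (324, [g1, g2, g2, g1, g1, g3, g2, g3, g6, g2, g5, g3, g4, g4, g5, g6]),
   (327, [g1, g3, g1, g5, g1, g2, g3, g4, g3, g2, g4, g5, g6, g5])]

/-- Part 37 of cert0. -/
noncomputable def cert0_37 : List (ℕ × List ℕ) :=
  [(188, [g5, g2, g1, g1, g4, g2, g2, g2, g5]),
   (572, [g1, g4, g2, g4, g1, g2, g4, g2, g4, g2, g2, g4, g3, g3, g6]),
   (69, [g5, g1, g3, g1, g1, g1, g2, g6, g2, g2, g3, g3]),
   (498, [g5, g1, g1, g1, g5, g1, g5, g4, g6, g2, g4, g2, g2, g3, g3, g3, g5]),
   (255, [g1, g2, g4, g1, g1, g2, g3, g4, g3, g2, g5, g3, g5]),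
   (50, [g1, g4, g2, g1, g1, g6, g2, g2, g4, g4, g2, g2, g3, g6, g5, g3, g5, g6]),
   (592, [g3, g1, g3, g2, g3, g1, g2, g5, g2, g4, g2, g2, g4, g3, g5, g6, g5]),
   (66, [g1, g1, g3, g2, g1, g3, g4, g2, g4, g2, g3, g4, g4, g4, g5]),
   (613, []),
   (68, [g2, g4, g2, g1, g1, g1, g1, g3, g2, g3, g6, g2, g3, g4, g4]),
   (72, [g6, g1, g3, g2, g1, g4, g4, g2, g6, g2, g2, g2, g5, g6, g3, g5, g6, g5]),
   (355, [g2, g5, g2, g1, g1, g2, g3, g6, g2, g2, g5, g3, g3, g3, g5, g6]),
   (203, [g1, g1, g1, g6, g1, g1, g5, g4, g6, g2, g4, g2, g2, g5, g3, g4, g4]),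
   (617, []),
   (462, [g4, g2, g3, g4, g3, g1, g2, g6, g2, g3, g6, g2, g2, g4, g4]),
   (277, [g1, g1, g6, g1, g1, g4, g2, g2, g2, g4, g2, g4, g5, g6, g5]),
   (461, [g6, g1, g5, g3, g2, g1, g2, g4, g2, g4, g4, g2, g2, g4, g4, g3, g3]),
   (235, [g1, g1, g5, g2, g1, g1, g2, g4, g3, g2, g3, g4, g4, g4, g5, g6, g5]),
   (444, [g1, g4, g1, g4, g2, g2, g6, g3, g2, g4, g6, g3, g3, g3, g6, g5]),
   (619, []),
   (296, [g2, g1, g1, g3, g4, g2, g2, g5, g6, g4, g3, g6]),
   (11, [g1, g2, g1, g4, g3, g1, g4, g2, g2, g5, g6, g3, g6]),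
   (536, [g3, g2, g2, g1, g1, g4, g2, g6, g3, g2, g3, g3, g5, g6, g5]),
   (176, [g1, g2, g1, g1, g4, g2, g2, g4, g2, g5, g3, g4, g4, g5, g6, g5]),
   (562, [g2, g5, g1, g4, g2, g1, g3, g2, g6, g2, g2, g4, g4, g3, g3, g5]),
   (579, [g6, g2, g2, g2, g1, g4, g2, g2, g6, g3, g2, g5, g4, g4, g3, g5, g6]),
   (537, [g3, g6, g2, g4, g1, g4, g4, g2, g6, g2, g2, g2, g3, g6, g5, g3, g6, g5]),
   (564, [g2, g6, g3, g1, g1, g1, g1, g3, g2, g6, g2, g2, g2, g5, g6, g5, g3, g5, g6]),
   (124, [g2, g2, g1, g1, g4, g4, g2, g2, g4, g2, g4, g4, g4, g6]),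
   (290, [g6, g1, g3, g2, g1, g6, g2, g2, g2, g5, g3, g5, g6]),
   (119, [g3, g6, g1, g5, g1, g6, g2, g2, g4, g4, g2, g2, g3, g3, g5]),
   (320, [g2, g4, g1, g3, g1, g5, g2, g4, g2, g4, g6, g3, g3, g3, g5, g6, g5]),
   (625, []),
   (396, [g2, g1, g1, g4, g2, g6, g3, g2, g6, g3, g6, g5]),
   (433, [g6, g2, g4, g1, g4, g3, g2, g5, g6, g4, g3, g5]),
   (132, [g1, g2, g1, g5, g1, g6, g2, g4, g4, g3, g2, g3, g5]),
   (629, []),
   (403, [g4, g6, g1, g1, g4, g4, g4, g6, g5]),
   (288, [g1, g2, g6, g3, g2, g1, g4, g2, g2, g4, g4]),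
   (328, [g2, g6, g2, g2, g4, g4, g3, g3, g5, g6]),
   (262, [g3, g5, g1, g6, g2, g4, g4, g3, g2, g4, g4, g3, g5]),
   (153, [g2, g1, g2, g6, g2, g2, g2, g3]),
   (418, [g6, g2, g1, g5, g1, g3, g6, g2, g3, g6, g5, g3, g5]),
   (347, [g3, g1, g1, g2, g1, g2, g2, g4, g4, g2, g2, g5, g3, g6, g5]),
   (499, [g6, g5, g1, g2, g1, g1, g6, g3, g2, g2, g6, g3, g2, g5, g6, g4, g3, g6, g5]),
   (145, [g2, g6, g2, g2, g2, g1, g3, g2, g4, g2, g4, g4, g4, g6, g5]),
   (340, [g4, g1, g1, g1, g3, g5, g2, g4, g2, g5, g6, g4, g3]),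
   (87, [g1, g5, g6, g1, g1, g6, g2, g4, g4, g2, g2, g5, g6, g4, g3, g5, g6, g5]),
   (638, []),
   (410, [g2, g1, g3, g2, g2, g1, g2, g4, g4, g2, g2, g2, g6, g5, g3, g5, g6, g5]),
   (150, [g4, g2, g2, g3, g1, g4, g2, g6, g3, g2, g4, g3, g3, g5, g6]),
   (339, [g4, g2, g6, g1, g1, g1, g6, g2, g6, g3, g2, g6, g3, g3, g3, g5, g6]),
   (337, [g1, g6, g3, g1, g1, g2, g2, g6, g2, g4, g3, g4, g4, g5, g6]),
   (261, [g2, g1, g1, g1, g1, g1, g2, g2, g4, g4, g3, g2, g3, g4, g4, g4, g5, g6, g5]),
   (4, [g6, g1, g2, g4, g1, g2, g6, g2, g4, g2, g2, g6, g5, g3]),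
   (448, [g2, g1, g4, g3, g1, g2, g2, g3, g4, g3, g2, g5, g3, g6, g5]),
   (60, [g5, g6, g2, g1, g5, g1, g4, g2, g2, g2, g4, g2, g4, g3, g6]),
   (325, [g3, g1, g2, g4, g1, g1, g6, g2, g3, g4, g2, g3, g3, g5, g6, g5]),
   (332, [g5, g6, g3, g1, g3, g1, g2, g2, g2, g6, g3, g2, g4, g3, g3, g6]),
   (549, [g3, g2, g1, g2, g3, g4, g2, g2, g2, g5, g6, g5, g3, g5, g6]),
   (257, [g6, g1, g4, g3, g1, g3, g4, g3, g2, g6, g5]),
   (21, [g5, g1, g3, g4, g1, g1, g4, g3, g2, g5, g6, g3, g6, g5]),
   (214, [g5, g3, g1, g1, g1, g2, g3, g4, g2, g2, g2, g4, g5, g6]),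
   (417, [g1, g4, g4, g2, g2, g1, g6, g2, g2, g6, g2, g2, g3, g5, g4, g4, g3])]

/-- Part 38 of cert0. -/
noncomputable def cert0_38 : List (ℕ × List ℕ) :=
  [(41, [g1, g1, g4, g1, g2, g1, g3, g2, g6, g2, g4, g4, g3, g6, g5]),
   (364, [g3, g1, g3, g1, g1, g1, g6, g5, g3]),
   (634, [g1, g2, g1, g1, g1, g3, g4, g2, g4, g2, g3, g4, g4, g5, g6]),
   (28, [g5, g1, g1, g2, g1, g2, g4, g2, g4, g4, g2, g2, g4, g3, g5, g6, g5]),
   (96, [g2, g4, g2, g4, g1, g1, g3, g2, g6, g2, g5, g6]),
   (143, [g1, g1, g2, g2, g1, g1, g4, g4, g2, g6, g2, g2, g2, g6, g3, g5, g6]),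
   (502, [g2, g5, g2, g4, g2, g2, g3, g3, g3, g5]),
   (54, [g1, g5, g6, g1, g1, g4, g2, g2, g2, g6, g2, g5, g3, g3, g3, g5, g6]),
   (450, [g2, g1, g2, g2, g1, g2, g4, g2, g2, g2, g6, g4, g3, g5, g6]),
   (204, [g6, g3, g2, g3, g1, g6, g2, g4, g4, g3, g2, g4, g5, g6, g5]),
   (99, [g2, g3, g1, g2, g1, g3, g5, g4, g4, g3, g5, g6]),
   (354, [g2, g1, g2, g1, g2, g1, g3, g2, g6, g2, g2, g3, g4, g4, g4]),
   (526, [g5, g3, g1, g3, g5, g1, g6, g2, g2, g3, g4, g2, g5, g6, g5, g3, g6]),
   (367, [g2, g1, g4, g2, g2, g1, g2, g3, g4, g2, g2, g5, g6, g4, g3, g5]),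
   (308, [g2, g5, g1, g4, g2, g1, g3, g2, g2, g6, g2, g4, g4, g3]),
   (106, [g2, g5, g2, g2, g1, g1, g3, g4, g2, g6, g2, g2, g2, g4, g3, g5, g6]),
   (651, []),
   (405, [g4, g1, g4, g1, g3, g1, g3, g2, g2, g4, g3, g2, g4, g4, g5, g6, g5]),
   (560, [g1, g2, g5, g2, g1, g1, g4, g2, g2, g4, g3, g4, g4, g6, g5]),
   (595, [g1, g2, g3, g1, g3, g2, g4, g2, g6, g3, g5, g6, g5]),
   (655, []),
   (588, [g4, g2, g3, g4, g1, g1, g2, g3, g4, g2, g2, g2, g6, g3, g3, g3, g6]),
   (103, [g2, g1, g1, g4, g1, g4, g4, g2, g5, g6, g4, g3, g5, g6]),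
   (414, [g3, g2, g4, g2, g1, g1, g1, g4, g6, g2, g3, g3, g3, g5, g6, g5]),
   (511, [g5, g1, g4, g1, g1, g4, g2, g3, g3, g3, g6]),
   (581, [g4, g2, g4, g1, g1, g2, g2, g2, g4, g4, g4, g3, g3, g5]),
   (412, [g3, g2, g1, g6, g1, g1, g6, g2, g4, g2, g2, g4, g4, g4, g6]),
   (112, []),
   (365, [g1, g5, g1, g4, g2, g2, g2, g4, g2, g6, g4, g3, g6]),
   (527, [g2, g4, g1, g1, g3, g2, g2, g4, g3, g2, g6, g3, g3, g3]),
   (285, [g4, g2, g1, g1, g1, g3, g6, g2, g2, g4, g4, g5]),
   (469, [g3, g2, g2, g3, g1, g6, g2, g3, g6, g2, g2, g4, g4, g5, g6]),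
   (610, [g1, g4, g1, g2, g4, g4, g3, g2, g4, g4, g4, g6, g5]),
   (602, [g4, g1, g4, g3, g1, g3, g2, g2, g4, g3, g2, g4, g5, g6, g5]),
   (182, [g2, g2, g1, g2, g1, g6, g2, g3, g5, g3, g6]),
   (265, [g1, g3, g1, g5, g1, g4, g6, g2, g6, g3]),
   (510, [g2, g1, g4, g2, g2, g1, g4, g6, g2, g4, g5, g6, g5]),
   (55, [g1, g3, g4, g3, g2, g1, g3, g2, g3, g4, g3, g2, g6, g3, g6, g5]),
   (591, [g1, g1, g1, g5, g1, g3, g4, g2, g2, g2, g6, g5]),
   (284, [g5, g1, g2, g1, g1, g6, g2, g2, g3, g4, g2, g5, g6, g5, g3, g6, g5]),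
   (609, [g1, g3, g2, g2, g1, g1, g3, g4, g2, g4, g6, g3, g3, g3, g6, g5]),
   (589, [g1, g2, g2, g4, g1, g2, g4, g2, g6, g2, g2, g2, g4, g4, g4, g3, g3, g6]),
   (615, [g1, g3, g5, g1, g3, g5, g2, g4, g2, g5, g6, g3, g5, g6]),
   (221, [g1, g1, g2, g2, g3, g1, g4, g2, g2, g2, g4, g2, g3, g6, g5, g3, g6, g5]),
   (228, [g4, g4, g2, g3, g5, g4, g4, g3, g5, g6]),
   (399, [g6, g2, g4, g2, g1, g4, g4, g2, g4, g2, g2, g5, g6, g5, g3]),
   (380, [g5, g3, g1, g2, g4, g4, g2, g2, g2, g5, g3, g6]),
   (568, [g4, g2, g1, g4, g1, g2, g6, g2, g6]),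
   (570, [g4, g4, g2, g4, g6, g3]),
   (624, [g2, g4, g1, g4, g1, g3, g4, g2, g2, g4, g3, g4, g4, g5, g6]),
   (326, [g3, g2, g3, g1, g1, g4, g4, g2, g5, g3, g6, g5]),
   (248, [g5, g2, g3, g1, g1, g3, g2, g3, g4, g2, g2, g5, g4, g4, g3]),
   (210, [g1, g1, g2, g2, g1, g1, g4, g6, g2, g4, g2, g2, g5, g6, g3, g5, g6]),
   (670, []),
   (639, [g4, g3, g2, g3, g1, g1, g1, g6, g3, g2, g6, g2, g6, g3, g3, g3, g6, g5]),
   (672, []),
   (100, [g2, g4, g2, g4, g1, g1, g3, g2, g6, g2, g5, g6]),
   (382, [g3, g4, g2, g4, g1, g2, g6, g2, g2, g4, g4, g3, g3, g5, g6, g5]),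
   (385, [g1, g3, g2, g3, g1, g4, g4, g2, g4, g2, g2, g5, g3, g3, g3, g6]),
   (379, [g6, g1, g3, g2, g3, g1, g2, g4, g2, g6, g2, g2, g2, g3, g4, g4, g4]),
   (662, [g1, g3, g2, g2, g3, g1, g3, g2, g3, g6, g2, g4, g4, g3]),
   (185, [g2, g6, g3, g2, g1, g4, g4, g2, g6, g2, g2, g2, g4, g4, g6, g5]),
   (521, [g6, g2, g1, g2, g1, g4, g2, g2, g2, g3, g5, g6, g5]),
   (640, [g6, g1, g1, g1, g1, g1, g4, g2, g2, g6, g3, g2, g6, g4, g3, g5, g6, g5])]

/-- Part 39 of cert0. -/
noncomputable def cert0_39 : List (ℕ × List ℕ) :=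
  [(46, [g1, g4, g1, g2, g1, g2, g2, g4, g2, g2, g2, g4, g4, g3, g5, g6]),
   (230, [g1, g3, g6, g1, g2, g1, g1, g4, g6, g2, g6, g3, g2, g4, g4]),
   (489, [g1, g3, g2, g3, g1, g4, g2, g2, g4, g4, g2, g2, g6, g3, g3, g3, g6, g5]),
   (245, [g4, g3, g2, g4, g1, g4, g4, g2, g4, g2, g2, g3, g3, g5]),
   (169, [g1, g3, g1, g1, g2, g2, g3, g4, g3, g2, g3, g4, g4, g5]),
   (471, [g2, g2, g1, g2, g4, g2, g2, g4, g2, g5, g3, g5]),
   (637, [g4, g1, g3, g1, g1, g1, g4, g4, g2, g5, g3, g4, g4, g5]),
   (543, [g6, g3, g2, g3, g1, g3, g6, g2, g2, g5, g3]),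
   (408, [g5, g3, g1, g4, g4, g2, g4, g2, g3, g5, g4, g4, g3, g6, g5]),
   (341, [g1, g6, g2, g3, g1, g3, g2, g4, g2, g2, g4, g4, g4, g3, g3, g6]),
   (161, [g4, g3, g2, g6, g1, g1, g6, g2, g2, g4, g3, g2, g3, g6, g5, g3, g5]),
   (428, [g2, g1, g5, g1, g3, g2, g2, g4, g2, g3, g5, g4, g4, g3, g6, g5]),
   (429, [g3, g1, g3, g1, g1, g4, g6, g2, g4, g2, g2, g5, g6]),
   (476, [g5, g2, g1, g3, g1, g1, g1, g4, g2, g2, g2, g4, g4, g4, g3, g3, g6]),
   (183, [g4, g2, g1, g2, g1, g1, g3, g4, g2, g3, g6, g2, g5, g3, g4, g4, g6]),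
   (478, [g1, g2, g4, g1, g2, g1, g2, g2, g4, g4, g3, g2, g6, g5, g3, g5]),
   (475, [g1, g4, g1, g1, g6, g2, g6, g3, g2, g4, g4, g3, g5, g6, g5]),
   (334, [g2, g4, g3, g2, g1, g2, g6, g2, g2, g4, g4, g3, g5, g6]),
   (44, [g2, g6, g4, g1, g2, g1, g1, g5, g2, g4, g2, g6, g3, g6]),
   (644, [g2, g4, g2, g4, g1, g4, g2, g3, g4, g2, g2, g3, g3, g3, g6]),
   (137, [g3, g4, g2, g4, g2, g4, g4, g3, g5, g6, g5]),
   (131, [g4, g3, g4, g1, g1, g3, g4, g2, g5, g6, g4, g3, g6, g5]),
   (524, [g2, g2, g1, g2, g1, g4, g2, g4, g4, g3, g2, g3, g4, g4, g4, g6, g5]),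
   (287, [g5, g1, g3, g1, g1, g3, g5, g2, g4, g2, g5, g4, g4, g3, g6, g5]),
   (157, [g3, g1, g1, g1, g1, g2, g2, g2, g4, g4, g3, g3]),
   (627, [g3, g1, g1, g2, g1, g6, g2, g3, g5, g3, g5, g6]),
   (459, [g2, g6, g4, g1, g2, g1, g1, g4, g4, g2, g4, g2, g4, g4, g4, g3, g3, g6]),
   (359, [g5, g3, g4, g1, g1, g6, g2, g2, g4, g4, g2, g2, g5, g6, g4, g3, g5, g6]),
   (626, [g1, g4, g4, g3, g1, g1, g1, g3, g2, g3, g4, g3, g2, g4, g6, g3, g6, g5]),
   (33, [g4, g6, g3, g2, g1, g6, g2, g3, g6, g2, g2, g3, g5, g4, g4, g3, g5, g6]),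
   (477, [g1, g1, g2, g2, g3, g1, g3, g4, g2, g4, g4, g2, g2, g5, g3, g4, g4]),
   (25, [g2, g2, g3, g2, g1, g1, g6, g2, g6, g3, g2, g4, g4, g6]),
   (679, []),
   (420, [g2, g2, g2, g1, g1, g3, g2, g4, g2, g2, g4, g4, g6, g5]),
   (632, [g1, g5, g4, g1, g1, g3, g2, g4, g2, g4, g6]),
   (460, []),
   (453, [g5, g1, g1, g1, g5, g1, g6, g2, g2, g4, g3, g2, g3, g6]),
   (454, [g5, g3, g1, g1, g1, g1, g2, g4, g2, g4, g3, g4, g4, g6]),
   (319, [g2, g6, g3, g1, g1, g1, g1, g4, g2, g3, g4, g2, g3, g4, g4, g5]),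
   (432, [g6, g3, g1, g6, g1, g1, g4, g3, g2, g5, g6, g4, g3, g5, g6]),
   (306, [g1, g3, g2, g2, g1, g1, g6, g2, g2, g3, g4, g2, g3, g4, g4]),
   (488, [g1, g3, g1, g5, g1, g4, g2, g5, g2, g4, g2, g4, g4, g3, g6]),
   (244, [g5, g1, g3, g1, g1, g1, g4, g2, g6, g3, g2, g6, g3]),
   (358, [g2, g2, g1, g2, g2, g2, g4, g2, g3, g4, g4, g6, g5]),
   (342, [g6, g3, g1, g1, g4, g2, g5, g2, g4, g2, g4, g5, g6]),
   (89, [g2, g6, g2, g2, g1, g2, g3, g4, g2, g6, g3, g5, g3]),
   (61, [g1, g6, g3, g1, g1, g4, g2, g2, g2, g6, g2, g6, g3, g5, g3, g6, g5]),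
   (434, [g4, g6, g1, g1, g3, g4, g2, g2, g6, g4, g3, g5, g6, g5]),
   (356, [g4, g2, g1, g1, g1, g4, g4, g2, g6, g2, g2, g2, g6]),
   (682, [g1, g1, g6, g2, g4, g3, g6]),
   (409, [g1, g2, g6, g3, g2, g1, g3, g2, g3, g4, g2, g2, g5, g3, g5, g6, g5]),
   (318, [g3, g5, g1, g5, g1, g3, g2, g2, g6, g3, g2, g5, g6, g3, g5]),
   (140, [g5, g3, g1, g4, g1, g1, g6, g4, g2, g4, g2, g2, g3, g5, g4, g4, g3, g5, g6]),
   (16, [g1, g4, g4, g2, g2, g1, g2, g4, g4, g3, g2, g6, g3, g3, g3]),
   (473, [g1, g3, g2, g1, g3, g4, g2, g6, g4, g3, g5]),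
   (678, [g4, g4, g2, g4, g1, g4, g2, g3, g4, g2, g5, g6, g4, g3]),
   (661, [g4, g2, g3, g1, g6, g2, g2, g6, g2, g3, g4, g4, g6]),
   (614, [g4, g2, g1, g2, g1, g6, g2, g4, g4, g2, g2, g4, g3, g5, g6, g5]),
   (197, [g4, g2, g1, g1, g1, g1, g3, g2, g6, g2, g4, g4, g4, g3, g3, g5, g6, g5]),
   (430, [g1, g1, g1, g4, g1, g4, g2, g2, g2, g4, g2, g5, g4, g4, g3]),
   (447, [g3, g2, g2, g3, g1, g2, g6, g2, g3, g6, g2, g2, g6, g5, g3]),
   (141, [g3, g1, g2, g3, g1, g1, g2, g4, g2, g4, g2, g2, g4, g3, g3, g6, g5]),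
   (596, [g4, g3, g4, g1, g1, g2, g4, g4, g3, g2, g5, g6, g5, g3, g5]),
   (523, [g1, g2, g1, g4, g3, g1, g3, g2, g6, g2, g2, g2, g3, g3, g3])]

/-- Part 40 of cert0. -/
noncomputable def cert0_40 : List (ℕ × List ℕ) :=
  [(38, [g2, g1, g3, g2, g1, g6, g2, g4, g4, g2, g2, g6, g3, g3, g3, g5]),
   (683, []),
   (160, [g1, g3, g1, g1, g1, g2, g6, g2, g2, g3, g3, g5]),
   (274, [g3, g1, g4, g2, g1, g2, g2, g3, g4, g3, g2, g3, g5, g3, g5, g6, g5]),
   (487, [g3, g4, g4, g1, g3, g1, g4, g2, g4, g2, g3, g5, g3, g5, g6]),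
   (684, []),
   (622, [g4, g2, g2, g2, g1, g1, g3, g4, g2, g4, g2, g4, g4, g6, g5]),
   (419, [g2, g2, g2, g1, g1, g6, g2, g6, g2, g3, g6, g5, g3, g6, g5]),
   (458, [g1, g1, g3, g1, g1, g1, g6, g2, g3, g6, g2, g2, g3, g3, g3, g5, g6, g5]),
   (275, [g3, g4, g1, g5, g3, g1, g6, g2, g2, g3, g4, g2, g6, g5, g3, g5, g6]),
   (494, [g1, g1, g1, g1, g1, g4, g2, g5, g2, g4, g2, g4, g4, g4, g5]),
   (492, [g1, g1, g1, g5, g1, g6, g2, g3, g4, g2, g5, g6, g3, g5]),
   (446, [g1, g6, g2, g1, g2, g1, g4, g2, g4, g6, g3, g3, g3, g6, g5]),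
   (501, [g1, g1, g1, g4, g1, g4, g2, g2, g2, g4, g2, g3, g5, g3]),
   (675, [g3, g2, g1, g1, g3, g2, g6, g2, g2, g2, g3, g3, g3, g5, g6, g5]),
   (496, [g4, g6, g1, g5, g1, g3, g2, g2, g4, g2, g6, g3, g5]),
   (497, [g6, g1, g3, g2, g3, g1, g2, g4, g2, g4, g2, g2, g4, g4, g5, g6, g5]),
   (292, [g4, g3, g1, g3, g1, g1, g5, g2, g4, g2, g5, g6, g5, g3, g5, g6]),
   (333, [g2, g1, g4, g2, g2, g1, g3, g2, g4, g4, g3, g2, g4, g3, g4, g4, g5, g6, g5]),
   (29, [g1, g2, g4, g1, g2, g1, g2, g3, g4, g2, g2, g2, g3, g3, g3, g6, g5]),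
   (571, [g1, g5, g6, g1, g1, g6, g2, g2, g6, g2, g5, g4, g4, g3, g5, g6, g5]),
   (307, [g1, g1, g2, g4, g1, g4, g6, g2, g4, g2, g2, g3, g5, g6, g5]),
   (136, [g2, g6, g4, g1, g2, g1, g1, g5, g2, g4, g2, g6, g3, g6]),
   (597, [g2, g1, g2, g2, g1, g6, g4, g2, g4, g2, g2, g4, g4, g3, g3]),
   (687, []),
   (482, [g1, g5, g1, g2, g1, g1, g2, g2, g4, g4, g2, g2, g4, g3, g3, g5]),
   (535, [g1, g5, g3, g1, g4, g2, g2, g4, g4, g2, g2, g3, g5, g4, g4, g3, g5, g6, g5]),
   (623, [g4, g1, g4, g2, g1, g1, g4, g2, g2, g3, g4, g4, g6]),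
   (508, [g3, g5, g3, g1, g1, g1, g4, g2, g4, g2, g2, g6, g3, g5, g3, g5, g6, g5]),
   (583, [g1, g3, g4, g3, g2, g1, g2, g3, g4, g2, g6, g3, g5, g6, g5]),
   (645, [g2, g4, g2, g4, g1, g1, g4, g2, g6, g2, g6, g3, g5, g6]),
   (665, [g3, g4, g3, g1, g1, g1, g6, g2, g2, g6, g2, g2, g4, g3, g3, g5, g6]),
   (513, [g1, g6, g1, g2, g4, g1, g3, g2, g4, g6, g3, g5]),
   (165, [g6, g4, g1, g5, g1, g2, g4, g3, g2, g4, g4, g3, g6]),
   (522, [g1, g1, g1, g2, g1, g6, g2, g3, g4, g2, g5, g3, g4, g4, g6]),
   (329, [g3, g1, g6, g1, g1, g4, g4, g2, g4, g2, g2, g3, g3]),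
   (31, [g2, g1, g3, g2, g1, g6, g2, g4, g4, g2, g2, g6, g3, g3, g3, g5]),
   (646, [g5, g3, g4, g1, g1, g6, g2, g2, g5, g3, g5, g6, g5]),
   (643, [g1, g1, g1, g1, g4, g2, g6, g2, g2, g2, g6, g5, g3, g5]),
   (376, [g3, g2, g1, g1, g3, g2, g3, g4, g3, g2, g4, g6, g3, g3, g3, g5]),
   (630, [g2, g2, g1, g1, g1, g2, g4, g4, g2, g2, g2, g4, g4, g4, g3, g3]),
   (64, [g2, g6, g2, g4, g1, g3, g2, g4, g2, g2, g2, g3, g3, g3, g5]),
   (480, [g2, g3, g4, g3, g1, g3, g6, g2, g3, g6, g5, g3, g5]),
   (439, [g2, g5, g2, g2, g1, g1, g5, g4, g6, g2, g4, g2, g2, g4, g3, g4, g4, g6]),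
   (525, [g1, g6, g1, g1, g2, g6, g2, g4, g2, g2, g4, g5, g6]),
   (582, [g2, g1, g4, g3, g1, g6, g2, g6, g3, g2, g5, g3]),
   (338, [g1, g3, g2, g3, g1, g3, g2, g2, g4, g3, g2, g4, g4, g3, g5, g6]),
   (209, [g3, g5, g3, g1, g1, g1, g3, g4, g2, g3, g6, g2, g4, g4, g6, g5]),
   (529, [g5, g3, g2, g2, g1, g3, g4, g3, g2, g5, g6, g4, g3, g5, g6]),
   (190, [g6, g4, g1, g4, g3, g1, g5, g4, g6, g2, g4, g2, g2, g3, g6, g5, g3, g6, g5]),
   (449, [g1, g2, g1, g2, g2, g1, g4, g4, g2, g4, g2, g3, g4, g4]),
   (373, [g1, g1, g3, g1, g1, g6, g2, g4, g4, g3, g2, g4, g4, g3, g3, g5, g6, g5]),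
   (676, [g4, g6, g1, g1, g2, g2, g3, g4, g2, g3]),
   (681, [g6, g1, g4, g1, g4, g6, g2, g3, g5, g4, g4, g3, g5, g6]),
   (605, [g2, g4, g3, g2, g1, g4, g6, g2, g3, g3, g3, g5]),
   (311, [g1, g4, g2, g1, g2, g4, g2, g4, g4, g2, g2, g6, g4, g3, g5]),
   (315, [g2, g4, g2, g4, g1, g1, g4, g4, g2, g4, g2, g2, g4, g3, g4, g4, g6]),
   (546, [g3, g1, g6, g3, g2, g1, g6, g2, g3, g4, g2, g4, g4, g5, g6, g5]),
   (618, [g4, g6, g1, g5, g1, g2, g4, g2, g2, g5, g3, g4, g4, g6]),
   (369, [g1, g1, g3, g1, g1, g3, g2, g2, g6, g2, g5, g6, g5]),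
   (542, [g1, g2, g1, g1, g3, g4, g2, g3, g6, g2, g4, g6, g3, g3, g3, g6]),
   (652, [g6, g1, g2, g4, g1, g6, g2, g2, g3, g4, g2, g4, g4, g4]),
   (666, [g3, g1, g2, g3, g1, g1, g3, g5, g2, g4, g2, g2, g4, g3, g3, g5, g6, g5]),
   (544, [g3, g2, g3, g1, g1, g1, g2, g2, g4, g4, g2, g2, g3, g4, g4, g6, g5])]

/-- Part 41 of cert0. -/
noncomputable def cert0_41 : List (ℕ × List ℕ) :=
  [(604, [g1, g5, g2, g2, g2, g1, g3, g4, g2, g4, g4, g2, g2, g3, g4, g4, g5, g6, g5]),
   (565, [g1, g4, g1, g3, g5, g2, g4, g2, g4, g4, g3, g3, g6, g5]),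
   (621, [g1, g1, g3, g4, g3, g2, g1, g6, g3, g2, g6, g5, g3, g6]),
   (490, [g3, g2, g3, g1, g5, g2, g4, g2, g2, g6, g3, g3, g3]),
   (566, [g1, g1, g4, g4, g2, g1, g2, g2, g6, g3, g2, g5, g6, g4, g3, g5]),
   (206, [g5, g2, g4, g1, g1, g2, g2, g3, g4, g2, g2, g3, g3, g3, g5, g6, g5]),
   (689, [g2, g4, g1, g1, g6, g2, g2, g6, g2, g5, g6, g4, g3, g6]),
   (660, [g4, g1, g1, g1, g4, g4, g2, g6, g2, g2, g2, g4, g4, g5]),
   (649, [g5, g1, g3, g1, g1, g2, g6, g2, g2, g6, g3, g3, g3, g5, g6, g5]),
   (635, [g1, g5, g1, g2, g1, g1, g3, g2, g2, g6, g2, g4, g3, g5]),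
   (559, [g3, g2, g6, g1, g1, g1, g3, g2, g4, g2, g2, g5, g6, g3, g6]),
   (372, [g5, g1, g4, g1, g1, g4, g2, g6, g5, g3, g6, g5]),
   (598, [g1, g2, g2, g4, g3, g2, g5, g3, g4, g4, g5, g6]),
   (236, [g4, g1, g4, g2, g1, g4, g6, g2, g2, g4, g5, g6]),
   (45, [g3, g1, g1, g2, g1, g4, g6, g2, g4, g6]),
   (505, [g2, g2, g2, g1, g1, g2, g3, g4, g2, g4, g4, g4, g6, g5]),
   (663, [g6, g5, g3, g1, g1, g2, g4, g4, g3, g6]),
   (101, [g2, g4, g2, g4, g1, g1, g3, g2, g6, g2, g4, g3, g6, g5]),
   (345, [g3, g6, g1, g1, g1, g1, g2, g4, g2, g2, g2, g4, g6, g3, g3, g3, g5, g6, g5]),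
   (316, [g2, g6, g2, g4, g1, g3, g2, g6, g2, g2, g4, g4, g3, g5, g6]),
   (238, [g4, g3, g2, g2, g1, g1, g2, g2, g4, g2, g5, g3, g4, g4]),
   (109, [g5, g3, g1, g4, g1, g1, g4, g2, g4, g4, g2, g2, g4, g6, g3, g3, g3, g5, g6, g5]),
   (168, [g1, g3, g1, g1, g1, g4, g2, g4, g2, g2, g5, g6]),
   (383, [g2, g1, g1, g3, g1, g1, g2, g2, g4, g4, g2, g2, g4, g6, g5]),
   (295, [g4, g1, g1, g1, g3, g4, g2, g4, g4, g2, g2, g5, g6, g4, g3, g6]),
   (114, [g2, g5, g4, g1, g1, g6, g2, g2, g3, g4, g2, g6, g5, g3, g5, g6]),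
   (491, [g3, g5, g1, g5, g1, g6, g2, g2, g4, g4, g2, g2, g5, g4, g4, g3, g5, g6]),
   (468, [g1, g2, g5, g2, g1, g1, g4, g4, g2, g5, g3, g3, g3, g5, g6, g5]),
   (573, [g4, g4, g2, g5, g4, g4, g3, g5]),
   (254, [g6, g1, g2, g1, g1, g2, g2, g3, g4, g2, g3, g5, g3]),
   (607, [g3, g2, g3, g1, g2, g2, g3, g6, g2, g5, g6, g4, g3]),
   (628, [g5, g1, g3, g4, g1, g1, g4, g2, g2, g6, g3, g2, g5, g4, g4, g3, g5]),
   (390, [g6, g5, g1, g2, g1, g1, g2, g4, g3, g2, g3, g4, g4, g4, g5, g6]),
   (180, [g4, g2, g2, g2, g1, g4, g6, g2, g6, g3, g2, g6, g3, g3, g3, g5, g6, g5]),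
   (436, [g4, g2, g2, g2, g1, g3, g4, g2, g4, g4, g2, g2, g6, g4, g3]),
   (270, [g3, g5, g2, g1, g1, g1, g2, g4, g2, g6, g2, g2, g2, g4, g3, g3, g6, g5]),
   (20, [g1, g5, g6, g1, g1, g3, g4, g3, g2, g3, g3, g3, g5, g6]),
   (381, [g2, g2, g2, g1, g3, g2, g6, g2, g6, g3, g3, g3, g5, g6]),
   (612, [g1, g6, g2, g1, g2, g1, g6, g2, g4, g4, g3, g3, g6, g5]),
   (485, [g2, g1, g4, g1, g2, g2, g3, g4, g2, g4, g4, g4, g5, g6]),
   (585, [g1, g3, g2, g4, g1, g6, g3, g2, g2, g6, g3, g2, g6, g3, g5, g3]),
   (531, [g1, g4, g2, g2, g1, g4, g6, g2, g6, g3, g3, g3, g5]),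
   (657, [g3, g1, g1, g1, g4, g4, g2, g4, g2, g3, g5, g3]),
   (374, [g3, g4, g1, g1, g1, g2, g6, g2, g3, g6, g2, g2, g3, g4, g4, g5, g6, g5]),
   (392, [g6, g1, g2, g1, g1, g4, g6, g2, g4, g2, g2, g6, g3, g3, g3, g5, g6]),
   (590, [g4, g2, g2, g1, g6, g3, g2, g6, g2, g5, g4, g4, g3]),
   (391, [g3, g1, g3, g1, g3, g2, g4, g2, g2, g2, g6, g3, g3, g3, g5, g6, g5]),
   (227, [g5, g3, g2, g2, g1, g4, g2, g4, g4, g2, g2, g6, g4, g3, g5, g6]),
   (10, [g1, g2, g1, g2, g1, g3, g6, g2, g4, g4, g4, g3, g3, g5]),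
   (152, [g3, g1, g2, g1, g3, g2, g3, g4, g2, g5, g3, g3, g3, g5, g6]),
   (668, [g4, g3, g2, g2, g1, g4, g2, g3, g4, g2, g2, g6, g3, g3, g3, g6]),
   (441, [g1, g2, g1, g1, g2, g2, g3, g4, g2, g4, g3, g4, g4, g6, g5]),
   (504, [g2, g6, g4, g1, g2, g1, g1, g4, g2, g2, g2, g6, g2, g3, g6]),
   (539, [g6, g3, g1, g1, g1, g1, g2, g2, g2, g4, g2, g6, g3, g5, g3]),
   (266, [g4, g6, g1, g1, g3, g4, g2, g5, g4, g4, g3, g5, g6]),
   (677, [g1, g5, g3, g1, g2, g6, g2, g2, g3, g3, g3, g6]),
   (407, [g5, g3, g2, g2, g1, g2, g2, g6, g3, g2, g6, g4, g3, g6, g5]),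
   (251, [g1, g3, g4, g1, g4, g2, g2, g4, g2, g3, g3, g6]),
   (269, [g1, g3, g1, g5, g1, g2, g2, g4, g2, g2, g2, g3, g6]),
   (545, [g4, g3, g1, g1, g2, g1, g2, g2, g3, g6, g2, g5, g6, g5]),
   (680, [g4, g1, g5, g3, g2, g1, g2, g6, g3, g2, g5, g6, g3, g5, g6]),
   (664, [g4, g4, g4, g2, g1, g2, g2, g2, g4, g2, g3, g5]),
   (575, [g3, g2, g3, g1, g4, g2, g2, g2, g4, g2, g3, g4, g4, g4, g6]),
   (653, [g6, g2, g1, g5, g1, g4, g2, g2, g2, g6, g2, g5, g4, g4, g3, g5, g6])]

/-- Part 42 of cert0. -/
noncomputable def cert0_42 : List (ℕ × List ℕ) :=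
  [(283, [g1, g2, g2, g1, g1, g4, g2, g2, g2, g6, g2, g4, g6]),
   (692, []),
   (611, [g4, g1, g5, g3, g2, g1, g3, g2, g2, g6, g3, g2, g3, g6, g5, g3, g5, g6, g5]),
   (389, [g1, g5, g2, g2, g1, g1, g4, g6, g2, g2, g3, g5]),
   (297, [g3, g1, g6, g3, g2, g1, g6, g2, g3, g4, g2, g3, g6, g5, g3, g5, g6, g5]),
   (658, [g2, g4, g1, g6, g1, g1, g1, g6, g2, g4, g4, g3, g2, g4, g4, g4, g3, g3, g5, g6]),
   (395, [g1, g2, g3, g1, g2, g4, g2, g4, g4, g4, g5]),
   (616, [g4, g2, g2, g4, g2, g4, g3, g3, g5]),
   (302, [g6, g1, g3, g2, g1, g4, g4, g2, g6, g2, g2, g2, g5, g6, g3, g5, g6, g5]),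
   (557, [g6, g1, g5, g3, g2, g1, g4, g3, g2, g2, g6, g2, g3, g3, g3]),
   (366, [g5, g6, g2, g2, g1, g4, g2, g2, g6, g3, g2, g4, g6, g3, g5]),
   (674, [g3, g2, g1, g1, g4, g2, g2, g6, g3, g2, g4, g6, g3, g5, g6, g5]),
   (547, [g1, g1, g3, g4, g3, g2, g1, g2, g2, g2, g6, g2, g4, g3]),
   (584, [g2, g2, g4, g2, g4, g1, g1, g4, g2, g6, g2, g4, g4, g4, g3, g3]),
   (642, [g2, g3, g1, g6, g1, g1, g6, g2, g2, g4, g3, g2, g4, g6, g3, g3, g3, g6, g5]),
   (304, [g5, g2, g4, g2, g1, g1, g2, g4, g4, g2, g2, g4, g4, g5, g6, g5]),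
   (321, [g1, g6, g3, g2, g1, g6, g2, g3, g4, g2, g4, g4, g5]),
   (388, [g1, g3, g4, g3, g2, g1, g2, g6, g2, g4, g4, g5]),
   (442, [g6, g3, g1, g6, g1, g1, g3, g2, g3, g4, g3, g2, g4, g4, g6]),
   (63, [g5, g2, g6, g3, g2, g1, g3, g4, g3, g2, g5, g3, g4, g4]),
   (166, [g6, g1, g5, g3, g2, g1, g2, g2, g2, g4, g3, g2, g4, g5]),
   (659, [g1, g5, g3, g1, g6, g3, g2, g6, g2, g2, g6, g5, g3]),
   (541, [g5, g2, g4, g1, g1, g4, g2, g6, g2, g4, g2, g2, g6, g3, g5, g3, g5, g6]),
   (558, [g1, g2, g6, g1, g4, g1, g2, g2, g3, g4, g3, g2, g4, g4, g4, g5]),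
   (654, [g1, g4, g2, g2, g2, g1, g4, g2, g2, g4, g4, g2, g2, g3, g4, g4, g6, g5]),
   (656, [g6, g4, g2, g2, g1, g1, g6, g2, g2, g3, g5, g3]),
   (554, [g1, g2, g1, g5, g1, g4, g2, g2, g6, g3, g2, g6, g3, g5]),
   (691, [g1, g1, g1, g2, g3, g4, g3, g2, g4, g4, g3]),
   (423, [g1, g2, g2, g4, g1, g1, g3, g2, g4, g2, g2, g6, g4, g3]),
   (426, [g1, g6, g3, g1, g1, g2, g6, g2, g2, g2, g5, g4, g4, g3, g5, g6, g5]),
   (641, [g5, g1, g2, g1, g4, g4, g2, g2, g4, g6, g3, g5]),
   (636, [g3, g6, g1, g5, g1, g2, g6, g2, g3, g4, g4, g5, g6]),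
   (601, [g2, g4, g1, g1, g1, g1, g2, g2, g6, g2, g5, g3, g3, g3, g5, g6]),
   (509, [g2, g2, g4, g2, g4, g1, g1, g3, g2, g4, g2, g5, g3, g5, g6]),
   (519, [g1, g3, g6, g1, g1, g4, g4, g2, g4, g2, g4, g4, g4, g3, g3, g6, g5]),
   (314, [g3, g2, g1, g6, g1, g1, g2, g3, g4, g2, g6, g4, g3, g6, g5]),
   (117, [g6, g1, g4, g1, g2, g4, g2, g5, g6, g3, g6, g5]),
   (486, [g6, g4, g1, g5, g1, g6, g2, g2, g2, g3, g4, g4, g5, g6, g5]),
   (474, [g1, g3, g5, g1, g6, g2, g2, g2, g3, g4, g4, g6, g5]),
   (648, [g4, g4, g1, g1, g2, g1, g2, g3, g4, g2, g2, g5, g6, g5, g3, g5, g6, g5]),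
   (553, [g3, g5, g1, g1, g2, g1, g2, g2, g6, g2, g2, g4, g6]),
   (118, [g5, g3, g1, g1, g1, g1, g4, g2, g2, g4, g2, g6, g5, g3]),
   (198, [g4, g4, g2, g1, g3, g2, g4, g2, g4, g4, g4, g6]),
   (631, [g4, g3, g2, g2, g1, g3, g5, g2, g4, g2, g2, g6, g5, g3, g5, g6]),
   (561, [g2, g2, g1, g1, g1, g2, g2, g4, g3, g2, g6, g3, g3, g3, g5, g6, g5]),
   (633, [g1, g3, g6, g1, g1, g2, g2, g2, g3, g5, g4, g4, g3, g5, g6, g5]),
   (669, [g4, g1, g4, g1, g3, g1, g3, g2, g2, g4, g3, g2, g4, g4, g5, g6, g5]),
   (300, [g2, g6, g2, g4, g1, g6, g2, g3, g4, g2, g6, g3, g3, g3, g6]),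
   (587, [g4, g2, g3, g4, g1, g1, g2, g3, g4, g2, g2, g2, g3, g6, g5, g3, g5, g6, g5]),
   (647, [g1, g4, g1, g4, g2, g1, g2, g6, g2, g4, g6]),
   (415, [g3, g2, g4, g2, g1, g1, g1, g4, g6, g2, g5, g3, g3, g3, g5, g6, g5]),
   (671, [g3, g5, g3, g1, g1, g1, g4, g4, g2, g2, g5, g6, g5, g3, g5]),
   (422, [g5, g2, g1, g3, g1, g1, g1, g4, g6, g2, g2, g5, g3, g4, g4, g5, g6]),
   (650, [g6, g4, g2, g2, g1, g1, g6, g2, g2, g3, g4, g2, g4, g3, g4, g4, g5]),
   (608, [g5, g6, g2, g2, g1, g4, g2, g5, g2, g4, g2, g4, g3, g3, g5, g6, g5]),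
   (606, [g1, g1, g1, g3, g1, g1, g3, g4, g2, g3, g6, g2, g3, g4, g4, g5]),
   (578, [g1, g5, g4, g1, g1, g6, g3, g2, g6, g2, g4, g6, g3, g3, g3, g5]),
   (123, [g3, g6, g3, g2, g1, g2, g4, g2, g2, g2, g4, g4, g5, g6, g5]),
   (673, [g4, g2, g3, g4, g3, g1, g3, g2, g3, g6, g2, g4, g6, g3]),
   (556, [g1, g3, g4, g1, g1, g1, g4, g2, g3, g4, g2, g4, g4, g3, g3, g5]),
   (532, [g3, g1, g3, g6, g1, g1, g2, g5, g4, g4, g3, g6, g5]),
   (207, [g1, g1, g2, g2, g1, g1, g4, g6, g2, g4, g2, g2, g5, g6, g3, g5, g6]),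
   (690, [g3, g1, g1, g2, g1, g2, g4, g4, g2, g2, g2, g5, g3, g5, g6, g5]),
   (685, [g6, g1, g4, g1, g1, g2, g4, g4, g2, g2, g3, g3, g5])]

/-- Part 43 of cert0. -/
noncomputable def cert0_43 : List (ℕ × List ℕ) :=
  [(667, [g6, g2, g2, g1, g1, g4, g4, g2, g6, g2, g2, g2, g4, g6, g3, g3, g3, g5, g6, g5]),
   (620, [g4, g2, g1, g1, g2, g6, g2, g2, g6, g2, g4, g4, g3, g3, g6]),
   (495, [g3, g1, g2, g1, g1, g2, g6, g2, g2, g2, g4, g4, g5, g6]),
   (686, [g6, g5, g3, g2, g1, g4, g6, g2, g3, g4, g4, g4, g6]),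
   (600, [g2, g2, g4, g1, g4, g4, g2, g2, g2, g3, g6, g5]),
   (594, [g5, g2, g1, g1, g4, g1, g2, g3, g4, g2, g2, g5, g6, g5]),
   (586, [g1, g1, g2, g3, g1, g1, g3, g4, g2, g3, g6, g2, g5, g4, g4, g3, g5, g6]),
   (507, [g1, g4, g2, g1, g1, g1, g4, g4, g2, g2, g2, g6, g4, g3, g5]),
   (688, [g4, g1, g1, g1, g1, g1, g3, g6, g2, g2, g4, g3, g4, g4, g6]),
   (466, [g1, g4, g3, g1, g1, g1, g4, g2, g5, g3, g3, g3]),
   (177, [g6, g3, g1, g1, g1, g1, g4, g4, g2, g2, g4, g2, g5, g6, g3, g6]),
   (518, [g2, g6, g3, g1, g1, g2, g5, g2, g4, g2, g2, g3, g5, g4, g4, g3, g5, g6]),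
   (425, [g2, g5, g4, g1, g1, g3, g2, g6, g2, g4, g3, g3, g5, g6]),
   (273, [g4, g2, g1, g1, g2, g3, g4, g2, g2, g4, g4, g3, g5]),
   (371, [g2, g1, g1, g4, g1, g4, g4, g2, g4, g2, g2, g4, g3, g4, g4, g6]),
   (194, [g5, g1, g1, g2, g1, g4, g6, g2, g4, g4, g4, g3, g3, g6]),
   (528, [g1, g4, g4, g2, g1, g4, g6, g2, g4, g2, g2, g5, g6, g5, g3]),
   (552, [g4, g2, g1, g2, g1, g1, g3, g2, g6, g2, g2, g2, g5, g3, g5, g6, g5]),
   (416, [g1, g3, g4, g1, g1, g1, g6, g3, g2, g6, g2, g2, g4, g3, g3, g5, g6, g5]),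
   (411, [g1, g1, g1, g5, g1, g4, g2, g2, g4, g2, g5, g3, g4, g4]),
   (0, [g4]),
   (6, []),
   (13, []),
   (20, []),
   (25, []),
   (31, []),
   (37, []),
   (39, []),
   (7, [g2, g6, g2, g3, g5]),
   (53, []),
   (60, []),
   (66, []),
   (71, []),
   (2, [g6, g1, g3, g2, g1, g6, g3, g2, g2, g6, g3, g2, g5, g3, g3, g3, g6, g5]),
   (78, []),
   (14, [g3, g2, g6, g2, g4, g3, g5, g6]),
   (89, []),
   (96, []),
   (64, [g1, g3, g1, g1, g2, g1, g6, g3, g2, g6, g2, g4, g4, g3, g3, g6, g5]),
   (106, []),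
   (112, []),
   (114, []),
   (120, []),
   (126, []),
   (35, [g2, g5, g4, g1, g1, g3, g3, g3, g5, g6, g5]),
   (135, []),
   (137, []),
   (143, []),
   (18, [g3, g4, g1, g1, g3, g2, g3, g4, g2, g4, g4, g3, g5, g6, g5]),
   (91, [g1, g3, g6, g1, g2, g1, g1, g2, g4, g2, g4, g4, g4, g3, g3, g6, g5]),
   (32, [g2, g1, g3, g2, g1, g6, g2, g4, g4, g2, g2, g6, g3, g3, g3, g5]),
   (156, [g2, g1, g3, g2, g1, g2, g4, g4, g2, g2, g6, g3, g3, g3, g5]),
   (48, [g2, g6, g4, g1, g2, g1, g1, g4, g4, g2, g4, g2, g4, g4, g4, g3, g3, g6]),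
   (168, []),
   (69, [g1, g1, g1, g6, g1, g1, g6, g2, g2, g4, g3, g2, g5, g3, g4, g4, g5]),
   (175, []),
   (38, [g2, g1, g3, g2, g1, g6, g2, g4, g4, g2, g2, g6, g3, g3, g3, g5]),
   (178, [g2, g6, g4, g1, g2, g1, g1, g4, g4, g2, g4, g2, g4, g4, g4, g3, g3, g6]),
   (49, [g2, g6, g2, g3, g5]),
   (187, []),
   (192, []),
   (197, []),
   (92, [g5, g1, g1, g2, g1, g2, g2, g2, g6, g3, g2, g4, g4, g3, g3]),
   (202, [])]

/-- Part 44 of cert0. -/
noncomputable def cert0_44 : List (ℕ × List ℕ) :=
  [(36, [g2, g6, g4, g1, g2, g1, g1, g5, g2, g4, g2, g6, g3, g6]),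
   (209, []),
   (213, []),
   (216, []),
   (159, []),
   (44, [g2, g6, g2, g3, g5]),
   (227, []),
   (232, []),
   (164, [g5, g2, g4, g2, g1, g1, g2, g2, g2, g5, g6, g4, g3, g5, g6]),
   (242, []),
   (243, []),
   (251, []),
   (3, [g2, g2, g2, g1, g4, g2, g6, g3]),
   (255, []),
   (259, []),
   (261, []),
   (265, []),
   (10, [g2, g1, g1, g1, g1, g1, g6, g2, g2, g4, g3, g2, g5, g3, g5, g6]),
   (22, [g3, g5, g1, g1, g2, g1, g3, g2, g4, g2, g4, g3, g3, g6]),
   (277, []),
   (249, [g5, g2, g2, g2, g1, g6, g3, g2, g5, g3, g5, g6, g5]),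
   (283, []),
   (284, [g1, g5, g6, g1, g1, g6, g2, g4, g4, g2, g2, g5, g6, g4, g3, g5, g6, g5]),
   (285, []),
   (65, [g6, g4, g1, g4, g3, g1, g6, g2, g2, g6, g2, g2, g6, g3, g5, g3, g6]),
   (292, []),
   (295, []),
   (12, [g2, g1, g2, g1, g2, g1, g3, g4, g2, g4, g4, g2, g2, g3, g3, g6, g5]),
   (84, [g2, g1, g1, g3, g4, g2, g2, g5, g6, g4, g3, g6]),
   (72, [g2, g1, g2, g1, g1, g4, g2, g4, g2, g2, g4, g5, g6, g5]),
   (301, [g1, g4, g2, g1, g6, g3, g2, g6, g2, g2, g3, g6]),
   (306, []),
   (50, [g1, g4, g4, g2, g1, g3, g4, g2, g4, g4, g2, g2, g5, g6, g4, g3, g5]),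
   (15, [g6, g1, g3, g2, g1, g6, g3, g2, g2, g6, g3, g2, g5, g3, g3, g3, g6, g5]),
   (77, [g6, g1, g3, g2, g1, g4, g4, g2, g6, g2, g2, g2, g5, g6, g3, g5, g6, g5]),
   (94, [g1, g2, g1, g4, g3, g1, g2, g6, g2, g4, g2, g2, g5, g6, g4, g3, g6]),
   (315, []),
   (319, []),
   (323, []),
   (228, [g5, g4, g1, g1, g1, g1, g4, g4, g2, g6, g2, g2, g2, g3, g5, g3]),
   (299, []),
   (62, [g2, g5, g1, g1, g2, g1, g4, g2, g2, g3, g6, g5, g3, g6, g5]),
   (332, []),
   (103, [g1, g4, g1, g1, g1, g1, g3, g2, g4, g2, g4, g3, g3, g5]),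
   (195, [g1, g2, g1, g3, g2, g1, g3, g2, g6, g2, g5, g6, g5]),
   (191, [g2, g4, g1, g2, g1, g2, g6, g2, g3, g6, g2, g2, g4, g4, g4, g5, g6]),
   (335, [g5, g3, g2, g2, g1, g2, g3, g4, g3, g2, g4, g3, g4, g4, g6, g5]),
   (190, [g2, g3, g1, g1, g3, g2, g4, g3, g4, g4, g5, g6]),
   (344, []),
   (348, []),
   (352, []),
   (302, [g5, g1, g1, g1, g5, g1, g2, g2, g6, g3, g2, g3, g4, g4, g5, g6]),
   (95, [g3, g1, g6, g3, g2, g1, g6, g2, g3, g4, g2, g5, g4, g4, g3, g5]),
   (354, [g3, g4, g1, g5, g3, g1, g2, g2, g3, g4, g2, g2, g4]),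
   (362, []),
   (357, [g3, g1, g2, g1, g1, g3, g2, g6, g2, g2, g2, g6, g3, g3, g3, g5]),
   (146, [g2, g5, g1, g1, g2, g1, g2, g4, g4, g2, g2, g2, g6, g5, g3, g6]),
   (366, []),
   (371, []),
   (336, [g4, g4, g2, g1, g4, g2, g2, g4, g2]),
   (117, [g3, g6, g1, g2, g4, g1, g4, g2, g6, g3, g2, g4, g6, g3, g3, g3, g6]),
   (378, []),
   (380, []),
   (19, [g2, g3, g1, g2, g1, g4, g6, g3])]

/-- Part 45 of cert0. -/
noncomputable def cert0_45 : List (ℕ × List ℕ) :=
  [(263, [g2, g1, g3, g2, g1, g6, g3, g2, g6, g2, g2, g6, g3, g5, g3, g5, g6, g5]),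
   (349, [g2, g1, g5, g3, g1, g2, g4, g2, g2, g4, g2, g3, g4, g4, g4, g5, g6]),
   (294, [g3, g1, g4, g2, g1, g4, g4, g2, g2, g4, g2, g3, g5]),
   (377, [g3, g1, g5, g3, g1, g2, g2, g3, g4, g2, g2, g6, g3, g5, g3, g5, g6]),
   (56, [g1, g4, g2, g2, g2, g1, g4, g2, g3, g6, g2, g3, g4, g4, g5, g6]),
   (104, [g6, g1, g5, g3, g2, g1, g2, g2, g6, g2, g2, g6, g4, g3, g5, g6]),
   (111, [g2, g5, g4, g1, g1, g2, g2, g3, g4, g2, g2, g4, g4, g3, g3, g5, g6]),
   (407, []),
   (409, []),
   (140, [g2, g2, g1, g5, g1, g2, g2, g2, g6, g3, g2, g3, g4, g4, g5, g6]),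
   (414, []),
   (360, [g2, g2, g1, g1, g2, g2, g4, g2, g2, g2, g5, g3, g4, g4, g5, g6]),
   (85, [g6, g3, g1, g1, g3, g2, g3, g4, g3, g2, g6]),
   (98, [g4, g1, g2, g3, g1, g1, g4, g2, g6, g3, g5, g3, g5, g6]),
   (179, [g5, g2, g1, g1, g1, g4, g2, g3, g4, g2, g4, g4, g5]),
   (425, []),
   (430, []),
   (358, [g1, g5, g2, g2, g1, g1, g6, g2, g3, g4, g2, g5, g4, g4, g3, g5, g6, g5]),
   (57, [g1, g1, g1, g3, g1, g1, g6, g2, g3, g4, g2, g3, g3, g6, g5]),
   (181, [g1, g3, g2, g1, g1, g2, g4, g2, g2, g2, g5, g4, g4, g3]),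
   (433, []),
   (435, []),
   (176, [g2, g5, g4, g1, g1, g3, g3, g3, g5, g6, g5]),
   (289, [g4, g2, g4, g1, g3, g2, g3, g4, g2, g2, g5, g3, g4, g4, g5]),
   (441, []),
   (141, [g2, g2, g3, g2, g1, g1, g6, g2, g2, g6, g4, g3, g6]),
   (279, [g4, g6, g3, g1, g3, g1, g3, g2, g4, g2, g2, g4, g4, g4, g5, g6, g5]),
   (437, [g2, g2, g3, g2, g1, g1, g6, g2, g6, g3, g2, g4, g4, g6]),
   (448, []),
   (136, [g2, g2, g3, g2, g1, g1, g3, g3, g3, g5, g6, g5]),
   (59, [g5, g1, g4, g1, g1, g1, g2, g2, g6, g2, g2, g4, g3, g4, g4, g5]),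
   (452, []),
   (113, [g4, g3, g1, g3, g1, g1, g2, g2, g3, g6, g2, g5, g3, g5, g6]),
   (165, [g1, g2, g6, g1, g1, g5, g2, g4, g2, g2, g4, g6, g3, g6, g5]),
   (42, [g2, g2, g3, g2, g1, g1, g3, g3, g3, g5, g6, g5]),
   (343, [g4, g1, g1, g2, g1, g2, g2, g2, g6, g3, g2, g4, g4, g3, g3, g5]),
   (260, [g4, g1, g1, g2, g1, g1, g2, g2, g4, g3, g2, g3, g5, g3, g6, g5]),
   (82, [g1, g5, g4, g1, g1, g3, g2, g6, g2, g4, g4, g4, g6]),
   (367, [g2, g5, g1, g1, g2, g1, g4, g4, g2, g2, g4, g2, g4, g6, g3, g3, g3]),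
   (101, [g3, g4, g1, g1, g3, g2, g3, g4, g2, g4, g4, g3, g5, g6, g5]),
   (212, [g3, g2, g2, g3, g1, g2, g4, g2, g6, g2, g2, g2, g4, g3, g4, g4, g5, g6, g5]),
   (203, [g1, g2, g4, g1, g2, g1, g2, g4, g4, g3, g2, g4, g3, g3, g5, g6]),
   (16, [g1, g3, g6, g1, g2, g1, g1, g2, g4, g2, g4, g4, g4, g3, g3, g6, g5]),
   (462, [g2, g1, g2, g1, g2, g1, g4, g2, g3, g6, g2, g6, g5, g3, g6, g5]),
   (473, []),
   (476, []),
   (27, [g2, g2, g3, g2, g1, g1, g3, g3, g3, g5, g6, g5]),
   (5, [g2, g1, g3, g2, g1, g6, g2, g4, g4, g2, g2, g6, g3, g3, g3, g5]),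
   (155, [g2, g6, g2, g3, g5]),
   (322, [g6, g1, g4, g3, g1, g3, g4, g2, g5, g3, g3, g3, g5]),
   (481, []),
   (30, [g2, g1, g3, g2, g1, g2, g4, g4, g2, g2, g6, g3, g3, g3, g5]),
   (484, []),
   (305, [g4, g3, g1, g1, g2, g1, g2, g4, g2, g2, g4, g2, g5, g6]),
   (163, [g2, g1, g3, g2, g1, g6, g2, g4, g4, g2, g2, g6, g3, g3, g3, g5]),
   (220, [g2, g6, g4, g1, g2, g1, g1, g4, g4, g2, g4, g2, g4, g4, g4, g3, g3, g6]),
   (224, [g3, g4, g1, g1, g1, g1, g3, g2, g6, g2, g2, g2, g4, g6, g3, g5, g6]),
   (245, [g1, g4, g4, g2, g1, g4, g2, g2, g2, g4, g2, g6, g4, g3, g6]),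
   (93, [g1, g2, g1, g1, g2, g6, g2, g2, g2, g3, g4, g4, g4]),
   (491, [g6, g1, g4, g2, g1, g1, g3, g2, g3, g4, g2, g2, g4, g6, g3, g3, g3, g5, g6]),
   (314, [g1, g2, g6, g3, g1, g1, g2, g2, g6, g3, g2, g4, g3, g6, g5]),
   (160, [g1, g2, g1, g4, g1, g4, g4, g2, g4, g2, g4, g3, g4, g4, g5]),
   (403, [g1, g1, g5, g1, g6, g3, g2, g6, g2, g2, g3, g4, g4, g6, g5]),
   (326, [g5, g2, g1, g1, g3, g5, g2, g4, g2, g5, g6, g4, g3, g5, g6])]

/-- Part 46 of cert0. -/
noncomputable def cert0_46 : List (ℕ × List ℕ) :=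
  [(58, [g1, g1, g5, g1, g6, g2, g2, g4, g3, g2, g6, g5, g3]),
   (122, [g6, g3, g2, g2, g1, g1, g4, g4, g2, g3, g6, g5, g3, g5]),
   (139, [g2, g2, g3, g2, g1, g1, g3, g2, g6, g2, g2, g5, g6, g3, g5, g6, g5]),
   (460, [g2, g2, g3, g2, g1, g1, g3, g2, g6, g2, g2, g5, g6, g3, g5, g6, g5]),
   (134, [g4, g2, g6, g2, g2, g2, g4, g4, g6]),
   (507, []),
   (1, [g2, g6, g4, g1, g2, g1, g1, g4, g4, g2, g4, g2, g4, g4, g4, g3, g3, g6]),
   (293, [g3, g6, g1, g1, g1, g4, g2, g3, g4, g2, g2, g6, g3, g5, g6, g5]),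
   (488, [g1, g2, g2, g1, g2, g1, g2, g2, g3, g4, g3, g2, g6, g3, g3, g3, g5, g6, g5]),
   (199, [g5, g3, g2, g2, g1, g4, g4, g2, g2, g4, g2, g6, g3, g5, g3, g5, g6]),
   (161, [g1, g4, g3, g1, g3, g4, g2, g2, g5, g6, g4, g3]),
   (74, [g2, g2, g1, g1, g1, g2, g2, g4, g4, g3, g2]),
   (129, [g2, g1, g3, g2, g1, g6, g2, g4, g4, g2, g2, g6, g3, g3, g3, g5]),
   (474, [g2, g2, g2, g1, g1, g4, g2, g3, g6, g2, g3, g5]),
   (79, [g3, g6, g1, g3, g5, g1, g4, g4, g2, g4, g2, g3, g5, g4, g4, g3, g5]),
   (8, [g2, g6, g2, g3, g5]),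
   (438, [g2, g5, g2, g2, g1, g1, g6, g2, g6, g3, g2, g4, g4, g5]),
   (526, []),
   (470, [g3, g1, g6, g1, g1, g2, g3, g4, g3, g2, g4, g3]),
   (150, [g4, g2, g1, g3, g4, g2, g6, g2, g2, g2, g3, g3, g3, g5]),
   (88, [g1, g4, g1, g4, g2, g1, g1, g2, g6, g2, g2, g2, g3, g3, g3, g6]),
   (303, [g4, g1, g6, g1, g1, g1, g3, g2, g4, g2, g3, g5, g4, g4, g3]),
   (535, []),
   (40, [g1, g6, g3, g2, g1, g6, g5, g2, g4, g2, g2, g3, g4, g4, g6]),
   (238, [g1, g2, g1, g2, g2, g1, g2, g5, g2, g4, g2, g2, g5, g6, g5, g3, g6, g5]),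
   (324, [g2, g3, g1, g1, g4, g1, g5, g2, g4, g2, g2, g6, g4, g3, g5, g6]),
   (541, []),
   (453, [g4, g4, g1, g1, g2, g1, g4, g4, g2, g2, g2, g3, g4, g4, g4]),
   (443, [g2, g4, g2, g4, g1, g3, g2, g3, g4, g2, g2, g4, g4, g4, g5, g6, g5]),
   (268, [g1, g5, g1, g2, g1, g1, g2, g6, g2, g4, g2, g2, g6, g4, g3, g6, g5]),
   (158, [g2, g1, g3, g2, g1, g6, g2, g4, g4, g2, g2, g6, g3, g3, g3, g5]),
   (530, [g2, g2, g2, g1, g2, g2, g6, g2, g2, g6, g5]),
   (320, [g2, g4, g1, g4, g2, g1, g1, g4, g4, g2, g2, g2, g4, g3, g4, g4, g6, g5]),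
   (549, []),
   (266, [g5, g2, g1, g1, g4, g4, g2, g4, g2, g6, g4, g3, g6]),
   (540, [g1, g3, g4, g1, g1, g1, g2, g2, g2, g6, g2, g3, g4, g4]),
   (556, []),
   (532, [g6, g2, g4, g1, g4, g2, g2, g2, g6, g3, g3, g3, g6, g5]),
   (45, [g6, g1, g3, g2, g1, g4, g4, g2, g6, g2, g2, g2, g4, g6]),
   (364, [g1, g4, g1, g3, g1, g2, g3, g4, g2, g2, g2, g4, g4, g4, g3, g3, g5]),
   (398, [g3, g6, g5]),
   (562, []),
   (46, [g6, g4, g1, g4, g3, g1, g6, g2, g2, g6, g2, g2, g6, g3, g5, g6]),
   (450, [g4, g2, g1, g5, g1, g2, g4, g2, g4, g4, g2, g2, g4, g4, g4, g3, g3, g5, g6]),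
   (244, [g2, g4, g1, g5, g1, g4, g2, g2, g2, g6, g2, g4, g3, g3, g5]),
   (345, [g2, g6, g1, g1, g2, g4, g4, g2, g2, g2, g3, g5, g4, g4, g3, g5]),
   (272, [g2, g1, g4, g2, g2, g1, g4, g2, g6, g2, g2, g2, g3, g6, g5]),
   (162, [g2, g6, g4, g1, g2, g1, g1, g5, g2, g4, g2, g6, g3, g6]),
   (219, [g2, g6, g4, g1, g2, g1, g1, g4, g4, g2, g4, g2, g4, g4, g4, g3, g3, g6]),
   (565, []),
   (288, [g1, g5, g1, g2, g1, g1, g4, g2, g4, g4, g3, g2, g3, g4, g4, g6, g5]),
   (189, [g2, g4, g1, g4, g1, g2, g2, g6, g3, g2, g3, g4, g4, g4, g6]),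
   (250, [g2, g4, g1, g4, g2, g1, g1, g2, g2, g3, g4, g3, g2, g5, g6, g5, g3, g5, g6, g5]),
   (566, []),
   (67, [g1, g3, g2, g3, g1, g3, g4, g2, g4, g2, g4, g3, g3, g6, g5]),
   (400, [g1, g3, g1, g5, g1, g2, g4, g2, g4, g4, g4, g6]),
   (498, [g4, g2, g2, g1, g1, g2, g5, g2, g4, g2, g2, g4, g4, g3, g3, g6, g5]),
   (446, [g2, g1, g3, g2, g2, g1, g4, g2, g2, g4, g4, g2, g2, g3, g6]),
   (9, [g4, g2, g2]),
   (222, [g5, g2, g2, g1, g1, g4, g2, g2, g2, g3, g3, g3, g6]),
   (327, [g4, g1, g1, g1, g6, g4, g2, g4, g2, g2, g3]),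
   (316, [g6, g3, g2, g4, g1, g2, g5, g2, g4, g2, g2, g3, g3, g5, g6, g5]),
   (333, [g5, g1, g4, g1, g1, g1, g2, g6, g2, g2, g2, g5, g6, g4, g3, g6]),
   (456, [g1, g1, g1, g6, g1, g1, g2, g2, g4, g4, g2, g2, g6, g3, g5])]

/-- Part 47 of cert0. -/
noncomputable def cert0_47 : List (ℕ × List ℕ) :=
  [(576, []),
   (256, [g6, g3, g1, g3, g1, g3, g6, g2, g2, g6, g3, g6, g5]),
   (287, [g1, g6, g1, g1, g1, g2, g4, g4, g3, g2, g3, g5, g4, g4, g3, g6, g5]),
   (167, [g2, g1, g6, g2, g2, g4, g4, g4, g3, g3, g5]),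
   (54, [g6, g2, g4, g3, g3]),
   (267, [g2, g6, g1, g4, g1, g6, g4, g2, g4, g2, g2, g4, g3, g6, g5]),
   (230, [g2, g2, g2, g4, g4, g4]),
   (252, [g4, g6, g5]),
   (582, []),
   (133, [g2, g3, g4, g1, g1, g2, g2, g4, g2, g3]),
   (347, [g4, g1, g3, g1, g1, g1, g2, g2, g3, g4, g2, g6, g5, g3, g6]),
   (55, [g6, g4, g3, g5]),
   (587, []),
   (28, [g6, g5, g3, g2, g1, g2, g4, g2, g2, g2, g3, g5, g3, g6, g5]),
   (52, [g5, g3, g3, g3, g5, g6, g5]),
   (455, [g4, g3, g2, g2, g1, g3, g2, g3, g4, g2]),
   (240, [g3, g4, g3, g2, g6, g3, g3, g3, g6]),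
   (401, [g4, g2, g2, g1, g3, g4, g2, g3, g4, g4, g4, g5, g6, g5]),
   (591, []),
   (23, [g4, g3, g4, g1, g2, g2, g2, g4, g2, g4, g4, g3, g5]),
   (270, [g4, g2, g3, g1, g4, g6, g2, g6, g3, g2, g4, g4, g3, g5, g6, g5]),
   (436, [g1, g4, g1, g1, g1, g6, g2, g6, g3, g2, g5, g6, g5, g3, g5, g6]),
   (340, [g1, g3, g1, g1, g4, g4, g3, g2, g3, g5, g3, g6]),
   (500, [g1, g1, g4, g1, g4, g3, g2, g2, g6, g2, g5, g6, g5]),
   (563, [g1, g3, g4, g1, g6, g5, g2, g4, g2, g2, g4, g4, g3, g3, g6, g5]),
   (388, [g2, g4, g1, g1, g6, g2, g4, g4, g5, g6, g5]),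
   (108, [g2, g6, g2, g2, g1, g3, g6, g2, g4, g2, g2, g4, g4, g4, g3, g3, g5, g6]),
   (342, [g4, g3, g2, g3, g1, g1, g1, g2, g2, g2, g4, g3, g2, g4, g3, g3, g5, g6]),
   (329, [g4, g1, g5, g3, g1, g3, g4, g2, g3, g6, g2, g4, g4, g4, g5]),
   (61, [g6, g1, g4, g2, g1, g1, g2, g3, g6, g2, g2, g4, g4, g6]),
   (206, [g2, g1, g1, g3, g1, g1, g6, g3, g2, g6, g2, g2, g4, g5]),
   (418, [g2, g2, g1, g3, g2, g4, g2, g4, g3, g4, g4]),
   (217, [g4, g3, g2, g4, g1, g4, g4, g2, g4, g2, g4, g4, g3, g3, g5, g6]),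
   (442, [g1, g5, g1, g1, g2, g1, g2, g3, g3, g3, g5]),
   (331, [g3, g1, g6, g1, g1, g4, g6, g2, g4, g4, g3]),
   (125, [g2, g6, g2, g2, g2, g1, g2, g2, g3, g4, g3, g2, g4, g3, g5, g6, g5]),
   (204, [g1, g1, g1, g1, g6, g5, g2, g4, g2, g2, g4, g3, g6]),
   (586, [g4, g1, g1, g4, g2, g1, g4, g2, g2, g4, g2, g6, g3, g5, g3, g6, g5]),
   (606, []),
   (33, [g3, g1, g2, g1, g1, g3, g2, g3, g6, g2, g5, g3]),
   (389, [g2, g1, g4, g3, g1, g4, g3, g2, g2, g6, g2, g3, g5, g3]),
   (572, [g2, g1, g2, g3, g1, g1, g4, g4, g3, g2, g3, g6, g5]),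
   (278, [g6, g2, g4, g2, g1, g2, g3, g4, g2, g2, g2, g5, g4, g4, g3, g6, g5]),
   (130, [g1, g1, g3, g1, g4, g2, g3, g4, g2, g3, g5, g4, g4, g3, g6]),
   (465, [g2, g4, g1, g6, g2, g4, g4, g2, g2, g3, g3, g3]),
   (467, [g3, g2, g1, g3, g2, g1, g1, g3, g6, g2, g4, g4, g3, g3]),
   (309, [g4, g2, g4, g2, g1, g1, g2, g2, g6, g2, g2, g5, g3, g3, g3, g5, g6, g5]),
   (392, [g4, g1, g1, g2, g1, g1, g2, g2, g2, g6, g2, g6, g3, g3, g3, g5, g6]),
   (569, [g1, g3, g2, g2, g1, g1, g2, g3, g6, g2, g2, g4, g3]),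
   (609, []),
   (310, [g3, g2, g6, g1, g1, g1, g6, g2, g2, g4, g4, g2, g2, g5, g3, g5]),
   (479, [g6, g4, g3, g2, g1, g2, g2, g2, g4, g2, g4, g4, g3, g5, g6]),
   (611, []),
   (131, [g4, g3, g1, g4, g1, g1, g2, g3, g4, g2, g2, g6, g3]),
   (458, [g2, g2, g1, g1, g6, g3, g3, g3, g6]),
   (34, [g3, g6, g1, g1, g1, g6, g2, g2, g4, g3, g2, g5, g3, g3, g3, g5]),
   (291, [g1, g5, g6, g1, g1, g6, g2, g3, g6, g2, g2, g5, g6, g4, g3]),
   (173, [g1, g6, g1, g2, g1, g1, g2, g2, g4, g3, g2, g5, g4, g4, g3, g5, g6, g5]),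
   (298, [g6, g4, g1, g4, g3, g1, g2, g6, g2, g2, g6, g2, g3, g5, g3, g5, g6, g5]),
   (383, [g5, g6, g2, g2, g1, g4, g2, g3, g4, g2, g2, g5, g4, g4, g3, g5, g6, g5]),
   (70, [g3, g3, g1, g1, g1, g2, g2, g3, g6, g2, g3, g4, g4, g5]),
   (545, [g3, g5, g1, g5, g1, g4, g4, g2, g6, g2, g2, g2, g3, g6, g5, g3, g5, g6, g5]),
   (568, [g1, g6, g1, g2, g4, g1, g4, g3, g2, g2, g6, g2, g4, g3, g4, g4, g6, g5]),
   (73, [g2, g1, g2, g1, g2, g1, g3, g4, g2, g4, g4, g2, g2, g3, g3, g6, g5])]

/-- Part 48 of cert0. -/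
noncomputable def cert0_48 : List (ℕ × List ℕ) :=
  [(385, [g2, g6, g1, g4, g1, g4, g4, g3, g2, g3, g5, g4, g4, g3, g5, g6, g5]),
   (339, [g2, g3, g1, g2, g1, g2, g2, g3, g6, g2, g5, g3, g3, g3, g5]),
   (17, [g1, g1, g2, g1, g1, g3, g4, g2, g4, g2, g5, g6, g4, g3, g5]),
   (258, [g2, g2, g6, g1, g1, g3, g2, g3, g6, g2, g6, g3, g6, g5]),
   (512, [g3, g4, g4, g1, g3, g1, g4, g2, g2, g2, g4, g2, g5, g6, g3, g5]),
   (516, [g1, g1, g1, g4, g1, g2, g4, g2, g2, g4, g2, g4, g6, g3, g5]),
   (381, [g5, g4, g1, g1, g3, g4, g2, g6, g2, g2, g2, g4, g3, g3, g5, g6]),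
   (75, [g1, g2, g4, g1, g1, g2, g5, g2, g4, g2, g5, g6, g5, g3, g6, g5]),
   (116, [g6, g1, g1, g1, g1, g2, g6, g2, g2, g6, g2, g4, g4, g5, g6, g5]),
   (589, [g1, g5, g2, g1, g1, g2, g3, g4, g3, g2, g5, g6, g3]),
   (393, [g1, g5, g2, g2, g1, g1, g4, g2, g3, g4, g2, g2, g3, g6, g5, g3, g6, g5]),
   (466, [g1, g2, g6, g3, g1, g1, g3, g2, g2, g6, g2, g4, g4, g5, g6, g5]),
   (271, [g6, g1, g3, g5, g1, g4, g2, g2, g6, g3, g2, g5, g3, g3, g3]),
   (308, [g1, g1, g2, g1, g1, g2, g5, g2, g4, g2, g2, g6, g3, g5, g6, g5]),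
   (275, [g1, g5, g2, g1, g1, g3, g2, g4, g2, g3, g5, g4, g4, g3]),
   (234, [g1, g4, g2, g2, g2, g1, g3, g4, g2, g6, g2, g2, g2, g4, g4, g4, g6, g5]),
   (246, [g3, g5, g3, g1, g6, g2, g2, g6, g2, g2, g6, g3, g5]),
   (575, [g5, g1, g3, g4, g1, g1, g2, g2, g2, g4, g3, g2, g6, g4, g3, g5, g6, g5]),
   (236, [g4, g1, g1, g6, g1, g1, g1, g3, g2, g3, g6, g2, g3, g4, g4, g4, g6]),
   (580, [g3, g2, g1, g2, g1, g2, g4, g4, g4, g3, g3, g6]),
   (218, [g2, g6, g1, g1, g1, g2, g6, g2, g2, g6, g2, g6, g3, g5]),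
   (477, [g6, g5, g3, g2, g1, g6, g3, g2, g2, g6, g3, g2, g5, g6, g4, g3, g6, g5]),
   (538, [g1, g1, g3, g1, g4, g3, g2, g2, g6, g2, g3, g5, g4, g4, g3, g5, g6, g5]),
   (410, [g1, g1, g4, g1, g3, g4, g3, g2, g6, g3, g5]),
   (464, [g6, g4, g2, g1, g1, g1, g2, g2, g6, g2, g2, g6, g5]),
   (225, [g1, g2, g2, g4, g2, g4, g4, g3, g3]),
   (171, [g6, g1, g3, g2, g3, g1, g2, g4, g2, g2, g4, g2, g4, g4, g4, g3, g3, g5, g6, g5]),
   (525, [g1, g2, g6, g1, g4, g1, g4, g6, g2, g5, g4, g4, g3, g5, g6]),
   (328, [g5, g2, g2, g1, g1, g2, g6, g2, g2, g2, g5, g6, g5, g3, g5, g6, g5]),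
   (463, [g1, g1, g1, g1, g1, g2, g2, g3, g6, g2, g4, g6, g3, g3, g3, g5, g6]),
   (607, [g3, g1, g3, g2, g3, g1, g6, g3, g2, g6, g2, g6, g3, g3, g3, g5]),
   (237, [g6, g4, g2, g2, g1, g1, g3, g2, g2, g6, g2, g4, g3, g4, g4, g6, g5]),
   (428, [g2, g1, g6, g1, g1, g1, g2, g6, g2, g2, g2, g3, g5, g4, g4, g3, g5, g6]),
   (80, [g4, g3, g2, g6, g1, g1, g6, g2, g6, g3, g2, g3, g3, g3, g5, g6]),
   (128, [g5, g2, g1, g1, g1, g4, g2, g6, g4, g3]),
   (151, [g1, g4, g4, g2, g2, g1, g2, g2, g3, g4, g2, g4, g3, g3, g5]),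
   (439, [g5, g4, g1, g1, g4, g2, g3, g4, g2, g5, g6, g3, g5]),
   (639, []),
   (157, [g1, g5, g1, g2, g1, g1, g4, g3, g2, g6, g2, g2, g3, g3, g3, g6, g5]),
   (183, [g2, g3, g1, g2, g1, g1, g6, g3, g2, g2, g6, g3, g2, g6, g3, g5, g3, g6]),
   (193, [g3, g6, g1, g1, g4, g2, g2, g2, g4, g3, g4, g4, g6]),
   (369, [g6, g5, g1, g4, g3, g1, g6, g2, g2, g3, g4, g4, g4, g6]),
   (262, [g2, g1, g2, g1, g1, g6, g2, g2, g4, g4, g2, g2, g5, g3, g3, g3, g6, g5]),
   (154, [g1, g1, g1, g3, g4, g2, g3, g6, g2, g3, g3, g6, g5]),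
   (142, [g1, g1, g1, g3, g4, g2, g3, g6, g2, g4, g4, g4, g3, g3]),
   (201, [g1, g4, g2, g4, g1, g2, g4, g2, g6, g2, g2, g2, g3, g5, g3, g6]),
   (490, [g5, g4, g2, g1, g1, g1, g6, g2, g2, g4, g4, g2, g2, g3, g3, g3]),
   (233, [g4, g2, g4, g1, g1, g6, g2, g2, g4, g4, g2, g2, g3, g3, g3]),
   (494, [g4, g3, g4, g1, g1, g3, g5, g2, g4, g2, g4, g4, g3, g3, g6]),
   (346, [g6, g1, g3, g2, g3, g1, g2, g3, g6, g2, g2, g4, g5, g6, g5]),
   (105, [g3, g3, g1, g1, g1, g2, g3, g4, g2, g2, g2, g5, g6, g3]),
   (515, [g1, g5, g3, g1, g1, g1, g5, g2, g4, g2, g3, g4, g4, g5, g6]),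
   (186, [g2, g1, g4, g2, g5, g2, g4, g2, g5, g3, g4, g4, g6]),
   (546, [g1, g1, g4, g1, g2, g1, g4, g6, g2, g2, g5, g3, g3, g3]),
   (97, [g3, g1, g6, g3, g2, g1, g6, g2, g3, g4, g2, g3, g6, g5, g3, g5, g6, g5]),
   (521, [g5, g1, g4, g3, g1, g2, g4, g2, g2, g2, g4, g3, g3, g5, g6]),
   (619, [g4, g6, g2, g4, g1, g6, g5, g2, g4, g2, g2, g3, g5, g4, g4, g3, g5, g6]),
   (363, [g4, g3, g3, g1, g1, g1, g2, g3, g4, g2, g2, g2, g4, g3, g4, g4, g5, g6, g5]),
   (312, [g3, g5, g1, g3, g2, g3, g6, g2, g3, g5, g3]),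
   (223, [g3, g1, g6, g3, g2, g1, g6, g2, g4, g4, g3, g2, g4, g4, g4, g6, g5]),
   (577, [g1, g4, g1, g4, g2, g1, g1, g6, g3, g2, g3]),
   (457, [g1, g4, g4, g1, g1, g1, g2, g6, g2, g4, g6, g3, g3, g3]),
   (544, [g3, g2, g1, g2, g3, g4, g2, g2, g2, g6, g5, g3, g5, g6]),
   (617, [g4, g1, g1, g1, g5, g1, g6, g3, g2, g5, g6, g5])]

/-- Part 49 of cert0. -/
noncomputable def cert0_49 : List (ℕ × List ℕ) :=
  [(211, [g4, g1, g1, g1, g5, g1, g3, g2, g4, g2, g2, g2, g4, g5]),
   (514, [g1, g2, g6, g1, g4, g1, g2, g2, g2, g4, g2, g4, g3, g5, g6]),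
   (417, [g1, g2, g2, g1, g1, g4, g2, g6, g2, g4, g2, g2, g4, g4, g3, g5, g6]),
   (522, [g1, g5, g4, g1, g1, g4, g4, g3, g2, g6, g4, g3]),
   (511, [g2, g1, g4, g3, g1, g3, g2, g6, g2, g2, g2, g6, g3, g5, g3]),
   (652, []),
   (555, [g1, g1, g4, g1, g4, g2, g5, g2, g4, g2, g6, g3, g5]),
   (528, [g6, g3, g1, g6, g1, g1, g6, g3, g2, g6, g2, g2, g5, g6, g5, g3]),
   (539, [g4, g2, g3, g4, g3, g1, g3, g4, g2, g2, g4, g3]),
   (608, [g1, g2, g1, g1, g6, g2, g2, g3, g4, g2, g6, g4, g3, g6, g5]),
   (423, [g4, g1, g1, g2, g1, g2, g2, g2, g6, g2, g5, g6, g4, g3, g5, g6]),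
   (615, [g1, g3, g2, g1, g1, g4, g2, g5, g2, g4, g2, g6, g5, g3, g5, g6, g5]),
   (658, []),
   (21, [g3, g6, g1, g2, g4, g1, g4, g2, g6, g3, g2, g4, g6, g3, g3, g3, g6]),
   (399, [g6, g2, g4, g2, g1, g4, g4, g2, g4, g2, g2, g5, g6, g5, g3]),
   (654, [g3, g4, g3, g1, g2, g2, g3, g6, g2, g5, g6, g3, g5]),
   (107, [g2, g5, g4, g1, g1, g2, g2, g3, g4, g2, g2, g4, g4, g3, g3, g5, g6]),
   (307, [g5, g6, g2, g2, g1, g3, g2, g2, g4, g2, g4, g4, g4, g6, g5]),
   (596, [g4, g1, g5, g1, g3, g2]),
   (296, [g6, g3, g2, g3, g1, g3, g2, g3, g4, g2, g5, g6, g5]),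
   (570, [g4, g4, g2, g4, g6, g3]),
   (413, [g2, g4, g3, g2, g1, g3, g4, g2, g2, g2, g6, g3, g3, g3, g5, g6, g5]),
   (119, [g2, g6, g4, g1, g2, g1, g1, g2, g4, g2, g6, g2, g2, g2, g3, g6, g5, g3, g6]),
   (593, [g4, g1, g1, g6, g1, g1, g1, g6, g2, g3, g4, g2, g5, g6, g3, g6]),
   (138, [g1, g6, g1, g2, g1, g1, g6, g2, g6, g3, g2, g6, g3, g6, g5]),
   (290, [g4, g6, g3, g1, g3, g1, g4, g2, g4, g2, g5, g6, g3, g6, g5]),
   (81, [g5, g6, g1, g5, g1, g6, g2, g6, g2, g4, g3, g3]),
   (574, [g4, g1, g3, g4, g3, g2, g4, g3, g4, g4, g5]),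
   (68, [g4, g3, g1, g3, g1, g2, g4, g4, g2, g2, g2, g6, g3, g3, g3, g6, g5]),
   (394, [g2, g5, g4, g1, g1, g2, g2, g3, g4, g2, g2, g4, g3, g6]),
   (286, [g4, g3, g4, g1, g4, g2, g3, g6, g2, g4, g3]),
   (375, [g3, g1, g3, g1, g1, g3, g2, g4, g2, g2, g5, g6, g5, g3, g6]),
   (475, [g2, g2, g2, g1, g1, g2, g2, g3, g4, g2, g4, g6, g3, g6]),
   (83, [g6, g1, g4, g3, g1, g6, g2, g3, g6, g2, g2, g4, g3, g4, g4, g6, g5]),
   (469, [g3, g1, g2, g1, g1, g4, g2, g2, g6, g3, g2, g4, g4, g4, g6, g5]),
   (350, [g3, g1, g3, g1, g1, g2, g2, g2, g6, g2, g3, g4, g4, g4, g6]),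
   (76, [g3, g2, g3, g1, g1, g4, g4, g2, g5, g3, g4, g4, g6]),
   (581, [g1, g3, g1, g2, g3, g1, g2, g4, g2, g2, g4, g2, g3, g5, g3, g5, g6, g5]),
   (578, [g1, g2, g6, g1, g4, g1, g2, g3, g6, g2, g4, g4, g4, g3, g3, g5, g6]),
   (170, [g1, g6, g2, g6, g3, g2, g4, g3, g3, g5, g6]),
   (667, []),
   (505, [g5, g4, g2, g1, g1, g1, g4, g2, g3, g4, g2, g2, g3, g4, g4, g5]),
   (651, [g6, g2, g1, g2, g1, g2, g4, g2, g6, g2, g2, g2, g3, g4, g4, g4, g6, g5]),
   (543, [g5, g2, g4, g1, g1, g4, g4, g2, g4, g2, g5, g6, g3, g5, g6, g5]),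
   (337, [g6, g1, g4, g1, g6, g2, g4, g4, g2, g2, g3, g4, g4, g4, g6, g5]),
   (313, [g1, g6, g1, g1, g1, g3, g4, g2, g6, g2, g2, g2, g3, g5, g3, g5]),
   (145, [g3, g5, g2, g1, g1, g1, g2, g5, g2, g4, g2, g2, g3, g3, g3, g5, g6]),
   (152, [g2, g4, g1, g1, g1, g1, g3, g4, g3, g2, g4, g4, g4, g3, g3, g6]),
   (620, [g3, g6, g1, g1, g1, g1, g6, g2, g3, g4, g2, g6, g4, g3, g5, g6]),
   (471, [g5, g2, g4, g2, g1, g1, g3, g6, g2, g4, g2, g2, g5, g3, g4, g4, g6, g5]),
   (355, [g2, g4, g1, g3, g1, g1, g1, g4, g4, g3, g2, g3, g5, g4, g4, g3, g5, g6, g5]),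
   (594, [g1, g3, g6, g1, g5, g1, g5, g2, g4, g2, g2, g4, g4, g5]),
   (482, [g4, g4, g3, g1, g1, g1, g4, g2, g3, g4, g2, g3, g4, g4]),
   (147, [g2, g6, g2, g2, g1, g3, g2, g6, g2, g3, g6, g5, g3, g6, g5]),
   (602, [g1, g6, g5, g3, g2, g1, g4, g4, g2, g6, g2, g2, g2, g5, g3, g3, g3]),
   (628, [g1, g2, g6, g1, g1, g3, g2, g2, g6, g2, g3, g5, g4, g4, g3, g5]),
   (235, [g1, g3, g2, g2, g1, g6, g3, g2, g6, g2, g2, g5, g4, g4, g3, g5, g6]),
   (664, [g2, g2, g6, g2, g4, g1, g2, g4, g4, g2, g2, g4, g3, g3, g6, g5]),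
   (614, [g4, g1, g4, g1, g1, g6, g5, g2, g4, g2, g2, g3, g5, g3, g5]),
   (374, [g4, g4, g4, g2, g1, g2, g4, g3, g2, g3, g3, g5, g6, g5]),
   (671, [g3, g2, g4, g2, g1, g1, g1, g2, g2, g2, g4, g2, g6, g5, g3]),
   (670, [g1, g4, g1, g1, g1, g4, g2, g4, g4, g3, g2, g5, g3, g3, g3, g5]),
   (601, [g2, g1, g1, g3, g1, g1, g4, g4, g2, g4, g2, g4, g4]),
   (264, [g6, g3, g2, g3, g1, g2, g2, g6, g2, g6, g3, g6])]

/-- Part 50 of cert0. -/
noncomputable def cert0_50 : List (ℕ × List ℕ) :=
  [(564, [g2, g1, g5, g3, g1, g2, g2, g2, g6, g3, g2, g4, g6, g5]),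
   (429, [g2, g3, g1, g1, g2, g6, g2, g6, g3]),
   (153, [g2, g2, g2, g1, g1, g2, g4, g4, g3, g2, g5, g3, g4, g4, g6, g5]),
   (149, [g2, g4, g3, g1, g1, g1, g2, g4, g4, g4, g5, g6]),
   (215, [g6, g1, g4, g1, g6, g2, g2, g2, g3, g3, g5, g6]),
   (440, [g5, g2, g6, g3, g2, g1, g4, g6, g2, g4, g6, g3, g3, g3, g5, g6, g5]),
   (396, [g4, g2, g1, g1, g1, g2, g6, g2, g2, g6, g4, g3, g6, g5]),
   (517, []),
   (548, [g6, g1, g2, g4, g1, g2, g1, g3, g4, g2, g4, g4, g2, g2, g6, g3, g5]),
   (4, [g2, g6, g4, g1, g2, g1, g1, g4, g2, g2, g2, g4, g2, g5]),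
   (188, [g2, g2, g4, g2, g4, g1, g1, g4, g6, g2, g3, g5, g4, g4, g3, g6, g5]),
   (87, [g4, g1, g4, g1, g1, g2, g4, g2, g2, g4, g2, g4, g3, g3, g6, g5]),
   (334, [g1, g4, g1, g1, g1, g1, g2, g3, g4, g2, g2, g6, g3, g3, g3, g6, g5]),
   (353, [g2, g2, g2, g1, g1, g6, g3, g2, g6, g2, g2, g6, g3, g5, g3, g6, g5]),
   (603, [g4, g2, g1, g2, g6, g2, g3, g6, g2, g2, g4, g4, g4, g6, g5]),
   (365, [g2, g1, g2, g4, g1, g3, g2, g4, g2, g2, g5]),
   (361, [g5, g2, g4, g1, g1, g4, g3, g4, g4, g6, g5]),
   (387, [g1, g2, g3, g2, g2, g1, g2, g2, g4, g3, g2, g3, g5]),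
   (501, [g1, g1, g3, g1, g1, g1, g6, g4, g2, g4, g2, g2, g3, g5, g3, g5]),
   (625, [g4, g4, g2, g2, g1, g4, g4, g2, g2, g2, g3, g4, g4, g5, g6]),
   (26, [g2, g2, g3, g2, g1, g1, g3, g3, g3, g5, g6, g5]),
   (508, [g3, g5, g2, g1, g1, g3, g2, g3, g4, g2, g2, g4, g6, g3, g5, g6, g5]),
   (459, [g2, g6, g4, g1, g2, g1, g1, g3, g2, g2, g4, g3, g2, g4, g3, g4, g4, g6]),
   (487, [g3, g4, g3, g1, g2, g2, g6, g2, g2]),
   (503, [g2, g5, g4, g1, g1, g6, g2, g6, g3, g2, g4, g4, g6]),
   (127, [g4, g3, g2, g2, g1, g1, g2, g6, g2, g3, g6, g2, g2, g3, g3, g3]),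
   (454, [g4, g2, g4, g2, g1, g1, g2, g2, g4, g4, g3, g2, g5, g3, g3, g3, g6, g5]),
   (247, [g2, g2, g2, g1, g3, g4, g2, g4, g2, g2, g6, g3]),
   (502, [g4, g1, g2, g1, g1, g6, g2, g6, g3, g2, g6, g3, g5, g3, g6, g5]),
   (478, [g1, g3, g1, g1, g3, g6, g2, g4, g2, g2, g3, g4, g4, g4, g5]),
   (276, [g3, g1, g2, g1, g4, g1, g2, g2, g4, g4, g3, g2, g5, g6, g5, g3, g6]),
   (432, [g5, g1, g4, g1, g1, g3, g4, g2, g4, g2, g3, g3, g3, g5, g6, g5]),
   (24, [g2, g6, g4, g1, g2, g1, g1, g4, g4, g2, g4, g2, g4, g4, g4, g3, g3, g6]),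
   (445, [g1, g5, g6, g1, g1, g3, g2, g6, g2, g6, g5, g3, g6, g5]),
   (90, [g2, g2, g2, g1, g1, g4, g2, g5, g2, g4, g2, g5, g6]),
   (427, [g3, g6, g1, g1, g2, g2, g6, g2, g2, g4, g6, g3]),
   (41, [g5, g2, g4, g2, g1, g1, g3, g4, g2, g2, g4, g4, g3, g3, g6, g5]),
   (351, [g3, g6, g1, g1, g1, g1, g2, g2, g6, g3, g2, g6]),
   (536, [g3, g2, g6, g1, g1, g2, g6, g2, g3, g6, g2, g2, g4, g4, g6]),
   (356, [g5, g4, g1, g1, g4, g2, g2, g2, g4, g3, g3, g6]),
   (419, [g3, g2, g1, g2, g6, g2, g6, g3, g5, g6]),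
   (148, [g2, g1, g3, g2, g1, g6, g2, g2, g4, g3, g2, g6, g3, g6]),
   (29, [g2, g6, g2, g3, g5]),
   (300, [g4, g1, g2, g3, g1, g1, g6, g2, g4, g4, g2, g2, g3]),
   (376, [g6, g5, g1, g4, g3, g1, g2, g4, g3, g2, g4, g4, g4]),
   (647, [g1, g6, g2, g6, g2, g4, g4, g3]),
   (415, [g2, g6, g1, g1, g2, g3, g6, g2, g3, g6, g5, g3]),
   (527, [g6, g4, g1, g2, g1, g1, g4, g4, g2, g4, g2, g2, g4, g4, g3, g3, g5, g6, g5]),
   (124, [g4, g1, g2, g1, g3, g2, g4, g2, g2, g3, g4, g4, g6]),
   (321, [g5, g6, g1, g1, g3, g4, g2, g3, g6, g2, g4, g4, g3, g6, g5]),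
   (444, [g4, g2, g1, g5, g1, g4, g4, g2, g4, g6, g3, g5, g6, g5]),
   (196, [g6, g5, g1, g4, g3, g1, g6, g2, g2, g6, g2, g2, g4, g3, g4, g4, g6]),
   (674, [g4, g1, g6, g1, g1, g6, g3, g2, g6, g2, g3, g4, g4, g5, g6, g5]),
   (43, [g2, g6, g4, g1, g2, g1, g1, g5, g2, g4, g2, g6, g3, g6]),
   (605, [g4, g2, g2, g3, g1, g4, g2, g6, g3, g2, g5, g6, g4, g3, g6, g5]),
   (169, [g2, g4, g1, g1, g1, g1, g6, g2, g4, g4, g3, g2, g4, g4, g4, g3, g3, g5, g6, g5]),
   (483, [g4, g1, g4, g1, g3, g1, g6, g2, g2, g6, g2, g4, g6, g3, g3, g3, g6]),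
   (612, [g1, g3, g2, g1, g1, g5, g6, g5, g3, g6]),
   (509, [g1, g2, g2, g1, g2, g1, g6, g2, g2, g4, g4, g2, g2, g3, g5, g4, g4, g3, g5, g6]),
   (402, [g1, g6, g5, g3, g2, g1, g4, g2, g5, g2, g4, g2, g3, g4, g4, g5, g6, g5]),
   (485, [g1, g4, g2, g2, g2, g1, g2, g3, g4, g3, g2, g6, g5, g3, g5, g6, g5]),
   (622, [g1, g3, g1, g1, g4, g6, g2, g4, g2, g2, g5, g6, g3, g5]),
   (109, [g4, g3, g4, g1, g3, g4, g2, g4, g2, g2, g3, g5, g3, g6, g5]),
   (644, [g3, g4, g2, g4, g1, g1, g3, g5, g2, g4, g2, g4, g4, g4, g3, g3, g5, g6, g5])]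

/-- Part 51 of cert0. -/
noncomputable def cert0_51 : List (ℕ × List ℕ) :=
  [(499, [g4, g3, g2, g2, g1, g4, g2, g2, g2, g6, g2, g4, g4, g4, g6]),
   (257, [g1, g2, g3, g1, g1, g5, g2, g4, g2, g5, g6, g3, g5]),
   (166, [g6, g1, g4, g2, g1, g1, g3, g2, g3, g4, g2, g2, g4, g6, g3, g3, g3, g5, g6]),
   (673, [g1, g2, g6, g3, g1, g1, g2, g4, g4, g2, g2, g2, g5, g6]),
   (496, [g2, g1, g2, g2, g1, g2, g4, g2, g4, g4, g2, g2, g5, g6, g5, g3, g6]),
   (497, [g4, g1, g1, g3, g2, g1, g4, g2, g6, g2, g4, g4, g3, g3, g6, g5]),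
   (397, [g3, g1, g3, g1, g3, g4, g2, g4, g2, g2, g4, g4, g4, g3, g3, g6, g5]),
   (573, [g1, g4, g3, g1, g2, g6, g2, g2, g6, g2, g3, g3, g5]),
   (172, [g1, g2, g2, g4, g1, g3, g4, g2, g2, g2, g5, g3, g5, g6, g5]),
   (579, [g5, g1, g5, g4, g1, g1, g3, g5, g2, g4, g2, g5, g6, g4, g3, g5]),
   (420, [g1, g6, g1, g1, g4, g4, g2, g2, g4, g3, g3]),
   (174, [g2, g5, g4, g1, g1, g3, g2, g6, g2, g2, g5, g6, g3, g5, g6, g5]),
   (553, [g3, g2, g1, g6, g1, g1, g5, g4, g6, g2, g4, g2, g2, g4, g4, g3, g3, g6]),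
   (551, [g4, g2, g1, g1, g1, g2, g2, g4, g4, g2, g2, g3, g3, g3, g6]),
   (686, [g2, g1, g1, g1, g1, g1, g3, g2, g4, g2, g2, g2, g3, g6]),
   (684, [g4, g1, g1, g2, g1, g4, g4, g2, g2, g4, g2, g5, g6, g5, g3, g5, g6]),
   (688, [g6, g1, g3, g2, g1, g3, g5, g2, g4, g2, g4, g6, g3, g3, g3, g5]),
   (506, [g2, g6, g3, g1, g1, g1, g1, g4, g2, g2, g2, g5, g6, g4, g3, g6, g5]),
   (665, [g2, g4, g2, g1, g1, g1, g4, g6, g2, g5, g6, g5, g3, g5, g6, g5]),
   (384, [g4, g3, g2, g6, g1, g1, g2, g2, g2, g3, g4, g4, g4]),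
   (558, [g2, g3, g1, g2, g1, g4, g2, g3, g4, g2, g2, g4, g3, g6]),
   (513, [g2, g1, g4, g2, g2, g1, g3, g2, g3, g3, g5, g6, g5]),
   (200, [g3, g2, g3, g1, g1, g1, g3, g6, g2, g5, g3, g4, g4, g5]),
   (280, [g1, g1, g1, g2, g1, g6, g2, g3, g6, g2, g2, g4, g4, g3, g3, g5, g6]),
   (182, [g3, g2, g1, g6, g1, g1, g4, g4, g2, g6, g2, g2, g2, g6, g3, g5, g3, g5, g6]),
   (184, [g2, g6, g4, g1, g2, g1, g1, g5, g2, g4, g2, g6, g3, g6]),
   (623, [g3, g1, g1, g6, g3, g2, g6, g2, g5, g6]),
   (547, [g2, g3, g1, g1, g4, g1, g6, g3, g2, g6, g2, g2, g5, g6, g5, g3, g6, g5]),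
   (656, [g1, g2, g4, g1, g2, g1, g3, g2, g6, g2, g2, g2, g4, g3, g3, g6]),
   (118, [g2, g4, g1, g3, g1, g1, g1, g2, g6, g2, g3, g6, g2, g2, g4, g4, g3, g5]),
   (100, [g1, g6, g3, g1, g1, g3, g6, g2, g4, g2, g2, g5, g3, g4, g4, g5, g6, g5]),
   (633, [g4, g1, g1, g1, g1, g1, g2, g2, g6, g2, g2, g3, g3, g6]),
   (395, [g1, g1, g2, g1, g1, g4, g2, g2, g2, g5, g6, g3, g5]),
   (51, [g1, g2, g6, g3, g1, g1, g2, g6, g2, g2, g6, g2, g4, g6, g3, g3, g3]),
   (359, [g1, g6, g1, g1, g4, g4, g2, g2, g2, g4]),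
   (434, [g4, g4, g1, g3, g1, g2, g4, g4, g2, g2, g4, g4, g4, g3, g3, g5]),
   (598, [g1, g1, g3, g1, g1, g2, g2, g6, g2, g4, g3, g3]),
   (529, [g3, g2, g2, g1, g1, g4, g4, g2, g4, g6, g3, g3, g3, g6, g5]),
   (431, [g4, g6, g2, g4, g1, g2, g6, g3, g2, g4, g4, g3, g3, g6]),
   (640, [g2, g6, g4, g1, g2, g1, g1, g6, g3, g2, g6, g2, g4, g4, g4]),
   (210, [g2, g1, g1, g2, g1, g1, g2, g2, g3, g4, g4, g4, g5, g6, g5]),
   (518, [g2, g6, g2, g1, g2, g1, g4, g2, g2, g2, g6, g2, g5, g3, g6]),
   (273, [g1, g3, g1, g1, g2, g1, g3, g4, g2, g2, g4, g4, g3, g5, g6]),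
   (531, [g3, g1, g2, g2, g1, g1, g4, g3, g2, g2, g6, g2, g4, g6, g3, g6]),
   (600, [g1, g1, g1, g2, g2, g2, g6, g2, g6, g3, g5, g3, g6]),
   (492, [g4, g3, g4, g1, g6, g2, g3, g6, g2, g2, g5, g6, g5, g3, g6, g5]),
   (338, [g4, g1, g1, g1, g5, g1, g4, g2, g4, g4, g3, g2, g6, g4, g3, g5]),
   (653, [g4, g3, g4, g1, g2, g5, g2, g4, g2, g3, g3, g3, g5, g6, g5]),
   (666, [g1, g3, g2, g1, g6, g2, g2, g4, g3, g2, g5, g3, g3, g3, g6]),
   (660, [g1, g5, g3, g1, g2, g4, g4, g2, g2, g2, g6, g5, g3, g5, g6, g5]),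
   (408, [g2, g3, g1, g1, g4, g1, g2, g4, g2, g2, g4, g2, g5, g6, g4, g3, g6]),
   (672, [g4, g1, g4, g2, g1, g1, g2, g3, g4, g2, g2, g2, g4, g4, g3]),
   (121, [g4, g1, g2, g1, g6, g2, g4, g4, g2, g2, g3, g3, g3, g6, g5]),
   (297, [g2, g3, g2, g1, g1, g6, g2, g4, g2, g2, g5, g6, g5]),
   (132, [g3, g1, g1, g1, g1, g4, g2, g4, g2, g2, g4, g4, g3, g3, g5, g6, g5]),
   (519, [g1, g5, g1, g2, g1, g1, g6, g2, g2, g4, g3, g2, g5, g3, g3, g3, g6]),
   (493, [g5, g3, g1, g1, g1, g1, g2, g2, g3, g4, g2, g3, g5, g3, g5, g6]),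
   (567, [g6, g2, g2, g1, g6, g3, g2, g2, g6, g3, g2, g3, g5, g4, g4, g3, g5, g6]),
   (599, [g1, g5, g1, g2, g1, g1, g3, g4, g3, g2, g4, g4]),
   (618, [g3, g1, g5, g3, g1, g4, g3, g2, g3, g5, g3, g5, g6, g5]),
   (207, [g5, g2, g4, g1, g1, g2, g2, g3, g4, g2, g2, g4, g4, g4, g3, g3, g5]),
   (597, [g4, g1, g1, g2, g1, g6, g4, g2, g4, g2, g2, g3, g4, g4, g6, g5]),
   (682, [g2, g1, g5, g3, g1, g3, g2, g4, g2, g3, g4, g4, g4, g6, g5]),
   (689, [g5, g2, g1, g1, g4, g1, g4, g2, g4, g4, g2, g2, g4, g4, g4, g3, g3])]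

/-- Part 52 of cert0. -/
noncomputable def cert0_52 : List (ℕ × List ℕ) :=
  [(669, [g4, g4, g2, g2, g1, g4, g3, g2, g3, g5]),
   (663, [g3, g5, g1, g5, g1, g2, g2, g2, g4, g3, g2, g6, g3, g3, g3]),
   (584, [g1, g2, g6, g3, g2, g1, g2, g6, g2, g5, g6, g5, g3, g5]),
   (595, [g2, g3, g1, g4, g2, g3, g4, g2, g2, g3, g4, g4, g4, g5, g6]),
   (668, [g1, g5, g1, g2, g1, g3, g2, g6, g2, g4, g6, g3, g5]),
   (208, [g4, g6, g1, g1, g4, g2, g2, g4, g4, g2, g2, g6, g4, g3, g6]),
   (214, [g1, g2, g2, g1, g1, g4, g2, g2, g2, g6, g2, g3, g6, g5]),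
   (626, [g2, g2, g1, g2, g1, g3, g4, g2, g2, g2, g3, g5, g4, g4, g3, g5, g6]),
   (86, [g6, g3, g1, g1, g1, g1, g4, g6, g2, g4, g3, g4, g4, g6, g5]),
   (382, [g6, g1, g2, g4, g1, g2, g1, g3, g2, g3, g4, g3, g2, g4, g3, g6, g5]),
   (571, [g2, g4, g1, g2, g1, g2, g3, g4, g3, g2, g3, g4, g4, g4, g5, g6, g5]),
   (629, [g1, g4, g2, g1, g1, g5, g4, g6, g2, g4, g2, g2, g4, g4, g3]),
   (110, [g5, g1, g3, g1, g1, g2, g6, g2, g6, g3, g3, g3, g6, g5]),
   (11, [g2, g3, g4, g1, g1, g6, g2, g4, g4, g2, g2, g6, g3, g3, g3, g5]),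
   (368, [g6, g1, g3, g2, g3, g1, g4, g2, g2, g2, g6, g2, g3, g5, g4, g4, g3, g6, g5]),
   (325, [g3, g2, g6, g1, g1, g1, g2, g4, g2, g4, g4, g4, g6]),
   (632, [g5, g1, g4, g1, g1, g1, g2, g3, g4, g2, g5, g3, g4, g4, g5]),
   (537, [g1, g4, g3, g1, g1, g1, g6, g2, g2, g4, g3, g2, g3, g3, g3, g5]),
   (391, [g4, g1, g1, g3, g1, g1, g3, g2, g4, g4, g3, g2, g4, g3, g4, g4, g6]),
   (330, [g4, g1, g5, g6, g1, g1, g3, g2, g6, g2, g3, g6, g5, g3, g6]),
   (624, [g3, g6, g1, g1, g2, g4, g4, g4, g5, g6]),
   (386, [g1, g2, g2, g4, g1, g1, g6, g2, g2, g4, g3, g2, g5, g6, g4, g3, g5]),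
   (451, [g4, g3, g1, g1, g1, g2, g3, g4, g2, g6, g3, g5, g3, g5, g6, g5]),
   (229, [g4, g4, g4, g2, g1, g2, g5, g2, g4, g2, g4, g6, g3, g3, g3]),
   (390, [g6, g5, g1, g2, g1, g1, g2, g4, g3, g2, g5, g4, g4, g3, g5, g6]),
   (645, [g1, g2, g4, g1, g1, g2, g4, g2, g2, g4, g2, g4, g6, g5]),
   (47, [g4, g1, g4, g2, g1, g3, g2, g3, g3, g3]),
   (468, [g4, g3, g1, g2, g4, g2, g2, g4, g2, g3, g4, g4, g4, g6, g5]),
   (304, [g3, g2, g1, g6, g1, g1, g6, g3, g2, g4, g3]),
   (585, [g2, g5, g1, g2, g1, g3, g4, g2, g2, g5, g3, g5]),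
   (642, [g1, g3, g2, g1, g4, g2, g3, g4, g2, g6, g3, g5, g3, g5, g6, g5]),
   (404, [g5, g2, g1, g6, g1, g1, g1, g4, g2, g3, g6, g5, g3, g5]),
   (637, [g4, g2, g1, g4, g3, g1, g2, g4, g2, g2, g3, g6, g5, g3, g5, g6]),
   (592, [g4, g4, g1, g1, g1, g2, g2, g2, g6, g2, g4, g6, g3, g6, g5]),
   (590, [g4, g1, g1, g6, g1, g1, g1, g2, g6, g2, g2, g6, g3, g6]),
   (254, [g3, g5, g3, g2, g2, g1, g6, g4, g2, g4, g2, g2, g4, g3, g5]),
   (282, [g1, g2, g1, g2, g2, g1, g4, g4, g2, g2, g2, g6, g5, g3, g6, g5]),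
   (461, [g3, g2, g6, g1, g1, g1, g6, g2, g4, g4, g2, g2, g4, g4, g4, g5]),
   (185, [g5, g2, g1, g1, g2, g4, g2, g6, g4, g3, g5]),
   (373, [g1, g4, g3, g1, g6, g3, g2, g4, g6, g3, g3, g3, g5]),
   (221, [g6, g2, g2, g1, g1, g2, g3, g4, g2, g2, g4, g4, g4, g3, g3, g5]),
   (627, [g1, g2, g1, g2, g1, g2, g2, g4, g2, g4, g6, g3, g3, g3, g6]),
   (102, [g3, g2, g6, g1, g1, g4, g4, g2, g4, g2, g2, g4, g3, g4, g4, g6, g5]),
   (550, [g1, g5, g3, g1, g1, g1, g4, g2, g4, g4, g3, g2, g5, g4, g4, g3, g6]),
   (311, [g4, g2, g1, g1, g1, g2, g2, g2, g6, g3, g2, g4, g4, g4, g5]),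
   (631, [g1, g1, g4, g1, g2, g1, g2, g2, g2, g6, g2, g4, g4, g3, g3, g5, g6, g5]),
   (241, [g4, g3, g1, g3, g1, g1, g6, g2, g6, g2, g5, g4, g4, g3, g5]),
   (649, [g3, g6, g1, g2, g4, g1, g5, g3, g4, g4, g5, g6]),
   (613, [g3, g2, g4, g2, g1, g1, g1, g2, g6, g2, g2, g6, g2, g3, g5, g4, g4, g3, g5]),
   (646, [g3, g1, g5, g4, g1, g1, g4, g2, g4, g4, g3, g2, g3, g3, g5]),
   (421, [g3, g1, g2, g1, g2, g2, g2, g4, g3, g2, g4, g4, g3, g6]),
   (317, [g1, g2, g6, g3, g2, g1, g2, g4, g2, g6, g2, g2, g2, g4, g6, g3, g5, g6]),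
   (559, [g1, g1, g3, g2, g1, g4, g2, g2, g2, g4, g3]),
   (226, [g5, g6, g3, g1, g3, g1, g2, g2, g4, g4, g3, g2, g3, g4, g4, g6, g5]),
   (678, [g2, g6, g1, g1, g1, g4, g4, g2, g2, g6, g4, g3, g5, g6, g5]),
   (231, [g2, g1, g3, g2, g2, g1, g2, g2, g4, g4, g2, g2, g6, g3, g5, g6]),
   (180, [g1, g6, g4, g3, g2, g1, g2, g2, g4, g3, g2, g6, g4, g3, g6]),
   (604, [g3, g5, g2, g1, g1, g2, g2, g4, g4, g3, g2, g6, g3, g3, g3, g6]),
   (610, [g3, g3, g1, g1, g1, g3, g4, g2, g3, g3, g5, g6]),
   (524, [g4, g3, g2, g3, g1, g1, g1, g4, g3, g2, g6, g2, g2, g6, g4, g3]),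
   (616, [g4, g2, g4, g2, g1, g1, g2, g3, g6, g2, g4, g4, g3, g3, g6, g5]),
   (99, [g1, g3, g5, g1, g2, g2, g6, g2, g2, g5, g6, g3, g5, g6]),
   (405, [g2, g1, g3, g2, g1, g2, g2, g6, g2, g4, g4, g4, g3, g3, g5, g6]),
   (281, [g5, g1, g2, g1, g2, g2, g4, g3, g2, g3, g5, g6, g5])]

/-- Part 53 of cert0. -/
noncomputable def cert0_53 : List (ℕ × List ℕ) :=
  [(379, [g3, g4, g2, g4, g1, g2, g2, g4, g4, g2, g2, g6, g3]),
   (643, [g6, g1, g4, g1, g2, g4, g4, g2, g2, g2, g4, g4, g4, g6, g5]),
   (510, [g1, g3, g1, g3, g2, g3, g6, g2, g4, g4, g6, g5]),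
   (683, [g4, g1, g1, g3, g1, g1, g4, g3, g2, g3, g4, g4, g4, g5, g6, g5]),
   (318, [g1, g1, g2, g2, g3, g1, g3, g2, g2, g4, g3, g2, g3, g3, g5, g6]),
   (447, [g1, g5, g3, g1, g3, g2, g6, g2, g6, g3, g5, g3, g6, g5]),
   (144, [g1, g2, g1, g4, g1, g6, g2, g2, g3, g6, g5, g3, g5, g6]),
   (504, [g1, g2, g1, g2, g1, g4, g2, g2, g6, g3, g2, g5, g4, g4, g3, g6, g5]),
   (583, [g1, g3, g1, g1, g1, g4, g2, g2, g4, g4, g2, g2, g5, g3, g5, g6]),
   (205, [g1, g3, g2, g3, g1, g6, g3, g2, g6, g2, g6, g3, g5, g3, g6, g5]),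
   (472, [g2, g3, g2, g2, g1, g2, g2, g2, g4, g3, g2, g4, g6, g3, g5, g6]),
   (685, [g1, g1, g2, g3, g1, g1, g3, g4, g2, g2, g4, g4, g3, g3, g5, g6]),
   (63, [g1, g2, g2, g2, g1, g1, g4, g3, g2, g6, g2, g2, g4, g4, g3, g3, g6, g5]),
   (480, [g4, g3, g1, g1, g2, g1, g4, g2, g2, g2, g6, g2, g4, g6, g3, g6, g5]),
   (692, [g2, g3, g1, g1, g2, g4, g2, g3]),
   (677, [g1, g1, g1, g5, g1, g2, g2, g2, g6, g3, g2, g4, g6, g3]),
   (177, [g1, g1, g1, g2, g1, g6, g3, g2, g2, g6, g3, g2, g4, g3, g4, g4, g6, g5]),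
   (588, [g3, g1, g2, g3, g1, g1, g4, g2, g5, g2, g4, g2, g4, g3, g5, g6, g5]),
   (198, [g4, g1, g1, g2, g2, g3, g4, g3, g2, g5, g6, g3, g5, g6]),
   (542, [g6, g2, g1, g5, g1, g4, g6, g2, g6, g3, g2, g4, g4, g6, g5]),
   (194, [g2, g4, g1, g3, g1, g1, g1, g3, g5, g2, g4, g2, g4, g3, g6, g5]),
   (123, [g4, g1, g4, g2, g1, g3, g2, g4, g2, g6, g3, g3, g3, g6, g5]),
   (534, [g1, g2, g1, g1, g2, g1, g6, g2, g4, g4, g3, g2, g3, g5]),
   (621, [g4, g2, g6, g1, g1, g1, g6, g2, g6, g2, g6, g4, g3, g5, g6]),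
   (239, [g2, g6, g3, g1, g1, g3, g4, g2, g3, g6, g2, g3, g4, g4, g4]),
   (253, [g3, g2, g2, g1, g2, g3, g4, g2, g2, g2, g3, g6, g5, g3, g6]),
   (416, [g1, g5, g3, g2, g1, g2, g4, g2, g2, g4, g2, g5, g6, g3]),
   (411, [g2, g4, g1, g1, g3, g6, g2, g2, g5, g4, g4, g3, g6]),
   (648, [g4, g6, g1, g1, g3, g6, g2, g4, g2, g2, g6, g3]),
   (269, [g2, g3, g4, g1, g1, g4, g2, g4, g2, g2, g4, g4, g6, g5]),
   (661, [g6, g1, g1, g4, g2, g4, g4, g2, g2, g6, g4, g3, g6]),
   (424, [g3, g2, g4, g2, g1, g1, g1, g2, g4, g4, g2, g2, g2, g6, g5, g3, g6, g5]),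
   (690, [g6, g1, g1, g4, g1, g2, g4, g2, g4, g4, g2, g2, g6, g3, g3, g3, g5]),
   (687, [g4, g2, g3, g1, g5, g4, g6, g2, g4, g2, g2, g5, g4, g4, g3, g5]),
   (412, [g2, g4, g2, g1, g1, g3, g2, g6, g2, g6, g3, g3, g3, g5, g6]),
   (370, [g4, g2, g4, g2, g1, g1, g6, g2, g2, g6, g2, g6, g5, g3, g5, g6, g5]),
   (659, [g4, g4, g1, g5, g1, g2, g2, g3, g4, g2, g2, g5, g4, g4, g3]),
   (495, [g6, g4, g2, g2, g1, g1, g4, g4, g3, g2, g4, g6, g5]),
   (630, [g2, g6, g2, g2, g2, g1, g2, g4, g4, g3, g2, g3, g6, g5]),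
   (662, [g6, g2, g4, g1, g3, g2, g6, g2, g2, g4, g6, g3, g3, g3, g5]),
   (638, [g1, g1, g2, g3, g1, g1, g4, g2, g3, g4, g2, g2, g5, g6, g4, g3, g5]),
   (634, [g1, g3, g6, g1, g5, g1, g4, g2, g4, g2, g2, g6, g3, g6]),
   (520, [g1, g3, g4, g1, g4, g6, g2, g6, g3, g2, g4, g6, g5]),
   (560, [g5, g3, g1, g1, g1, g4, g3, g2, g2, g6, g2, g5, g6, g5, g3, g6]),
   (274, [g1, g4, g6, g3, g2, g1, g2, g4, g2, g2, g4, g2, g4, g4, g3, g5, g6, g5]),
   (489, [g2, g1, g3, g2, g1, g4, g4, g3, g2, g4, g3, g5]),
   (552, [g3, g1, g3, g5, g1, g6, g2, g2, g3, g4, g4, g4, g5]),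
   (248, [g4, g3, g1, g4, g1, g1, g4, g2, g5, g6, g5, g3, g6, g5]),
   (557, [g1, g3, g4, g1, g1, g1, g4, g2, g6, g2, g4, g5, g6]),
   (561, [g1, g2, g1, g5, g1, g4, g2, g4, g4, g2, g2, g5, g6, g5, g3, g5, g6, g5]),
   (641, [g3, g1, g3, g1, g3, g6, g2, g4, g6, g3, g6, g5]),
   (406, [g4, g1, g3, g1, g1, g1, g4, g6, g2, g6, g3, g2, g4, g4, g4, g6, g5]),
   (115, [g6, g3, g5, g2, g1, g1, g4, g2, g6, g2, g4, g2, g2, g4, g4, g4, g3, g3, g5, g6, g5]),
   (675, [g3, g2, g1, g5, g1, g4, g2, g2, g2, g3, g6, g5, g3]),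
   (523, [g1, g4, g1, g1, g1, g1, g2, g4, g2, g4, g4, g2, g2, g3, g6, g5, g3, g6, g5]),
   (657, [g4, g4, g4, g2, g1, g2, g4, g3, g2, g3, g3, g5, g6, g5]),
   (449, [g1, g2, g2, g1, g1, g4, g2, g2, g5, g6, g5, g3, g5, g6, g5]),
   (554, [g3, g1, g1, g1, g1, g2, g2, g6, g2, g2, g5, g6, g5, g3]),
   (422, [g2, g4, g1, g1, g1, g1, g2, g2, g2, g4, g6]),
   (691, [g2, g4, g1, g4, g2, g1, g1, g3, g6, g2, g2, g5, g3, g5, g6]),
   (679, [g1, g6, g2, g3, g1, g5, g4, g6, g2, g4, g2, g2, g4, g4, g3, g5]),
   (680, [g4, g4, g1, g5, g1, g6, g2, g4, g4, g4, g3, g3, g6, g5]),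
   (635, [g6, g4, g1, g4, g3, g1, g4, g4, g2, g2, g4, g2, g4, g4, g4, g6, g5]),
   (533, [g2, g3, g1, g2, g1, g6, g3, g2, g6, g2, g2, g4, g3, g3, g5, g6, g5])]

/-- Part 54 of cert0. -/
noncomputable def cert0_54 : List (ℕ × List ℕ) :=
  [(636, [g3, g4, g4, g1, g3, g1, g2, g2, g3, g4, g2, g2, g4, g4, g4]),
   (426, [g2, g5, g4, g1, g1, g3, g2, g6, g2, g4, g3, g3, g5, g6, g5]),
   (486, [g6, g1, g5, g3, g2, g1, g2, g4, g4, g3, g2, g4, g5]),
   (372, [g6, g2, g1, g5, g1, g6, g5, g2, g4, g2, g2, g6, g5, g3, g6]),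
   (676, [g5, g2, g2, g2, g1, g6, g3, g2, g6, g2, g2, g3, g5, g4, g4, g3, g6]),
   (655, [g2, g1, g1, g4, g1, g4, g4, g2, g4, g2, g2, g4, g3, g4, g4, g6]),
   (341, [g6, g2, g2, g2, g1, g2, g2, g6, g2, g2, g3, g3, g6, g5]),
   (681, [g4, g3, g2, g6, g1, g1, g2, g4, g4, g2, g2, g2, g5, g3, g6]),
   (650, [g4, g4, g1, g1, g1, g2, g2, g4, g2, g3, g5, g3, g5]),
   (0, [g5]),
   (7, []),
   (14, []),
   (21, []),
   (26, []),
   (5, [g2, g6, g4, g1, g2, g1, g1, g4, g4, g2, g4, g2, g4, g4, g4, g3, g3, g6]),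
   (38, []),
   (1, []),
   (49, []),
   (54, []),
   (61, []),
   (67, []),
   (72, []),
   (77, []),
   (2, []),
   (15, [g6, g1, g3, g2, g1, g4, g4, g2, g6, g2, g2, g2, g5, g6, g3, g5, g6, g5]),
   (90, []),
   (97, []),
   (100, []),
   (19, [g2, g3, g1, g2, g1, g3, g5, g4, g4, g3, g5, g6]),
   (113, []),
   (3, []),
   (121, []),
   (127, []),
   (130, []),
   (136, []),
   (4, []),
   (27, [g2, g2, g3, g2, g1, g1, g3, g3, g3, g5, g6, g5]),
   (147, []),
   (150, []),
   (155, []),
   (159, []),
   (163, []),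
   (33, [g4, g4, g5, g6, g5]),
   (34, [g2, g4, g2, g4, g1, g1, g3, g2, g6, g2, g5, g6]),
   (42, [g2, g6, g2, g3, g5]),
   (36, [g2, g1, g3, g2, g1, g2, g4, g4, g2, g2, g6, g3, g3, g3, g5]),
   (44, [g2, g6, g2, g3, g5]),
   (6, []),
   (39, [g2, g6, g2, g3, g5]),
   (40, [g3, g2, g4, g2, g3, g5, g3, g5]),
   (145, [g6, g2, g4, g1, g3, g4, g2, g6, g2, g2, g2, g6]),
   (35, [g2, g6, g2, g3, g5]),
   (43, [g2, g6, g4, g1, g2, g1, g1, g4, g4, g2, g4, g2, g4, g4, g4, g3, g3, g6]),
   (37, [g2, g6, g2, g3, g5]),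
   (210, []),
   (214, []),
   (47, [g2, g6, g2, g3, g5]),
   (219, []),
   (8, []),
   (76, [g6, g3, g2, g4, g1, g3, g2, g6, g2, g3, g3, g3]),
   (233, []),
   (164, [g5, g2, g4, g2, g1, g1, g2, g2, g2, g4, g4, g4, g3, g3, g5, g6]),
   (53, [g4, g6, g5]),
   (9, [])]

/-- Part 55 of cert0. -/
noncomputable def cert0_55 : List (ℕ × List ℕ) :=
  [(252, []),
   (56, [g3, g4, g2, g2, g2, g1, g1, g3, g4, g3, g2, g5, g6, g5, g3]),
   (120, [g2, g3, g1, g5, g3, g1, g2, g2, g4, g3, g2, g3, g4, g4, g5]),
   (58, [g1, g2, g1, g1, g4, g4, g2, g2, g4, g2, g4, g3, g3, g6]),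
   (262, []),
   (60, [g2, g1, g2, g1, g1, g4, g2, g4, g2, g2, g4, g5, g6, g5]),
   (10, []),
   (173, [g4, g2, g3, g4, g1, g1, g4, g2, g4, g4, g3, g2, g4, g4, g4, g6]),
   (277, [g1, g2, g6, g3, g1, g1, g6, g2, g2, g4, g4, g2, g2, g3, g5, g4, g4, g3, g6, g5]),
   (64, [g2, g5, g2, g2, g1, g1, g3, g4, g3, g2, g4, g6, g3, g3, g3, g5, g6, g5]),
   (226, [g4, g2, g2, g3, g1, g3, g2, g4, g4, g3, g2, g4, g6, g3, g5]),
   (68, [g2, g5, g2, g2, g1, g1, g3, g4, g3, g2, g4, g6, g3, g3, g3, g5, g6, g5]),
   (11, []),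
   (66, [g2, g5, g2, g2, g1, g1, g3, g4, g3, g2, g4, g6, g3, g3, g3, g5, g6, g5]),
   (170, [g2, g1, g3, g1, g1, g1, g2, g2, g2, g4, g3, g2, g3, g3, g3]),
   (296, []),
   (299, []),
   (12, []),
   (73, [g2, g1, g1, g3, g4, g2, g2, g5, g6, g4, g3, g6]),
   (74, [g2, g6, g2, g3, g5]),
   (75, [g2, g3, g1, g2, g1, g3, g5, g4, g4, g3, g5, g6]),
   (50, [g4, g2, g2, g3, g1, g2, g2, g2, g4, g3, g2, g6, g3, g3, g3]),
   (13, []),
   (78, [g3, g2, g6, g2, g4, g3, g5, g6]),
   (79, [g3, g4, g2, g4, g2, g4, g4, g3, g5, g6, g5]),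
   (316, []),
   (319, [g4, g1, g4, g2, g1, g1, g2, g2, g4, g2, g5, g6, g5, g3]),
   (324, []),
   (83, [g3, g2, g6, g2, g4, g3, g5, g6]),
   (84, [g2, g1, g2, g1, g1, g4, g2, g4, g2, g2, g4, g5, g6, g5]),
   (218, [g5, g4, g2, g1, g1, g1, g4, g4, g2, g2, g4, g2, g3, g4, g4, g5, g6]),
   (327, [g4, g3, g2, g6, g1, g1, g2, g4, g4, g2, g2, g5, g6, g3, g6]),
   (131, [g5, g4, g1, g1, g4, g2, g3, g4, g2, g5, g3, g4, g4, g5, g6, g5]),
   (339, []),
   (151, [g4, g2, g4, g2, g1, g1, g4, g6, g2, g6, g3, g2, g4, g4, g3]),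
   (16, []),
   (91, [g4, g2, g1, g2, g1, g1, g4, g2, g4, g2, g2, g4, g4, g5, g6, g5]),
   (279, [g6, g2, g4, g1, g3, g2, g3, g4, g2, g2, g3, g6]),
   (349, []),
   (352, [g2, g4, g2, g4, g1, g1, g3, g2, g6, g2, g5, g3, g4, g4]),
   (354, []),
   (96, [g4, g4, g4, g5, g6]),
   (17, []),
   (293, [g4, g4, g2, g1, g2, g6, g2, g2, g6, g2, g5, g3, g3, g3, g5]),
   (364, []),
   (18, []),
   (367, []),
   (372, []),
   (103, [g3, g1, g2, g1, g3, g6, g2, g3, g3, g5]),
   (377, []),
   (253, [g6, g1, g3, g2, g1, g3, g2, g6, g2, g5, g6, g3, g6, g5]),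
   (106, [g2, g5, g4, g1, g1, g2, g2, g3, g4, g2, g2, g4, g4, g4, g3, g3]),
   (380, [g2, g5, g4, g1, g1, g2, g2, g3, g4, g2, g2, g4, g4, g3, g3, g5, g6]),
   (388, []),
   (239, [g6, g3, g1, g1, g1, g1, g6, g2, g2, g3, g4, g2, g4, g4, g4, g5, g6]),
   (110, [g2, g5, g4, g1, g1, g2, g2, g3, g4, g2, g2, g4, g4, g4, g3, g3]),
   (140, [g1, g1, g4, g2, g1, g2, g6, g2, g4, g2, g2, g4, g6, g3]),
   (114, [g2, g5, g4, g1, g1, g2, g2, g3, g4, g2, g2, g4, g4, g4, g3, g3]),
   (20, []),
   (112, [g2, g5, g4, g1, g1, g2, g2, g3, g4, g2, g2, g4, g4, g4, g3, g3]),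
   (408, []),
   (356, [g2, g2, g2, g1, g1, g3, g2, g3, g4, g2, g6, g3, g3, g3, g5, g6, g5]),
   (117, [g2, g5, g4, g1, g1, g2, g2, g3, g4, g2, g2, g4, g4, g4, g3, g3]),
   (415, [])]

/-- Part 56 of cert0. -/
noncomputable def cert0_56 : List (ℕ × List ℕ) :=
  [(418, []),
   (57, [g3, g4, g2, g2, g3, g1, g4, g2, g6, g2, g2, g2, g4, g6, g3, g5, g6, g5]),
   (22, []),
   (320, [g3, g4, g3, g2, g1, g2, g6, g2, g3, g6, g2, g2, g4, g4, g5, g6]),
   (426, []),
   (124, [g4, g2, g4, g1, g1, g2, g2, g3, g4, g2, g2, g6, g3, g3, g3]),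
   (271, [g4, g1, g1, g1, g5, g1, g4, g4, g2, g4, g2, g3, g4, g4, g5]),
   (272, [g4, g1, g1, g1, g5, g1, g4, g4, g2, g4, g2, g3, g4, g4, g5]),
   (23, []),
   (434, []),
   (129, [g2, g6, g4, g1, g2, g1, g1, g4, g4, g2, g4, g2, g4, g4, g4, g3, g3, g6]),
   (24, []),
   (87, [g2, g2, g3, g1, g1, g2, g4, g4, g3, g2, g4, g3, g4, g4, g5, g6, g5]),
   (441, [g2, g5, g4, g1, g1, g4, g2, g3, g6, g2, g4, g3, g5]),
   (444, []),
   (134, [g3, g4, g2, g4, g2, g4, g4, g3, g5, g6, g5]),
   (143, [g2, g2, g3, g2, g1, g1, g3, g3, g3, g5, g6, g5]),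
   (25, []),
   (343, [g4, g1, g1, g2, g1, g2, g2, g2, g6, g3, g2, g4, g4, g3, g3, g5]),
   (138, [g4, g2, g6, g2, g3, g4, g4, g4, g6]),
   (174, [g2, g6, g2, g3, g5]),
   (111, [g1, g2, g3, g2, g2, g1, g3, g2, g3, g4, g2, g5, g6, g5, g3, g6]),
   (457, []),
   (460, []),
   (135, [g2, g2, g3, g2, g1, g1, g3, g3, g3, g5, g6, g5]),
   (260, [g1, g6, g3, g1, g1, g4, g2, g2, g2, g6, g2, g6, g3, g5, g3, g6, g5]),
   (41, [g2, g2, g4, g1, g2, g2, g6, g2, g2, g5, g3, g3, g3]),
   (417, [g4, g1, g6, g2, g2, g4, g4, g2, g2, g3, g4, g4, g5, g6]),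
   (28, []),
   (148, [g2, g1, g3, g2, g1, g2, g4, g4, g2, g2, g6, g3, g3, g3, g5]),
   (203, [g2, g5, g1, g2, g1, g2, g2, g6, g3, g2, g5]),
   (29, []),
   (89, [g1, g3, g6, g1, g2, g1, g1, g5, g2, g4, g2, g4, g4, g4, g3, g3, g6, g5]),
   (414, [g4, g2, g1, g1, g1, g4, g4, g3, g6, g5]),
   (153, [g2, g6, g3, g1, g1, g3, g2, g3, g6, g2, g4, g4, g4, g6]),
   (437, [g2, g6, g4, g1, g2, g1, g1, g4, g4, g2, g4, g2, g4, g4, g4, g3, g3, g6]),
   (30, []),
   (220, [g2, g1, g3, g2, g1, g6, g2, g4, g4, g2, g2, g6, g3, g3, g3, g5]),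
   (323, [g4, g4, g2, g2, g1, g6, g3, g2, g6, g2, g4, g4, g4, g3, g3]),
   (202, [g2, g1, g3, g2, g1, g6, g2, g4, g4, g2, g2, g6, g3, g3, g3, g5]),
   (31, []),
   (254, [g1, g1, g3, g1, g1, g1, g4, g2, g3, g6, g2, g3, g5, g3]),
   (345, [g1, g6, g2, g4, g1, g2, g5, g2, g4, g2, g5, g6, g3, g5]),
   (162, [g2, g6, g2, g3, g5]),
   (32, []),
   (52, [g1, g5, g6, g1, g1, g5, g4, g6, g2, g4, g2, g2, g4, g4, g3, g3, g6, g5]),
   (216, [g3, g6, g2, g4, g1, g3, g4, g2, g4, g4, g2, g2, g5, g3, g4, g4, g5, g6, g5]),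
   (490, []),
   (494, []),
   (314, [g2, g3, g4, g1, g1, g1, g3, g2, g6, g2, g2, g6, g3, g5, g3]),
   (169, [g1, g2, g2, g1, g4, g4, g3, g2, g3, g5, g4, g4, g3, g6]),
   (69, [g2, g2, g6, g1, g1, g2, g3, g4, g2, g5, g6, g4, g3, g5]),
   (397, [g2, g6, g3, g2, g1, g6, g2, g2, g4, g4, g2, g2, g6, g5]),
   (500, []),
   (62, [g6, g2, g1, g1, g3, g2, g2, g6, g2, g6, g3, g5, g6]),
   (139, [g2, g6, g2, g3, g5]),
   (175, [g3, g2, g6, g2, g4, g3, g5, g6]),
   (344, [g5, g1, g1, g2, g1, g3, g2, g6, g2, g5, g6, g3, g5, g6, g5]),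
   (508, []),
   (187, [g2, g1, g3, g2, g1, g6, g2, g4, g4, g2, g2, g6, g3, g3, g3, g5]),
   (199, [g4, g1, g1, g4, g2, g1, g6, g2, g2, g4, g3, g2, g3, g4, g4, g6, g5]),
   (276, [g2, g1, g4, g2, g2, g1, g2, g6, g2, g2, g6, g2, g3, g6, g5]),
   (362, [g1, g6, g1, g1, g1, g3, g2, g6, g2, g2, g5, g6, g5, g3, g5, g6]),
   (445, [g5, g3, g1, g1, g2, g4, g2, g6, g2, g2, g2, g6, g3, g3, g3, g5, g6])]

/-- Part 57 of cert0. -/
noncomputable def cert0_57 : List (ℕ × List ℕ) :=
  [(303, [g1, g2, g1, g4, g1, g2, g2, g3, g4, g3, g2, g6, g3, g3, g3, g5, g6, g5]),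
   (184, [g2, g1, g3, g2, g1, g2, g4, g4, g2, g2, g6, g3, g3, g3, g5]),
   (411, [g5, g3, g2, g1, g3, g4, g2, g4, g4, g2, g2, g4, g3, g3, g6, g5]),
   (186, [g2, g4, g2, g4, g1, g1, g3, g2, g6, g2, g5, g6]),
   (178, [g2, g6, g4, g1, g2, g1, g1, g5, g2, g4, g2, g6, g3, g6]),
   (395, [g1, g1, g2, g1, g1, g2, g2, g4, g2, g3, g5]),
   (189, [g5, g6, g5]),
   (191, [g3, g4, g2, g1, g2, g6, g3, g2, g6, g3]),
   (190, [g3, g4, g2, g1, g2, g6, g3, g2, g6, g3]),
   (258, [g1, g2, g5, g2, g1, g1, g6, g3, g2, g2, g6, g3, g2, g3, g5, g3, g5]),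
   (301, [g3, g6, g1, g5, g1, g2, g4, g2, g2, g2, g5, g6, g5]),
   (194, [g1, g2, g2, g1, g4, g4, g3, g2, g3, g5, g4, g4, g3, g6]),
   (340, [g4, g1, g1, g1, g5, g1, g4, g2, g4, g4, g3, g2, g3, g4, g4, g6]),
   (196, [g2, g3, g1, g2, g1, g3, g5, g4, g4, g3, g5, g6]),
   (322, [g2, g3, g1, g1, g4, g1, g5, g2, g4, g2, g2, g5, g4, g4, g3, g5, g6]),
   (542, []),
   (179, [g6, g2, g2, g1, g4, g2, g2, g4, g2, g5, g6, g5]),
   (215, [g2, g3, g2, g1, g1, g6, g2, g2, g4, g3, g2, g4, g6, g3, g5, g6, g5]),
   (461, [g1, g1, g1, g6, g1, g1, g5, g2, g4, g2, g5, g6, g3, g6]),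
   (158, [g2, g6, g4, g1, g2, g1, g1, g5, g2, g4, g2, g6, g3, g6]),
   (149, [g2, g6, g3, g1, g1, g4, g2, g6, g2, g2, g2, g5, g3, g4, g4]),
   (453, [g3, g2, g2, g1, g1, g6, g2, g3, g5, g6]),
   (325, [g2, g3, g2, g2, g1, g4, g3, g2, g2, g6, g2, g4, g4]),
   (536, [g1, g6, g2, g2, g1, g1, g6, g2, g2, g5, g3, g5, g6]),
   (207, [g4, g3, g5, g6]),
   (557, []),
   (209, [g5, g1, g2, g1, g1, g4, g4, g2, g2, g4, g2, g4, g3, g3, g6, g5]),
   (45, []),
   (363, [g1, g4, g1, g4, g2, g1, g3, g6, g2, g4, g2, g2, g4, g6, g3, g3, g3, g5]),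
   (212, [g4, g2, g4, g1, g1, g2, g2, g3, g4, g2, g2, g6, g3, g3, g3]),
   (213, [g2, g6, g4, g1, g2, g1, g1, g4, g4, g2, g4, g2, g4, g4, g4, g3, g3, g6]),
   (46, []),
   (200, [g3, g4, g2, g2, g2, g1, g1, g4, g4, g2, g2, g6, g4, g3, g6]),
   (165, [g2, g4, g2, g1, g4, g2, g2, g6, g3, g2, g3, g4, g4, g4, g6, g5]),
   (217, [g3, g2, g4, g2, g3, g5, g3, g5]),
   (85, [g4, g1, g6, g1, g1, g1, g4, g2, g5, g2, g4, g2, g3, g5, g4, g4, g3, g5, g6, g5]),
   (48, []),
   (156, [g2, g6, g4, g1, g2, g1, g1, g5, g2, g4, g2, g6, g3, g6]),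
   (433, [g3, g1, g3, g2, g1, g1, g2, g2, g3, g4, g2, g4, g3, g4, g4]),
   (333, [g1, g2, g1, g1, g6, g2, g2, g4, g4, g2, g2, g4, g3, g5, g6, g5]),
   (223, [g2, g6, g2, g3, g5]),
   (224, [g3, g4, g4, g6]),
   (567, []),
   (65, [g2, g1, g5, g2, g2, g1, g1, g2, g5, g2, g4, g2, g3, g6, g5, g3]),
   (227, [g6, g4, g3, g5]),
   (326, [g3, g1, g4, g2, g1, g4, g4, g2, g2, g4, g4, g5, g6, g5]),
   (549, [g2, g2, g6, g1, g1, g2, g6, g3, g2, g6, g3, g5, g3]),
   (247, [g2, g2, g2, g5, g6, g4, g3, g6, g5]),
   (246, [g2, g2, g2, g5, g6, g4, g3, g6, g5]),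
   (537, [g1, g4, g3, g1, g1, g1, g4, g4, g2, g6, g2, g2, g2, g3, g4, g4, g4, g6]),
   (51, []),
   (564, [g2, g3, g4, g1, g1, g2, g2, g4, g2, g2, g2, g3, g3, g3, g6, g5]),
   (432, [g3, g2, g2, g1, g1, g6, g2, g2, g4, g3, g2, g4, g4, g3]),
   (236, [g4, g6, g3, g3, g3, g5, g6, g5]),
   (267, [g2, g6, g1, g4, g1, g6, g4, g2, g4, g2, g2, g6, g3, g5]),
   (238, [g3, g2, g6, g2, g4, g3, g5, g6]),
   (109, [g5, g4, g2, g1, g1, g1, g2, g2, g3, g4, g2, g2, g5, g6, g5, g3]),
   (242, [g4, g4, g2, g4, g6]),
   (270, [g3, g5, g2, g1, g1, g1, g2, g4, g2, g6, g2, g2, g2, g4, g6, g3, g5, g6, g5]),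
   (240, [g3, g4, g3, g2, g6, g3, g3, g3, g6]),
   (455, [g4, g3, g2, g2, g1, g3, g2, g3, g4, g2]),
   (361, [g4, g1, g2, g3, g1, g1, g3, g4, g2, g3, g6, g2, g5, g4, g4, g3, g6]),
   (582, [g4, g1, g4, g4, g2, g2, g4, g2, g3, g3, g3, g5, g6, g5]),
   (231, [g2, g2, g2, g5, g3, g5])]

/-- Part 58 of cert0. -/
noncomputable def cert0_58 : List (ℕ × List ℕ) :=
  [(230, [g2, g2, g2, g5, g3, g5]),
   (588, []),
   (522, [g6, g2, g1, g1, g4, g1, g3, g2, g3, g6, g2, g6, g5, g3, g5, g6, g5]),
   (250, [g6, g4, g3, g5]),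
   (251, [g4, g6, g5]),
   (55, []),
   (105, [g2, g2, g4, g1, g1, g3, g2, g2, g6, g3, g2, g6, g3, g5, g3, g5, g6, g5]),
   (160, [g6, g1, g1, g4, g3, g2, g2, g6, g2, g5, g6, g4, g3, g5, g6, g5]),
   (544, [g1, g1, g2, g1, g1, g4, g4, g2, g2, g4, g2, g3, g6, g5, g3, g5, g6]),
   (256, [g6, g2, g6, g2, g3, g5, g6]),
   (436, [g1, g5, g2, g2, g1, g1, g3, g4, g2, g2, g5, g3]),
   (192, [g3, g6, g1, g5, g1, g2, g2, g3, g6, g2, g6, g5, g3, g5]),
   (259, [g2, g3, g1, g2, g1, g3, g5, g4, g4, g3, g5, g6]),
   (144, [g1, g2, g1, g4, g1, g2, g2, g3, g4, g2, g4, g6, g5]),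
   (329, [g4, g4, g1, g3, g1, g6, g3, g2, g3, g3, g3, g5, g6]),
   (59, []),
   (264, [g4, g2, g2, g1, g3, g4, g2, g4, g4, g2, g2, g3, g5, g3, g5, g6]),
   (263, [g4, g2, g2, g1, g3, g4, g2, g4, g4, g2, g2, g3, g5, g3, g5, g6]),
   (265, [g1, g2, g1, g1, g4, g4, g2, g2, g4, g2, g4, g3, g3, g6]),
   (311, [g5, g2, g1, g1, g1, g3, g4, g3, g2, g3, g5, g4, g4, g3, g5, g6, g5]),
   (237, [g1, g6, g2, g1, g2, g1, g4, g4, g2, g4, g2, g2, g6, g4, g3, g5, g6, g5]),
   (305, [g3, g1, g2, g4, g1, g1, g3, g4, g2, g6, g2, g2, g2, g4, g4, g6]),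
   (604, []),
   (241, [g5, g1, g5, g4, g1, g1, g3, g2, g3, g4, g2, g2, g4, g4, g5, g6, g5]),
   (125, [g2, g3, g4, g1, g1, g1, g2, g6, g3, g2, g4, g4]),
   (126, [g2, g3, g4, g1, g1, g1, g2, g6, g3, g2, g4, g4]),
   (273, [g1, g4, g4, g3, g1, g1, g1, g6, g5, g2, g4, g2, g2, g6, g3, g5, g6]),
   (274, [g1, g5, g6, g1, g1, g6, g2, g4, g4, g2, g2, g5, g6, g4, g3, g5, g6, g5]),
   (275, [g4, g1, g2, g1, g1, g4, g4, g2, g2, g4, g2, g4, g4, g4, g3, g3, g5, g6]),
   (180, [g4, g6, g1, g2, g4, g1, g4, g3, g2, g2, g6, g2, g4, g4]),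
   (63, [g3, g1, g1, g1, g4, g2, g4, g4, g3, g2, g4, g5]),
   (278, [g1, g3, g1, g1, g1, g2, g6, g2, g2, g3, g3, g5]),
   (92, [g2, g4, g1, g6, g3, g2, g6, g2, g2, g4, g4, g4, g5, g6, g5]),
   (281, [g2, g1, g1, g2, g2, g6, g2, g5, g4, g4, g3, g6, g5]),
   (280, [g2, g1, g1, g2, g2, g6, g2, g5, g4, g4, g3, g6, g5]),
   (298, [g2, g1, g2, g1, g2, g1, g2, g6, g3, g2, g4, g3, g3, g5]),
   (285, [g1, g2, g2, g1, g1, g4, g2, g2, g2, g6, g2, g4, g6]),
   (284, [g4, g2, g4, g2, g1, g1, g6, g2, g2, g3, g4, g2, g3, g5, g4, g4, g3]),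
   (283, [g6, g4, g1, g4, g3, g1, g6, g2, g2, g6, g2, g2, g6, g3, g5, g3, g6]),
   (309, [g3, g2, g6, g2, g4, g3, g5, g6]),
   (479, [g5, g6, g1, g5, g1, g2, g6, g2, g2, g2, g4, g4, g4, g3, g3, g6, g5]),
   (428, [g2, g1, g3, g4, g1, g5, g2, g4, g2, g2, g4, g4, g6, g5]),
   (336, [g5, g2, g6, g3, g2, g1, g2, g2, g3, g6, g2, g4, g6, g3, g6, g5]),
   (612, []),
   (403, [g3, g1, g3, g2, g4, g1, g3, g2, g2, g4, g3, g2, g6, g5, g3, g6]),
   (292, [g3, g2, g6, g2, g4, g3, g5, g6]),
   (98, [g2, g1, g5, g3, g1, g3, g5, g2, g4, g2, g2, g4, g4, g4, g6]),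
   (310, [g1, g2, g4, g1, g1, g4, g2, g3, g4, g2, g2, g5, g6, g5, g3, g5, g6, g5]),
   (295, [g5, g1, g3, g1, g1, g1, g2, g6, g2, g2, g3, g3]),
   (70, []),
   (597, [g3, g1, g4, g2, g1, g2, g6, g2, g4, g2, g2, g5, g6]),
   (282, [g2, g1, g2, g1, g2, g1, g2, g6, g3, g2, g4, g3, g3, g5]),
   (71, []),
   (385, [g5, g1, g4, g1, g1, g1, g6, g2, g2, g5, g6]),
   (193, [g3, g5, g2, g1, g1, g1, g4, g2, g4, g4, g2, g2, g5, g6, g4, g3, g5, g6]),
   (302, [g2, g1, g2, g1, g1, g4, g2, g4, g2, g2, g4, g5, g6, g5]),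
   (183, [g5, g1, g4, g2, g1, g2, g4, g2, g2, g2, g3, g6, g5, g3]),
   (488, [g1, g6, g1, g1, g4, g2, g2, g2, g6]),
   (268, [g6, g1, g5, g3, g2, g1, g3, g6, g2, g4, g2, g2, g3, g5, g6, g5]),
   (306, [g2, g1, g1, g3, g4, g2, g2, g5, g6, g4, g3, g6]),
   (381, [g5, g1, g5, g4, g1, g1, g2, g4, g2, g2, g6, g3, g3, g3, g6]),
   (308, [g2, g5, g2, g2, g1, g1, g3, g4, g3, g2, g4, g6, g3, g3, g3, g5, g6, g5]),
   (286, [g3, g2, g6, g2, g4, g3, g5, g6]),
   (294, [g5, g2, g1, g6, g1, g1, g1, g6, g3, g2, g2, g6, g3, g2, g3, g5, g3])]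

/-- Part 59 of cert0. -/
noncomputable def cert0_59 : List (ℕ × List ℕ) :=
  [(266, [g4, g4, g1, g1, g2, g1, g3, g2, g3, g4, g2, g4, g3, g3, g6, g5]),
   (312, [g2, g3, g1, g2, g1, g3, g5, g4, g4, g3, g5, g6]),
   (619, [g1, g1, g2, g1, g1, g6, g2, g6, g2, g4, g4, g3, g3]),
   (168, [g3, g1, g1, g2, g1, g6, g3, g2, g3]),
   (525, [g4, g3, g2, g6, g1, g1, g6, g2, g2, g4, g3, g2, g4, g4, g4, g3, g3, g6]),
   (80, []),
   (317, [g1, g4, g4, g3, g1, g1, g1, g6, g5, g2, g4, g2, g2, g6, g3, g5, g6]),
   (318, [g2, g6, g4, g1, g2, g1, g1, g4, g4, g2, g4, g2, g4, g4, g4, g3, g3, g6]),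
   (81, [g3, g1, g2, g2, g1, g1, g4, g2, g2, g2, g6, g2, g4, g4, g6, g5]),
   (122, [g2, g4, g3, g2, g1, g4, g4, g2, g2, g2, g6, g5, g3, g5]),
   (430, [g1, g3, g1, g1, g1, g6, g2, g2, g6, g2, g2, g4, g3, g3, g5]),
   (197, [g2, g1, g1, g3, g4, g2, g2, g2, g3, g6, g5, g3, g5]),
   (157, [g3, g5, g3, g2, g2, g1, g3, g4, g2, g4, g2, g2, g3, g3, g6, g5]),
   (82, []),
   (205, [g4, g2, g4, g2, g1, g4, g2, g2, g2, g4, g2, g4, g3, g3, g5, g6]),
   (228, [g2, g4, g1, g5, g1, g3, g4, g2, g2, g5, g3, g3, g3, g5]),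
   (86, [g4, g1, g3, g1, g1, g1, g3, g4, g2, g6, g2, g2, g2, g4, g6, g3, g3, g3, g5, g6]),
   (328, [g2, g1, g1, g3, g4, g2, g2, g5, g6, g4, g3, g6]),
   (261, [g2, g6, g3, g1, g1, g1, g1, g3, g2, g2, g4, g2, g5, g6, g5, g3, g6]),
   (330, [g2, g6, g2, g1, g2, g1, g4, g2, g2, g2, g6, g2, g3, g3, g3, g6]),
   (360, [g2, g3, g1, g2, g1, g1, g3, g2, g4, g2, g2, g6, g5, g3, g6]),
   (573, [g6, g2, g3, g1, g1, g6, g2, g2, g6, g2, g6, g5]),
   (222, [g1, g1, g6, g1, g1, g1, g2, g4, g2, g4, g2, g2, g4, g4, g5, g6, g5]),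
   (334, [g5, g3, g4, g4, g6, g5]),
   (470, [g2, g1, g1, g1, g1, g1, g6, g2, g4, g2, g2, g4, g4, g6]),
   (289, [g4, g6, g3, g2, g1, g2, g4, g2, g2, g2, g6, g5, g3, g6]),
   (543, [g4, g1, g1, g4, g3, g2, g4, g4, g4, g3, g3, g5, g6, g5]),
   (338, [g1, g5, g6, g1, g1, g6, g2, g4, g4, g2, g2, g5, g6, g4, g3, g5, g6, g5]),
   (88, []),
   (195, [g1, g4, g2, g1, g1, g1, g2, g3, g6, g2, g5, g6, g5, g3, g5, g6, g5]),
   (641, []),
   (463, [g3, g4, g1, g1, g1, g6, g2, g2, g3, g4, g2, g5, g3]),
   (137, [g1, g1, g1, g3, g4, g2, g3, g6, g2, g4, g4, g4, g3, g3]),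
   (176, [g4, g4, g1, g3, g1, g6, g3, g2, g6, g3, g5]),
   (161, [g3, g5, g1, g5, g1, g6, g2, g2, g4, g4, g2, g2, g5, g6, g5, g3, g5]),
   (346, [g3, g1, g6, g3, g2, g1, g6, g2, g3, g4, g2, g3, g6, g5, g3, g5, g6, g5]),
   (492, [g4, g1, g1, g2, g1, g1, g2, g4, g2, g2, g4, g2, g4, g5]),
   (644, []),
   (93, []),
   (350, [g2, g4, g2, g4, g1, g1, g3, g2, g6, g2, g5, g6]),
   (467, [g4, g2, g4, g2, g1, g3, g2, g3, g4, g2, g4, g6, g3, g5, g6, g5]),
   (94, [g2, g1, g1, g4, g1, g4, g4, g2, g5, g3, g5, g6, g5]),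
   (353, [g4, g2, g3, g6, g2, g6, g3, g5, g3]),
   (95, []),
   (594, [g1, g2, g3, g1, g1, g6, g2, g3, g4, g2, g4, g5]),
   (116, [g2, g4, g2, g4, g1, g1, g4, g6, g2, g5, g6, g3]),
   (357, [g1, g5, g1, g2, g1, g5, g2, g4, g2, g2, g3, g5, g3]),
   (358, [g2, g1, g4, g1, g1, g1, g6, g2, g4, g4, g3, g2, g4, g6, g3, g5, g6]),
   (526, [g5, g1, g3, g1, g1, g4, g2, g2, g2, g6, g2, g3, g6, g5, g3, g5, g6]),
   (331, [g4, g2, g2, g2, g1, g1, g2, g2, g2, g4, g4, g3, g3, g5, g6]),
   (244, [g5, g2, g1, g1, g1, g3, g2, g3, g6, g2, g3, g3, g6, g5]),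
   (181, [g1, g5, g1, g5, g1, g4, g2, g3, g4, g2, g6, g3, g3, g3, g5, g6, g5]),
   (211, [g3, g4, g3, g2, g1, g3, g2, g4, g2, g2, g4, g3, g3, g5, g6, g5]),
   (99, []),
   (450, [g1, g6, g1, g2, g1, g1, g2, g2, g2, g6, g3, g2, g4, g4]),
   (366, [g2, g4, g2, g4, g1, g1, g3, g2, g6, g2, g5, g6]),
   (101, []),
   (645, [g2, g2, g1, g1, g1, g4, g4, g2, g4, g2, g2, g6, g3, g5, g3, g6, g5]),
   (631, [g4, g6, g2, g1, g1, g3, g2, g2, g6, g3, g2, g4, g3, g5, g6]),
   (555, [g1, g3, g1, g5, g1, g5, g2, g4, g2, g5, g6, g5]),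
   (371, [g1, g1, g3, g1, g1, g1, g3, g2, g4, g2, g4, g4, g3, g3, g5]),
   (102, []),
   (653, [g2, g1, g1, g1, g1, g4, g2, g3, g6, g2, g4]),
   (495, [g1, g6, g3, g5, g3, g5, g6])]

/-- Part 60 of cert0. -/
noncomputable def cert0_60 : List (ℕ × List ℕ) :=
  [(375, [g3, g1, g3, g1, g1, g1, g2, g6, g2, g2, g5, g3]),
   (610, [g3, g4, g3, g1, g1, g1, g2, g2, g2, g6, g3, g2, g4, g3, g4, g4, g5]),
   (104, []),
   (570, [g4, g4, g2, g4, g6, g3]),
   (643, [g4, g3, g2, g2, g1, g1, g6, g2, g2, g6, g2, g2, g3, g5, g3, g6]),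
   (107, [g2, g3, g1, g2, g1, g4, g6, g3]),
   (307, [g4, g3, g2, g3, g1, g1, g1, g6, g2, g2, g2, g4, g4, g3, g3, g6, g5]),
   (382, [g3, g1, g2, g1, g3, g6, g2, g3, g3, g5]),
   (383, [g4, g4, g4, g5, g6]),
   (581, [g1, g3, g1, g2, g3, g1, g2, g4, g2, g2, g4, g2, g6, g5, g3, g5]),
   (300, [g3, g1, g6, g3, g2, g1, g4, g2, g6, g2, g4, g2, g2, g6, g4, g3, g5, g6]),
   (386, [g1, g2, g2, g1, g4, g4, g3, g2, g3, g5, g4, g4, g3, g6]),
   (387, [g3, g1, g3, g1, g1, g1, g2, g6, g2, g2, g5, g3]),
   (108, []),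
   (389, [g2, g3, g1, g2, g1, g3, g5, g4, g4, g3, g5, g6]),
   (390, [g3, g2, g6, g2, g4, g3, g5, g6]),
   (664, []),
   (569, [g4, g2, g1, g4, g1, g2, g6, g2, g6]),
   (568, [g4, g2, g1, g4, g1, g2, g6, g2, g6]),
   (592, [g6, g1, g4, g3, g1, g4, g2, g6, g2, g6, g4, g3, g5, g6, g5]),
   (188, [g4, g3, g1, g3, g1, g2, g2, g6, g2, g2, g4, g6, g3, g5, g6, g5]),
   (440, [g1, g2, g1, g1, g2, g1, g4, g2, g6, g2, g5, g3, g3, g3, g6]),
   (171, [g2, g4, g1, g2, g4, g2, g3, g4, g4, g6]),
   (469, [g4, g3, g2, g2, g1, g1, g2, g2, g3, g4, g2, g4, g6, g3, g5]),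
   (401, [g1, g6, g2, g4, g4, g3, g2, g5, g3, g4, g4, g6, g5]),
   (400, [g2, g5, g4, g1, g1, g2, g2, g3, g4, g2, g2, g4, g4, g4, g3, g3]),
   (399, [g6, g2, g4, g2, g1, g4, g4, g2, g4, g2, g2, g3, g5, g3, g6]),
   (489, [g4, g3, g4, g1, g1, g2, g3, g6, g2, g4, g3, g5, g6, g5]),
   (291, [g1, g2, g2, g4, g1, g1, g3, g2, g2, g6, g3, g2, g4, g3, g4, g4, g5, g6]),
   (637, [g5, g1, g5, g4, g1, g1, g2, g4, g2, g2, g4, g6, g3, g3, g3, g5, g6, g5]),
   (668, []),
   (406, [g6, g3, g5, g2, g1, g1, g3, g4, g2, g2, g4, g6, g3, g6, g5]),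
   (638, [g1, g2, g4, g1, g2, g1, g2, g4, g2, g2, g3, g3, g6, g5]),
   (115, []),
   (465, [g5, g1, g1, g2, g1, g2, g2, g6, g2, g2, g4, g4, g5, g6, g5]),
   (538, [g5, g1, g4, g3, g1, g3, g2, g3, g4, g3, g2, g4, g4, g4, g3, g3]),
   (185, [g4, g4, g2, g2, g1, g4, g6, g2, g6, g3, g2, g3, g6, g5, g3]),
   (621, [g4, g6, g1, g5, g1, g3, g2, g3, g6, g2, g6, g5]),
   (413, [g3, g2, g6, g1, g1, g4, g4, g2, g4, g2, g4, g4, g4]),
   (152, [g3, g1, g3, g2, g3, g1, g6, g2, g4, g3, g5]),
   (118, []),
   (518, [g2, g1, g1, g2, g1, g1, g2, g4, g2, g2, g2, g4, g4, g3, g3]),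
   (146, [g2, g6, g2, g2, g1, g3, g4, g2, g3, g3, g6, g5]),
   (119, []),
   (578, [g4, g1, g4, g1, g3, g1, g4, g2, g3, g4, g2, g5, g6, g5, g3, g5]),
   (443, [g2, g4, g1, g2, g1, g3, g2, g4, g2, g2, g3, g4, g4, g4, g5, g6, g5]),
   (421, [g4, g6, g5]),
   (658, [g4, g2, g4, g1, g1, g3, g4, g2, g2, g2, g5, g6, g4, g3, g5]),
   (675, []),
   (671, [g5, g3, g1, g4, g4, g2, g4, g2, g3, g5, g4, g4, g3, g6, g5]),
   (425, [g6, g1, g1, g3, g4, g2, g5, g3, g3, g3, g6]),
   (123, []),
   (427, [g6, g2, g3, g1, g1, g4, g4, g4, g6]),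
   (288, [g1, g3, g4, g1, g1, g3, g2, g3, g4, g3, g2, g4, g6, g3, g3, g3]),
   (429, [g4, g4, g4, g5, g6]),
   (321, [g2, g3, g1, g1, g2, g2, g3, g6, g2, g4, g4, g3, g5, g6, g5]),
   (431, [g4, g4, g5, g6, g5]),
   (235, [g1, g6, g3, g2, g1, g4, g3, g2, g4, g3, g4, g4, g5]),
   (221, [g1, g6, g2, g1, g2, g1, g2, g2, g6, g2, g5, g3, g6]),
   (128, []),
   (517, [g2, g1, g3, g2, g1, g6, g2, g4, g4, g2, g2, g6, g3, g3, g3, g5]),
   (257, [g1, g1, g6, g1, g1, g3, g2, g4, g2, g4, g4, g4, g3, g3]),
   (154, [g2, g6, g4, g1, g2, g1, g1, g4, g4, g2, g4, g2, g4, g4, g4, g3, g3, g6]),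
   (615, [g4, g1, g2, g3, g1, g1, g2, g2, g2, g6, g2, g3, g5, g3, g5, g6])]

/-- Part 61 of cert0. -/
noncomputable def cert0_61 : List (ℕ × List ℕ) :=
  [(439, [g4, g4, g2, g4, g2, g3, g6, g5, g3, g5, g6]),
   (396, [g4, g2, g4, g1, g4, g2, g6, g2, g2, g2, g3, g6, g5, g3, g6]),
   (132, [g4, g1, g2, g1, g6, g2, g6, g2, g4, g4, g3, g3, g5, g6, g5]),
   (442, [g5, g4, g1, g1, g3, g4, g2, g6, g4, g3, g5, g6, g5]),
   (420, [g2, g2, g2, g1, g1, g3, g2, g4, g2, g2, g4, g4, g6, g5]),
   (133, []),
   (182, [g1, g5, g1, g2, g1, g4, g2, g4, g2, g2, g6, g5, g3]),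
   (571, [g1, g1, g1, g5, g1, g4, g2, g4, g4, g3, g2, g4, g4, g4, g3, g3, g6]),
   (575, [g1, g2, g1, g1, g1, g5, g4, g6, g2, g4, g2, g2, g4, g4, g6, g5]),
   (448, [g2, g2, g3, g2, g1, g1, g3, g3, g3, g5, g6, g5]),
   (506, [g3, g2, g6, g1, g1, g1, g4, g6, g2, g2, g4, g6, g3]),
   (365, [g2, g1, g2, g4, g1, g2, g2, g4, g3, g2, g5, g3, g3, g3, g5, g6, g5]),
   (622, [g2, g1, g1, g1, g1, g2, g3, g6, g2, g2, g5, g6, g3, g6, g5]),
   (452, [g2, g2, g3, g2, g1, g1, g3, g3, g3, g5, g6, g5]),
   (204, [g5, g2, g1, g3, g1, g1, g1, g3, g2, g3, g4, g2, g2, g4, g4, g5, g6]),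
   (454, [g5]),
   (243, [g4, g2, g1, g4, g1, g2, g2, g6]),
   (456, [g5, g2, g4, g2, g5, g3, g3, g3]),
   (141, []),
   (512, [g1, g1, g1, g1, g1, g4, g2, g4, g2, g6, g3, g5, g6, g5]),
   (502, [g2, g5, g4, g1, g1, g3, g3, g3, g5, g6, g5]),
   (142, []),
   (201, [g2, g5, g4, g1, g1, g6, g2, g2, g2, g5, g3, g3, g3, g6, g5]),
   (462, [g2, g1, g3, g1, g1, g1, g2, g6, g2, g4, g6, g3, g5, g6]),
   (342, [g3, g1, g3, g2, g4, g1, g2, g3, g4, g3, g2, g3, g4, g4, g4, g6, g5]),
   (464, [g1, g2, g1, g3, g6, g2, g5, g3, g3, g3]),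
   (409, [g1, g2, g6, g3, g2, g1, g3, g2, g3, g4, g2, g2, g5, g3, g5, g6, g5]),
   (466, [g6, g3, g1, g1, g3, g4, g2, g3, g3, g5, g6]),
   (351, [g4, g4, g2, g2, g1, g3, g4, g2, g4, g4, g2, g2, g6, g3, g5, g3, g5, g6, g5]),
   (510, [g6, g1, g3, g2, g1, g2, g6, g2, g3, g6, g5, g3]),
   (398, [g2, g3, g2, g1, g1, g6, g3, g2, g2, g6, g3, g2, g5, g6, g5, g3, g5]),
   (335, [g4, g1, g2, g3, g1, g1, g2, g4, g2, g2, g4, g2, g5, g6, g4, g3, g5]),
   (471, [g6, g1, g2, g1, g1, g4, g4, g2, g2, g4, g2, g4, g3, g3]),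
   (656, [g5, g3, g1, g1, g1, g2, g3, g4, g2, g2, g5, g3, g3, g3, g5, g6, g5]),
   (474, [g6, g1, g2, g1, g1, g4, g4, g2, g2, g4, g2, g4, g3, g3]),
   (473, [g6, g1, g2, g1, g1, g4, g4, g2, g2, g4, g2, g4, g3, g3]),
   (596, [g5, g2, g1, g1, g4, g1, g3, g2, g3, g4, g3, g2, g6, g3, g5]),
   (477, [g5, g2, g1, g1, g3, g4, g2, g2, g5, g6, g4, g3, g6, g5]),
   (476, [g5, g2, g1, g1, g3, g4, g2, g2, g5, g6, g4, g3, g6, g5]),
   (478, [g2, g6, g2, g3, g5]),
   (287, [g1, g1, g1, g1, g1, g2, g2, g6, g2, g2, g4, g4, g3, g5, g6]),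
   (519, [g1, g4, g3, g1, g1, g1, g3, g2, g4, g2, g2, g3, g5, g4, g4, g3, g5, g6, g5]),
   (481, [g2, g6, g4, g1, g2, g1, g1, g4, g4, g2, g4, g2, g4, g4, g4, g3, g3, g6]),
   (642, [g1, g1, g1, g6, g1, g1, g3, g4, g2, g4, g2, g4, g6, g3, g3, g3, g6, g5]),
   (591, [g4, g1, g4, g1, g1, g2, g4, g4, g2, g2, g4, g3, g3, g5, g6, g5]),
   (484, [g1, g5, g2, g3, g1, g1, g3, g2, g2, g4, g3, g2, g5, g6, g4, g3, g5, g6]),
   (558, [g5, g3, g1, g4, g1, g1, g2, g2, g2, g3, g3, g3, g5, g6]),
   (636, [g2, g3, g2, g1, g1, g3, g4, g2, g2, g5, g3, g5, g6, g5]),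
   (487, [g3, g5, g2, g1, g1, g3, g4, g2, g2, g4, g6, g3, g5, g6, g5]),
   (304, [g3, g5, g1, g5, g1, g3, g5, g2, g4, g2, g4, g3, g3, g5, g6]),
   (402, [g2, g5, g1, g4, g1, g1, g1, g2, g6, g3, g2, g6, g3, g5, g3, g5]),
   (166, []),
   (491, [g2, g4, g2, g4, g1, g1, g3, g2, g6, g2, g5, g6]),
   (347, [g5, g3, g1, g4, g1, g1, g4, g2, g6, g3, g2, g5, g6, g4, g3, g5, g6, g5]),
   (493, [g4, g4, g5, g6, g5]),
   (167, []),
   (374, [g4, g6, g3, g2, g1, g3, g6, g2, g3, g6, g5, g3, g6, g5]),
   (496, [g3, g2, g3, g4, g2, g4, g4, g4, g3, g3, g5, g6, g5]),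
   (497, [g2, g6, g4, g1, g2, g1, g1, g4, g4, g2, g4, g2, g4, g4, g4, g3, g3, g6]),
   (498, [g4, g3, g4, g1, g1, g3, g4, g2, g5, g6, g4, g3, g6, g5]),
   (611, [g6, g3, g2, g3, g1, g4, g2, g6, g2, g5, g6, g5, g3]),
   (172, []),
   (501, [g3, g2, g3, g1, g1, g4, g3, g4, g4]),
   (459, [g2, g2, g3, g2, g1, g1, g2, g2, g3, g4, g2, g2, g4, g4, g4, g3, g3])]

/-- Part 62 of cert0. -/
noncomputable def cert0_62 : List (ℕ × List ℕ) :=
  [(503, [g2, g5, g4, g1, g1, g2, g2, g3, g4, g2, g2, g4, g4, g4, g3, g3]),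
   (545, [g6, g1, g5, g1, g6, g2, g4, g4, g3, g2, g3, g5, g3]),
   (505, [g6, g1, g1, g4, g1, g4, g4, g2, g4, g2, g3, g3, g5, g6]),
   (449, [g6, g2, g1, g5, g1, g6, g5, g2, g4, g2, g2, g5]),
   (509, [g6, g1, g1, g4, g1, g4, g4, g2, g4, g2, g3, g3, g5, g6]),
   (177, []),
   (507, [g6, g1, g1, g4, g1, g4, g4, g2, g4, g2, g3, g3, g5, g6]),
   (468, [g2, g1, g3, g2, g1, g4, g2, g2, g4, g4, g2, g2, g4, g4, g6, g5]),
   (511, [g2, g1, g3, g2, g1, g2, g4, g4, g2, g2, g6, g3, g3, g3, g5]),
   (458, [g1, g4, g2, g4, g1, g6, g3, g2, g6, g2, g2, g5, g3, g3, g3]),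
   (513, [g2, g2, g5, g2, g1, g1, g3, g4, g3, g2, g4, g3, g5, g6]),
   (514, [g5, g2, g1, g3, g1, g1, g1, g2, g6, g2, g4, g6, g3, g5, g6, g5]),
   (515, [g2, g5, g2, g1, g1, g3, g4, g2, g2, g2, g5, g3, g5]),
   (593, [g2, g1, g3, g4, g1, g1, g2, g3, g4, g2, g4, g4, g5, g6, g5]),
   (435, [g2, g6, g4, g1, g2, g1, g1, g5, g2, g4, g2, g6, g3, g6]),
   (416, [g1, g4, g2, g1, g1, g1, g2, g4, g2, g2, g3, g5, g6]),
   (480, [g5, g3, g1, g3, g5, g1, g6, g5, g2, g4, g2, g2, g3, g4, g4, g4, g6, g5]),
   (678, [g3, g4, g4, g1, g3, g1, g2, g2, g3, g4, g3, g2, g4, g3, g3, g5]),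
   (521, [g2, g2, g1, g4, g1, g1, g1, g6, g2, g5, g4, g4, g3, g5]),
   (249, [g5, g1, g2, g1, g1, g4, g2, g2, g4, g4, g2, g2, g3, g4, g4, g5, g6, g5]),
   (547, [g5, g2, g4, g2, g1, g1, g2, g2, g2, g6, g4, g3, g6, g5]),
   (524, [g2, g6, g3, g2, g5, g3]),
   (315, [g1, g5, g2, g3, g1, g1, g2, g6, g2, g2, g6, g3, g5, g6]),
   (359, [g1, g1, g2, g1, g1, g2, g2, g4, g4, g3, g2, g3, g4, g4]),
   (565, [g2, g2, g3, g1, g1, g2, g2, g6, g2, g2, g5, g3, g5]),
   (687, [g4, g3, g1, g1, g2, g1, g2, g4, g2, g2, g2, g3, g5, g4, g4, g3, g6]),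
   (529, [g2, g3, g1, g2, g1, g3, g5, g4, g4, g3, g5, g6]),
   (530, [g4, g3, g2, g6, g1, g1, g4, g4, g2, g4, g2, g4, g4]),
   (535, [g3, g1, g1, g3, g1, g1, g6, g2, g2, g6, g3, g5, g6]),
   (532, [g3, g4, g2, g4, g1, g1, g2, g2, g3, g4, g2, g2, g3, g3, g6]),
   (534, [g4, g1, g4, g1, g3, g1, g4, g4, g2, g6, g2, g2, g2, g3, g3, g6]),
   (533, [g4, g1, g4, g1, g3, g1, g4, g4, g2, g6, g2, g2, g2, g3, g3, g6]),
   (531, [g4, g2, g2, g3, g1, g2, g2, g4, g2, g5, g6, g3, g5]),
   (206, [g6, g1, g5, g3, g2, g1, g4, g4, g2, g4, g2, g5, g6, g5, g3]),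
   (232, [g2, g4, g1, g3, g1, g3, g2, g4, g2, g5, g3, g3, g3, g5]),
   (410, [g1, g4, g4, g2, g1, g2, g3, g4, g2, g2, g2, g5, g6, g3, g5]),
   (559, [g6, g1, g1, g2, g4, g2, g6, g2, g2, g2, g6, g5, g3, g6, g5]),
   (540, [g5, g2, g4, g2, g5, g3, g3, g3]),
   (541, [g1, g2, g1, g1, g4, g4, g2, g2, g4, g2, g4, g3, g3, g6]),
   (198, []),
   (337, [g5, g1, g4, g1, g1, g1, g6, g2, g2, g4, g4, g2, g2, g5, g3, g3, g3, g6, g5]),
   (255, [g2, g3, g1, g1, g1, g2, g4, g4, g3, g2, g4, g3, g4, g4, g6]),
   (504, [g3, g1, g3, g1, g1, g3, g6, g2, g5, g3, g5]),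
   (546, [g4, g2, g4, g1, g1, g2, g2, g3, g4, g2, g2, g6, g3, g3, g3]),
   (523, [g4, g1, g1, g6, g1, g1, g1, g2, g2, g3, g4, g3, g2, g4, g4, g5, g6, g5]),
   (548, [g2, g1, g2, g1, g3, g6, g2, g2, g5, g6, g4, g3, g6]),
   (229, [g1, g1, g3, g1, g6, g2, g6, g3, g2, g6, g4, g3]),
   (554, [g4, g1, g1, g4, g2, g4, g2, g6, g3, g5]),
   (560, [g2, g4, g4, g2, g2, g1, g4, g2, g5, g2, g4, g2, g4, g6, g3, g5, g6, g5]),
   (666, [g2, g5, g1, g2, g1, g2, g3, g6, g5, g3, g6, g5]),
   (553, [g4, g2, g6, g3, g2, g6, g3, g5, g3]),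
   (550, [g3, g6, g1, g2, g1, g1, g3, g5, g2, g4, g2, g2, g3, g5, g3]),
   (370, [g6, g2, g3, g1, g1, g4, g2, g6, g2, g2, g2, g4, g4, g4, g5]),
   (618, [g2, g3, g1, g2, g1, g1, g3, g4, g2, g4, g2, g6, g3, g3, g3, g5]),
   (208, []),
   (485, [g1, g4, g3, g1, g3, g4, g2, g2, g5, g6, g4, g3]),
   (539, [g1, g5, g1, g2, g1, g2, g2, g2, g3, g5, g3, g5]),
   (551, [g3, g4, g3, g1, g2, g2, g3, g5, g6]),
   (561, [g4, g3, g4, g1, g1, g3, g4, g2, g5, g6, g4, g3, g6, g5]),
   (562, [g4, g2, g4, g1, g1, g2, g2, g3, g4, g2, g2, g6, g3, g3, g3]),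
   (563, [g2, g5, g2, g1, g1, g3, g4, g2, g2, g2, g5, g3, g5]),
   (234, [g1, g3, g4, g3, g2, g1, g3, g2, g3, g4, g3, g2, g6]),
   (527, [g5, g2, g4, g1, g1, g4, g6, g2, g3, g3]),
   (579, [g1, g1, g4, g1, g2, g2, g2, g6, g3, g2, g6, g3, g6])]

/-- Part 63 of cert0. -/
noncomputable def cert0_63 : List (ℕ × List ℕ) :=
  [(225, []),
   (393, [g2, g1, g1, g3, g1, g1, g4, g4, g2, g2, g4, g2, g5, g4, g4, g3, g5, g6]),
   (392, [g2, g1, g1, g3, g1, g1, g4, g4, g2, g2, g4, g2, g5, g4, g4, g3, g5, g6]),
   (378, [g4, g3, g2, g6, g3, g3, g3, g6]),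
   (446, [g5, g1, g3, g1, g1, g4, g6, g2, g4, g2, g2, g4, g3, g3]),
   (572, [g4, g6, g3, g3, g3, g5, g6, g5]),
   (332, [g5, g1, g4, g1, g1, g1, g4, g2, g2, g2, g6, g2, g4, g3, g3, g5]),
   (606, [g1, g6, g2, g1, g2, g1, g3, g2, g4, g2, g2, g3, g3, g5, g6]),
   (447, [g2, g6, g3, g2, g1, g3, g6, g2, g4, g2, g2, g4, g4, g5, g6]),
   (624, [g3, g6, g1, g1, g2, g2, g3, g4, g3, g2, g3, g4, g4, g4, g5, g6]),
   (602, [g1, g1, g2, g1, g1, g3, g6, g2, g4, g2, g2]),
   (419, [g3, g4, g1, g5, g3, g1, g6, g2, g2, g6, g2, g2, g4, g4, g4]),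
   (566, [g1, g3, g1, g1, g2, g1, g2, g2, g4, g2, g3, g5, g3, g5, g6, g5]),
   (580, [g4, g6, g3, g3, g3, g5, g6, g5]),
   (384, [g3, g1, g4, g2, g4, g4, g3, g2, g5, g6, g4, g3, g5, g6, g5]),
   (245, [g6, g3, g2, g3, g1, g6, g3, g2, g2, g6, g3, g2, g6, g3, g6, g5]),
   (583, [g2, g6, g2, g1, g1, g2, g2, g3, g4, g2, g3, g6]),
   (584, [g3, g5, g2, g4, g2, g3, g3, g5]),
   (585, [g2, g5, g2, g4, g2, g2, g5, g6, g4, g3, g6]),
   (683, [g3, g3, g1, g1, g1, g2, g2, g5, g3, g6]),
   (587, [g5, g6, g4, g3]),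
   (248, []),
   (589, [g2, g3, g2, g1, g1, g3, g4, g2, g4, g3, g5, g6, g5]),
   (590, [g2, g4, g2, g2, g1, g1, g6, g2, g2, g4, g3, g2, g4, g4, g3, g3, g6, g5]),
   (483, [g5, g2, g1, g6, g1, g1, g1, g2, g2, g2, g6, g3, g2, g5, g4, g4, g3, g5, g6]),
   (394, [g1, g1, g1, g3, g2, g6, g2, g4, g6, g3, g3, g3, g5, g6]),
   (516, [g3, g4, g2, g1, g1, g1, g6, g2, g2, g3, g4, g2, g6, g3, g6]),
   (355, [g3, g4, g4, g1, g3, g1, g2, g6, g2, g6, g3, g3, g3, g6, g5]),
   (598, [g3, g1, g2, g1, g4, g1, g2, g2, g6, g3, g5, g3, g6]),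
   (475, [g2, g1, g3, g1, g1, g1, g2, g3, g4, g2, g6, g5]),
   (297, [g1, g2, g1, g4, g3, g1, g3, g4, g2, g3, g4, g4, g6, g5]),
   (595, [g4, g1, g1, g1, g1, g1, g2, g2, g2, g6, g2, g5, g6, g3, g5, g6]),
   (635, [g2, g3, g1, g1, g2, g4, g2, g2, g2, g4, g4, g4, g3, g3, g6]),
   (600, [g3, g2, g3, g6, g2, g5]),
   (690, [g4, g6, g1, g1, g2, g2, g6, g2, g4, g3, g4, g4, g5, g6, g5]),
   (577, [g1, g5, g1, g2, g1, g1, g6, g2, g6, g2, g4, g3, g4, g4, g6]),
   (613, [g6, g1, g1, g4, g4, g2, g3, g3, g3, g5]),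
   (269, []),
   (623, [g2, g6, g1, g1, g1, g2, g4, g4, g2, g2, g2, g3, g4, g4, g4, g6]),
   (574, [g3, g5, g3, g1, g6, g2, g3, g6, g2, g2, g3, g6, g5, g3, g5, g6]),
   (625, [g3, g5, g2, g3, g1, g1, g2, g3, g5, g4, g4, g3, g6]),
   (608, [g5]),
   (609, [g2, g5, g2, g2, g1, g1, g3, g4, g3, g2, g4, g6, g3, g3, g3, g5, g6, g5]),
   (376, [g4, g1, g1, g2, g1, g5, g2, g4, g2, g2, g4, g3, g4, g4]),
   (499, [g6, g3, g2, g3, g1, g2, g2, g3, g6, g2, g5, g6, g4, g3, g6, g5]),
   (290, []),
   (603, [g3, g5, g2, g1, g1, g2, g2, g6, g2, g6, g3, g3, g3, g6, g5]),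
   (614, [g6, g3, g1, g1, g3, g4, g2, g3, g3, g5, g6]),
   (438, [g3, g2, g6, g1, g1, g1, g2, g2, g3, g6, g2, g3, g4, g4, g6, g5]),
   (616, [g2, g5, g2, g2, g1, g1, g3, g4, g3, g2, g4, g6, g3, g3, g3, g5, g6, g5]),
   (617, [g2, g1, g1, g3, g4, g2, g2, g5, g6, g4, g3, g6]),
   (556, [g4, g2, g1, g1, g2, g2, g4, g2, g4, g4]),
   (313, [g2, g2, g6, g1, g1, g1, g4, g2, g6, g2, g2, g2, g4, g3, g3]),
   (620, [g1, g1, g6, g1, g1, g1, g4, g3, g2, g6, g2, g2, g3, g6, g5, g3, g5, g6]),
   (412, [g1, g3, g1, g2, g2, g2, g6, g3, g2, g4, g4, g3, g5, g6]),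
   (451, [g2, g1, g3, g4, g1, g4, g2, g2, g4, g2, g6, g3, g3, g3, g6]),
   (605, [g4, g2, g1, g4, g3, g1, g4, g2, g2, g4, g4, g2, g2, g5, g3, g4, g4, g6]),
   (576, [g3, g2, g1, g2, g1, g2, g4, g4, g4, g3, g3, g6]),
   (607, [g2, g2, g1, g1, g2, g2, g4, g3, g2, g3, g4, g4]),
   (626, [g1, g6, g3, g2, g1, g6, g2, g3, g4, g2, g4, g4, g5]),
   (627, [g6, g3, g2, g2, g1, g1, g3, g4, g2, g2, g2, g4, g3, g5]),
   (665, [g4, g3, g1, g1, g1, g4, g2, g6, g3, g2, g6, g3, g5, g3, g6, g5]),
   (629, [g4, g1, g2, g1, g1, g4, g4, g2, g2, g4, g2, g4, g4, g4, g3, g3, g5, g6]),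
   (662, [g1, g5, g3, g2, g1, g5, g4, g6, g2, g4, g2, g2, g3, g6, g5, g3, g5])]

/-- Part 64 of cert0. -/
noncomputable def cert0_64 : List (ℕ × List ℕ) :=
  [(369, [g6, g2, g1, g2, g1, g2, g2, g6, g2, g4, g3, g4, g4, g6]),
   (632, [g2, g4, g2, g1, g1, g6, g2, g2, g3, g4, g2, g4, g6, g3]),
   (633, [g4, g2, g2, g1, g1, g3, g4, g2, g2, g2, g3, g4, g4, g4, g6]),
   (692, [g2, g4, g1, g3, g1, g1, g1, g4, g2, g3, g4, g2, g2, g6, g4, g3]),
   (599, [g1, g2, g1, g2, g4, g2, g2, g4, g2, g3, g6, g5]),
   (486, [g4, g6, g1, g1, g2, g4, g3, g2, g6, g5, g3]),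
   (404, [g2, g3, g1, g1, g1, g4, g2, g2, g2, g4, g4, g3]),
   (407, [g3, g5, g3, g2, g1, g2, g5, g2, g4, g2, g2, g4, g6, g3, g5, g6, g5]),
   (660, [g4, g1, g4, g1, g3, g1, g2, g3, g4, g3, g2, g4, g6, g3, g6]),
   (640, [g2, g3, g1, g2, g1, g3, g5, g4, g4, g3, g5, g6]),
   (341, []),
   (482, [g5, g1, g3, g1, g1, g1, g5, g2, g4, g2, g6, g3, g5, g3]),
   (379, [g4, g1, g3, g1, g1, g1, g3, g2, g5, g3, g4, g4, g5, g6, g5]),
   (348, []),
   (368, [g2, g5, g1, g1, g2, g1, g4, g2, g4, g4, g2, g2, g6, g3, g3, g3, g6, g5]),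
   (646, [g3, g2, g6, g1, g1, g4, g4, g2, g4, g2, g4, g4, g4]),
   (647, [g5, g1, g4, g1, g1, g1, g2, g4, g4, g2, g2, g2, g5, g4, g4, g3, g5, g6, g5]),
   (648, [g6, g2, g6, g2, g3, g5, g6]),
   (649, [g2, g1, g1, g3, g4, g2, g2, g5, g6, g4, g3, g6]),
   (650, [g4, g4, g2, g4, g2, g3, g6, g5, g3, g5, g6]),
   (651, [g3, g1, g2, g1, g1, g4, g4, g2, g2, g4, g2, g4, g6, g3]),
   (652, [g6, g2, g2, g6, g2, g2, g3, g4, g4, g4, g5]),
   (373, [g4, g1, g1, g3, g2, g1, g6, g2, g2, g2, g5, g6, g3, g6, g5]),
   (654, [g3, g2, g3, g4, g2, g4, g4, g4, g3, g3, g5, g6, g5]),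
   (655, [g6, g2, g2, g6, g2, g2, g3, g4, g4, g4, g5]),
   (472, [g5, g3, g1, g1, g1, g1, g2, g2, g4, g4, g2, g2, g4, g4, g3, g5, g6]),
   (657, [g2, g6, g1, g1, g4, g4, g2, g4, g2, g6, g5, g3, g6]),
   (422, [g2, g5, g2, g1, g1, g4, g2, g2, g2, g6, g2, g4, g4, g4, g5, g6]),
   (659, [g3, g2, g3, g6, g2, g5]),
   (639, [g1, g4, g2, g2, g2, g1, g2, g4, g4, g2, g2, g2, g6, g3, g5, g3]),
   (661, [g3, g4, g2, g3, g6, g2, g6, g3, g5]),
   (630, [g3, g6, g1, g3, g5, g1, g3, g2, g4, g4, g3, g2, g5, g3, g3, g3, g6, g5]),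
   (669, [g6, g1, g1, g1, g1, g1, g2, g3, g6, g2, g2, g5, g3, g3, g3, g6, g5]),
   (391, []),
   (628, [g1, g2, g2, g3, g1, g3, g5, g2, g4, g2, g4, g6, g3, g3, g3, g5, g6]),
   (552, [g1, g1, g2, g2, g1, g1, g2, g2, g3, g4, g2, g2, g5, g4, g4, g3, g6, g5]),
   (667, [g4, g1, g3, g1, g1, g1, g2, g6, g2, g2, g4, g4, g4, g3, g3, g6]),
   (405, []),
   (663, [g1, g5, g1, g3, g2, g6, g2, g2, g5, g6, g5, g3, g5, g6, g5]),
   (685, [g6, g1, g4, g1, g1, g2, g4, g4, g2, g2, g3, g3, g5]),
   (424, [g3, g6, g3, g2, g1, g3, g2, g2, g6, g3, g2, g3, g6, g5, g3, g5]),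
   (672, [g6, g3, g5, g2, g1, g1, g3, g4, g2, g2, g4, g6, g3, g6, g5]),
   (673, [g1, g4, g4, g3, g1, g1, g1, g6, g5, g2, g4, g2, g2, g6, g3, g5, g6]),
   (674, [g1, g1, g3, g4, g3, g2, g1, g4, g2, g4, g2, g2, g4, g3, g3, g5, g6]),
   (423, []),
   (676, [g3, g2, g1, g2, g1, g3, g6, g2, g2, g4, g4, g4, g5, g6, g5]),
   (677, [g2, g1, g1, g3, g4, g2, g2, g5, g6, g4, g3, g6]),
   (520, [g4, g1, g1, g1, g1, g4, g4, g2, g4, g2, g3, g3, g3, g5]),
   (680, [g1, g6, g3, g2, g1, g6, g2, g2, g4, g4, g2, g2, g5, g6, g3, g6]),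
   (679, [g4, g2, g4, g1, g1, g2, g6, g2, g3, g6, g2, g2, g4, g5, g6, g5]),
   (681, [g4, g2, g1, g2, g1, g1, g4, g2, g4, g2, g2, g4, g4, g5, g6, g5]),
   (682, [g2, g1, g3, g1, g1, g1, g2, g6, g2, g4, g6, g3, g5, g6]),
   (586, [g1, g4, g2, g1, g1, g2, g2, g2, g6, g3, g2, g3, g6]),
   (684, [g2, g3, g1, g2, g1, g3, g5, g4, g4, g3, g5, g6]),
   (670, [g1, g1, g2, g4, g1, g6, g2, g2, g2, g4, g4, g3, g6, g5]),
   (688, [g2, g2, g3, g1, g2, g2, g3, g4, g3, g2, g6, g3, g6, g5]),
   (528, [g1, g4, g4, g2, g1, g4, g6, g2, g4, g2, g2, g5, g6, g5, g3]),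
   (686, [g2, g6, g3, g2, g1, g4, g2, g4, g2, g2, g4, g3, g3, g5, g6, g5]),
   (689, [g6, g1, g1, g4, g1, g4, g4, g2, g4, g2, g3, g3, g5, g6]),
   (601, [g1, g1, g3, g5, g2, g4, g2, g3, g4, g4, g4, g5, g6]),
   (691, [g1, g3, g2, g2, g1, g1, g4, g2, g4, g2, g2, g5, g6, g3, g6, g5]),
   (634, [g3, g1, g6, g3, g2, g1, g6, g2, g2, g3, g4, g2, g4, g4, g5, g6, g5]),
   (0, [g6]),
   (8, [])]

/-- Part 65 of cert0. -/
noncomputable def cert0_65 : List (ℕ × List ℕ) :=
  [(15, []),
   (3, [g2, g5, g4, g1, g1, g2, g2, g3, g4, g2, g2, g4, g4, g4, g3, g3]),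
   (27, []),
   (32, []),
   (39, []),
   (44, []),
   (1, []),
   (55, []),
   (60, [g6, g1, g4, g2, g1, g1, g2, g3, g6, g2, g2, g4, g4, g6]),
   (68, []),
   (73, []),
   (78, []),
   (14, [g6, g1, g3, g2, g1, g4, g4, g2, g6, g2, g2, g2, g5, g6, g3, g5, g6, g5]),
   (2, []),
   (91, []),
   (17, [g4, g2, g4, g1, g1, g2, g2, g3, g4, g2, g2, g6, g3, g3, g3]),
   (101, []),
   (107, []),
   (114, []),
   (117, []),
   (122, []),
   (121, [g1, g6, g1, g2, g4, g1, g3, g4, g2, g3, g6, g2, g3, g3, g3, g5, g6, g5]),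
   (42, [g2, g6, g4, g1, g2, g1, g1, g4, g2, g2, g2, g4, g2, g5]),
   (137, []),
   (26, [g2, g2, g3, g2, g1, g1, g3, g3, g3, g5, g6, g5]),
   (4, []),
   (100, [g3, g4, g1, g1, g4, g4, g2, g2, g4, g2, g3, g6, g5, g3, g5, g6]),
   (151, []),
   (156, []),
   (31, [g2, g6, g4, g1, g2, g1, g1, g4, g4, g2, g4, g2, g4, g4, g4, g3, g3, g6]),
   (5, []),
   (33, [g3, g2, g2, g1, g1, g3, g4, g2, g2, g2, g4, g3, g5, g6]),
   (170, []),
   (176, []),
   (178, []),
   (49, [g2, g6, g2, g3, g5]),
   (38, [g2, g6, g2, g3, g5]),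
   (6, []),
   (193, []),
   (41, [g2, g5, g4, g1, g1, g2, g2, g3, g4, g2, g2, g4, g4, g4, g3, g3]),
   (24, [g2, g2, g3, g2, g1, g1, g6, g2, g6, g3, g2, g4, g4, g6]),
   (43, [g2, g6, g2, g3, g5]),
   (7, []),
   (209, [g5, g1, g2, g1, g1, g4, g4, g2, g2, g4, g2, g3, g6, g5, g3]),
   (213, [g1, g2, g2, g1, g1, g4, g2, g2, g2, g6, g2, g3, g6, g5]),
   (133, [g4, g2, g1, g5, g1, g4, g4, g2, g4, g6, g3, g5, g6, g5]),
   (220, []),
   (37, [g2, g6, g2, g3, g5]),
   (227, [g6, g3, g5, g2, g1, g1, g3, g4, g2, g2, g4, g4, g4, g6, g5]),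
   (234, []),
   (52, [g4, g6, g5]),
   (243, []),
   (230, [g2, g2, g2, g6, g5]),
   (9, []),
   (111, [g2, g2, g2, g1, g4, g2, g5, g2, g4, g2, g4, g4, g5, g6]),
   (204, [g2, g1, g3, g4, g1, g4, g4, g2, g2, g4, g2, g4, g3, g5, g6]),
   (172, [g1, g3, g5, g1, g4, g4, g2, g2, g4, g2, g3, g6, g5, g3, g5]),
   (59, [g2, g1, g2, g1, g1, g4, g2, g4, g2, g2, g4, g5, g6, g5]),
   (10, [g2, g1, g1, g1, g1, g1, g6, g2, g2, g4, g3, g2, g5, g3, g5, g6]),
   (61, [g2, g6, g2, g1, g1, g2, g2, g3, g4, g2, g3, g6]),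
   (272, []),
   (63, [g5, g1, g3, g1, g1, g1, g2, g6, g2, g2, g3, g3]),
   (146, [g1, g2, g6, g1, g1, g3, g2, g3, g6, g2, g3, g3, g3, g6, g5]),
   (284, [])]

/-- Part 66 of cert0. -/
noncomputable def cert0_66 : List (ℕ × List ℕ) :=
  [(285, []),
   (283, [g1, g5, g6, g1, g1, g6, g2, g4, g4, g2, g2, g5, g6, g4, g3, g5, g6, g5]),
   (11, []),
   (69, [g5, g1, g2, g1, g3, g6, g2, g5, g3, g3, g3, g5]),
   (295, [g2, g4, g2, g1, g1, g1, g1, g2, g4, g2, g4, g2, g2, g4, g6, g3, g3, g3, g5]),
   (84, [g2, g1, g1, g3, g4, g2, g2, g5, g6, g4, g3, g6]),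
   (72, [g2, g1, g1, g3, g4, g2, g2, g5, g6, g4, g3, g6]),
   (12, []),
   (258, [g2, g6, g3, g2, g1, g4, g2, g6, g2, g2, g2, g3, g5, g3, g5, g6]),
   (307, []),
   (76, [g1, g5, g6, g1, g1, g6, g2, g4, g4, g2, g2, g5, g6, g4, g3, g5, g6, g5]),
   (77, [g3, g2, g6, g2, g4, g3, g5, g6]),
   (13, []),
   (79, [g3, g2, g3, g4, g3, g2, g4, g4, g4, g5, g6]),
   (288, [g6, g5, g1, g2, g1, g1, g2, g2, g2, g5, g3, g3, g3, g5, g6, g5]),
   (81, [g2, g2, g6, g1, g1, g5, g4, g6, g2, g4, g2, g2, g3, g5]),
   (197, [g1, g2, g6, g1, g4, g1, g4, g4, g3, g2, g4, g4, g3, g3, g5]),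
   (326, []),
   (71, [g2, g1, g1, g3, g4, g2, g2, g5, g6, g4, g3, g6]),
   (255, [g1, g1, g1, g4, g1, g2, g5, g2, g4, g2, g2, g3, g3, g3, g5, g6, g5]),
   (333, []),
   (87, [g2, g4, g2, g2, g1, g1, g6, g2, g2, g4, g3, g2, g4, g4, g3, g3, g6, g5]),
   (340, []),
   (335, [g5, g3, g2, g2, g1, g2, g3, g4, g3, g2, g4, g3, g4, g4, g6, g5]),
   (90, [g4, g2, g1, g2, g1, g1, g4, g2, g4, g2, g2, g4, g4, g5, g6, g5]),
   (16, []),
   (175, [g1, g1, g4, g3, g1, g3, g4, g2, g3, g6, g2, g4, g3, g3, g6]),
   (109, [g3, g2, g3, g1, g3, g5, g2, g4, g2, g2, g6, g5, g3]),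
   (94, [g3, g4, g4, g6]),
   (95, [g4, g4, g4, g5, g6]),
   (354, [g3, g4, g1, g5, g3, g1, g2, g2, g3, g4, g2, g2, g4]),
   (302, [g3, g5, g2, g1, g1, g1, g4, g2, g4, g2, g3, g6, g5, g3, g6, g5]),
   (120, [g6, g4, g2, g1, g1, g1, g6, g2, g2, g3, g4, g2, g4, g3, g4, g4, g5]),
   (99, [g2, g2, g2, g1, g1, g3, g4, g3, g2, g4, g4, g4, g3, g3, g5, g6, g5]),
   (28, [g5, g1, g2, g1, g1, g6, g2, g2, g3, g4, g2, g5, g3, g5, g6]),
   (18, []),
   (373, []),
   (289, [g1, g1, g5, g2, g1, g1, g2, g4, g2, g5, g3, g3, g3]),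
   (112, [g3, g6, g1, g2, g4, g1, g4, g2, g6, g3, g2, g4, g6, g3, g3, g3, g6]),
   (105, [g2, g5, g4, g1, g1, g2, g2, g3, g4, g2, g2, g4, g4, g4, g3, g3]),
   (106, [g2, g3, g1, g2, g1, g3, g5, g4, g4, g3, g5, g6]),
   (19, []),
   (261, [g4, g2, g2, g1, g2, g2, g6, g2, g2, g3, g3]),
   (93, [g2, g1, g5, g3, g1, g3, g2, g2, g4, g3, g2, g6, g4, g3, g6, g5]),
   (394, []),
   (56, [g3, g5, g1, g4, g6, g2, g2, g3, g6, g5, g3]),
   (104, [g6, g1, g5, g3, g2, g1, g2, g2, g6, g2, g2, g6, g4, g3, g5, g6]),
   (377, [g2, g2, g2, g1, g1, g3, g4, g3, g2, g6, g3]),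
   (20, []),
   (115, [g6, g2, g6, g3, g2, g5, g3, g6]),
   (116, [g2, g2, g3, g1, g1, g3, g4, g3, g2, g5, g6, g4, g3, g6, g5]),
   (21, []),
   (118, [g2, g2, g6, g1, g1, g5, g4, g6, g2, g4, g2, g2, g3, g5]),
   (119, [g5, g2, g1, g1, g3, g4, g2, g2, g5, g6, g4, g3, g6, g5]),
   (98, [g4, g1, g2, g3, g1, g1, g4, g2, g6, g3, g5, g3, g5, g6]),
   (23, [g5, g3, g1, g3, g5, g1, g2, g4, g2, g6, g4, g3, g6]),
   (22, []),
   (369, [g1, g4, g2, g2, g2, g1, g6, g2, g2, g4, g4, g2, g2, g5, g6, g3, g5, g6]),
   (321, [g2, g3, g1, g1, g2, g2, g3, g6, g2, g5, g6, g4, g3, g5, g6, g5]),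
   (358, [g1, g5, g1, g1, g2, g1, g2, g6, g2, g2, g2, g4, g4, g4, g5]),
   (181, [g1, g3, g2, g1, g1, g2, g4, g2, g2, g2, g5, g4, g4, g3]),
   (320, [g2, g2, g2, g1, g4, g2, g6, g3, g2, g6, g3, g6, g5]),
   (128, [g1, g4, g1, g1, g1, g2, g4, g4, g2, g2, g2, g5, g4, g4, g3, g5, g6]),
   (129, [g2, g6, g2, g3, g5])]

/-- Part 67 of cert0. -/
noncomputable def cert0_67 : List (ℕ × List ℕ) :=
  [(344, [g4, g1, g1, g2, g1, g2, g2, g2, g6, g3, g2, g4, g4, g3, g3, g5]),
   (439, []),
   (132, [g2, g5, g4, g1, g1, g2, g2, g3, g4, g2, g2, g4, g4, g4, g3, g3]),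
   (47, [g6, g1, g4, g1, g1, g4, g2, g2, g4, g4, g2, g2, g6, g4, g3, g6, g5]),
   (142, [g2, g2, g3, g2, g1, g1, g3, g3, g3, g5, g6, g5]),
   (448, []),
   (154, []),
   (25, []),
   (263, [g1, g6, g3, g1, g1, g2, g4, g2, g4, g2, g2, g4, g3, g4, g4, g5, g6]),
   (452, [g2, g6, g4, g1, g2, g1, g1, g4, g2, g2, g2, g4, g2, g5]),
   (140, [g3, g5, g2, g1, g1, g3, g4, g2, g2, g4, g6, g3, g5, g6, g5]),
   (361, [g6, g1, g1, g1, g3, g2, g2, g6, g2, g4, g4, g4, g3, g3]),
   (134, [g2, g2, g3, g2, g1, g1, g3, g3, g3, g5, g6, g5]),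
   (143, [g2, g2, g3, g2, g1, g1, g3, g3, g3, g5, g6, g5]),
   (144, [g2, g2, g4, g2, g4, g1, g1, g3, g2, g2, g4, g3, g2, g4, g4, g4]),
   (338, [g1, g2, g1, g4, g2, g4, g2, g2, g3, g4, g4, g4, g5, g6, g5]),
   (64, [g2, g6, g3, g1, g1, g2, g3, g6, g2, g2, g6, g3, g5, g3, g6]),
   (367, [g3, g4, g1, g1, g4, g4, g2, g2, g4, g2, g3, g6, g5, g3, g5, g6]),
   (469, []),
   (149, [g2, g6, g2, g3, g5]),
   (470, []),
   (29, []),
   (474, []),
   (477, []),
   (136, []),
   (219, [g2, g1, g3, g2, g1, g6, g2, g4, g4, g2, g2, g6, g3, g3, g3, g5]),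
   (30, []),
   (157, [g3, g1, g6, g3, g2, g1, g6, g2, g3, g4, g2, g3, g6, g5, g3, g5, g6, g5]),
   (481, [g2, g1, g3, g2, g1, g6, g2, g4, g4, g2, g2, g6, g3, g3, g3, g5]),
   (162, [g2, g6, g4, g1, g2, g1, g1, g5, g2, g4, g2, g6, g3, g6]),
   (160, [g3, g5, g2, g1, g1, g3, g4, g2, g2, g4, g6, g3, g5, g6, g5]),
   (387, [g2, g6, g2, g1, g2, g1, g3, g5, g2, g4, g2, g4, g4, g4]),
   (159, [g2, g1, g3, g2, g1, g6, g2, g4, g4, g2, g2, g6, g3, g3, g3, g5]),
   (163, [g2, g6, g4, g1, g2, g1, g1, g4, g4, g2, g4, g2, g4, g4, g4, g3, g3, g6]),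
   (224, [g5, g2, g1, g1, g4, g1, g2, g3, g4, g2, g2, g2, g4, g4, g4, g6, g5]),
   (478, [g3, g6, g2, g4, g1, g3, g4, g2, g4, g4, g2, g2, g5, g3, g4, g4, g5, g6, g5]),
   (491, []),
   (349, [g1, g1, g4, g1, g2, g2, g6, g3, g2, g5, g6, g3, g6, g5]),
   (168, [g4, g4, g5, g6, g5]),
   (254, [g2, g4, g1, g5, g1, g2, g4, g2, g2, g4, g2, g4, g4, g4, g3, g3, g6, g5]),
   (34, []),
   (498, []),
   (58, [g4, g1, g1, g2, g1, g1, g3, g2, g6, g2, g3, g6, g5]),
   (362, [g2, g5, g2, g2, g1, g1, g3, g2, g6, g2, g4, g4, g3, g3, g5, g6]),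
   (174, [g3, g2, g6, g2, g4, g3, g5, g6]),
   (92, [g5, g1, g1, g2, g1, g3, g2, g4, g2, g3, g6, g5, g3, g5]),
   (35, []),
   (509, []),
   (36, []),
   (218, [g1, g5, g4, g1, g1, g2, g4, g4, g2, g2, g3, g3, g3, g5, g6]),
   (458, [g3, g3, g1, g1, g1, g1, g4, g2, g4, g4, g2, g2]),
   (126, [g2, g1, g2, g1, g2, g1, g2, g2, g4, g4, g3, g2, g4, g3, g4, g4, g6, g5]),
   (461, [g1, g1, g3, g1, g1, g1, g6, g3, g2, g6, g2, g3, g3, g6]),
   (195, [g1, g3, g6, g1, g1, g3, g4, g2, g2, g6, g4, g3, g6, g5]),
   (517, []),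
   (521, []),
   (352, [g3, g6, g1, g2, g4, g1, g2, g2, g6, g3, g5, g3, g5, g6, g5]),
   (187, [g2, g6, g2, g3, g5]),
   (524, []),
   (189, [g1, g2, g1, g3, g6, g2, g5, g3, g3, g3]),
   (190, [g1, g4, g4, g3, g1, g1, g1, g6, g5, g2, g4, g2, g2, g6, g3, g5, g6]),
   (462, [g3, g5, g3, g2, g1, g2, g2, g4, g2, g5, g6, g5, g3, g5, g6]),
   (192, [g3, g2, g4, g2, g3, g5, g3, g5]),
   (40, [])]

/-- Part 68 of cert0. -/
noncomputable def cert0_68 : List (ℕ × List ℕ) :=
  [(194, [g4, g2, g2, g2, g1, g1, g3, g4, g3, g2, g3, g3, g5, g6, g5]),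
   (183, [g3, g2, g3, g1, g1, g1, g2, g2, g4, g4, g2, g2, g4, g3, g3, g5, g6]),
   (479, [g2, g6, g4, g1, g2, g1, g1, g4, g4, g2, g4, g2, g4, g4, g4, g3, g3, g6]),
   (82, [g3, g1, g2, g2, g1, g1, g2, g2, g2, g4, g2, g6, g4, g3, g5, g6]),
   (543, []),
   (544, []),
   (200, [g2, g1, g3, g1, g1, g1, g2, g6, g2, g4, g6, g3, g5, g6]),
   (305, [g4, g3, g1, g1, g2, g1, g2, g6, g3, g2, g3, g4, g4, g4, g6]),
   (202, [g2, g6, g4, g1, g2, g1, g1, g4, g4, g2, g4, g2, g4, g4, g4, g3, g3, g6]),
   (530, [g4, g1, g2, g1, g4, g2, g2, g5, g6]),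
   (57, [g2, g1, g4, g3, g1, g4, g4, g2, g2, g6, g5, g3, g5, g6, g5]),
   (205, [g1, g4, g1, g1, g1, g2, g4, g4, g2, g2, g2, g5, g4, g4, g3, g5, g6]),
   (466, [g4, g1, g3, g1, g2, g4, g4, g3, g2, g6, g5, g3, g5]),
   (552, []),
   (208, [g5, g1, g2, g1, g1, g4, g4, g2, g2, g4, g2, g4, g3, g3, g6, g5]),
   (45, [g6, g1, g3, g2, g1, g4, g4, g2, g6, g2, g2, g2, g4, g6]),
   (210, [g6, g1, g3, g2, g1, g4, g4, g2, g6, g2, g2, g2, g5, g6, g3, g5, g6, g5]),
   (357, [g2, g3, g2, g2, g1, g4, g2, g2, g4, g6, g3, g3, g3, g6, g5]),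
   (212, [g2, g5, g4, g1, g1, g2, g2, g3, g4, g2, g2, g4, g4, g4, g3, g3]),
   (46, [g6, g4, g1, g4, g3, g1, g6, g2, g2, g6, g2, g2, g6, g3, g5, g6]),
   (214, [g2, g2, g3, g1, g1, g3, g4, g3, g2, g5, g6, g4, g3, g6, g5]),
   (456, [g3, g1, g2, g3, g1, g1, g2, g2, g2, g6, g3, g2, g3, g4, g4, g6]),
   (216, [g2, g6, g2, g3, g5]),
   (516, [g5, g3, g2, g2, g1, g2, g2, g6, g2, g2, g6, g3, g3, g3, g6]),
   (179, [g2, g1, g2, g4, g1, g6, g2, g6, g5, g3, g5, g6]),
   (155, [g2, g6, g4, g1, g2, g1, g1, g5, g2, g4, g2, g6, g3, g6]),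
   (48, []),
   (527, [g5, g2, g4, g1, g1, g4, g6, g2, g3, g5, g3]),
   (347, [g2, g2, g1, g2, g6, g2, g4, g2, g2, g4, g4, g4, g3, g3, g6]),
   (359, [g2, g2, g3, g1, g1, g6, g2, g3, g6, g2, g2, g6, g4, g3, g6]),
   (164, [g6, g4, g2, g2, g1, g1, g5, g2, g4, g2, g2, g5, g6, g4, g3, g5, g6, g5]),
   (549, [g2, g2, g1, g2, g4, g1, g3, g2, g6, g2, g3, g4, g4, g5, g6]),
   (226, [g6, g4, g3, g5]),
   (50, [g3, g1, g2, g1, g3, g6, g2, g3, g4, g4, g4, g6]),
   (228, [g3, g4, g2, g4, g1, g1, g2, g2, g3, g4, g2, g2, g3, g3, g6]),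
   (571, []),
   (54, [g4, g2, g2, g4, g6, g3, g3, g3, g5, g6, g5]),
   (573, []),
   (316, [g6, g3, g2, g4, g1, g2, g5, g2, g4, g2, g2, g3, g3, g5, g6, g5]),
   (499, [g1, g4, g1, g1, g2, g1, g1, g3, g2, g4, g4, g3, g2, g5, g6, g4, g3, g6, g5]),
   (51, []),
   (365, [g4, g3, g1, g3, g1, g2, g4, g2, g2, g2, g6, g3, g5, g3, g5, g6]),
   (236, [g2, g3, g4, g3, g2, g6, g4, g3, g6]),
   (577, []),
   (238, [g3, g6, g1, g2, g1, g1, g4, g4, g2, g2, g4, g2, g4, g3]),
   (494, [g3, g4, g2, g2, g2, g1, g1, g2, g5, g6, g4, g3, g6, g5]),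
   (251, [g4, g4, g2, g4, g6]),
   (386, [g1, g2, g2, g4, g1, g1, g6, g2, g2, g4, g3, g2, g4, g4, g5, g6]),
   (242, [g4, g6, g5]),
   (53, []),
   (245, [g2, g4, g1, g1, g3, g2, g4, g2, g2, g2, g5, g3, g3, g3, g6]),
   (244, [g3, g1, g1, g6, g2, g4, g4, g2, g2, g3, g4, g4, g4, g5]),
   (315, [g6, g3, g2, g4, g1, g6, g2, g3, g4, g2, g3, g4, g4, g4]),
   (252, [g5, g6, g5, g3, g5]),
   (248, [g3, g1, g2, g1, g1, g4, g4, g2, g2, g4, g2, g4, g6, g3]),
   (249, [g4, g6, g2, g6, g3, g2, g5, g3, g4, g4, g5, g6]),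
   (250, [g4, g6, g5]),
   (240, [g3, g4, g3, g2, g6, g3, g3, g3, g6]),
   (247, [g5, g3, g3, g3, g5, g6, g5]),
   (511, [g1, g4, g1, g5, g1, g6, g2, g2, g4, g3, g2, g4, g4, g4, g3, g3]),
   (169, [g6, g3, g1, g3, g1, g3, g5, g2, g4, g2, g2, g4, g3, g4, g4, g6, g5]),
   (85, [g3, g1, g4, g2, g1, g6, g2, g2, g6, g2, g4, g5]),
   (418, [g4, g3, g2, g1, g6, g2, g2, g5, g3, g6]),
   (257, [g1, g1, g3, g4, g2, g5, g3, g3, g3])]

/-- Part 69 of cert0. -/
noncomputable def cert0_69 : List (ℕ × List ℕ) :=
  [(74, [g1, g4, g1, g3, g1, g2, g3, g4, g3, g2, g5, g6, g4, g3, g5]),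
   (259, [g1, g2, g1, g1, g4, g4, g2, g2, g4, g2, g4, g3, g3, g6]),
   (563, [g3, g1, g5, g4, g1, g1, g2, g3, g4, g3, g2, g5, g6, g3, g5]),
   (108, [g2, g6, g2, g2, g1, g3, g6, g2, g4, g2, g2, g4, g4, g4, g3, g3, g5, g6]),
   (427, [g1, g2, g1, g5, g1, g4, g2, g2, g2, g4, g4, g3, g3]),
   (138, [g3, g6, g3, g1, g1, g1, g1, g6, g2, g4, g4, g3, g2, g3, g5, g4, g4, g3, g5, g6]),
   (264, [g1, g2, g1, g1, g4, g4, g2, g2, g4, g2, g4, g3, g3, g6]),
   (265, [g2, g1, g2, g1, g1, g4, g2, g4, g2, g2, g4, g5, g6, g5]),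
   (600, []),
   (331, [g1, g3, g1, g1, g2, g6, g2, g2, g6, g2, g4, g3, g3, g5, g6]),
   (445, [g4, g1, g6, g1, g1, g1, g2, g4, g3, g2, g6, g3]),
   (269, [g3, g1, g2, g1, g1, g4, g4, g2, g2, g4, g2, g4, g6, g3]),
   (270, [g4, g2, g6, g2, g3, g4, g4, g4, g6]),
   (271, [g1, g1, g4, g1, g4, g4, g2, g4, g2, g3, g3, g5]),
   (62, []),
   (518, [g4, g3, g2, g3, g1, g1, g1, g2, g2, g2, g4, g4, g4, g6]),
   (574, [g1, g6, g1, g2, g4, g1, g3, g2, g4, g2, g2, g4, g6, g3, g5, g6]),
   (314, [g2, g4, g2, g1, g1, g1, g1, g2, g3, g4, g2, g4]),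
   (558, [g5, g3, g2, g2, g1, g4, g2, g3, g4, g4, g5, g6]),
   (572, [g1, g4, g2, g1, g1, g4, g2, g2, g4, g4, g2, g2, g3, g5, g4, g4, g3, g6]),
   (278, [g5, g2, g3, g1, g1, g4, g4, g4, g5]),
   (279, [g6, g1, g3, g2, g1, g4, g4, g2, g6, g2, g2, g2, g5, g6, g3, g5, g6, g5]),
   (280, [g4, g6, g2, g1, g1, g3, g4, g2, g2, g6, g3, g3, g3, g5, g6, g5]),
   (308, [g5, g2, g2, g1, g1, g2, g3, g4, g3, g2, g4, g3, g3, g6]),
   (286, [g1, g2, g2, g1, g1, g4, g2, g2, g2, g6, g2, g4, g6]),
   (67, [g1, g5, g6, g1, g1, g6, g2, g4, g4, g2, g2, g5, g6, g4, g3, g5, g6, g5]),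
   (65, []),
   (66, []),
   (282, [g6, g4, g1, g4, g3, g1, g6, g2, g2, g6, g2, g2, g6, g3, g5, g3, g6]),
   (287, [g2, g2, g3, g1, g1, g3, g4, g3, g2, g5, g6, g4, g3, g6, g5]),
   (80, [g5, g2, g2, g1, g1, g4, g2, g6, g2, g4, g4, g4, g6, g5]),
   (103, [g2, g1, g2, g1, g2, g1, g3, g4, g2, g6, g2, g2, g2, g3, g3]),
   (290, [g1, g5, g2, g3, g1, g1, g3, g2, g2, g4, g3, g2, g5, g6, g4, g3, g5, g6]),
   (291, [g3, g2, g6, g2, g4, g3, g5, g6]),
   (403, [g6, g3, g1, g3, g1, g3, g2, g3, g4, g2, g2, g3, g3]),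
   (453, [g6, g3, g1, g1, g6, g2, g2, g6, g2, g4, g6, g3, g3, g3, g5, g6, g5]),
   (294, [g5, g1, g3, g1, g1, g1, g2, g6, g2, g2, g3, g3]),
   (70, [g3, g3, g1, g1, g1, g2, g2, g3, g6, g2, g3, g4, g4, g5]),
   (296, [g6, g5, g1, g2, g1, g1, g4, g4, g2, g2, g4, g2, g4, g3, g3, g5, g6, g5]),
   (553, [g5, g1, g4, g3, g1, g2, g6, g2, g4, g2, g2, g4, g3, g4, g4, g6, g5]),
   (393, [g3, g6, g3, g1, g1, g1, g1, g2, g6, g2, g4, g2, g2, g4, g3, g4, g4, g5, g6]),
   (299, [g2, g1, g2, g1, g1, g4, g2, g4, g2, g2, g4, g5, g6, g5]),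
   (300, [g1, g1, g1, g6, g1, g1, g2, g2, g2, g6, g2, g3, g6, g5, g3]),
   (301, [g2, g2, g3, g1, g1, g3, g4, g3, g2, g5, g6, g4, g3, g6, g5]),
   (97, [g4, g1, g1, g2, g1, g1, g3, g2, g4, g2, g2, g3, g5, g4, g4, g3, g6]),
   (339, [g1, g1, g4, g3, g1, g2, g6, g2, g2, g2, g3, g5, g6, g5]),
   (304, [g5, g1, g4, g1, g1, g1, g2, g4, g4, g2, g2, g2, g5, g4, g4, g3, g5, g6, g5]),
   (201, [g4, g4, g1, g3, g1, g2, g6, g2, g3, g6, g2, g2, g5, g4, g4, g3, g5, g6]),
   (306, [g2, g3, g1, g2, g1, g3, g5, g4, g4, g3, g5, g6]),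
   (75, []),
   (281, [g5, g2, g2, g1, g1, g2, g3, g4, g3, g2, g4, g3, g3, g6]),
   (568, [g3, g6, g1, g3, g5, g1, g4, g2, g3, g4, g2, g2, g3, g5, g4, g4, g3, g5, g6, g5]),
   (589, [g2, g1, g5, g3, g1, g5, g2, g4, g2, g2, g4, g4, g4]),
   (311, [g1, g1, g1, g6, g1, g1, g2, g2, g2, g6, g2, g3, g6, g5, g3]),
   (312, [g5, g2, g2, g1, g1, g3, g4, g2, g2, g2, g3]),
   (351, [g1, g2, g1, g4, g3, g1, g6, g2, g2, g3, g4, g2, g6, g4, g3, g5]),
   (275, [g3, g3, g1, g1, g1, g2, g6, g2, g2, g2, g3, g5]),
   (246, [g3, g5, g3, g1, g6, g2, g2, g6, g2, g2, g6, g3, g5]),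
   (232, [g1, g4, g2, g2, g2, g1, g3, g4, g2, g6, g2, g2, g2, g4, g4, g4, g6, g5]),
   (447, [g1, g4, g3, g1, g3, g6, g2, g2, g3, g5, g6]),
   (624, []),
   (580, [g4, g2, g3, g4, g1, g1, g6, g3, g2, g6, g2, g3, g5, g4, g4, g3, g5, g6]),
   (127, [g1, g4, g6, g3, g2, g1, g4, g3, g2, g6, g2, g2, g3, g3, g3, g5]),
   (124, [g1, g3, g1, g1, g2, g1, g2, g2, g3, g4, g2, g2, g5, g6, g5, g3])]

/-- Part 70 of cert0. -/
noncomputable def cert0_70 : List (ℕ × List ℕ) :=
  [(410, [g2, g5, g2, g2, g1, g1, g3, g2, g3, g4, g3, g2, g5, g6, g3, g5]),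
   (464, [g6, g4, g2, g1, g1, g1, g2, g2, g6, g2, g2, g6, g5]),
   (538, [g5, g6, g2, g2, g1, g3, g4, g2, g4, g2, g4, g3, g6, g5]),
   (501, [g4, g1, g2, g3, g1, g1, g3, g4, g2, g2, g3, g3, g3]),
   (83, []),
   (492, [g3, g1, g5, g3, g1, g3, g2, g4, g6, g3, g3, g3]),
   (328, [g1, g5, g6, g1, g1, g6, g2, g4, g4, g2, g2, g5, g6, g4, g3, g5, g6, g5]),
   (342, [g5, g1, g5, g1, g3, g6, g2, g4, g4, g5, g6]),
   (625, [g3, g1, g3, g2, g4, g1, g6, g2, g4, g6, g3, g3, g3, g6]),
   (267, [g1, g5, g2, g2, g2, g1, g6, g2, g2, g2, g3, g3, g3, g5, g6]),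
   (525, [g2, g1, g4, g1, g3, g2, g2, g6, g2, g6, g5, g3, g6]),
   (86, []),
   (475, [g4, g3, g2, g6, g1, g1, g3, g2, g6, g2, g4, g3, g5, g6]),
   (89, [g4, g2, g2, g3, g1, g2, g2, g3, g4, g2, g4, g4, g3, g5]),
   (336, [g2, g4, g2, g1, g1, g6, g2, g2, g3, g4, g2, g4, g6, g3]),
   (407, [g4, g3, g4, g1, g4, g4, g2, g2, g2, g4, g6, g3, g3, g3, g6, g5]),
   (145, [g2, g3, g4, g1, g1, g2, g4, g2, g2, g2, g6, g3, g6, g5]),
   (303, [g4, g1, g1, g1, g1, g2, g2, g4, g2, g5, g6, g4, g3, g5]),
   (88, []),
   (631, [g6, g3, g2, g4, g1, g3, g4, g2, g6, g2, g2, g2, g5, g3, g5, g6]),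
   (329, [g4, g4, g1, g3, g1, g3, g4, g2, g5, g3, g6, g5]),
   (437, [g2, g1, g4, g3, g1, g2, g2, g3, g4, g3, g2, g5, g3, g6, g5]),
   (130, [g1, g1, g1, g3, g4, g2, g3, g6, g2, g4, g4, g4, g3, g3]),
   (345, [g2, g4, g2, g1, g1, g6, g2, g2, g3, g4, g2, g4, g6, g3]),
   (348, [g3, g1, g2, g4, g1, g1, g2, g4, g2, g4, g4, g2, g2, g5, g3, g3, g3, g6]),
   (222, [g2, g1, g2, g1, g2, g1, g6, g2, g2, g4, g3, g2, g4, g3, g5]),
   (346, [g6, g1, g3, g2, g3, g1, g2, g3, g6, g2, g2, g4, g5, g6, g5]),
   (167, [g4, g3, g4, g1, g1, g4, g2, g2, g3, g3, g3, g5]),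
   (581, [g3, g5, g1, g5, g1, g4, g2, g2, g6, g5, g3, g5, g6, g5]),
   (313, [g3, g4, g1, g1, g1, g2, g4, g4, g3, g2, g3, g6]),
   (186, [g3, g5, g1, g5, g1, g4, g2, g5, g6, g4, g3, g5, g6]),
   (441, [g6, g5, g3, g1, g1, g6, g2, g6, g2, g6, g4, g3]),
   (96, [g3, g4, g1, g5, g3, g1, g2, g2, g3, g4, g2, g2, g4]),
   (473, [g1, g2, g3, g1, g2, g2, g5, g6, g3, g5, g6, g5]),
   (515, [g2, g6, g4, g1, g2, g1, g1, g2, g2, g3, g4, g2, g6, g5, g3, g5, g6]),
   (211, [g1, g5, g3, g1, g6, g2, g2, g6, g2, g6, g3, g3, g3, g6, g5]),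
   (125, [g1, g3, g4, g1, g1, g2, g2, g6, g2, g5, g3, g4, g4, g5, g6]),
   (223, [g2, g5, g4, g1, g1, g4, g4, g3, g2, g4, g4, g3, g3, g5]),
   (602, [g2, g1, g4, g3, g1, g2, g6, g2, g5, g4, g4, g3, g6, g5]),
   (141, [g1, g4, g3, g1, g3, g2, g2, g4, g2, g6, g5, g3, g5]),
   (173, [g4, g1, g5, g6, g1, g1, g4, g2, g4, g2, g2, g4, g3, g3, g5, g6]),
   (363, [g1, g5, g1, g2, g1, g5, g2, g4, g2, g2, g3, g5, g3]),
   (617, [g4, g1, g1, g1, g5, g1, g6, g3, g2, g4, g6, g3, g3, g3]),
   (235, [g3, g1, g2, g3, g1, g1, g2, g4, g2, g5, g6, g5]),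
   (522, [g1, g5, g4, g1, g1, g4, g4, g3, g2, g6, g4, g3]),
   (147, [g5, g1, g2, g1, g1, g6, g2, g2, g3, g4, g2, g5, g3, g5, g6]),
   (399, [g6, g1, g4, g3, g1, g6, g2, g2, g2, g4, g4, g3, g5, g6]),
   (123, [g1, g2, g1, g1, g1, g6, g2, g4, g2, g2, g5, g4, g4, g3, g5, g6, g5]),
   (370, [g1, g1, g3, g1, g1, g1, g3, g2, g4, g2, g4, g4, g3, g3, g5]),
   (539, [g4, g2, g3, g4, g3, g1, g3, g4, g2, g2, g4, g3]),
   (598, [g4, g6, g1, g5, g1, g3, g4, g2, g2, g3, g4, g4, g4, g6]),
   (102, []),
   (657, []),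
   (438, [g1, g2, g2, g3, g1, g4, g2, g5, g2, g4, g2, g4, g6, g3, g3, g3, g6, g5]),
   (659, []),
   (113, [g2, g2, g2, g1, g1, g3, g4, g3, g2, g6, g3]),
   (401, [g2, g3, g1, g2, g1, g4, g6, g3]),
   (379, [g5, g1, g2, g1, g3, g6, g2, g5, g3, g3, g3, g5]),
   (380, [g2, g5, g4, g1, g1, g2, g2, g3, g4, g2, g2, g4, g4, g4, g3, g3]),
   (381, [g3, g4, g2, g3, g6, g2, g6, g3, g5]),
   (434, [g1, g2, g6, g3, g2, g1, g2, g2, g2, g6, g2, g6, g5, g3, g6, g5]),
   (383, [g3, g4, g4, g6]),
   (384, [g2, g5, g4, g1, g1, g2, g2, g3, g4, g2, g2, g4, g4, g4, g3, g3]),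
   (413, [g1, g3, g6, g1, g1, g2, g4, g4, g3, g5])]

/-- Part 71 of cert0. -/
noncomputable def cert0_71 : List (ℕ × List ℕ) :=
  [(241, [g4, g1, g6, g1, g1, g1, g3, g6, g2, g2, g4]),
   (161, [g1, g1, g3, g1, g4, g2, g2, g6, g5, g3, g6]),
   (463, [g2, g4, g3, g2, g1, g4, g2, g2, g4, g4, g2, g2, g3, g3, g3, g5]),
   (488, [g3, g1, g4, g4, g2, g2, g4, g2, g6, g5, g3, g5, g6, g5]),
   (390, [g2, g6, g4, g1, g2, g1, g1, g4, g4, g2, g4, g2, g4, g4, g4, g3, g3, g6]),
   (421, [g3, g6, g1, g2, g1, g1, g3, g4, g2, g6, g3, g3, g3, g5, g6, g5]),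
   (609, [g4, g3, g1, g3, g1, g2, g4, g4, g2, g2, g2, g6, g3, g3, g3, g6, g5]),
   (298, [g2, g2, g1, g1, g1, g3, g5, g2, g4, g2, g4, g3, g6, g5]),
   (110, []),
   (395, [g5, g1, g2, g1, g3, g6, g2, g5, g3, g3, g3, g5]),
   (433, [g1, g2, g1, g4, g1, g3, g2, g2, g6, g3, g2, g4, g4, g6, g5]),
   (397, [g3, g4, g4, g6]),
   (398, [g2, g5, g4, g1, g1, g2, g2, g3, g4, g2, g2, g4, g4, g4, g3, g3]),
   (368, [g6, g4, g2, g1, g1, g1, g2, g2, g2, g6, g2, g5, g6, g4, g3, g5, g6]),
   (400, [g4, g2, g4, g1, g1, g2, g2, g3, g4, g2, g2, g6, g3, g3, g3]),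
   (378, [g2, g5, g4, g1, g1, g2, g2, g3, g4, g2, g2, g4, g4, g3, g3, g5, g6]),
   (402, [g2, g6, g4, g1, g2, g1, g1, g4, g4, g2, g4, g2, g4, g4, g4, g3, g3, g6]),
   (292, [g2, g1, g5, g1, g4, g2, g3, g4, g2, g2, g4, g3, g3, g6, g5]),
   (404, [g3, g1, g2, g1, g1, g4, g4, g2, g2, g4, g2, g4, g6, g3]),
   (669, []),
   (671, []),
   (337, [g6, g1, g4, g1, g6, g2, g4, g4, g2, g2, g3, g4, g4, g4, g6, g5]),
   (541, [g5, g2, g4, g1, g1, g4, g4, g2, g4, g2, g5, g6, g3, g5, g6, g5]),
   (619, [g2, g6, g2, g1, g2, g1, g5, g4, g6, g2, g4, g2, g2, g4, g4, g3, g5, g6]),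
   (322, [g5, g2, g3, g1, g1, g6, g2, g2, g4, g3, g2, g6, g5, g3, g6, g5]),
   (411, [g6, g2, g2, g6, g2, g2, g3, g4, g4, g4, g5]),
   (412, [g2, g1, g3, g1, g1, g1, g2, g6, g2, g4, g6, g3, g5, g6]),
   (385, [g1, g1, g1, g1, g1, g2, g6, g3, g2, g5, g6, g5, g3]),
   (594, [g1, g3, g6, g1, g5, g1, g5, g2, g4, g2, g2, g4, g4, g5]),
   (647, [g2, g6, g1, g4, g1, g3, g4, g2, g4, g2, g3, g4, g4, g4, g5, g6, g5]),
   (416, [g1, g4, g1, g4, g2, g1, g1, g4, g2, g6, g2, g4, g2, g2, g5, g6, g3]),
   (417, [g1, g5, g1, g2, g1, g5, g2, g4, g2, g2, g3, g5, g3]),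
   (256, [g6, g2, g6, g3, g2, g1, g6, g2, g2, g4, g3, g2, g3, g5, g4, g4, g3, g5, g6, g5]),
   (665, [g1, g1, g3, g2, g1, g2, g2, g4, g3, g2, g4, g4, g5]),
   (432, [g4, g2, g2, g3, g1, g4, g2, g2, g2, g4, g2, g4, g4, g5, g6]),
   (391, [g4, g2, g3, g4, g1, g1, g6, g2, g2, g6, g2, g5, g6, g5, g3, g5]),
   (656, [g1, g2, g4, g1, g2, g1, g2, g2, g4, g3, g2, g4, g6, g3, g6]),
   (673, [g2, g4, g2, g1, g1, g6, g2, g6, g2, g4, g4, g6]),
   (424, [g6, g1, g1, g3, g4, g2, g5, g3, g3, g3, g6]),
   (601, [g2, g1, g1, g3, g1, g1, g4, g4, g2, g4, g2, g4, g4]),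
   (641, [g1, g1, g3, g2, g6, g2, g2, g4, g3, g4, g4, g6, g5]),
   (262, [g3, g1, g5, g2, g1, g1, g2, g2, g2, g6, g2, g6, g3, g3, g3]),
   (537, [g3, g5, g3, g2, g1, g2, g6, g2, g2, g6, g2, g6, g3, g5, g3, g5, g6]),
   (429, [g3, g2, g6, g2, g4, g3, g5, g6]),
   (430, [g4, g2, g4, g1, g1, g2, g2, g3, g4, g2, g2, g6, g3, g3, g3]),
   (431, [g2, g4, g2, g5, g3, g3, g3, g5]),
   (420, [g4, g1, g4, g1, g2, g2, g2, g6, g3, g2, g5, g3, g4, g4, g5, g6, g5]),
   (396, [g4, g2, g1, g1, g1, g2, g6, g2, g2, g6, g4, g3, g6, g5]),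
   (382, [g1, g2, g6, g3, g1, g1, g2, g6, g2, g2, g2, g5, g3, g4, g4, g5]),
   (435, [g2, g6, g4, g1, g2, g1, g1, g4, g4, g2, g4, g2, g4, g4, g4, g3, g3, g6]),
   (548, [g1, g1, g4, g2, g1, g6, g3, g2, g6, g2, g2, g6, g5, g3, g5, g6]),
   (343, [g4, g4, g3, g1, g1, g1, g6, g3, g2, g6, g3, g3, g3, g6, g5]),
   (375, [g4, g1, g1, g3, g2, g1, g4, g6, g2, g6, g3, g2, g4, g3, g6]),
   (131, []),
   (565, [g1, g2, g3, g1, g1, g6, g5, g2, g4, g2, g2, g4, g4, g4, g5, g6, g5]),
   (353, [g3, g2, g6, g1, g1, g2, g4, g2, g4, g4, g2, g2, g4, g4, g3, g6, g5]),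
   (613, [g5, g1, g4, g3, g2, g6, g2, g2, g3, g5, g3, g6, g5]),
   (450, [g2, g2, g3, g4, g2, g5, g6, g4, g3]),
   (444, [g2, g6, g2, g3, g5]),
   (268, [g1, g4, g2, g1, g6, g3, g2, g5, g6, g5, g3, g5, g6]),
   (567, [g2, g2, g3, g2, g1, g1, g6, g2, g5, g3, g4, g4, g5, g6, g5]),
   (317, [g4, g1, g1, g3, g2, g1, g6, g5, g2, g4, g2, g2, g3, g5, g4, g4, g3, g5, g6, g5]),
   (135, []),
   (449, [g3, g5, g2, g1, g1, g3, g4, g2, g2, g4, g6, g3, g5, g6, g5])]

/-- Part 72 of cert0. -/
noncomputable def cert0_72 : List (ℕ × List ℕ) :=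
  [(443, [g4, g2, g6, g2, g2, g2, g4, g4, g6]),
   (628, [g3, g2, g1, g5, g1, g4, g4, g2, g4, g2, g2, g4, g6, g3]),
   (139, [g2, g2, g3, g2, g1, g1, g6, g2, g6, g3, g2, g4, g4, g6]),
   (293, [g3, g1, g2, g1, g1, g2, g2, g3, g4, g2, g2, g6, g3, g3, g3, g6]),
   (454, [g3, g2, g1, g2, g1, g3, g6, g2, g2, g4, g4, g4, g5, g6, g5]),
   (455, [g4, g1, g2, g1, g1, g4, g4, g2, g2, g4, g2, g4, g4, g4, g3, g3, g5, g6]),
   (215, [g1, g3, g1, g1, g3, g6, g2, g4, g2, g2, g3, g4, g4, g4, g5]),
   (582, [g2, g4, g2, g4, g1, g2, g4, g2, g2, g5, g3, g4, g4, g5, g6]),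
   (180, [g1, g6, g3, g1, g1, g2, g5, g2, g4, g2, g3, g4, g4, g4]),
   (514, [g2, g5, g1, g2, g1, g6, g2, g3, g6, g2, g2, g4, g4, g3, g3, g6]),
   (460, [g2, g6, g4, g1, g2, g1, g1, g4, g4, g2, g4, g2, g4, g4, g4, g3, g3, g6]),
   (182, [g6, g2, g1, g1, g6, g2, g2, g6, g2, g4, g4]),
   (191, [g3, g1, g5, g3, g1, g4, g2, g2, g4, g4, g2, g2, g4, g4, g3, g3, g6, g5]),
   (388, [g4, g4, g2, g1, g6, g5, g2, g4, g2, g2, g5, g3, g5, g6]),
   (323, [g1, g5, g4, g1, g1, g3, g2, g6, g2, g4, g4, g4, g5, g6]),
   (467, [g3, g2, g2, g2, g1, g1, g6, g2, g5, g3, g3, g3, g5]),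
   (206, [g1, g4, g2, g2, g1, g6, g2, g2, g6, g2, g3, g6]),
   (465, [g1, g1, g4, g1, g4, g6, g2, g6, g3, g2, g6, g3, g5, g3, g6]),
   (468, [g1, g2, g1, g3, g6, g2, g5, g3, g3, g3]),
   (148, []),
   (150, []),
   (471, [g1, g1, g4, g1, g4, g4, g2, g4, g2, g3, g3, g5]),
   (520, [g2, g2, g1, g1, g1, g1, g2, g4, g2, g2, g2, g3, g3, g3, g5, g6, g5]),
   (355, [g5, g1, g1, g1, g5, g1, g2, g4, g4, g2, g2, g2, g5, g4, g4, g3, g5, g6, g5]),
   (152, []),
   (334, [g2, g6, g2, g1, g2, g1, g6, g2, g2, g3, g4, g2, g3, g4, g4, g5, g6]),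
   (476, [g2, g6, g3, g1, g1, g3, g2, g3, g6, g2, g4, g4, g4, g6]),
   (153, []),
   (165, [g2, g4, g2, g1, g4, g2, g2, g6, g3, g2, g3, g4, g4, g4, g6, g5]),
   (196, [g2, g6, g4, g1, g2, g1, g1, g4, g4, g2, g4, g2, g4, g4, g4, g3, g3, g6]),
   (480, [g3, g2, g2, g1, g1, g3, g4, g2, g2, g2, g4, g3, g5, g6]),
   (158, [g2, g6, g4, g1, g2, g1, g1, g5, g2, g4, g2, g6, g3, g6]),
   (623, [g1, g1, g3, g1, g1, g1, g6, g2, g6, g3, g2, g4, g3, g6]),
   (483, [g1, g5, g2, g3, g1, g1, g3, g2, g2, g4, g3, g2, g5, g6, g4, g3, g5, g6]),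
   (591, [g1, g1, g3, g1, g1, g1, g4, g2, g3, g6, g2, g3, g5, g3]),
   (512, [g4, g2, g2, g2, g1, g4, g6, g2, g4, g2, g2, g4, g4, g5]),
   (676, [g4, g2, g1, g1, g1, g1, g4, g2, g2, g2, g4, g2, g5, g6]),
   (510, [g6, g5, g3, g1, g1, g5, g2, g4, g2, g4, g4, g3]),
   (389, [g4, g6, g3, g2, g1, g5, g2, g4, g2, g5, g3, g4, g4]),
   (583, [g1, g2, g4, g1, g3, g4, g2, g4, g2, g2, g5, g3, g6]),
   (490, [g2, g4, g2, g4, g1, g1, g3, g2, g6, g2, g5, g6]),
   (166, []),
   (327, [g2, g2, g3, g1, g2, g6, g2, g2, g6, g3, g5, g3, g5]),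
   (493, [g3, g2, g2, g1, g1, g3, g4, g2, g2, g2, g4, g3, g5, g6]),
   (239, [g5, g1, g3, g1, g1, g1, g3, g4, g2, g4, g2, g2, g4, g4, g4, g3, g3, g5, g6]),
   (495, [g2, g6, g3, g1, g1, g3, g2, g3, g6, g2, g4, g4, g4, g6]),
   (496, [g3, g6, g1, g2, g1, g1, g4, g4, g2, g2, g4, g2, g4, g3]),
   (497, [g2, g2, g4, g2, g2, g2, g4, g4, g4, g3, g3, g5, g6, g5]),
   (171, []),
   (233, [g1, g2, g2, g3, g1, g2, g4, g2, g4, g2, g2, g5, g3, g5, g6, g5]),
   (500, [g2, g4, g1, g3, g1, g1, g1, g4, g2, g6, g2, g2, g2, g6, g5, g3]),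
   (325, [g4, g1, g6, g1, g1, g3, g2, g6, g2, g2, g3, g6, g5, g3, g6]),
   (502, [g3, g1, g6, g3, g2, g1, g6, g2, g3, g4, g2, g3, g6, g5, g3, g5, g6, g5]),
   (503, [g3, g2, g6, g2, g4, g3, g5, g6]),
   (504, [g5, g6, g4, g3]),
   (557, [g3, g1, g6, g3, g2, g1, g2, g4, g4, g2, g2, g2, g6, g3, g3, g3, g5, g6, g5]),
   (684, [g5, g1, g4, g1, g1, g3, g2, g6, g2, g2, g4, g6, g5]),
   (688, [g6, g1, g3, g2, g1, g3, g5, g2, g4, g2, g4, g6, g3, g3, g3, g5]),
   (686, [g4, g1, g1, g1, g1, g2, g5, g2, g4, g2, g4, g3, g4, g4, g6, g5]),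
   (177, []),
   (487, [g4, g1, g2, g1, g1, g6, g2, g2, g6, g2, g3, g5, g4, g4, g3, g5]),
   (253, [g1, g1, g3, g2, g1, g3, g4, g2, g3, g6, g2, g4, g6, g3, g5, g6, g5]),
   (485, [g5, g3, g1, g3, g4, g2, g4, g2, g2, g4, g6, g3, g3, g3, g5, g6, g5]),
   (513, [g2, g4, g1, g1, g2, g2, g3, g4, g2, g2, g3, g3, g3, g5, g6])]

/-- Part 73 of cert0. -/
noncomputable def cert0_73 : List (ℕ × List ℕ) :=
  [(459, [g2, g4, g1, g3, g1, g1, g1, g2, g2, g4, g3, g2, g3, g5, g3]),
   (356, [g6, g3, g2, g2, g1, g1, g2, g2, g2, g6, g2, g4, g3, g3]),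
   (217, [g4, g3, g2, g4, g1, g6, g4, g2, g4, g2, g2, g3, g4, g4, g5, g6]),
   (184, []),
   (273, [g3, g6, g1, g1, g1, g1, g3, g4, g3, g2, g4, g5]),
   (633, [g1, g3, g6, g1, g1, g3, g6, g2, g2, g3, g5, g6]),
   (472, [g5, g4, g2, g1, g1, g1, g4, g2, g6, g3, g2, g6, g3, g5, g6]),
   (185, []),
   (366, [g1, g6, g3, g1, g1, g3, g2, g4, g4, g3, g2, g6, g3, g5, g3, g5, g6]),
   (523, [g1, g1, g3, g4, g3, g2, g1, g4, g2, g4, g2, g2, g4, g3, g3, g5, g6]),
   (188, []),
   (332, [g2, g2, g4, g1, g4, g4, g2, g5, g6, g4, g3, g5, g6]),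
   (526, [g5, g6, g5]),
   (221, [g1, g5, g2, g3, g1, g1, g4, g2, g4, g2, g2, g6, g3, g6, g5]),
   (528, [g2, g3, g2, g1, g1, g3, g4, g2, g4, g3, g5, g6, g5]),
   (529, [g4, g1, g5, g6, g1, g1, g6, g2, g4, g4, g2, g2, g4, g4, g3, g6]),
   (203, [g2, g6, g2, g1, g2, g1, g6, g2, g2, g6, g2, g6, g4, g3, g6]),
   (640, [g4, g6, g1, g5, g1, g3, g2, g3, g4, g2, g2, g5, g6, g4, g3, g6, g5]),
   (532, [g2, g3, g6, g2, g5, g3]),
   (642, [g2, g6, g1, g1, g1, g2, g6, g3, g2, g5, g6, g5, g3, g5]),
   (605, [g1, g3, g2, g1, g1, g2, g3, g6, g2, g2, g4, g4, g3, g3, g6]),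
   (535, [g1, g2, g2, g1, g4, g4, g3, g2, g3, g5, g4, g4, g3, g6]),
   (536, [g2, g4, g1, g2, g1, g2, g2, g6, g2, g2, g5, g4, g4, g3, g6, g5]),
   (428, [g4, g1, g1, g4, g2, g1, g2, g6, g3, g2, g4, g3, g3, g5, g6, g5]),
   (324, [g2, g3, g2, g2, g1, g2, g3, g6, g2, g2, g4, g4, g3, g6]),
   (371, [g6, g1, g4, g1, g4, g3, g2, g2, g6, g2, g5, g6, g5, g3]),
   (540, [g1, g2, g1, g1, g4, g4, g2, g2, g4, g2, g4, g3, g3, g6]),
   (408, [g2, g3, g1, g1, g4, g1, g2, g4, g2, g2, g4, g2, g5, g6, g4, g3, g6]),
   (638, [g3, g2, g4, g2, g1, g1, g1, g3, g4, g2, g4, g4, g2, g2, g6, g3, g5, g6, g5]),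
   (198, []),
   (199, []),
   (627, [g1, g5, g3, g1, g1, g1, g2, g4, g4, g2, g2, g2, g4, g3, g3, g5, g6, g5]),
   (546, [g2, g5, g4, g1, g1, g2, g2, g3, g4, g2, g2, g4, g4, g4, g3, g3]),
   (674, [g1, g6, g4, g3, g2, g1, g2, g2, g3, g4, g2, g2, g4, g3, g4, g4, g6, g5]),
   (436, [g4, g3, g2, g4, g1, g6, g2, g6, g2, g3, g3, g3, g6]),
   (225, [g1, g4, g2, g4, g1, g2, g4, g2, g6, g2, g2, g2, g4, g4, g3, g6, g5]),
   (677, [g4, g1, g2, g3, g1, g1, g2, g4, g4, g2, g2, g2, g5, g3, g6]),
   (551, [g2, g4, g1, g1, g2, g2, g3, g4, g2, g2, g3, g3, g3, g5, g6]),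
   (207, []),
   (297, [g4, g2, g6, g1, g1, g1, g5, g2, g4, g2, g2, g3, g6, g5, g3, g5, g6]),
   (554, [g2, g2, g1, g4, g1, g1, g1, g6, g2, g5, g4, g4, g3, g5]),
   (689, [g2, g4, g1, g6, g1, g1, g1, g6, g2, g4, g2, g2, g3, g6, g5, g3, g6, g5]),
   (663, [g3, g5, g1, g5, g1, g2, g2, g2, g4, g3, g2, g6, g3, g3, g3]),
   (505, [g5, g2, g1, g1, g4, g1, g4, g2, g4, g4, g2, g2, g4, g4, g4, g3, g3]),
   (276, [g1, g3, g1, g2, g3, g1, g4, g4, g2, g4, g2, g2, g6, g5, g3, g6, g5]),
   (559, [g6, g3, g2, g6, g2, g4, g3, g5]),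
   (561, [g1, g2, g1, g6, g2, g2, g4, g3, g2, g5, g3, g3, g3, g5]),
   (560, [g3, g1, g2, g1, g3, g2, g3, g4, g2, g2, g4, g4, g4, g3, g3, g5]),
   (562, [g2, g6, g4, g1, g2, g1, g1, g4, g4, g2, g4, g2, g4, g4, g4, g3, g3, g6]),
   (260, [g1, g4, g2, g1, g1, g1, g3, g4, g2, g3, g6, g2, g5, g4, g4, g3, g5, g6, g5]),
   (611, [g1, g5, g1, g5, g1, g6, g2, g2, g4, g3, g2, g4, g3, g3]),
   (440, [g3, g1, g3, g5, g1, g4, g4, g2, g2, g2, g5, g4, g4, g3, g5, g6, g5]),
   (629, [g1, g4, g2, g1, g1, g5, g4, g6, g2, g4, g2, g2, g4, g4, g3]),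
   (446, [g6, g5, g1, g2, g1, g1, g6, g2, g2, g6, g3, g5, g3, g5, g6]),
   (309, [g1, g4, g3, g1, g1, g1, g4, g2, g4, g4, g3, g5]),
   (569, [g3, g1, g2, g1, g3, g6, g2, g3, g3, g5]),
   (645, [g2, g1, g2, g1, g2, g1, g3, g2, g6, g2, g2, g2, g6, g3, g3, g3, g6, g5]),
   (229, []),
   (277, [g2, g1, g6, g1, g1, g4, g4, g2, g5, g3, g3, g3, g6, g5]),
   (231, []),
   (274, [g2, g1, g6, g1, g1, g4, g2, g4, g2, g6]),
   (575, [g2, g4, g2, g2, g1, g1, g6, g2, g2, g4, g3, g2, g4, g4, g3, g3, g6, g5]),
   (576, [g4, g6, g3, g3, g3, g5, g6, g5]),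
   (237, [])]

/-- Part 74 of cert0. -/
noncomputable def cert0_74 : List (ℕ × List ℕ) :=
  [(622, [g2, g6, g2, g2, g1, g4, g2, g4, g4, g3, g2, g5, g6, g4, g3, g5, g6, g5]),
   (579, [g4, g6, g2, g6, g3, g2, g5, g3, g4, g4, g5, g6]),
   (319, [g3, g6, g1, g1, g2, g2, g3, g4, g3, g2, g4, g4, g4, g3, g3]),
   (350, [g1, g2, g2, g4, g1, g1, g5, g2, g4, g2, g6, g3, g3, g3, g5, g6, g5]),
   (457, [g1, g5, g3, g1, g1, g1, g2, g2, g6, g2, g2, g5, g4, g4, g3, g5, g6]),
   (489, [g4, g2, g1, g5, g1, g4, g4, g2, g4, g3, g4, g4]),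
   (612, [g2, g3, g1, g1, g4, g1, g2, g2, g3, g5, g3, g5, g6, g5]),
   (585, [g1, g6, g3, g2, g1, g6, g2, g3, g4, g2, g4, g4, g5]),
   (586, [g6, g2, g5, g4, g1, g1, g2, g2, g3, g4, g2, g2, g4, g4, g4, g3, g3, g6]),
   (637, [g4, g2, g1, g4, g3, g1, g2, g4, g2, g2, g3, g6, g5, g3, g5, g6]),
   (667, [g5, g2, g1, g6, g1, g1, g1, g4, g2, g3, g5, g4, g4, g3, g5]),
   (310, [g1, g4, g2, g4, g4, g4, g3, g3, g5, g6]),
   (590, [g6, g1, g1, g4, g1, g4, g4, g2, g4, g2, g3, g3, g5, g6]),
   (484, [g6, g1, g1, g4, g3, g2, g2, g6, g2, g5, g6, g4, g3, g5, g6, g5]),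
   (592, [g2, g6, g2, g1, g1, g2, g2, g3, g4, g2, g3, g6]),
   (593, [g2, g2, g4, g1, g1, g3, g4, g2, g6, g2, g2, g2, g3, g3]),
   (414, [g4, g4, g4, g2, g1, g2, g6, g2, g2, g6, g2, g3, g3, g5, g6]),
   (653, [g1, g6, g2, g4, g1, g3, g6, g2, g2, g4, g6, g3, g3, g3, g5]),
   (596, [g5, g2, g2, g1, g1, g3, g4, g2, g2, g2, g3]),
   (597, [g6, g2, g3, g4, g2, g3, g4, g4, g4, g6, g5]),
   (372, [g3, g1, g4, g1, g1, g6, g3, g2, g6, g2, g3, g5, g3, g5]),
   (682, [g3, g5, g2, g3, g1, g1, g6, g2, g2, g2, g4, g3, g4, g4]),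
   (266, []),
   (425, [g4, g6, g3, g2, g1, g3, g2, g4, g4, g3, g2, g3, g3, g6]),
   (360, [g3, g1, g2, g2, g1, g1, g2, g2, g6, g2, g2, g6, g3, g5, g3, g6, g5]),
   (603, [g6, g4, g1, g2, g1, g1, g4, g4, g2, g2, g4, g2, g4, g4, g4, g3, g3, g5]),
   (649, [g3, g1, g2, g3, g1, g1, g2, g2, g3, g4, g2, g6, g3, g5, g3]),
   (534, [g1, g4, g4, g1, g1, g1, g4, g2, g2, g4, g4, g2, g2, g5, g6, g5, g3, g5]),
   (606, [g1, g5, g6, g1, g1, g6, g2, g4, g4, g2, g2, g5, g6, g4, g3, g5, g6, g5]),
   (607, [g4, g6, g3, g3, g3, g5, g6, g5]),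
   (687, [g3, g6, g3, g2, g1, g5, g2, g4, g2, g5, g6, g4, g3, g5]),
   (392, [g3, g6, g3, g1, g1, g1, g1, g2, g2, g3, g4, g2, g5, g3, g6, g5]),
   (610, [g4, g1, g2, g1, g3, g6, g2, g6, g4, g3, g5, g6]),
   (564, [g3, g1, g3, g2, g4, g1, g6, g2, g2, g3, g4, g2, g3]),
   (584, [g5, g2, g4, g1, g1, g4, g2, g5, g2, g4, g2, g3]),
   (442, [g2, g4, g3, g2, g1, g3, g2, g2, g6, g3, g2, g5, g3, g5, g6]),
   (630, [g1, g1, g2, g2, g1, g1, g2, g2, g4, g2, g5, g3, g4, g4]),
   (615, [g3, g4, g4, g6]),
   (616, [g5, g1, g3, g1, g1, g1, g2, g6, g2, g2, g3, g3]),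
   (364, [g1, g3, g5, g1, g3, g4, g2, g4, g2, g5, g3, g6, g5]),
   (668, [g2, g6, g1, g4, g1, g5, g4, g6, g2, g4, g2, g2, g4, g6, g3, g6, g5]),
   (409, [g4, g6, g1, g1, g2, g3, g4, g2, g2, g3, g6, g5, g3]),
   (643, [g2, g2, g1, g1, g2, g6, g2, g6, g3, g5, g3, g5]),
   (654, [g2, g1, g3, g4, g1, g3, g2, g6, g2, g2, g2, g3, g6, g5]),
   (578, [g1, g3, g1, g2, g3, g1, g6, g3, g2, g2, g6, g3, g2, g4, g4, g3, g3, g6]),
   (482, [g2, g6, g1, g1, g2, g2, g2, g4, g2, g3, g3, g5, g6, g5]),
   (318, []),
   (330, [g1, g2, g5, g2, g1, g1, g4, g6, g2, g6, g3, g2, g5, g6, g5]),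
   (626, [g4, g1, g1, g6, g1, g1, g1, g4, g3, g2, g6, g2, g2, g5, g4, g4, g3, g6, g5]),
   (545, [g3, g4, g1, g5, g3, g1, g4, g3, g2, g2, g6, g2, g5, g6, g4, g3, g5]),
   (451, [g2, g6, g1, g1, g1, g2, g6, g2, g4, g4, g5, g6, g5]),
   (566, [g2, g2, g1, g1, g1, g6, g2, g2, g4, g3, g2, g4, g6, g3, g6]),
   (614, [g6, g2, g1, g1, g2, g4, g2, g2, g2, g6, g4, g3]),
   (341, [g2, g2, g4, g1, g6, g2, g2, g4, g4, g2, g2, g4, g3, g5, g6, g5]),
   (632, [g6, g2, g3, g4, g2, g3, g4, g4, g4, g6, g5]),
   (519, [g4, g3, g1, g3, g1, g1, g4, g6, g2, g4, g2, g2, g3, g4, g4, g6, g5]),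
   (634, [g1, g1, g3, g1, g2, g4, g2, g2, g5, g6, g4, g3, g5]),
   (635, [g5, g3, g4, g1, g1, g3, g4, g2, g6, g3, g3, g3]),
   (636, [g4, g2, g1, g1, g3, g4, g2, g2, g3, g3, g3, g5, g6, g5]),
   (587, [g1, g6, g4, g3, g2, g1, g4, g3, g6]),
   (542, [g6, g2, g1, g5, g1, g2, g3, g6, g2, g6, g3, g3, g3]),
   (672, [g4, g2, g1, g1, g1, g1, g4, g2, g4, g4, g3, g2, g5, g3, g6, g5]),
   (531, [g1, g4, g1, g1, g2, g1, g1, g4, g4, g2, g4, g2, g4, g3, g4, g4, g6, g5]),
   (426, [g5, g1, g4, g1, g1, g1, g2, g2, g3, g4, g3, g2, g3, g3])]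

/-- Part 75 of cert0. -/
noncomputable def cert0_75 : List (ℕ × List ℕ) :=
  [(533, [g3, g5, g1, g1, g2, g1, g2, g2, g6, g2, g6, g3, g5, g3, g5, g6, g5]),
   (620, [g1, g6, g3, g2, g1, g2, g2, g6, g3, g2, g3, g6, g5, g3]),
   (644, [g2, g6, g2, g3, g5]),
   (570, [g3, g4, g2, g1, g4, g2, g2, g2, g3, g4, g4, g5, g6]),
   (683, [g1, g1, g1, g4, g1, g2, g4, g4, g2, g2, g2, g5, g4, g4, g3, g6]),
   (415, [g2, g6, g1, g4, g1, g4, g2, g4, g4, g2, g2, g3, g6]),
   (648, [g3, g1, g2, g1, g3, g6, g2, g3, g3, g5]),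
   (604, [g4, g1, g1, g3, g2, g1, g3, g2, g3, g6, g2, g3, g5, g6]),
   (692, [g6, g4, g1, g5, g1, g2, g2, g4, g4, g3, g2, g4, g4, g5]),
   (651, [g6, g2, g2, g6, g2, g2, g3, g4, g4, g4, g5]),
   (685, [g2, g1, g6, g1, g1, g2, g2, g4, g2, g4, g3, g5, g6]),
   (595, [g3, g1, g3, g4, g1, g1, g4, g2, g2, g2, g5, g6, g4, g3, g5, g6]),
   (621, [g1, g3, g2, g2, g3, g1, g2, g5, g2, g4, g2, g2, g4, g4, g5, g6]),
   (655, [g1, g1, g3, g1, g1, g1, g3, g2, g4, g2, g4, g4, g3, g3, g5]),
   (422, [g2, g3, g3, g2, g1, g4, g2, g4, g4, g4, g3, g3]),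
   (374, []),
   (678, [g2, g5, g2, g1, g1, g3, g2, g6, g2, g2, g4, g4, g3, g5, g6, g5]),
   (376, []),
   (660, [g1, g2, g1, g3, g6, g2, g5, g3, g3, g3]),
   (661, [g2, g5, g1, g4, g1, g1, g1, g6, g2, g4, g4, g3, g2, g4, g4, g4, g5, g6]),
   (662, [g1, g3, g2, g2, g1, g1, g4, g2, g4, g2, g2, g5, g6, g3, g6, g5]),
   (556, [g2, g1, g1, g1, g3, g2, g4, g2, g2, g2, g3, g5, g4, g4, g3, g6, g5]),
   (664, [g4, g2, g1, g2, g1, g3, g6, g2, g2, g3, g3, g3, g5, g6, g5]),
   (419, [g4, g1, g1, g1, g1, g2, g6, g3, g2, g4, g4, g4, g3, g3, g6, g5]),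
   (666, [g2, g4, g1, g2, g1, g2, g2, g6, g2, g2, g5, g4, g4, g3, g6, g5]),
   (588, [g2, g1, g1, g1, g1, g1, g2, g2, g6, g2, g2, g6, g5, g3]),
   (618, [g6, g5, g3, g2, g1, g2, g4, g2, g4, g2, g2, g6, g3, g5, g3, g5]),
   (405, []),
   (670, [g6, g2, g6, g3, g2, g5, g3, g6]),
   (406, []),
   (639, [g4, g3, g2, g3, g1, g1, g1, g6, g2, g3, g4, g2, g3, g3, g6]),
   (423, [g6, g2, g3, g1, g1, g3, g4, g2, g4, g2, g3, g5, g3, g5]),
   (547, [g4, g4, g1, g5, g1, g2, g3, g4, g2, g4, g3, g4, g4, g5]),
   (675, [g4, g2, g4, g1, g1, g2, g2, g3, g4, g2, g2, g6, g3, g3, g3]),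
   (486, [g1, g1, g3, g2, g1, g2, g4, g2, g6, g2, g2, g2, g5, g3]),
   (550, [g3, g1, g2, g4, g1, g1, g4, g4, g2, g2, g6, g5, g3]),
   (658, [g2, g6, g3, g1, g1, g6, g2, g3, g4, g2, g5, g6, g5, g3, g5, g6]),
   (691, [g2, g5, g1, g1, g2, g1, g4, g2, g2, g6, g3, g2, g3, g6, g5, g3, g6, g5]),
   (680, [g2, g3, g4, g3, g2, g6, g4, g3, g6]),
   (681, [g2, g2, g4, g2, g4, g1, g1, g3, g2, g2, g4, g3, g2, g4, g4, g4]),
   (599, [g5, g1, g2, g1, g1, g3, g2, g2, g6, g2, g4, g4, g3, g3, g5]),
   (646, [g1, g3, g1, g4, g2, g5, g4, g4, g3, g5, g6, g5]),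
   (506, [g1, g2, g2, g1, g2, g1, g4, g4, g2, g4, g2, g6, g3, g3, g3, g6]),
   (652, [g1, g1, g2, g4, g1, g2, g2, g6, g2, g4, g4, g4, g3, g3]),
   (508, [g4, g1, g3, g1, g4, g2, g6, g2, g4, g2, g2, g3, g5, g4, g4, g3, g5, g6, g5]),
   (608, [g3, g4, g1, g4, g2, g3, g4, g2, g2, g5]),
   (507, [g3, g2, g6, g1, g1, g2, g3, g6, g2, g2, g3, g5, g3]),
   (555, [g4, g2, g1, g1, g1, g6, g2, g2, g4, g4, g2, g2, g4, g3, g6, g5]),
   (690, [g3, g4, g2, g3, g6, g2, g6, g3, g5]),
   (679, [g3, g2, g4, g2, g1, g1, g1, g2, g2, g2, g6, g3, g5, g6, g5]),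
   (650, [g3, g1, g3, g5, g1, g4, g2, g3, g6, g2, g3, g4, g4, g4, g5, g6])]

/-- Level 0. -/
noncomputable def lev0 : StabCert.Lev :=
  ⟨893, [0, 1, 2, 3, 4, 5, 6], (words0_0 ++ (words0_1 ++ (words0_2 ++ (words0_3 ++ (words0_4 ++ (words0_5 ++ (words0_6 ++ (words0_7 ++ (words0_8 ++ (words0_9 ++ (words0_10))))))))))), (cert0_0 ++ (cert0_1 ++ (cert0_2 ++ (cert0_3 ++ (cert0_4 ++ (cert0_5 ++ (cert0_6 ++ (cert0_7 ++ (cert0_8 ++ (cert0_9 ++ (cert0_10 ++ (cert0_11 ++ (cert0_12 ++ (cert0_13 ++ (cert0_14 ++ (cert0_15 ++ (cert0_16 ++ (cert0_17 ++ (cert0_18 ++ (cert0_19 ++ (cert0_20 ++ (cert0_21 ++ (cert0_22 ++ (cert0_23 ++ (cert0_24 ++ (cert0_25 ++ (cert0_26 ++ (cert0_27 ++ (cert0_28 ++ (cert0_29 ++ (cert0_30 ++ (cert0_31 ++ (cert0_32 ++ (cert0_33 ++ (cert0_34 ++ (cert0_35 ++ (cert0_36 ++ (cert0_37 ++ (cert0_38 ++ (cert0_39 ++ (cert0_40 ++ (cert0_41 ++ (cert0_42 ++ (cert0_43 ++ (cert0_44 ++ (cert0_45 ++ (cert0_46 ++ (cert0_47 ++ (cert0_48 ++ (cert0_49 ++ (cert0_50 ++ (cert0_51 ++ (cert0_52 ++ (cert0_53 ++ (cert0_54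 ++ (cert0_55 ++ (cert0_56 ++ (cert0_57 ++ (cert0_58 ++ (cert0_59 ++ (cert0_60 ++ (cert0_61 ++ (cert0_62 ++ (cert0_63 ++ (cert0_64 ++ (cert0_65 ++ (cert0_66 ++ (cert0_67 ++ (cert0_68 ++ (cert0_69 ++ (cert0_70 ++ (cert0_71 ++ (cert0_72 ++ (cert0_73 ++ (cert0_74 ++ (cert0_75))))))))))))))))))))))))))))))))))))))))))))))))))))))))))))))))))))))))))))⟩

/-- Part 0 of words1. -/
noncomputable def words1_0 : List (List ℕ) :=
  [[],
   [g1],
   [g1, g1],
   [g2, g1],
   [g3, g1],
   [g4, g1],
   [g5, g1],
   [g1, g1, g1],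
   [g2, g1, g1],
   [g3, g1, g1],
   [g4, g1, g1],
   [g6, g1, g1],
   [g1, g2, g1],
   [g2, g2, g1],
   [g3, g2, g1],
   [g4, g2, g1],
   [g1, g3, g1],
   [g2, g3, g1],
   [g4, g3, g1],
   [g5, g3, g1],
   [g1, g4, g1],
   [g2, g4, g1],
   [g3, g4, g1],
   [g1, g5, g1],
   [g3, g5, g1],
   [g1, g1, g1, g1],
   [g2, g1, g1, g1],
   [g3, g1, g1, g1],
   [g4, g1, g1, g1],
   [g6, g1, g1, g1],
   [g1, g2, g1, g1],
   [g2, g2, g1, g1],
   [g3, g2, g1, g1],
   [g4, g2, g1, g1],
   [g5, g2, g1, g1],
   [g6, g2, g1, g1],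
   [g1, g3, g1, g1],
   [g2, g3, g1, g1],
   [g5, g3, g1, g1],
   [g6, g3, g1, g1],
   [g1, g4, g1, g1],
   [g2, g4, g1, g1],
   [g3, g4, g1, g1],
   [g5, g4, g1, g1],
   [g1, g6, g1, g1],
   [g2, g6, g1, g1],
   [g3, g6, g1, g1],
   [g4, g6, g1, g1],
   [g5, g6, g1, g1],
   [g1, g1, g2, g1],
   [g2, g1, g2, g1],
   [g3, g1, g2, g1],
   [g4, g1, g2, g1],
   [g5, g1, g2, g1],
   [g1, g2, g2, g1],
   [g2, g2, g2, g1],
   [g3, g2, g2, g1],
   [g4, g2, g2, g1],
   [g6, g2, g2, g1],
   [g1, g3, g2, g1],
   [g3, g3, g2, g1],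
   [g4, g3, g2, g1],
   [g5, g3, g2, g1],
   [g6, g3, g2, g1]]

/-- Part 1 of words1. -/
noncomputable def words1_1 : List (List ℕ) :=
  [[g1, g4, g2, g1],
   [g2, g4, g2, g1],
   [g3, g4, g2, g1],
   [g4, g4, g2, g1],
   [g1, g1, g3, g1],
   [g3, g1, g3, g1],
   [g4, g1, g3, g1],
   [g1, g2, g3, g1],
   [g2, g2, g3, g1],
   [g3, g2, g3, g1],
   [g4, g2, g3, g1],
   [g6, g2, g3, g1],
   [g1, g4, g3, g1],
   [g2, g4, g3, g1],
   [g3, g4, g3, g1],
   [g1, g5, g3, g1],
   [g3, g5, g3, g1],
   [g1, g1, g4, g1],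
   [g2, g1, g4, g1],
   [g4, g1, g4, g1],
   [g6, g1, g4, g1],
   [g1, g2, g4, g1],
   [g2, g2, g4, g1],
   [g3, g2, g4, g1],
   [g4, g2, g4, g1],
   [g6, g2, g4, g1],
   [g1, g3, g4, g1],
   [g4, g3, g4, g1],
   [g1, g1, g5, g1],
   [g2, g1, g5, g1],
   [g3, g1, g5, g1],
   [g4, g1, g5, g1],
   [g5, g1, g5, g1],
   [g6, g1, g5, g1],
   [g1, g3, g5, g1],
   [g1, g1, g1, g1, g1],
   [g2, g1, g1, g1, g1],
   [g3, g1, g1, g1, g1],
   [g4, g1, g1, g1, g1],
   [g6, g1, g1, g1, g1],
   [g1, g2, g1, g1, g1],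
   [g2, g2, g1, g1, g1],
   [g4, g2, g1, g1, g1],
   [g5, g2, g1, g1, g1],
   [g1, g3, g1, g1, g1],
   [g2, g3, g1, g1, g1],
   [g3, g3, g1, g1, g1],
   [g4, g3, g1, g1, g1],
   [g5, g3, g1, g1, g1],
   [g1, g4, g1, g1, g1],
   [g3, g4, g1, g1, g1],
   [g4, g4, g1, g1, g1],
   [g1, g6, g1, g1, g1],
   [g2, g6, g1, g1, g1],
   [g3, g6, g1, g1, g1],
   [g1, g1, g2, g1, g1],
   [g2, g1, g2, g1, g1],
   [g3, g1, g2, g1, g1],
   [g4, g1, g2, g1, g1],
   [g5, g1, g2, g1, g1],
   [g6, g1, g2, g1, g1],
   [g1, g2, g2, g1, g1],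
   [g2, g2, g2, g1, g1],
   [g3, g2, g2, g1, g1]]

/-- Part 2 of words1. -/
noncomputable def words1_2 : List (List ℕ) :=
  [[g4, g2, g2, g1, g1],
   [g5, g2, g2, g1, g1],
   [g6, g2, g2, g1, g1],
   [g1, g3, g2, g1, g1],
   [g2, g3, g2, g1, g1],
   [g1, g4, g2, g1, g1],
   [g2, g4, g2, g1, g1],
   [g1, g5, g2, g1, g1],
   [g2, g5, g2, g1, g1],
   [g3, g5, g2, g1, g1],
   [g2, g6, g2, g1, g1],
   [g4, g6, g2, g1, g1],
   [g1, g1, g3, g1, g1],
   [g3, g1, g3, g1, g1],
   [g5, g1, g3, g1, g1],
   [g1, g2, g3, g1, g1],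
   [g2, g2, g3, g1, g1],
   [g3, g2, g3, g1, g1],
   [g5, g2, g3, g1, g1],
   [g6, g2, g3, g1, g1],
   [g6, g5, g3, g1, g1],
   [g1, g6, g3, g1, g1],
   [g2, g6, g3, g1, g1],
   [g3, g1, g4, g1, g1],
   [g4, g1, g4, g1, g1],
   [g5, g1, g4, g1, g1],
   [g6, g1, g4, g1, g1],
   [g1, g2, g4, g1, g1],
   [g2, g2, g4, g1, g1],
   [g4, g2, g4, g1, g1],
   [g5, g2, g4, g1, g1],
   [g1, g3, g4, g1, g1],
   [g2, g3, g4, g1, g1],
   [g4, g3, g4, g1, g1],
   [g5, g3, g4, g1, g1],
   [g1, g5, g4, g1, g1],
   [g2, g5, g4, g1, g1],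
   [g1, g1, g6, g1, g1],
   [g2, g1, g6, g1, g1],
   [g3, g1, g6, g1, g1],
   [g4, g1, g6, g1, g1],
   [g1, g2, g6, g1, g1],
   [g2, g2, g6, g1, g1],
   [g3, g2, g6, g1, g1],
   [g1, g3, g6, g1, g1],
   [g1, g5, g6, g1, g1],
   [g1, g1, g1, g2, g1],
   [g2, g1, g1, g2, g1],
   [g3, g1, g1, g2, g1],
   [g4, g1, g1, g2, g1],
   [g5, g1, g1, g2, g1],
   [g1, g2, g1, g2, g1],
   [g2, g2, g1, g2, g1],
   [g3, g2, g1, g2, g1],
   [g4, g2, g1, g2, g1],
   [g6, g2, g1, g2, g1],
   [g2, g3, g1, g2, g1],
   [g1, g4, g1, g2, g1],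
   [g2, g4, g1, g2, g1],
   [g1, g5, g1, g2, g1],
   [g2, g5, g1, g2, g1],
   [g2, g1, g2, g2, g1],
   [g1, g2, g2, g2, g1],
   [g4, g2, g2, g2, g1]]

/-- Part 3 of words1. -/
noncomputable def words1_3 : List (List ℕ) :=
  [[g5, g2, g2, g2, g1],
   [g6, g2, g2, g2, g1],
   [g1, g3, g2, g2, g1],
   [g2, g3, g2, g2, g1],
   [g4, g3, g2, g2, g1],
   [g5, g3, g2, g2, g1],
   [g1, g4, g2, g2, g1],
   [g4, g4, g2, g2, g1],
   [g2, g6, g2, g2, g1],
   [g5, g6, g2, g2, g1],
   [g1, g1, g3, g2, g1],
   [g2, g1, g3, g2, g1],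
   [g6, g1, g3, g2, g1],
   [g2, g3, g3, g2, g1],
   [g1, g4, g3, g2, g1],
   [g2, g4, g3, g2, g1],
   [g3, g4, g3, g2, g1],
   [g6, g4, g3, g2, g1],
   [g1, g5, g3, g2, g1],
   [g3, g5, g3, g2, g1],
   [g6, g5, g3, g2, g1],
   [g1, g6, g3, g2, g1],
   [g2, g6, g3, g2, g1],
   [g3, g6, g3, g2, g1],
   [g4, g6, g3, g2, g1],
   [g1, g1, g4, g2, g1],
   [g3, g1, g4, g2, g1],
   [g4, g1, g4, g2, g1],
   [g5, g1, g4, g2, g1],
   [g4, g2, g4, g2, g1],
   [g6, g2, g4, g2, g1],
   [g1, g4, g4, g2, g1],
   [g3, g4, g4, g2, g1],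
   [g4, g4, g4, g2, g1],
   [g4, g3, g1, g3, g1],
   [g6, g3, g1, g3, g1],
   [g1, g4, g1, g3, g1],
   [g2, g4, g1, g3, g1],
   [g4, g4, g1, g3, g1],
   [g3, g1, g2, g3, g1],
   [g1, g2, g2, g3, g1],
   [g3, g2, g2, g3, g1],
   [g4, g2, g2, g3, g1],
   [g1, g3, g2, g3, g1],
   [g6, g3, g2, g3, g1],
   [g1, g4, g2, g3, g1],
   [g1, g6, g2, g3, g1],
   [g1, g1, g4, g3, g1],
   [g2, g1, g4, g3, g1],
   [g4, g1, g4, g3, g1],
   [g5, g1, g4, g3, g1],
   [g6, g1, g4, g3, g1],
   [g2, g3, g4, g3, g1],
   [g2, g1, g5, g3, g1],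
   [g3, g1, g5, g3, g1],
   [g4, g1, g5, g3, g1],
   [g1, g1, g1, g4, g1],
   [g2, g1, g1, g4, g1],
   [g3, g1, g1, g4, g1],
   [g6, g1, g1, g4, g1],
   [g1, g2, g1, g4, g1],
   [g4, g2, g1, g4, g1],
   [g1, g4, g1, g4, g1],
   [g2, g4, g1, g4, g1]]

/-- Part 4 of words1. -/
noncomputable def words1_4 : List (List ℕ) :=
  [[g2, g6, g1, g4, g1],
   [g1, g1, g2, g4, g1],
   [g2, g1, g2, g4, g1],
   [g6, g1, g2, g4, g1],
   [g1, g2, g2, g4, g1],
   [g1, g3, g2, g4, g1],
   [g4, g3, g2, g4, g1],
   [g6, g3, g2, g4, g1],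
   [g1, g4, g2, g4, g1],
   [g2, g4, g2, g4, g1],
   [g3, g4, g2, g4, g1],
   [g4, g4, g2, g4, g1],
   [g1, g6, g2, g4, g1],
   [g2, g6, g2, g4, g1],
   [g3, g6, g2, g4, g1],
   [g4, g6, g2, g4, g1],
   [g2, g1, g3, g4, g1],
   [g1, g1, g1, g5, g1],
   [g1, g2, g1, g5, g1],
   [g2, g2, g1, g5, g1],
   [g3, g2, g1, g5, g1],
   [g4, g2, g1, g5, g1],
   [g5, g2, g1, g5, g1],
   [g6, g2, g1, g5, g1],
   [g1, g3, g1, g5, g1],
   [g1, g4, g1, g5, g1],
   [g2, g4, g1, g5, g1],
   [g4, g4, g1, g5, g1],
   [g6, g4, g1, g5, g1],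
   [g1, g5, g1, g5, g1],
   [g3, g5, g1, g5, g1],
   [g3, g6, g1, g5, g1],
   [g4, g6, g1, g5, g1],
   [g5, g6, g1, g5, g1],
   [g3, g1, g3, g5, g1],
   [g6, g1, g3, g5, g1],
   [g2, g1, g1, g1, g1, g1],
   [g4, g1, g1, g1, g1, g1],
   [g6, g1, g1, g1, g1, g1],
   [g2, g2, g1, g1, g1, g1],
   [g4, g2, g1, g1, g1, g1],
   [g3, g3, g1, g1, g1, g1],
   [g5, g3, g1, g1, g1, g1],
   [g6, g3, g1, g1, g1, g1],
   [g1, g4, g1, g1, g1, g1],
   [g2, g4, g1, g1, g1, g1],
   [g3, g4, g1, g1, g1, g1],
   [g5, g4, g1, g1, g1, g1],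
   [g1, g6, g1, g1, g1, g1],
   [g3, g6, g1, g1, g1, g1],
   [g6, g1, g2, g1, g1, g1],
   [g1, g4, g2, g1, g1, g1],
   [g2, g4, g2, g1, g1, g1],
   [g3, g4, g2, g1, g1, g1],
   [g5, g4, g2, g1, g1, g1],
   [g6, g4, g2, g1, g1, g1],
   [g3, g5, g2, g1, g1, g1],
   [g1, g1, g3, g1, g1, g1],
   [g2, g1, g3, g1, g1, g1],
   [g3, g1, g3, g1, g1, g1],
   [g4, g1, g3, g1, g1, g1],
   [g5, g1, g3, g1, g1, g1],
   [g3, g2, g3, g1, g1, g1],
   [g2, g3, g3, g1, g1, g1]]

/-- Part 5 of words1. -/
noncomputable def words1_5 : List (List ℕ) :=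
  [[g4, g3, g3, g1, g1, g1],
   [g1, g4, g3, g1, g1, g1],
   [g2, g4, g3, g1, g1, g1],
   [g3, g4, g3, g1, g1, g1],
   [g4, g4, g3, g1, g1, g1],
   [g1, g5, g3, g1, g1, g1],
   [g3, g5, g3, g1, g1, g1],
   [g2, g1, g4, g1, g1, g1],
   [g5, g1, g4, g1, g1, g1],
   [g1, g3, g4, g1, g1, g1],
   [g2, g3, g4, g1, g1, g1],
   [g1, g4, g4, g1, g1, g1],
   [g1, g1, g6, g1, g1, g1],
   [g2, g1, g6, g1, g1, g1],
   [g4, g1, g6, g1, g1, g1],
   [g2, g2, g6, g1, g1, g1],
   [g3, g2, g6, g1, g1, g1],
   [g4, g2, g6, g1, g1, g1],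
   [g2, g1, g1, g2, g1, g1],
   [g3, g1, g1, g2, g1, g1],
   [g4, g1, g1, g2, g1, g1],
   [g4, g2, g1, g2, g1, g1],
   [g2, g3, g1, g2, g1, g1],
   [g6, g4, g1, g2, g1, g1],
   [g1, g5, g1, g2, g1, g1],
   [g6, g5, g1, g2, g1, g1],
   [g1, g6, g1, g2, g1, g1],
   [g3, g6, g1, g2, g1, g1],
   [g1, g1, g2, g2, g1, g1],
   [g3, g1, g2, g2, g1, g1],
   [g6, g1, g2, g2, g1, g1],
   [g1, g2, g2, g2, g1, g1],
   [g3, g2, g2, g2, g1, g1],
   [g4, g2, g2, g2, g1, g1],
   [g1, g3, g2, g2, g1, g1],
   [g4, g3, g2, g2, g1, g1],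
   [g6, g3, g2, g2, g1, g1],
   [g2, g4, g2, g2, g1, g1],
   [g6, g4, g2, g2, g1, g1],
   [g1, g5, g2, g2, g1, g1],
   [g2, g5, g2, g2, g1, g1],
   [g1, g6, g2, g2, g1, g1],
   [g2, g1, g3, g2, g1, g1],
   [g3, g1, g3, g2, g1, g1],
   [g2, g2, g3, g2, g1, g1],
   [g1, g1, g4, g2, g1, g1],
   [g4, g1, g4, g2, g1, g1],
   [g6, g1, g4, g2, g1, g1],
   [g4, g2, g4, g2, g1, g1],
   [g5, g2, g4, g2, g1, g1],
   [g1, g1, g5, g2, g1, g1],
   [g3, g1, g5, g2, g1, g1],
   [g1, g2, g5, g2, g1, g1],
   [g2, g2, g5, g2, g1, g1],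
   [g6, g3, g5, g2, g1, g1],
   [g1, g1, g1, g3, g1, g1],
   [g2, g1, g1, g3, g1, g1],
   [g3, g1, g1, g3, g1, g1],
   [g4, g1, g1, g3, g1, g1],
   [g4, g3, g1, g3, g1, g1],
   [g1, g1, g2, g3, g1, g1],
   [g2, g1, g2, g3, g1, g1],
   [g3, g1, g2, g3, g1, g1],
   [g4, g1, g2, g3, g1, g1]]

/-- Part 6 of words1. -/
noncomputable def words1_6 : List (List ℕ) :=
  [[g1, g5, g2, g3, g1, g1],
   [g3, g5, g2, g3, g1, g1],
   [g1, g2, g6, g3, g1, g1],
   [g4, g3, g1, g4, g1, g1],
   [g5, g3, g1, g4, g1, g1],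
   [g1, g5, g1, g4, g1, g1],
   [g3, g1, g2, g4, g1, g1],
   [g1, g2, g2, g4, g1, g1],
   [g2, g4, g2, g4, g1, g1],
   [g3, g4, g2, g4, g1, g1],
   [g1, g1, g3, g4, g1, g1],
   [g2, g1, g3, g4, g1, g1],
   [g3, g1, g3, g4, g1, g1],
   [g4, g1, g3, g4, g1, g1],
   [g5, g1, g3, g4, g1, g1],
   [g4, g2, g3, g4, g1, g1],
   [g3, g1, g5, g4, g1, g1],
   [g5, g1, g5, g4, g1, g1],
   [g6, g2, g5, g4, g1, g1],
   [g1, g1, g1, g6, g1, g1],
   [g3, g2, g1, g6, g1, g1],
   [g2, g3, g1, g6, g1, g1],
   [g6, g3, g1, g6, g1, g1],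
   [g1, g3, g2, g6, g1, g1],
   [g4, g3, g2, g6, g1, g1],
   [g3, g1, g3, g6, g1, g1],
   [g4, g1, g5, g6, g1, g1],
   [g1, g2, g1, g1, g2, g1],
   [g1, g3, g1, g1, g2, g1],
   [g4, g3, g1, g1, g2, g1],
   [g4, g4, g1, g1, g2, g1],
   [g1, g5, g1, g1, g2, g1],
   [g2, g5, g1, g1, g2, g1],
   [g3, g5, g1, g1, g2, g1],
   [g2, g1, g2, g1, g2, g1],
   [g1, g2, g2, g1, g2, g1],
   [g1, g6, g2, g1, g2, g1],
   [g2, g6, g2, g1, g2, g1],
   [g1, g1, g4, g1, g2, g1],
   [g1, g2, g4, g1, g2, g1],
   [g1, g2, g1, g2, g2, g1],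
   [g1, g4, g2, g2, g2, g1],
   [g1, g5, g2, g2, g2, g1],
   [g2, g6, g2, g2, g2, g1],
   [g2, g1, g3, g2, g2, g1],
   [g1, g2, g3, g2, g2, g1],
   [g3, g5, g3, g2, g2, g1],
   [g2, g1, g4, g2, g2, g1],
   [g1, g4, g4, g2, g2, g1],
   [g2, g4, g4, g2, g2, g1],
   [g4, g1, g1, g3, g2, g1],
   [g1, g2, g1, g3, g2, g1],
   [g1, g3, g4, g3, g2, g1],
   [g1, g6, g4, g3, g2, g1],
   [g4, g1, g5, g3, g2, g1],
   [g6, g1, g5, g3, g2, g1],
   [g1, g6, g5, g3, g2, g1],
   [g3, g1, g6, g3, g2, g1],
   [g1, g2, g6, g3, g2, g1],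
   [g5, g2, g6, g3, g2, g1],
   [g6, g2, g6, g3, g2, g1],
   [g1, g4, g6, g3, g2, g1],
   [g4, g1, g1, g4, g2, g1],
   [g1, g4, g1, g4, g2, g1]]

/-- Part 7 of words1. -/
noncomputable def words1_7 : List (List ℕ) :=
  [[g5, g4, g1, g4, g2, g1],
   [g2, g5, g1, g4, g2, g1],
   [g1, g1, g4, g4, g2, g1],
   [g4, g6, g3, g1, g3, g1],
   [g5, g6, g3, g1, g3, g1],
   [g4, g1, g4, g1, g3, g1],
   [g3, g4, g4, g1, g3, g1],
   [g1, g3, g1, g2, g3, g1],
   [g1, g1, g2, g2, g3, g1],
   [g1, g3, g2, g2, g3, g1],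
   [g3, g4, g2, g2, g3, g1],
   [g3, g1, g3, g2, g3, g1],
   [g6, g1, g3, g2, g3, g1],
   [g1, g2, g1, g4, g3, g1],
   [g4, g2, g1, g4, g3, g1],
   [g6, g4, g1, g4, g3, g1],
   [g6, g5, g1, g4, g3, g1],
   [g4, g2, g3, g4, g3, g1],
   [g2, g3, g1, g5, g3, g1],
   [g3, g4, g1, g5, g3, g1],
   [g5, g2, g1, g1, g4, g1],
   [g6, g2, g1, g1, g4, g1],
   [g2, g3, g1, g1, g4, g1],
   [g3, g1, g2, g1, g4, g1],
   [g1, g2, g6, g1, g4, g1],
   [g2, g2, g1, g2, g4, g1],
   [g1, g6, g1, g2, g4, g1],
   [g3, g6, g1, g2, g4, g1],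
   [g4, g6, g1, g2, g4, g1],
   [g3, g1, g3, g2, g4, g1],
   [g2, g2, g6, g2, g4, g1],
   [g2, g2, g1, g3, g4, g1],
   [g4, g1, g1, g1, g5, g1],
   [g5, g1, g1, g1, g5, g1],
   [g5, g6, g2, g1, g5, g1],
   [g4, g1, g5, g1, g5, g1],
   [g1, g3, g6, g1, g5, g1],
   [g5, g3, g1, g3, g5, g1],
   [g3, g6, g1, g3, g5, g1],
   [g2, g4, g2, g1, g1, g1, g1],
   [g2, g6, g3, g1, g1, g1, g1],
   [g3, g6, g3, g1, g1, g1, g1],
   [g3, g2, g4, g2, g1, g1, g1],
   [g5, g2, g1, g3, g1, g1, g1],
   [g2, g4, g1, g3, g1, g1, g1],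
   [g4, g3, g2, g3, g1, g1, g1],
   [g1, g4, g4, g3, g1, g1, g1],
   [g2, g2, g1, g4, g1, g1, g1],
   [g2, g5, g1, g4, g1, g1, g1],
   [g4, g1, g1, g6, g1, g1, g1],
   [g5, g2, g1, g6, g1, g1, g1],
   [g2, g4, g1, g6, g1, g1, g1],
   [g1, g4, g2, g6, g1, g1, g1],
   [g1, g4, g1, g1, g2, g1, g1],
   [g2, g6, g4, g1, g2, g1, g1],
   [g1, g3, g6, g1, g2, g1, g1],
   [g3, g4, g2, g2, g2, g1, g1],
   [g2, g1, g5, g2, g2, g1, g1],
   [g3, g2, g1, g3, g2, g1, g1],
   [g1, g4, g1, g4, g2, g1, g1],
   [g2, g4, g1, g4, g2, g1, g1],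
   [g2, g2, g4, g2, g4, g1, g1],
   [g6, g1, g2, g4, g1, g2, g1],
   [g1, g1, g3, g4, g3, g2, g1]]

/-- Part 0 of cert1. -/
noncomputable def cert1_0 : List (ℕ × List ℕ) :=
  [(1, []),
   (2, []),
   (7, []),
   (12, []),
   (16, []),
   (20, []),
   (23, []),
   (25, []),
   (30, []),
   (36, []),
   (40, []),
   (44, []),
   (49, []),
   (54, []),
   (59, []),
   (64, []),
   (68, []),
   (71, []),
   (76, []),
   (79, []),
   (81, []),
   (85, []),
   (90, []),
   (92, []),
   (98, []),
   (99, []),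
   (104, []),
   (108, []),
   (113, []),
   (116, []),
   (119, []),
   (125, []),
   (131, []),
   (133, []),
   (135, []),
   (134, [g4, g2, g2, g6, g3, g2, g3, g4, g4, g6, g5]),
   (140, []),
   (143, []),
   (128, [g2, g4, g3, g2, g4, g5, g6, g5]),
   (149, []),
   (142, [g3, g5, g2, g4, g2, g4, g4, g3, g5, g6, g5]),
   (155, []),
   (159, []),
   (163, []),
   (165, []),
   (169, []),
   (172, []),
   (60, [g4, g4, g2, g2, g6, g5, g3, g6]),
   (173, []),
   (174, []),
   (179, []),
   (19, [g2, g6, g2, g4, g2, g2, g3, g6, g5, g3, g6, g5]),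
   (185, []),
   (187, []),
   (56, [g6, g2, g3, g4, g2, g6, g5, g3, g6]),
   (190, []),
   (194, []),
   (198, []),
   (170, [g2, g4, g4, g2, g2, g5, g6, g3, g6]),
   (202, []),
   (61, [g2, g4, g2, g6, g3, g6, g5]),
   (206, []),
   (210, []),
   (213, [])]

/-- Part 1 of cert1. -/
noncomputable def cert1_1 : List (ℕ × List ℕ) :=
  [(217, []),
   (120, [g3, g2, g6, g2, g2, g4, g3]),
   (144, [g3, g5, g2, g4, g2, g6, g3, g5, g3, g5, g6]),
   (223, []),
   (183, [g3, g2, g6, g2, g2, g2, g4, g6, g3, g3, g3, g5, g6, g5]),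
   (171, [g3, g2]),
   (228, []),
   (65, [g2, g6, g2, g2, g6, g2, g3, g6, g5, g3, g5, g6]),
   (232, []),
   (235, []),
   (237, []),
   (238, []),
   (239, []),
   (188, [g4, g6, g2, g2, g4, g4, g6, g5]),
   (47, [g3, g2, g6, g3, g5, g3, g5]),
   (100, [g2, g3, g6, g2, g3, g3, g3, g5, g6]),
   (204, [g4, g2, g3, g4, g2, g3, g5, g6, g5]),
   (248, []),
   (252, []),
   (254, []),
   (8, [g2, g2, g2, g4, g2, g3, g6, g5, g3, g5, g6]),
   (257, []),
   (260, []),
   (261, []),
   (264, []),
   (268, []),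
   (103, [g2, g2, g3, g6, g2, g3, g3]),
   (73, [g6, g3, g2, g4, g4, g5]),
   (273, []),
   (274, []),
   (280, []),
   (281, []),
   (285, []),
   (197, [g4, g2, g2, g4, g4, g2, g2, g6, g3, g5, g3, g6, g5]),
   (121, [g2, g2, g3, g4, g3, g2, g6, g4, g3, g6]),
   (176, [g2, g2, g2, g4, g2, g4, g3, g6, g5]),
   (161, [g4, g2, g5, g2, g4, g2, g4, g4, g4, g3, g3, g6, g5]),
   (118, [g6, g4, g2, g4, g2, g2, g4, g3, g3, g6, g5]),
   (300, []),
   (304, []),
   (209, [g4, g2, g6, g5, g3, g6]),
   (17, [g6, g2, g2, g3, g4, g2, g4, g4, g3, g5, g6, g5]),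
   (307, []),
   (181, [g2, g3, g4, g2, g2, g4, g3, g4, g4, g6, g5]),
   (313, []),
   (189, [g2, g2, g2, g4, g3, g2, g3, g5, g4, g4, g3, g6, g5]),
   (309, [g2, g2, g3, g4, g3, g2, g4, g6]),
   (321, []),
   (325, []),
   (195, [g3, g2, g2, g4, g2, g3, g3, g3, g5, g6]),
   (329, []),
   (331, []),
   (332, []),
   (222, [g3, g2, g4, g4, g3, g2, g4, g4, g5]),
   (212, [g6, g2, g6, g2, g4, g4]),
   (299, [g2, g2, g6, g2, g2, g6, g3, g5]),
   (66, [g4, g2, g2, g2, g6, g2, g5, g6, g5, g3, g6]),
   (24, [g3, g2, g3, g4, g3, g2, g6, g5, g3, g5]),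
   (39, [g3, g2, g6, g2, g2, g4, g6]),
   (344, []),
   (346, []),
   (348, []),
   (351, []),
   (354, [])]

/-- Part 2 of cert1. -/
noncomputable def cert1_2 : List (ℕ × List ℕ) :=
  [(242, [g4, g2, g2, g2, g6, g2, g3, g3, g3, g5, g6, g5]),
   (359, []),
   (361, []),
   (11, [g2, g2, g2, g5, g6, g5, g3]),
   (46, [g3, g5, g2, g4, g2, g4, g4, g3, g5, g6, g5]),
   (365, []),
   (225, [g6, g2, g2, g2, g6, g3, g5, g3, g6]),
   (370, []),
   (372, []),
   (215, [g3, g2, g4, g2, g3, g4, g4, g4]),
   (219, [g2, g2, g6, g2, g5, g3, g4, g4, g5, g6, g5]),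
   (127, [g3, g2, g2, g6, g3, g2, g4, g4, g3, g6, g5]),
   (375, []),
   (258, [g3, g5, g2, g4, g2, g5, g3, g5]),
   (146, [g3, g2, g6, g2, g2, g2, g5, g6, g3, g6]),
   (380, []),
   (324, [g3, g4, g2, g3, g6, g2, g6, g5, g3, g6, g5]),
   (214, [g2, g6, g2, g3, g6, g2, g2, g3, g5, g4, g4, g3, g6, g5]),
   (384, []),
   (288, [g4, g4, g2, g4, g2, g2, g3, g4, g4, g5, g6]),
   (357, [g3, g4, g2, g2, g3, g4, g4]),
   (48, [g2, g3, g4, g4, g6, g5]),
   (386, []),
   (62, [g2, g4, g2, g4, g4, g2, g2, g6, g3, g5, g3, g6, g5]),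
   (141, [g6, g2, g2, g4, g3, g2, g6, g3, g5, g3, g5, g6]),
   (389, []),
   (231, [g3, g4, g2, g4, g4, g2, g2, g4, g3, g4, g4, g5, g6]),
   (226, [g2, g3, g4, g2, g2, g2, g3, g4, g4, g4, g5, g6]),
   (391, []),
   (51, [g2, g6, g2, g2, g3, g5, g4, g4, g3, g5]),
   (302, [g6, g2, g3, g4, g2, g3]),
   (394, []),
   (317, [g3, g4, g2, g6, g2, g2, g2, g3, g5]),
   (301, [g3, g2, g6, g2, g2, g4, g3, g4, g4, g6, g5]),
   (9, [g4, g2, g6, g2, g3, g6, g5, g3, g5, g6, g5]),
   (395, [g3, g2, g2, g4, g3, g2, g3, g6, g5, g3, g5]),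
   (110, [g6, g2, g6, g2, g3, g6]),
   (403, []),
   (75, [g2, g6, g2, g2, g2, g3, g4, g4, g4]),
   (297, [g2, g2, g6, g2, g3, g3, g3, g5, g6]),
   (283, [g6, g2, g2, g2, g3, g5, g4, g4, g3]),
   (272, [g2, g2, g2, g6, g3, g5, g6, g5]),
   (342, [g4, g2, g4, g4, g3, g2, g6]),
   (407, []),
   (115, [g4, g4, g3, g2, g4, g6, g3, g5, g6]),
   (282, [g3, g4, g2, g3, g6, g2, g6, g3, g5]),
   (243, [g4, g2, g2, g2, g4, g2, g4, g4, g3, g3, g6]),
   (411, []),
   (412, []),
   (305, [g3, g2, g2, g4, g2, g5, g6, g3, g5, g6, g5]),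
   (415, []),
   (122, [g6, g2, g2, g4, g3, g2, g3, g5]),
   (419, []),
   (327, [g2, g4, g2, g4, g4, g2, g2, g5, g6, g4, g3, g5]),
   (41, [g2, g6, g2, g4, g4, g5]),
   (420, []),
   (53, [g3, g2, g4, g2, g2, g2, g3, g5]),
   (422, []),
   (423, []),
   (29, [g2, g2, g4, g3, g2, g4, g4, g4, g3, g3]),
   (78, [g4, g2, g6, g2, g2, g2, g3, g3, g3, g5, g6, g5]),
   (424, []),
   (330, [g4, g2, g4, g2, g2, g4, g5]),
   (425, [])]

/-- Part 3 of cert1. -/
noncomputable def cert1_3 : List (ℕ × List ℕ) :=
  [(426, []),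
   (86, [g3, g2, g4, g2, g2, g2, g3]),
   (316, [g2, g2, g3, g6, g2, g5, g3, g4, g4, g6]),
   (429, []),
   (341, [g2, g3, g4, g2, g5, g4, g4, g3, g5]),
   (246, [g6, g3, g2, g5, g3, g3, g3, g6, g5]),
   (52, [g2, g4, g2, g4, g4, g2, g2, g3, g5, g4, g4, g3]),
   (432, []),
   (193, [g2, g4, g3, g2, g5, g3, g3, g3, g6, g5]),
   (211, [g2, g3, g4, g2, g4, g4, g4]),
   (409, [g3, g4, g2, g2, g3, g4, g4, g4]),
   (435, []),
   (154, [g2, g2, g2, g6, g3, g2, g4, g4, g4, g5]),
   (266, [g2, g2, g6, g2, g6, g3, g6]),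
   (175, [g3, g2, g4, g2, g4, g4, g5, g6]),
   (207, [g3, g2, g2, g4, g3, g2, g6, g5, g3, g6]),
   (436, []),
   (437, []),
   (82, [g4, g4, g2, g2, g4, g2, g4, g4, g3, g6, g5]),
   (262, [g4, g2, g2, g4, g2, g4, g4, g6, g5]),
   (440, []),
   (145, [g6, g3, g2, g2, g6, g3, g2, g4, g4, g3]),
   (442, []),
   (364, [g2, g2, g3, g4, g2, g6, g3, g3, g3, g5, g6]),
   (445, []),
   (363, [g4, g4, g2, g2, g3, g5, g3, g5, g6, g5]),
   (369, [g2, g3, g4, g2, g3, g5, g4, g4, g3, g5]),
   (447, []),
   (162, [g2, g6, g2, g3, g5, g4, g4, g3]),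
   (418, [g4, g6, g2, g4, g5]),
   (353, [g2, g6, g2, g4, g4, g3, g5, g6, g5]),
   (450, []),
   (0, [g2, g5, g2, g4, g2, g3, g4, g4, g6]),
   (13, [g2, g6, g2, g4, g2, g2, g3, g5, g4, g4, g3, g6]),
   (247, [g3, g4, g2, g2, g2, g4, g4, g5, g6]),
   (345, [g4, g4, g2, g2, g4, g2, g5, g4, g4, g3, g6]),
   (446, [g3, g4, g2, g2, g2, g3, g6, g5, g3]),
   (129, [g6, g2, g2, g6, g2, g5, g3, g6]),
   (208, [g4, g4, g2, g2, g2, g4, g5]),
   (455, []),
   (456, []),
   (457, []),
   (93, [g4, g6, g2, g6, g3, g2, g4, g4, g4, g6]),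
   (63, [g6, g2, g2, g6, g2, g2, g3, g3, g6, g5]),
   (340, [g4, g4, g2, g2, g2, g5, g3, g4, g4, g5, g6, g5]),
   (439, [g4, g2, g3, g6, g2, g5, g6, g5, g3, g6, g5]),
   (393, [g2, g5, g2, g4, g2, g2, g4, g4, g4, g3, g3, g6]),
   (203, [g3, g4, g2, g2, g3, g4, g4, g4, g5, g6, g5]),
   (461, []),
   (152, [g3, g6, g2, g3, g4, g4, g5, g6]),
   (245, [g3, g2, g4, g4, g3, g3, g5, g6]),
   (166, [g2, g6, g2, g4, g2, g2, g5, g3, g5, g6, g5]),
   (102, [g3, g2, g6, g2, g2, g3, g6]),
   (177, [g2, g2, g3, g6, g2, g4, g4, g3, g6, g5]),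
   (112, [g3, g2, g6, g2, g2, g6, g4, g3, g6, g5]),
   (373, [g4, g6, g2, g6, g3, g2, g3, g3, g5]),
   (148, [g6, g2, g4, g2, g2, g4, g6, g3, g3, g3, g6, g5]),
   (114, [g3, g2, g2, g4, g3, g2, g5, g6, g5, g3, g5, g6]),
   (328, [g4, g4, g2, g4, g2, g2, g5, g6, g5, g3, g5, g6, g5]),
   (464, [g2, g3, g4, g2, g2, g4, g5, g6, g5]),
   (27, [g3, g2, g4, g2, g3, g6, g5]),
   (233, [g4, g2, g4, g2, g2, g4, g3, g3, g5, g6, g5]),
   (255, [g3, g2, g3, g6, g2, g5, g6, g4, g3, g6, g5]),
   (276, [g5, g2, g4, g2, g2, g4, g4])]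

/-- Part 4 of cert1. -/
noncomputable def cert1_4 : List (ℕ × List ℕ) :=
  [(472, []),
   (234, [g2, g2, g4, g2, g2, g2, g6, g4, g3, g6, g5]),
   (458, [g2, g2, g4, g2, g2, g2, g3, g6, g5, g3, g5]),
   (474, []),
   (320, [g2, g6, g2, g4, g2, g2, g4, g4, g3, g3, g5, g6]),
   (294, [g2, g2, g4, g3, g2, g3, g6, g5, g3, g6]),
   (475, [g4, g4, g2, g4, g2, g2, g5, g6, g5, g3, g6, g5]),
   (462, [g6, g3, g2, g6, g2, g6, g3, g3, g3, g5]),
   (417, [g2, g4, g2, g2, g2, g3, g3, g3, g5, g6]),
   (460, [g2, g6, g3, g2, g3]),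
   (315, [g6, g2, g2, g2, g5, g6, g4, g3, g5, g6]),
   (58, [g3, g2, g3, g4, g2, g4, g6, g3, g5]),
   (379, [g4, g4, g2, g4, g2, g2, g4, g3, g4, g4, g5, g6]),
   (97, [g2, g2, g3, g6, g2, g3, g3, g3, g6, g5]),
   (343, [g4, g2, g6, g2, g4, g2, g2, g5, g6, g4, g3, g6, g5]),
   (200, [g3, g4, g2, g2, g4, g4, g3, g5, g6, g5]),
   (296, [g6, g2, g6, g3, g2, g4, g3, g3, g5, g6, g5]),
   (147, [g6, g2, g6, g2, g6, g3, g5, g3, g5]),
   (74, [g4, g6, g2, g2, g6]),
   (387, [g3, g2, g6, g2, g2, g4, g4, g6, g5]),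
   (31, [g4, g2, g2, g4, g2, g3, g5, g3, g5, g6]),
   (480, [g6, g2, g2, g4, g3, g2, g4, g4, g4, g5, g6]),
   (249, [g4, g2, g4, g4, g3, g2, g6, g3, g5]),
   (289, [g2, g2, g2, g6, g2, g3, g6, g5, g3, g5, g6]),
   (278, [g2, g6, g2, g3, g6, g2, g2, g3, g5, g3, g5, g6]),
   (318, [g6, g2, g2, g4, g4, g2, g2, g5, g3, g5, g6]),
   (410, [g2, g3, g4, g3, g2, g6, g3, g3, g3, g6]),
   (83, [g2, g2, g2, g6, g3, g2, g6, g3, g5, g3, g6, g5]),
   (416, [g2, g4, g2, g6, g2, g2, g2, g5, g6, g4, g3, g5, g6, g5]),
   (347, [g2, g4, g2, g4, g2, g2, g3, g3, g3]),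
   (42, [g4, g4, g2, g2, g3, g4, g4]),
   (484, []),
   (137, [g4, g2, g2, g2, g4, g2, g6, g5, g3, g6]),
   (182, [g3, g4, g2, g4, g2, g2, g3, g3, g3, g6]),
   (430, [g4, g4, g2, g3, g5, g3]),
   (34, [g3, g2, g3, g4, g3, g2, g6, g3, g6]),
   (336, [g4, g2, g6, g2, g2, g2, g5, g6, g5]),
   (335, [g6, g2, g2, g4, g6, g3, g3, g3]),
   (287, [g4, g2, g6, g3, g2, g5, g3, g4, g4]),
   (130, [g3, g6, g2, g4, g3, g6]),
   (87, [g6, g2, g2, g6, g2, g2, g4, g4, g3, g3, g5, g6, g5]),
   (374, [g2, g3, g4, g2, g2, g4, g6, g5]),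
   (399, [g2, g2, g3, g3, g6]),
   (227, [g4, g2, g6, g2, g2, g2, g3, g5, g6]),
   (483, [g4, g6, g2, g6, g3, g2, g3, g4, g4, g4, g5]),
   (434, [g4, g2, g2, g2, g6, g2, g4, g4, g3, g5]),
   (459, [g2, g4, g2, g6, g4, g3]),
   (488, [g4, g3, g2, g2, g6, g2, g6, g3, g3, g3, g6]),
   (467, [g3, g2, g3, g5, g4, g4, g3, g5, g6, g5]),
   (396, [g6, g2, g6, g2, g4, g4, g3, g5, g6, g5]),
   (91, [g2, g2, g6, g3, g2, g4, g5, g6, g5]),
   (478, [g4, g2, g2, g4, g4, g2, g2, g4, g4, g4, g3, g3]),
   (241, [g6, g2, g4, g2, g2, g5, g6, g5, g3, g6]),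
   (334, [g2, g4, g2, g4, g2, g2, g5, g3, g3, g3, g5, g6, g5]),
   (408, [g6, g3, g2, g2, g6, g3, g2, g3, g5, g4, g4, g3, g5, g6]),
   (310, [g4, g2, g3, g4, g2, g2, g5, g3, g3, g3]),
   (463, [g2, g4, g2, g4, g2, g2, g4, g3, g4, g4, g5, g6]),
   (314, [g4, g4, g2, g4, g2, g5, g4, g4, g3, g6]),
   (151, [g4, g4, g3, g2, g4, g6, g3, g3, g3, g6, g5]),
   (32, [g2, g2, g2, g5, g6, g5, g3]),
   (453, [g4, g2, g6, g3, g2, g3, g6, g5, g3, g5, g6, g5]),
   (191, [g3, g2, g3, g4, g2, g2, g6, g4, g3, g5, g6, g5]),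
   (323, [g2, g5, g2, g4, g2, g4, g4, g3, g3, g5, g6]),
   (157, [g4, g6, g2, g2, g6])]

/-- Part 5 of cert1. -/
noncomputable def cert1_5 : List (ℕ × List ℕ) :=
  [(378, [g3, g2, g3, g4, g3, g2, g3, g4, g4]),
   (470, [g6, g2, g2, g6, g2, g4]),
   (449, [g3, g2, g5, g3, g3, g3]),
   (479, [g6, g2, g4, g4, g2, g2, g3, g6, g5]),
   (494, []),
   (433, [g2, g6, g2, g2, g2, g5, g6, g4, g3, g6, g5]),
   (390, [g3, g2, g4, g2, g2, g2, g3, g5, g3, g5, g6]),
   (308, [g2, g4, g4, g2, g2, g4, g4, g3, g5, g6]),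
   (468, [g3, g6, g2, g4, g4, g3, g3]),
   (55, [g6, g2, g4, g2, g2, g6, g3, g3, g3, g6, g5]),
   (94, [g2, g4, g2, g2, g4, g2, g5, g6, g3, g6]),
   (153, [g4, g4, g2, g4, g2, g3, g4, g4, g4, g6, g5]),
   (444, [g4, g2, g2, g2, g4, g2, g5, g6, g5, g3, g5, g6, g5]),
   (492, [g2, g2, g3, g4, g3, g2, g6, g4, g3, g6]),
   (89, [g4, g4, g2, g2, g2, g3, g5, g4, g4, g3, g5]),
   (295, [g4, g2, g3, g6, g2, g3, g5, g4, g4, g3, g6, g5]),
   (377, [g2, g3, g6, g2, g6, g4, g3, g6, g5]),
   (500, []),
   (421, [g2, g4, g2, g6, g2, g2, g2, g4, g6, g3]),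
   (70, [g2, g3, g4, g2, g4, g3, g6]),
   (501, []),
   (358, [g3, g2, g3, g4, g2, g2, g4, g3, g4, g4, g6, g5]),
   (290, [g3, g2, g2, g4, g2, g4, g3, g4, g4, g5, g6]),
   (126, [g2, g3, g4, g2, g2, g2, g5, g6, g5, g3, g5, g6, g5]),
   (473, [g2, g5, g2, g4, g2, g6, g4, g3, g5, g6]),
   (337, [g4, g3, g2, g6, g4, g3, g5]),
   (14, [g3, g4, g2, g4, g4, g2, g2, g3, g3, g3]),
   (503, []),
   (168, [g2, g2, g4, g2, g2, g2, g4, g4, g4]),
   (482, [g2, g2, g6, g3, g2, g5, g6, g5]),
   (368, [g4, g2, g2, g2, g5, g3, g4, g4, g5, g6]),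
   (221, [g3, g2, g6, g2, g4, g4, g3, g5]),
   (72, [g3, g6, g2, g2, g3, g3, g3]),
   (349, [g3, g2, g6, g2, g5, g4, g4, g3]),
   (367, [g3, g4, g2, g4, g2, g2, g3, g3, g3, g5, g6]),
   (5, [g2, g2, g4, g2, g4, g4, g3, g6, g5]),
   (356, [g2, g6, g2, g2, g6, g2, g6, g3, g3, g3]),
   (136, [g3, g4, g2, g6, g2, g2, g2, g3, g5, g3, g6]),
   (96, [g4, g4, g2, g6, g5, g3, g5, g6]),
   (339, [g4, g2, g2, g4, g2, g4, g5, g6]),
   (499, [g3, g6, g2, g5, g6, g5, g3, g5]),
   (244, [g3, g4, g3, g2, g4, g4, g3, g3]),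
   (167, [g3, g2, g6, g2, g5, g6, g3, g5, g6]),
   (106, [g6, g3, g2, g6, g2, g2, g4, g3, g3, g6, g5]),
   (6, [g5, g6, g5, g3]),
   (270, [g4, g4, g2, g2, g4, g2, g5, g6, g3]),
   (507, []),
   (95, [g3, g4, g2, g6, g2, g2, g2, g5, g4, g4, g3]),
   (431, [g3, g5, g2, g4, g2, g2, g6, g3, g3, g3]),
   (184, [g2, g2, g4, g2, g2, g2, g6, g3, g3, g3, g5, g6]),
   (240, [g2, g4, g4, g2, g2, g2, g4, g4, g4, g6, g5]),
   (158, [g3, g4, g2, g4, g2, g2, g4, g3, g6, g5]),
   (355, [g3, g2, g6, g2, g5, g6]),
   (376, [g4, g6, g2, g4, g2, g2, g5, g6, g5, g3, g6]),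
   (18, [g6, g2, g2, g2, g4, g3]),
   (406, [g4, g2, g6, g2, g4, g6, g5]),
   (279, [g4, g2, g2, g2, g6, g2, g5, g3, g4, g4, g5, g6, g5]),
   (490, [g3, g5, g2, g4, g2, g2, g3]),
   (251, [g2, g2, g6]),
   (156, [g2, g4, g4, g2, g2, g3, g5, g6]),
   (385, [g4, g2, g4, g2, g2, g4, g3, g6]),
   (256, [g4, g2, g4, g2, g2, g6, g4, g3, g5, g6, g5]),
   (28, [g6, g2, g6, g2, g4, g6, g3, g3, g3, g5]),
   (292, [g6, g4, g2, g4, g2, g2, g4, g3, g3, g6])]

/-- Part 6 of cert1. -/
noncomputable def cert1_6 : List (ℕ × List ℕ) :=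
  [(350, [g3, g2, g3, g4, g2, g4, g3, g3, g5]),
   (199, [g2, g6, g3, g2, g3, g3, g6]),
   (69, [g3, g4, g2, g5]),
   (216, [g2, g4, g2, g2, g2, g5, g6, g4, g3, g5, g6, g5]),
   (404, [g4, g2, g4, g4, g2, g2, g6, g3, g5, g3, g5, g6]),
   (333, [g3, g2, g6, g2, g2, g4, g5]),
   (508, [g4, g3, g2, g6, g2, g2, g4, g4, g4, g6, g5]),
   (164, [g5, g2, g4, g2, g2, g5, g6, g5, g3]),
   (80, [g4, g2, g2, g3, g3, g5, g6, g5]),
   (3, [g5, g6, g4, g3, g6, g5]),
   (236, [g3, g2, g6, g2, g2, g5, g6, g3]),
   (150, [g2, g6, g2, g3, g5]),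
   (448, [g4, g6, g2, g4, g2, g2, g4, g3, g6, g5]),
   (401, [g4, g2, g2, g2, g4, g2, g5, g3, g3, g3, g5]),
   (38, [g6, g2, g4, g4, g2, g2, g3, g5, g3]),
   (397, [g4, g6, g2, g6, g3, g2, g5, g3, g4, g4, g5]),
   (371, [g2, g2, g2, g3, g3, g3, g5, g6]),
   (67, [g2, g6, g2, g2, g6, g2, g4, g4, g3, g5]),
   (451, [g6, g2, g2, g3, g4, g2, g4, g3, g3, g5, g6]),
   (205, [g6, g3, g2, g6, g2, g2, g4, g4, g3, g6, g5]),
   (186, [g4, g2, g2, g4, g4, g2, g2, g3, g3, g3]),
   (10, [g2, g6, g2, g2, g2, g6, g4, g3]),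
   (487, [g6, g2, g3, g6, g2, g2, g4, g4, g3, g3, g5]),
   (491, [g3, g2, g6, g2, g2, g2, g4, g5, g6]),
   (383, [g4, g2, g6, g2, g4, g2, g2, g5, g3, g3, g3, g6, g5]),
   (250, [g4, g2, g2, g2, g6, g2, g4, g4, g3, g3, g5]),
   (50, [g6, g3, g2, g6, g4, g3, g5]),
   (77, [g2, g5, g2, g4, g2, g3, g6, g5, g3, g6]),
   (224, [g3, g2, g2, g6, g2, g4, g4, g4, g3, g3]),
   (485, [g3, g2, g6, g5, g3, g5]),
   (15, [g4, g6, g2, g4, g2, g2, g4, g6]),
   (402, [g4, g2, g3, g4, g2, g2, g5, g6, g5, g3]),
   (201, [g4, g6, g2, g5, g3, g4, g4, g6]),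
   (392, [g3, g2, g3, g4, g2, g5, g3, g4, g4]),
   (33, [g4, g2, g2, g2, g4, g2, g3, g3, g5, g6, g5]),
   (57, [g3, g4, g2, g6, g5, g3, g6, g5]),
   (388, [g2, g5, g2, g4, g2, g2, g4, g6, g3, g5]),
   (298, [g4, g4, g2, g2, g2, g4, g4, g4, g6, g5]),
   (192, [g4, g4, g2, g6, g2, g2, g2, g4, g4, g4, g3, g3, g5, g6]),
   (4, [g6, g2, g4, g2, g2, g5, g6, g3]),
   (117, [g4, g2, g2, g2, g4, g2, g3, g4, g4, g6]),
   (322, [g6, g2, g4, g4, g2, g2, g3, g4, g4, g4, g6]),
   (180, [g2, g2, g3, g6, g2, g4, g3, g6, g5]),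
   (504, [g2, g2, g6, g2, g2, g3, g5, g3, g6, g5]),
   (37, [g6, g4, g2, g4, g2, g2, g5, g3, g3, g3, g6, g5]),
   (178, [g2, g2, g4, g3, g2, g4, g4, g4, g3, g3, g6, g5]),
   (259, [g2, g2, g4, g3, g2, g4, g4, g4, g3, g3, g5, g6, g5]),
   (405, [g2, g3, g4, g2, g3, g6, g5, g3, g5]),
   (496, [g6, g3, g2, g5, g3, g3, g3, g5]),
   (495, [g4, g2, g2, g2, g5, g3, g4, g4, g5]),
   (319, [g4, g6, g2, g2, g4, g6, g3, g6]),
   (362, [g4, g2, g6, g2, g3, g3, g5, g6, g5]),
   (511, []),
   (123, [g3, g2, g2, g4, g2, g4, g4, g4]),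
   (253, [g2, g2, g3, g4, g3, g2, g4, g6, g3, g5, g6, g5]),
   (21, [g4, g2, g5, g2, g4, g2, g4, g6, g3, g3, g3, g5]),
   (469, [g6, g3, g2, g2, g6, g3, g2, g6]),
   (413, [g4, g2, g6, g2, g4, g2, g2, g6, g5, g3]),
   (306, [g2, g2, g4, g4, g2, g2, g4, g6, g3, g3, g3, g5, g6]),
   (360, [g2, g6, g2, g4, g2, g2, g3, g5, g4, g4, g3, g6]),
   (218, [g2, g3, g4, g2, g2, g4, g4, g3, g3]),
   (441, [g4, g6, g2, g6, g3, g2, g3, g5, g6]),
   (465, [g4, g2, g2, g6, g3, g2, g5, g3, g4, g4, g5, g6]),
   (291, [g2, g4, g4, g2, g2, g6])]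

/-- Part 7 of cert1. -/
noncomputable def cert1_7 : List (ℕ × List ℕ) :=
  [(398, [g3, g2, g4, g4, g3, g2, g3, g4, g4, g4, g6, g5]),
   (381, [g2, g3, g4, g3, g2, g5, g6, g3, g5]),
   (338, [g4, g2, g4, g6, g3, g5, g6, g5]),
   (382, [g4, g2, g5, g3, g3, g3, g5, g6]),
   (438, [g2, g3, g6, g2, g2, g4, g6, g3, g3, g3]),
   (35, [g3, g4, g2, g4, g2, g2, g5, g3, g3, g3, g6, g5]),
   (414, [g3, g6, g2, g2, g4, g4, g4, g6]),
   (88, [g2, g3, g4, g2, g2, g3, g5, g3, g5]),
   (481, [g6, g2, g6, g3, g2, g5, g3, g6]),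
   (497, [g2, g3, g4, g2, g4, g6, g3, g6, g5]),
   (107, [g2, g5, g2, g4, g2, g2, g4, g4, g4, g3, g3, g6, g5]),
   (265, [g3, g2, g3, g6, g2, g3, g5, g4, g4, g3, g6, g5]),
   (263, [g2, g2, g4, g4, g2, g2, g3]),
   (138, [g2, g4, g2, g2, g2, g6, g3, g5, g6]),
   (400, [g4, g2, g2, g4, g4, g3, g5, g6, g5]),
   (26, [g2, g3, g5, g3, g5, g6]),
   (271, [g2, g2, g6, g2, g5, g6, g4, g3]),
   (506, [g2, g2, g2, g4, g3, g2, g3, g6]),
   (311, [g2, g6, g2, g4, g2, g2, g5, g6, g4, g3, g6, g5]),
   (111, [g4, g2, g5, g2, g4, g2, g3, g5, g3, g6]),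
   (124, [g6, g2, g2, g6, g2, g5, g6, g3, g6, g5]),
   (486, [g4, g2, g2, g6, g5, g3, g5, g6]),
   (502, [g4, g2, g2, g6, g3, g2, g4, g4, g4, g3, g3, g5, g6]),
   (493, [g3, g4, g2, g2, g2, g5, g3, g4, g4]),
   (160, [g3, g2, g4, g4, g3, g2, g5, g6, g3]),
   (312, [g4, g2, g3, g6, g2, g4, g3, g6]),
   (498, [g3, g2, g4, g4, g3, g2, g3, g4, g4, g4, g6]),
   (326, [g4, g2, g2, g2, g6, g2, g3, g5, g4, g4, g3, g6]),
   (428, [g2, g2, g4, g2, g4, g4, g4, g5]),
   (220, [g4, g4, g2, g2, g4, g2, g3, g5]),
   (454, [g6, g2, g6, g3, g2, g5, g3, g6]),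
   (139, [g4, g4, g2, g5, g6, g5, g3, g5]),
   (286, [g3, g2, g2, g6, g2, g4, g3, g3, g5, g6, g5]),
   (230, [g2, g2, g3, g4, g4, g4]),
   (505, [g2, g2, g4, g4, g3, g2, g4, g3, g3, g5, g6]),
   (293, [g2, g4, g2, g2, g2, g6, g3, g5, g3, g6]),
   (45, [g4, g4, g2, g3, g4, g4]),
   (366, [g4, g3, g2, g2, g6, g2, g4, g4, g5]),
   (489, [g2, g4, g2, g5, g6, g4, g3, g5]),
   (477, [g6, g2, g2, g6, g2, g2, g4, g4, g5, g6, g5]),
   (101, [g2, g4, g4, g3, g2, g3, g3, g3, g5]),
   (303, [g5, g4, g6, g2, g4, g2, g2, g3, g5, g3]),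
   (466, [g2, g4, g2, g4, g2, g2, g3, g6, g5, g3]),
   (43, [g2, g5, g2, g4, g2, g6, g4, g3, g6]),
   (132, [g2, g5, g2, g4, g2, g3, g6, g5, g3]),
   (452, [g5, g4, g6, g2, g4, g2, g2, g6, g5, g3, g5, g6, g5]),
   (105, [g4, g2, g6, g3, g2, g3, g3, g5]),
   (510, [g2, g4, g2, g4, g4, g2, g2, g5, g3, g5]),
   (476, [g4, g2, g3, g4, g2, g2, g6, g3, g3, g3]),
   (509, [g2, g3, g4, g2, g2, g2, g4, g3, g6]),
   (267, [g6, g2, g2, g6, g2, g3, g5, g4, g4, g3, g5]),
   (443, [g2, g4, g2, g6, g2, g2, g2, g3, g6]),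
   (84, [g2, g5, g2, g4, g2, g2, g5, g3, g3, g3, g5, g6]),
   (277, [g6, g3, g2, g6, g2, g2, g3, g5, g4, g4, g3, g5, g6]),
   (22, [g4, g2, g6, g2, g2, g2, g5, g3, g3, g3, g5, g6, g5]),
   (427, [g3, g2, g4, g2, g4, g4, g6]),
   (196, [g6, g2, g4, g4, g3, g2, g3, g5]),
   (109, [g4, g6, g2, g4, g2, g2, g5]),
   (229, [g6, g5, g3]),
   (275, [g2, g3, g4, g2, g2, g5, g3, g5, g6, g5]),
   (284, [g4, g2, g2, g6, g3, g2, g6, g5]),
   (471, [g4, g4, g3, g2, g5, g6, g5]),
   (269, [g4, g2, g2, g3, g4, g4, g4, g5]),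
   (352, [g3, g4, g3, g2, g4, g3, g4, g4, g5])]

/-- Part 8 of cert1. -/
noncomputable def cert1_8 : List (ℕ × List ℕ) :=
  [(0, [g2]),
   (3, []),
   (8, []),
   (13, []),
   (17, []),
   (21, []),
   (20, [g5, g2, g4, g2, g4, g3, g5, g6]),
   (26, []),
   (31, []),
   (37, []),
   (41, []),
   (45, []),
   (50, []),
   (55, []),
   (24, [g4, g2, g6, g2, g3, g4, g4, g4, g6]),
   (65, []),
   (28, [g2, g3, g6, g2, g2, g4, g4, g4, g5, g6, g5]),
   (72, []),
   (77, []),
   (15, [g4, g3, g2, g3, g3, g3]),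
   (82, []),
   (86, []),
   (5, [g3, g2, g4, g2, g2, g2, g3, g3, g3, g6, g5]),
   (93, []),
   (60, [g3, g4, g2, g4, g2, g5, g6, g5, g3, g5, g6, g5]),
   (100, []),
   (105, []),
   (109, []),
   (107, [g2, g6, g3, g2, g5, g3, g4, g4, g5, g6, g5]),
   (117, []),
   (120, []),
   (126, []),
   (132, []),
   (134, []),
   (136, []),
   (138, []),
   (110, [g4, g2, g4, g4, g2, g2, g4, g4, g4, g6]),
   (144, []),
   (128, [g3, g4, g2, g2, g2, g5, g6, g5, g3, g5]),
   (150, []),
   (111, [g2, g2, g3, g4, g3, g2, g4, g3, g3, g6]),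
   (156, []),
   (160, []),
   (164, []),
   (166, []),
   (170, []),
   (34, [g3, g4, g2, g3, g6, g2, g5, g4, g4, g3, g6, g5]),
   (158, []),
   (146, [g4, g4, g2, g4, g2, g3, g6, g5, g3, g5, g6]),
   (175, []),
   (180, []),
   (184, []),
   (186, []),
   (188, []),
   (189, []),
   (66, [g4, g3, g2, g3, g3, g3]),
   (195, []),
   (73, [g4, g4, g2, g2, g2, g5, g4, g4, g3, g6]),
   (200, []),
   (203, []),
   (205, []),
   (207, []),
   (4, [g4, g2, g6, g2, g3, g4, g4, g4, g6]),
   (214, [])]

/-- Part 9 of cert1. -/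
noncomputable def cert1_9 : List (ℕ × List ℕ) :=
  [(168, [g6, g2, g6, g3, g2, g5, g6, g3, g6]),
   (56, [g2, g3, g5, g3, g6, g5]),
   (1, [g2, g3, g5, g3, g6, g5]),
   (208, [g4, g2, g3, g4, g2, g2, g4, g3, g6]),
   (48, [g2, g2, g3, g6, g2, g3, g6, g5, g3, g5]),
   (219, [g6, g2, g2, g4, g4, g2, g2, g5, g6, g3, g6]),
   (229, []),
   (27, [g2, g4, g2, g6, g2, g2, g2, g5, g4, g4, g3, g6]),
   (191, [g4, g4, g2, g2, g2, g6, g5, g3, g6]),
   (80, [g4, g2, g6, g2, g3, g4, g4, g4, g6]),
   (237, [g4, g2, g2, g2, g4, g3, g3, g5, g6, g5]),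
   (6, [g6, g2, g6, g3, g2, g5, g3, g6]),
   (240, []),
   (78, [g4, g4, g2, g4, g2, g3, g6, g5, g3, g5]),
   (244, []),
   (245, []),
   (212, [g4, g3, g2, g6, g2, g2, g4, g3, g3, g6, g5]),
   (249, []),
   (233, [g3, g2, g4, g4, g3, g2, g3, g3, g3, g5]),
   (255, []),
   (256, []),
   (258, []),
   (87, [g2, g4, g3, g2, g3, g5, g6]),
   (22, [g4, g2, g6, g2, g3, g3, g5]),
   (265, []),
   (269, []),
   (272, []),
   (211, [g4, g2, g6, g2, g3, g4, g4, g4, g6]),
   (221, [g2, g6, g2, g3, g6, g2, g2, g3, g3, g3, g5, g6, g5]),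
   (275, []),
   (194, [g6, g3, g2, g6, g2, g2, g5, g3]),
   (282, []),
   (133, [g3, g2, g3, g4, g2, g2, g4, g4, g5, g6, g5]),
   (264, [g2, g2, g6, g2, g5, g6, g5, g3, g5, g6]),
   (202, [g2, g4, g2, g2, g4, g2, g6]),
   (292, []),
   (295, []),
   (284, [g5, g6, g4, g3]),
   (301, []),
   (198, [g2, g6, g3, g2, g3, g5, g4, g4, g3]),
   (209, [g3, g2, g2, g4, g2, g5, g3, g6, g5]),
   (154, [g3, g4, g2, g6, g2, g2, g2, g3, g4, g4, g5, g6]),
   (308, []),
   (307, [g6, g2, g4, g4, g4, g5, g6, g5]),
   (314, []),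
   (239, [g2, g2, g4, g2, g2, g2, g4, g4, g4, g3, g3, g5, g6]),
   (319, []),
   (322, []),
   (69, [g2, g2, g3, g6, g2, g4, g4, g3, g3]),
   (327, []),
   (330, []),
   (44, [g3, g6, g2, g4, g2, g2, g5, g6, g3, g6, g5]),
   (333, []),
   (335, []),
   (151, [g6, g2, g4, g4, g4, g5]),
   (338, []),
   (317, [g4, g2, g5, g2, g4, g2, g4, g3, g4, g4]),
   (342, []),
   (51, [g3, g4, g2, g6, g2, g2, g2, g5, g3, g5, g6, g5]),
   (316, [g4, g4, g2, g4, g2, g2, g3, g5, g4, g4, g3, g5, g6, g5]),
   (47, [g6, g2, g4, g2, g2, g6, g3, g3, g3, g5, g6]),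
   (115, [g4, g2, g3, g4, g2, g5, g6, g3, g6]),
   (147, [g5, g6, g4, g3, g5, g6, g5]),
   (161, [g3, g4, g2, g2, g2, g4, g4, g3, g6, g5])]

/-- Part 10 of cert1. -/
noncomputable def cert1_10 : List (ℕ × List ℕ) :=
  [(357, []),
   (360, []),
   (46, [g2, g3, g6, g2, g4, g4, g4, g6, g5]),
   (362, []),
   (364, []),
   (334, [g6, g4, g3, g5, g6]),
   (54, [g2, g6, g2, g3, g5, g6]),
   (85, [g5, g2, g4, g2, g2, g4, g4, g4, g3, g3, g6]),
   (373, []),
   (11, [g4, g4, g2, g4, g2, g3, g6, g5, g3, g5, g6]),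
   (129, [g3, g2, g6, g2, g2, g2, g3, g3, g3, g6]),
   (369, []),
   (376, []),
   (350, [g2, g2, g4, g4, g3, g2, g3, g5, g4, g4, g3, g6, g5]),
   (326, [g4, g2, g4, g4, g2, g2, g4, g4, g4, g6]),
   (381, []),
   (145, [g3, g4, g2, g2, g2, g4, g4, g3, g6, g5]),
   (348, [g3, g4, g2, g2, g2, g3, g5]),
   (384, [g2, g2, g4, g2, g4, g4, g3, g3]),
   (2, [g4, g3, g6]),
   (354, [g4, g2, g4, g4, g2, g2, g3, g4, g4, g4]),
   (155, [g4, g2, g6, g3, g2, g5, g6, g3, g6]),
   (124, [g2, g6, g2, g2, g6, g2, g6, g3, g5, g3, g5, g6, g5]),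
   (310, [g6, g2, g6, g2, g6, g5, g3, g5, g6, g5]),
   (361, [g2, g5, g2, g4, g2, g2, g5, g3, g3, g3, g6]),
   (29, [g6, g3, g2, g5, g3, g6]),
   (223, [g3, g2, g3, g4, g2, g4, g3, g5, g6, g5]),
   (304, [g4, g2, g2, g4, g3, g5]),
   (169, [g2, g6, g2, g2, g6, g2, g3, g3, g5, g6]),
   (392, []),
   (39, [g6, g2, g2, g6, g2, g2, g3, g5, g3, g5, g6, g5]),
   (395, []),
   (182, [g6, g3, g2, g2, g6, g3, g2, g3, g5, g3]),
   (38, [g3, g4, g2, g2, g2, g4, g4, g3, g6, g5]),
   (347, [g2, g4, g2, g4, g2, g2, g4, g4, g4, g3, g3, g6, g5]),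
   (340, [g3, g4, g2, g4, g3, g3, g5, g6, g5]),
   (12, [g2, g2, g3, g4, g2, g2, g3, g4, g4, g4, g5, g6]),
   (329, [g2, g5, g4, g4, g3]),
   (309, [g2, g4, g2, g4, g2, g2, g4, g4, g4, g3, g3, g6, g5]),
   (405, []),
   (90, [g3, g2, g6, g2, g2, g2, g4, g3, g4, g4, g6]),
   (313, [g4, g2, g3, g6, g2, g6]),
   (171, [g6, g2, g3, g4, g2, g3, g5, g3, g5, g6, g5]),
   (137, [g6, g3, g2, g2, g6, g3, g2, g5]),
   (243, [g4, g2, g4, g4, g3, g2, g4, g4, g3, g5, g6, g5]),
   (399, [g3, g2, g4, g2, g2, g2, g4, g4, g6, g5]),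
   (83, [g4, g2, g2, g4, g2, g4, g6, g3, g5, g6]),
   (277, [g5, g2, g4, g2, g5, g3, g4, g4, g6]),
   (49, [g2, g4, g4, g3, g2, g5, g6, g4, g3, g6, g5]),
   (116, [g6, g2, g6, g2, g6, g3, g3, g3, g6]),
   (416, []),
   (418, []),
   (43, [g2, g2, g3, g4, g2, g2, g3, g4, g4, g4, g5, g6]),
   (33, [g6, g2, g2, g3, g4, g2, g5, g6, g5]),
   (148, [g4, g2, g2, g2, g6, g2, g4, g4, g4, g6]),
   (421, []),
   (53, [g5, g6, g4, g3, g6]),
   (404, [g6, g2, g4, g4, g3, g2, g4, g4, g4, g5]),
   (162, [g2, g2, g4, g4, g2, g2, g5, g3, g3, g3, g5]),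
   (402, [g6, g2, g2, g6, g2, g2, g4, g4, g3]),
   (122, [g4, g2, g2, g2, g6, g2, g6, g3, g3, g3, g5]),
   (181, [g2, g2, g3, g4, g2, g2, g6, g3, g5, g3]),
   (57, [g6, g2, g4, g4, g2, g2, g5, g6, g5, g3, g6, g5]),
   (62, [g3, g4, g2, g2, g3, g5, g4, g4, g3, g6])]

/-- Part 11 of cert1. -/
noncomputable def cert1_11 : List (ℕ × List ℕ) :=
  [(14, [g3, g6, g2, g2, g4, g3, g3, g6, g5]),
   (427, []),
   (428, []),
   (19, []),
   (89, [g2, g2, g4, g3, g2, g4, g4, g4, g3, g3, g6, g5]),
   (74, [g3, g2, g4, g2, g2, g2, g3, g3, g3, g5, g6, g5]),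
   (431, []),
   (433, []),
   (193, [g2, g4, g4, g2, g2, g3, g6, g5, g3]),
   (271, [g4, g2, g2, g4, g4, g2, g2, g3, g3, g6]),
   (206, [g2, g4, g4, g2, g2, g2, g6, g3]),
   (139, [g2, g6, g2, g3, g5, g6, g5]),
   (408, [g3, g4, g3, g2, g3, g5, g4, g4, g3]),
   (192, []),
   (388, [g3, g5, g2, g4, g2, g2, g4, g4, g3, g3]),
   (331, [g6, g2, g4, g2, g2, g5, g3, g6]),
   (217, [g2, g2, g4, g3, g2, g4, g4, g3, g3]),
   (91, [g4, g2, g2, g4, g4, g2, g2, g3, g3]),
   (94, [g2, g2, g4, g2, g2, g2, g3, g5, g4, g4, g3, g5, g6, g5]),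
   (430, [g4, g2, g6, g2, g3, g4, g4, g4, g6]),
   (190, [g4, g2, g3, g4, g4, g4, g5, g6]),
   (368, [g2, g2, g2, g6, g3, g2, g4, g3, g5]),
   (389, [g2, g2, g2, g4, g2, g5, g6, g3]),
   (84, [g3, g2, g4, g2, g2, g4, g3, g3, g6]),
   (63, [g4, g4, g2, g2, g2, g6, g3]),
   (140, [g2, g4, g2, g2, g4, g2, g3, g5]),
   (268, [g6, g2, g4, g4, g4, g3, g3, g5, g6]),
   (142, [g2, g2, g2, g6, g3, g2, g3, g5, g3, g6, g5]),
   (449, []),
   (197, [g4, g3, g2, g6, g2, g2, g3, g5, g4, g4, g3]),
   (359, [g6, g2, g3, g4, g2, g5]),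
   (7, [g4, g2, g4, g4, g2, g2, g5, g6, g5, g3, g5]),
   (423, [g2, g2, g3, g6, g2, g6, g3, g5, g3, g5, g6, g5]),
   (224, [g4, g2, g2, g2, g4, g2, g3, g5, g6, g5]),
   (294, [g4, g6, g2, g4, g2, g2, g5, g3, g3, g3, g5, g6]),
   (337, [g2, g3, g6, g2, g2, g5, g3, g6, g5]),
   (216, [g2, g2, g4, g2, g5, g6, g4, g3, g5]),
   (231, [g2, g5, g2, g4, g2, g2, g6, g5, g3, g5, g6]),
   (432, [g3, g4, g2, g2, g2, g4, g3, g5]),
   (141, [g4, g3, g3, g5]),
   (398, [g2, g2, g2, g6, g3, g2, g3, g6]),
   (75, [g5, g2, g4, g2, g2, g4, g3, g3, g6, g5]),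
   (88, [g4, g4, g2, g4, g2, g3, g4, g4, g5]),
   (386, [g3, g2, g2, g6, g2, g3, g4, g4, g6, g5]),
   (179, [g4, g2, g2, g6, g4, g3, g6]),
   (92, [g3, g4, g2, g4, g2, g2, g5, g4, g4, g3, g5]),
   (227, [g4, g4, g3, g2, g3, g4, g4, g4, g5, g6]),
   (390, [g4, g2, g4, g4, g3, g2, g3, g5, g6]),
   (365, [g2, g3, g6, g2, g2, g6, g3, g3, g3, g6]),
   (419, [g4, g6, g2, g2, g5, g3, g4, g4, g5, g6, g5]),
   (163, [g2, g2, g4, g3, g2, g4, g6, g3, g3, g3, g5, g6, g5]),
   (177, [g3, g2, g2, g6, g2, g3, g6, g5, g3, g6, g5]),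
   (325, [g2, g2, g6, g2, g4, g4, g3, g6, g5]),
   (165, [g3, g2, g6, g2, g2, g6, g3, g3, g3, g5, g6]),
   (466, []),
   (375, [g3, g2, g4, g2, g2, g2, g5, g3, g3, g3, g5, g6]),
   (367, [g4, g6, g2, g4, g2, g2, g4, g6]),
   (250, [g4, g4, g2, g2, g4, g4, g3]),
   (470, []),
   (52, [g2, g5, g2, g4, g2, g2, g5, g4, g4, g3, g5, g6, g5]),
   (413, [g3, g4, g2, g3, g6, g5, g3, g6]),
   (411, [g2, g4, g4, g4, g3, g3, g5, g6, g5]),
   (234, [g6, g2, g3]),
   (465, [g2, g6, g2, g6, g3, g3, g3, g5])]

/-- Part 12 of cert1. -/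
noncomputable def cert1_12 : List (ℕ × List ℕ) :=
  [(378, [g2, g2, g3, g5, g3, g5, g6]),
   (242, [g2, g2, g4, g4, g2, g2, g6, g3, g3, g3, g5]),
   (473, []),
   (422, [g4, g4, g2, g4, g2, g2, g5, g6, g5, g3, g5, g6]),
   (297, [g4, g6, g2, g6, g3, g2, g4, g3, g4, g4, g5]),
   (459, [g3, g2, g4, g2, g5, g6, g3]),
   (458, [g4, g2, g2, g4, g4, g2, g2, g6, g3, g5, g3, g6]),
   (199, [g2, g4, g4, g2, g2, g3, g6, g5, g3]),
   (366, [g2, g2, g4, g2, g4, g4, g3, g3, g6, g5]),
   (429, [g2, g4, g4, g2, g2, g2, g3, g4, g4, g4, g5]),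
   (131, [g3, g4, g2, g4, g2, g2, g6, g4, g3, g6, g5]),
   (247, [g2, g4, g2, g6, g3, g5, g6]),
   (226, [g3, g4, g2, g4, g4, g2, g2, g3, g3, g3, g5]),
   (478, []),
   (253, [g2, g5, g2, g4, g2, g2, g6, g5, g3]),
   (222, [g2, g2, g4, g2, g2, g2, g4, g6, g3, g3, g3, g6, g5]),
   (479, []),
   (279, [g3, g2, g3, g6, g2, g5, g6, g4, g3]),
   (95, [g6, g2, g2, g6, g2, g2, g3, g5, g3]),
   (119, [g2, g4, g2, g4, g4, g2, g2, g3, g4, g4, g6]),
   (401, [g3, g4, g3, g2, g5, g6, g3]),
   (440, [g6, g2, g3, g4, g2, g4, g4, g3, g3, g6]),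
   (260, [g2, g4, g2, g6, g2, g2, g2, g3, g4, g4, g6]),
   (383, [g3, g4, g2, g4, g4, g2, g2, g5, g6, g4, g3, g6, g5]),
   (173, [g2, g4, g4, g2, g2, g6, g5]),
   (288, [g6, g2, g2, g4, g3, g2, g5, g6, g4, g3, g6, g5]),
   (414, [g2, g5, g2, g4, g2, g2, g4, g6, g3, g6, g5]),
   (435, [g3, g2, g4, g2, g2, g4, g4, g3, g5, g6]),
   (278, [g2, g6, g3, g2, g5, g3]),
   (152, [g6, g2, g4, g4, g3, g6]),
   (305, [g6, g3, g2, g6, g2, g5, g6, g4, g3, g6]),
   (159, [g3, g4, g2, g2, g5, g6, g3, g6]),
   (283, [g2, g4, g2, g2, g4, g2, g3, g6, g5]),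
   (480, [g4, g4, g3, g5]),
   (118, [g2, g2, g4, g2, g3, g5, g4, g4, g3, g5, g6]),
   (451, [g3, g4, g2, g4, g4, g2, g2, g3, g3, g3, g5]),
   (36, [g3, g2, g3, g6, g2, g5, g6, g3, g6]),
   (391, [g6, g3, g5, g3, g5, g6]),
   (300, [g2, g5, g2, g4, g2, g4, g4, g4, g5]),
   (276, [g3, g4, g2, g3, g6, g2, g4, g6, g3, g6, g5]),
   (487, []),
   (101, [g3, g2, g4, g2, g2, g6, g3, g3, g3, g5]),
   (397, [g5, g4, g6, g2, g4, g2, g2, g6, g5, g3, g5, g6]),
   (488, []),
   (218, [g2, g2, g2, g4, g2, g4, g3, g4, g4, g6]),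
   (461, [g2, g6, g2, g4, g3, g4, g4, g5, g6]),
   (417, [g3, g2, g2, g4, g2, g4, g6, g3, g5]),
   (241, [g6, g2, g4, g4, g3, g2, g3, g3, g3, g5, g6, g5]),
   (318, [g4, g2, g3, g4, g2, g3, g4, g4, g5]),
   (103, [g2, g6, g2, g4, g2, g2, g6, g3, g3, g3, g5, g6]),
   (262, [g3, g5, g2, g4, g2, g2, g6, g3, g3, g3]),
   (448, [g2, g3, g6, g2, g4, g4, g4, g5, g6]),
   (167, [g6, g2, g4, g2, g2, g6, g3, g3, g3, g5, g6]),
   (125, [g2, g2, g3, g6, g2, g5, g6, g4, g3, g5, g6, g5]),
   (456, [g2, g4, g2, g2, g4, g3, g5, g6, g5]),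
   (349, [g6, g3, g2, g6, g2, g2, g4]),
   (149, [g2, g4, g4, g2, g2, g5, g6, g5, g3]),
   (10, [g2, g4, g2, g4, g6, g3, g5]),
   (468, [g2, g2, g4, g4, g2, g2, g4, g4, g3, g5]),
   (436, [g2, g2, g3, g4, g2, g2, g3, g5, g4, g4, g3]),
   (492, []),
   (345, [g6, g2, g4, g4, g3, g2, g6, g4, g3, g5, g6]),
   (312, [g4, g2, g4, g2, g2, g4, g4, g3, g6]),
   (99, [g2, g3, g4, g2, g2, g5, g6])]

/-- Part 13 of cert1. -/
noncomputable def cert1_13 : List (ℕ × List ℕ) :=
  [(114, [g2, g4, g2, g2, g4, g2, g6, g3, g6]),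
   (474, [g2, g2, g4, g4, g3, g2, g3, g4, g4, g4, g5, g6]),
   (336, [g2, g2, g6, g3, g2, g6, g3, g6, g5]),
   (153, [g4, g2, g6, g2, g4, g2, g2, g4, g4, g3, g5, g6]),
   (40, [g6, g3, g2, g2, g6, g3, g2, g4, g4, g5, g6]),
   (18, [g4, g4, g2, g6, g2, g2, g2, g3, g4, g4, g5, g6, g5]),
   (112, [g4, g2, g4, g2, g2, g4, g4, g3, g6]),
   (495, []),
   (496, []),
   (443, [g4, g2, g6, g2, g4, g2, g2, g4, g3, g3, g6, g5]),
   (476, [g2, g6, g3, g2, g3, g5, g6, g5]),
   (246, [g3, g2, g4, g2, g2, g4, g6, g3, g5, g6]),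
   (30, [g2, g2, g2, g4, g3, g2, g4, g4, g3, g3, g5, g6]),
   (172, [g2, g2, g4, g2, g3, g6, g5, g3, g6]),
   (499, []),
   (323, [g3, g6, g2, g4, g2, g2, g6, g3, g5, g3, g5]),
   (324, [g3, g4, g2, g3, g6, g2, g3, g5]),
   (387, [g3, g2, g4, g2, g2, g2, g3, g5, g3, g5, g6]),
   (23, [g3, g4, g2, g6, g2, g2, g2, g5, g3, g5, g6]),
   (96, [g4, g4, g2, g4, g2, g6, g3, g5, g3, g5]),
   (424, [g4, g4, g3, g6]),
   (35, [g6, g3, g2, g6, g2, g2, g3, g3, g3, g5, g6]),
   (123, [g3, g6, g2, g2, g4, g3, g3, g6, g5]),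
   (502, []),
   (320, [g2, g4, g4, g2, g2, g2, g4, g4, g4, g5, g6, g5]),
   (332, [g4, g6, g2, g6, g4, g3, g5, g6]),
   (289, [g4, g2, g2, g2, g6, g3, g3, g3]),
   (251, [g2, g5, g3, g4, g4, g5, g6, g5]),
   (9, [g3, g2, g6, g2, g3, g4, g4, g4, g5]),
   (185, [g3, g2, g3, g4, g2, g5, g6, g3, g6, g5]),
   (70, [g3, g2, g6, g2, g2, g2, g3, g5, g4, g4, g3, g5]),
   (287, [g4, g6, g2, g2, g4, g4, g4, g5, g6, g5]),
   (385, [g3, g4, g2, g2, g2, g4, g4, g3, g6, g5]),
   (503, [g2, g2, g5, g4, g4, g3, g5]),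
   (42, [g3, g5, g2, g4, g2, g3, g6, g5, g3, g5, g6]),
   (81, [g3, g4, g3, g2, g4, g4, g4, g5, g6, g5]),
   (280, [g2, g2, g2, g4, g3, g2, g4, g4, g3, g3, g6]),
   (127, [g4, g6, g2, g2, g5, g6, g5, g3, g6]),
   (356, [g4, g2, g6, g3, g2, g3, g3, g6]),
   (505, []),
   (341, [g4, g2, g4, g2, g2, g5, g6, g3, g6, g5]),
   (230, [g2, g4, g4, g2, g2, g2, g5, g6]),
   (394, [g6, g2, g4, g4, g6, g5]),
   (263, [g3, g2, g4, g2, g3, g4, g4, g4, g5]),
   (352, [g5, g6, g4, g3]),
   (298, [g4, g2, g4, g4, g2, g2, g4, g6, g3, g5]),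
   (508, []),
   (296, [g4, g2, g6, g2, g2, g2, g6, g5, g3, g6]),
   (187, [g2, g2, g2, g4, g2, g3, g4, g4, g5]),
   (374, [g4, g4, g2, g4, g2, g3, g6, g5, g3, g6]),
   (270, [g6, g3, g2, g6, g2, g6, g5, g3, g5, g6]),
   (98, [g2, g2, g2, g6, g3, g2, g4, g3, g6, g5]),
   (454, [g2, g2, g6, g2, g3, g4, g4, g4, g5, g6, g5]),
   (130, [g3, g4, g2, g2, g2, g5, g6, g3, g6, g5]),
   (59, [g5, g2, g4, g2, g2, g4, g3, g3, g5, g6, g5]),
   (467, [g4, g2, g4, g2, g2, g4, g3, g6]),
   (67, [g2, g4, g4, g3, g2, g4, g4, g3, g6]),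
   (484, [g6, g3, g2, g6, g2, g2, g3, g6]),
   (425, [g6, g3, g2, g6, g2, g2, g6, g4, g3]),
   (483, [g6, g2, g4, g4, g3, g2, g3, g3, g5, g6, g5]),
   (267, [g6, g2, g2, g2, g4, g3, g4, g4]),
   (472, [g2, g4, g4, g2, g2, g2, g6, g3, g3, g3, g5, g6, g5]),
   (489, [g4, g2, g4, g2, g2, g5, g4, g4, g3, g5]),
   (232, [g2, g2, g3, g6, g2, g5, g6, g4, g3, g5])]

/-- Part 14 of cert1. -/
noncomputable def cert1_14 : List (ℕ × List ℕ) :=
  [(494, [g3, g2, g3, g4, g2, g3, g6, g5, g3, g5]),
   (32, [g3, g4, g2, g2, g2, g5, g6, g3, g5]),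
   (102, [g4, g2, g3, g6, g2, g3, g4, g4, g4, g5, g6]),
   (434, [g3, g4, g2, g3, g6, g5, g3, g5, g6, g5]),
   (371, [g6, g2, g4, g2, g2, g6, g3, g5, g3, g6, g5]),
   (228, [g2, g4, g3, g2, g5, g3, g3, g3, g6, g5]),
   (71, [g2, g6, g2, g4, g3, g3, g5]),
   (406, [g6, g2, g2, g6, g2, g4, g4, g3, g3, g6, g5]),
   (509, []),
   (157, [g6, g3, g2, g2, g6, g3, g2, g6, g5]),
   (420, [g3, g4, g4, g4, g6, g5]),
   (463, [g2, g3, g4, g2, g2, g2, g5, g3, g3, g3, g6, g5]),
   (97, [g6, g2, g4, g2, g2, g4, g6, g3, g5, g6, g5]),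
   (76, [g4, g2, g4, g4, g3, g2, g4, g5, g6]),
   (273, [g4, g6, g2, g6, g3, g2, g4, g6]),
   (358, [g4, g2, g6, g3, g2, g6, g3, g5, g3]),
   (210, [g2, g4, g4, g2, g2]),
   (25, [g4, g2, g3, g4, g2, g2, g4, g4, g3, g3, g5, g6]),
   (441, [g3, g4, g2, g3, g6, g2, g3, g3, g3]),
   (315, [g3, g4, g2, g3, g6, g2, g3, g6]),
   (490, [g3, g4, g3, g2, g4, g4, g4, g5, g6]),
   (437, [g2, g4, g2, g2, g4, g2, g3, g5, g4, g4, g3, g6, g5]),
   (220, [g2, g2, g2, g6, g3, g2, g4, g4, g4, g5, g6]),
   (252, [g2, g3, g6, g2, g3, g3, g5]),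
   (412, [g6, g2, g2, g6, g2, g2, g3, g6]),
   (346, [g3, g2, g3, g4, g3, g2, g4, g3, g3, g5, g6]),
   (353, [g6, g2, g4, g2, g2, g6, g5, g3, g6, g5]),
   (444, [g4, g6, g2, g2, g5, g6, g3, g6]),
   (491, [g3, g4, g2, g4, g2, g5, g6, g5, g3, g6, g5]),
   (178, [g2, g5, g2, g4, g2, g4, g3, g3, g5, g6, g5]),
   (426, [g6, g2, g4, g4, g4, g5]),
   (493, [g6, g2, g2, g6, g2, g3, g3, g5]),
   (407, [g2, g6, g2, g3, g6, g2, g2, g4, g4, g4, g5, g6, g5]),
   (382, [g3, g4, g2, g3, g6, g2, g5, g3, g3, g3]),
   (377, [g3, g5, g2, g4, g2, g2, g4, g4, g3, g3, g5]),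
   (261, [g4, g2, g2, g4, g2, g3, g3, g5, g6]),
   (266, [g4, g2, g4, g2, g3, g4, g4, g5, g6, g5]),
   (113, [g6, g4, g2, g4, g2, g2, g4, g4, g6, g5]),
   (372, [g2, g4, g2, g6, g2, g2, g2, g4, g4, g4, g3, g3, g6, g5]),
   (445, [g3, g4, g2, g4, g2, g3, g4, g4, g4, g6, g5]),
   (257, [g2, g3, g4, g2, g2, g2, g5, g3, g4, g4]),
   (215, [g6, g2, g4, g4, g3, g2, g6, g3, g5, g3, g5, g6, g5]),
   (274, [g3, g4, g3, g2, g5, g3, g3, g3]),
   (510, [g6, g2, g3, g6, g2, g2, g4, g4, g3, g3, g6, g5]),
   (400, [g6, g2, g2, g4, g3, g2, g5, g4, g4, g3, g6]),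
   (254, [g2, g2, g2, g6, g2, g5, g3, g5, g6]),
   (104, [g4, g2, g3, g4, g2, g2, g5, g6, g4, g3, g5]),
   (286, [g4, g2, g3, g4, g2, g5, g6, g5]),
   (285, [g2, g3, g4, g3, g2, g4, g4, g6, g5]),
   (447, [g2, g4, g2, g6, g2, g2, g2, g5, g6, g5, g3, g5, g6, g5]),
   (238, [g6, g2, g2, g6, g2, g2, g5, g6, g4, g3, g5, g6, g5]),
   (482, [g6, g2, g6, g2, g5]),
   (343, [g6, g2, g5, g4, g4, g3, g6]),
   (106, [g5, g2, g4, g2, g5, g3, g4, g4, g6]),
   (299, [g4, g2, g2, g2, g4, g2, g4, g4, g4, g3, g3, g5, g6]),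
   (409, [g2, g2, g3, g4, g2, g6, g5, g3]),
   (176, [g4, g2, g3, g6, g5, g3]),
   (213, [g6, g2, g4, g4, g3, g2, g6, g4, g3]),
   (475, [g2, g2, g4, g4, g3, g2, g5, g6, g3, g5, g6, g5]),
   (79, [g6, g2, g4, g4, g3, g2, g5, g6, g5, g3, g6, g5]),
   (370, [g6, g2, g2, g5, g6, g3, g5, g6, g5]),
   (453, [g4, g2, g3, g4, g2, g2, g4, g4, g6]),
   (174, [g4, g2, g4, g4, g3, g2, g4, g4, g3, g6, g5]),
   (363, [g3, g4, g2, g4, g2, g2, g5, g6, g3, g5, g6, g5])]

/-- Part 15 of cert1. -/
noncomputable def cert1_15 : List (ℕ × List ℕ) :=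
  [(16, [g4, g2, g2, g4, g2, g3, g5, g4, g4, g3, g5, g6]),
   (293, [g6, g2, g2, g3, g4, g2, g4, g6, g3, g3, g3, g6, g5]),
   (457, [g6, g2, g2, g6, g3]),
   (379, [g2, g2, g2, g5, g3, g5, g6, g5]),
   (442, [g2, g4, g4, g3, g2, g3, g4, g4]),
   (225, [g6, g2, g2, g2, g5, g3, g4, g4, g6]),
   (486, [g2, g5, g2, g4, g2, g3, g6, g5, g3, g6]),
   (306, [g3, g4, g2, g2, g2, g4, g3, g5, g6, g5]),
   (290, [g4, g2, g3, g4, g2, g2, g4, g3, g6, g5]),
   (462, [g2, g4, g4, g3, g2, g3]),
   (500, [g4, g2, g4, g4, g3, g2, g3, g5, g6, g5]),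
   (303, [g6, g2, g2, g2, g5, g4, g4, g3, g5]),
   (471, [g3, g2, g6, g2, g2, g6, g3, g3, g3, g6, g5]),
   (235, [g2, g4, g2, g4, g2, g2, g6, g3, g3, g3]),
   (498, [g2, g2, g2, g4, g6, g3, g5]),
   (351, [g4, g2, g4, g2, g3, g5, g3, g5, g6, g5]),
   (302, [g6, g3, g2, g2, g6, g3, g2, g5, g3, g3, g3, g6]),
   (446, [g2, g6, g2, g3, g6, g2, g2, g5, g3, g3, g3]),
   (61, [g4, g2, g3, g4, g2, g2, g4, g5, g6, g5]),
   (380, [g3, g6, g2, g2, g5, g6, g4, g3, g5]),
   (328, [g3, g2, g4, g2, g2, g2, g6, g5, g3, g5]),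
   (410, [g3, g5, g2, g4, g2, g4, g4, g3, g3]),
   (355, [g3, g2, g6, g2, g2, g3, g4, g4]),
   (438, [g3, g2, g4, g4, g3, g2, g6, g3, g3, g3, g5]),
   (321, [g6, g5, g2, g4, g2, g2, g4, g4, g3, g5]),
   (485, [g2, g4, g4, g3, g2, g4, g4, g6]),
   (143, [g4, g2, g2, g2, g6, g2, g5, g6, g4, g3, g6]),
   (415, [g2, g2, g4, g2, g2, g2, g4, g3]),
   (344, [g4, g2, g4, g2, g2, g6, g5, g3, g5, g6]),
   (248, [g3, g6, g2, g2, g4, g6, g3, g5]),
   (506, [g6, g2, g2, g3, g5, g6, g5]),
   (64, [g3, g2, g2, g6, g3, g2, g3, g4, g4, g5]),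
   (439, [g6, g2, g2, g3, g4, g4, g4, g6, g5]),
   (450, [g4, g4, g2, g4, g2, g3]),
   (281, [g2, g2, g6, g2, g5, g6, g5, g3, g5, g6]),
   (501, [g4, g2, g3, g4, g2, g2, g6, g3, g5, g3]),
   (236, [g2, g2, g6, g2, g2, g5, g3, g4, g4, g5, g6]),
   (135, [g3, g2, g3, g4, g2, g2, g4, g3, g4, g4]),
   (259, [g3, g6, g2, g4, g2, g2, g4, g6, g3, g3, g3, g5]),
   (477, [g3, g5, g2, g4, g2, g2, g6, g3, g3, g3]),
   (460, [g4, g6, g2, g4, g2, g2, g6, g3]),
   (464, [g2, g2, g6, g2]),
   (311, [g3, g2, g3, g4, g3, g2, g4, g5]),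
   (497, [g2, g3, g6, g2, g2, g5, g3, g4, g4, g5, g6]),
   (121, [g6, g5, g2, g4, g2, g2, g4, g4, g4, g6]),
   (452, [g4, g4, g2, g4, g2, g2, g3, g6, g5, g3, g5, g6, g5]),
   (68, [g6, g2, g2, g3, g4, g2, g4, g4, g4]),
   (183, [g2, g2, g4, g3, g2, g5]),
   (108, [g4, g2, g6, g2, g4, g2, g2, g4, g4, g3, g3, g5]),
   (204, [g3, g4, g2, g2, g3, g5, g4, g4, g3, g6]),
   (481, [g6, g3, g2, g2, g6, g3, g2, g5, g6, g4, g3, g5, g6]),
   (339, [g6, g2, g2, g4, g4, g2, g2, g3, g3, g6, g5]),
   (455, [g2, g3, g4, g2, g5, g4, g4, g3]),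
   (291, [g6, g2, g3, g6, g2, g2, g4, g4, g5]),
   (403, [g2, g2, g2, g4, g3, g2, g3, g5, g3]),
   (504, [g6, g2, g4, g2, g2, g6, g5, g3]),
   (469, [g6, g2, g6, g2, g5, g3, g4, g4]),
   (201, [g3, g2, g4, g2, g4, g3, g3]),
   (196, [g2, g5, g2, g4, g2, g5, g6, g5, g3, g6, g5]),
   (393, [g5, g2, g4, g2, g3, g6, g5, g3]),
   (396, [g3, g4, g2, g4, g2, g2, g4, g3, g5, g6]),
   (507, [g2, g2, g2, g4, g3, g2, g6, g4, g3, g6]),
   (58, [g2, g6, g2, g4, g2, g2, g3, g5, g3, g5]),
   (511, [g3, g6, g2, g2, g3, g4, g4, g4, g5, g6, g5])]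

/-- Part 16 of cert1. -/
noncomputable def cert1_16 : List (ℕ × List ℕ) :=
  [(0, [g3]),
   (4, []),
   (9, []),
   (14, []),
   (1, [g4, g2, g6, g2, g3, g4, g4, g4, g6]),
   (22, []),
   (24, []),
   (27, []),
   (32, []),
   (35, [g6, g3, g2, g2, g6, g3, g2, g5]),
   (42, []),
   (46, []),
   (51, []),
   (56, []),
   (60, []),
   (66, []),
   (69, []),
   (73, []),
   (78, []),
   (80, []),
   (62, [g3, g2, g3, g4, g3, g2, g3, g4, g4, g4, g5, g6]),
   (87, []),
   (5, [g4, g2, g6, g2, g3, g4, g4, g4, g6]),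
   (94, []),
   (6, [g4, g2, g6, g2, g3, g4, g4, g4, g6]),
   (101, []),
   (7, [g4, g3, g2, g2, g6, g2, g6, g5, g3, g5, g6, g5]),
   (110, []),
   (114, []),
   (118, []),
   (121, []),
   (127, []),
   (11, [g3, g2, g6, g2, g2, g2, g3, g3, g3, g6]),
   (53, [g2, g3, g6, g2, g2, g6, g3, g6]),
   (137, []),
   (132, [g2, g6, g2, g2, g3, g5, g4, g4, g3, g5]),
   (141, []),
   (145, []),
   (68, [g4, g4, g2, g4, g2, g2, g4, g6, g3, g3, g3, g6, g5]),
   (33, [g6, g3, g2, g2, g6, g3, g2, g6, g4, g3]),
   (151, []),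
   (134, [g6, g2, g6, g2, g4, g6, g3]),
   (139, [g6, g3, g2, g2, g6, g3, g2, g5]),
   (12, [g3, g4, g2, g4, g2, g5, g6, g3]),
   (167, []),
   (171, []),
   (8, [g6, g3, g2, g2, g6, g3, g2, g5]),
   (39, [g5, g6, g4, g3]),
   (161, [g3, g4, g2, g3, g6, g2, g5, g4, g4, g3, g6, g5]),
   (176, []),
   (181, []),
   (54, [g3, g4, g2, g4, g2, g4, g5, g6]),
   (162, [g3, g4, g2, g4, g2, g5, g6, g5, g3, g6, g5]),
   (47, [g2, g2, g3, g4, g2, g2, g4, g3, g5, g6]),
   (43, [g4, g3]),
   (72, [g4, g2, g6, g2, g3, g4, g4, g4, g6]),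
   (190, [g6, g2, g5, g6, g4, g3, g6, g5]),
   (65, [g4, g2, g2, g4, g4, g2, g2, g6, g3, g5, g3]),
   (131, [g4, g3, g2, g6, g2, g2, g3, g3, g3, g5]),
   (182, [g3, g2, g4, g2, g2, g5, g3, g4, g4]),
   (74, [g3, g2, g4, g2, g2, g2, g3, g3, g3, g5, g6, g5]),
   (208, []),
   (211, []),
   (215, [])]

/-- Part 17 of cert1. -/
noncomputable def cert1_17 : List (ℕ × List ℕ) :=
  [(218, []),
   (197, [g2, g2, g4, g3, g2, g4, g4, g4, g3, g3, g6, g5]),
   (92, [g6, g3, g2, g4, g4, g4, g3, g3, g6]),
   (224, []),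
   (138, [g4, g4, g2, g2, g2, g4, g3, g4, g4, g6]),
   (223, [g2, g3, g4, g4, g4, g6, g5]),
   (109, [g4, g2, g3, g6, g2, g5, g6, g5, g3, g5]),
   (231, []),
   (233, []),
   (212, [g4, g3, g2, g3, g3, g3]),
   (3, [g2, g6, g2, g3, g6, g2, g2, g5, g3, g3, g3, g5]),
   (20, [g3, g4, g2, g6, g4, g3, g5, g6]),
   (210, [g3, g2, g2, g4, g2, g3, g6]),
   (77, [g2, g2, g3, g6, g2, g4, g6, g3, g3, g3, g5]),
   (18, [g4, g2, g6, g2, g3, g4, g4, g4, g6]),
   (246, []),
   (19, [g4, g2, g6, g2, g3, g4, g4, g4, g6]),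
   (250, []),
   (104, [g5, g3, g4, g4, g6, g5]),
   (225, [g3, g2, g4, g4, g3, g2, g3, g3, g3, g5]),
   (216, [g3, g2, g3, g4, g3, g2, g3, g4, g4, g4, g5, g6]),
   (85, [g3, g5, g2, g4, g2, g2, g3, g6, g5, g3, g5]),
   (86, [g4, g2, g2, g2, g4, g2, g4, g4, g4, g5, g6]),
   (21, [g2, g6, g3, g2, g5, g3]),
   (266, []),
   (270, []),
   (227, [g2, g2, g4, g2, g2, g2, g5, g3, g3, g3, g6, g5]),
   (237, [g4, g4, g2, g2, g4, g2, g5, g6, g3]),
   (195, [g3, g6, g2, g2, g3, g5, g4, g4, g3, g6, g5]),
   (276, []),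
   (198, [g6, g2, g4, g4, g2, g2, g3, g6, g5, g3, g6]),
   (159, [g6, g2, g6, g2, g5, g6, g5, g3, g6]),
   (286, []),
   (287, []),
   (290, []),
   (16, [g4, g2, g2, g2, g6, g2, g5, g3]),
   (119, [g2, g2, g4, g4, g3, g2, g4, g4, g5]),
   (297, []),
   (302, []),
   (305, []),
   (221, [g6, g2, g6, g2, g4, g5]),
   (142, [g2, g2, g6, g2, g3, g6, g5, g3, g6, g5]),
   (309, []),
   (312, []),
   (315, []),
   (318, []),
   (26, [g4, g2, g4, g2, g2, g4, g4, g3, g6]),
   (323, []),
   (326, []),
   (314, [g4, g2, g2, g2, g6, g2, g4, g4, g5]),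
   (320, []),
   (135, [g3, g2, g6, g2, g2, g2, g4, g6, g3, g3, g3, g5, g6, g5]),
   (97, [g6, g2, g4, g2, g2, g6]),
   (336, []),
   (185, [g3, g2, g4, g2, g2, g2, g3, g5, g4, g4, g3, g5, g6, g5]),
   (339, []),
   (108, [g4, g2, g4, g2, g2, g4, g4, g5, g6, g5]),
   (328, [g2, g6, g2, g3, g6, g2, g2, g4, g4, g5, g6]),
   (160, [g2, g4, g4, g2, g2, g2, g4, g6, g3, g6, g5]),
   (183, [g5, g4, g6, g2, g4, g2, g2, g4, g4, g4, g6]),
   (347, []),
   (349, []),
   (352, []),
   (37, [g3, g4, g2, g2, g2, g4, g4, g3, g6, g5])]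

/-- Part 18 of cert1. -/
noncomputable def cert1_18 : List (ℕ × List ℕ) :=
  [(147, [g4, g4, g2, g2, g2, g3, g6, g5, g3]),
   (341, [g2, g2, g2, g6, g2, g6, g3, g5, g3]),
   (128, [g3, g2, g3, g4, g3, g2, g5, g3, g6]),
   (363, []),
   (2, [g5, g6, g4, g3]),
   (133, [g2, g4, g2, g2, g2, g3, g5, g6]),
   (41, [g6, g3, g2, g2, g6, g3, g2, g6, g5]),
   (371, []),
   (130, [g3, g2, g3, g4, g3, g2, g5, g3, g6]),
   (48, [g3, g2, g6, g2, g2, g2, g3, g3, g3, g6]),
   (348, [g4, g4, g2, g2, g4, g2, g4, g3, g4, g4, g6]),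
   (374, []),
   (377, []),
   (344, [g4, g2, g4, g2, g2, g5, g6, g5, g3, g6, g5]),
   (155, [g3, g4, g2, g4, g2, g3, g3, g5, g6]),
   (382, []),
   (360, [g5, g6, g4, g3]),
   (31, [g3, g4, g2, g2, g2, g4, g4, g3, g6, g5]),
   (385, []),
   (136, [g3, g4, g2, g2, g2, g5, g6, g5, g3, g5]),
   (156, [g6, g2, g2, g4, g4, g2, g2, g3, g3, g3, g5, g6]),
   (28, [g3, g2, g4, g4, g3, g2, g3, g5, g4, g4, g3]),
   (122, [g2, g2, g4, g4, g3, g2, g5, g6, g5, g3, g6]),
   (40, [g5, g6, g5]),
   (152, [g6, g2, g2, g4, g4, g2, g2, g6, g4, g3]),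
   (153, [g4, g6, g2, g2, g3, g6, g5, g3, g5]),
   (154, [g6, g3, g2, g6]),
   (390, []),
   (52, [g2, g2, g4, g4, g2, g2, g3, g5]),
   (393, []),
   (186, [g2, g2, g3, g4, g2, g2, g6, g3, g5, g3, g5, g6]),
   (396, []),
   (251, [g2, g6, g2, g3, g6, g2, g2, g6, g5, g3, g5, g6, g5]),
   (34, [g3, g4, g2, g2, g2, g4, g4, g3, g6, g5]),
   (148, []),
   (400, []),
   (369, [g6, g2, g6, g2, g4, g6, g3]),
   (84, [g4, g3, g2, g4, g4, g3, g5]),
   (404, []),
   (308, [g2, g2, g2, g6, g3, g2, g5, g4, g4, g3, g5, g6]),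
   (406, [g3, g2, g3, g4, g3, g2, g4, g5]),
   (203, [g3, g2, g3, g4, g3, g2, g5, g3, g5]),
   (373, [g4, g4, g2, g4, g2, g3, g6, g5, g3, g5, g6]),
   (364, [g4, g4, g2, g4, g2, g3, g6, g5, g3, g5, g6]),
   (409, []),
   (342, [g6, g2, g6, g2, g3, g3, g3, g6, g5]),
   (179, [g4, g2, g3, g6, g2, g6, g3, g5, g3]),
   (299, [g2, g4, g2, g2, g4, g2, g4, g3, g5, g6]),
   (386, [g3, g2, g4, g2, g2, g4, g3, g4, g4, g5, g6, g5]),
   (395, [g4, g3, g2, g6, g2, g2, g3, g3, g3, g6]),
   (417, []),
   (67, [g2, g6, g2, g2, g2, g3, g6, g5, g3, g6, g5]),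
   (59, [g2, g2, g3, g4, g2, g4, g6, g3, g5]),
   (169, [g3, g4, g2, g4, g2, g2, g4, g4]),
   (188, [g2, g6, g2, g3, g3, g3, g5]),
   (113, [g2, g4, g6, g3, g3, g3, g5]),
   (354, [g4, g2, g4, g2, g2, g3, g6]),
   (405, [g4, g6, g2, g6, g3, g2, g4, g4, g5]),
   (158, [g2, g2, g4, g4, g2, g2, g5, g3, g3, g3, g5]),
   (187, [g2, g2, g3, g4, g2, g3, g6, g5, g3, g5]),
   (180, [g5, g6, g4, g3, g6]),
   (124, [g6, g2, g6, g3, g2, g3, g6, g5, g3, g5]),
   (191, [g6, g2, g2, g4, g3, g2, g4, g6, g3]),
   (13, [g3, g4, g2, g2, g3, g5, g4, g4, g3])]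

/-- Part 19 of cert1. -/
noncomputable def cert1_19 : List (ℕ × List ℕ) :=
  [(82, [g6, g3, g2, g2, g6, g3, g2, g4, g4, g3, g5]),
   (196, [g3, g4, g2, g2, g3, g5, g4, g4, g3, g6]),
   (424, [g2, g2, g6, g2, g2, g4, g3, g3, g6]),
   (15, [g4, g3, g2, g6, g2, g2, g4, g3, g3, g6, g5]),
   (269, [g4, g3, g2, g4, g6, g3, g3, g3, g6]),
   (430, []),
   (334, [g4, g4, g2, g2, g6]),
   (58, [g4, g3, g5, g6]),
   (262, [g4, g4, g2, g4, g2, g4, g3, g3]),
   (222, [g4, g2, g2, g4, g4, g2, g2, g6, g3, g5, g3]),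
   (98, [g4, g4, g2, g6, g2, g2, g2, g5, g6]),
   (50, [g2, g4, g2, g2, g2, g4, g3, g4, g4, g6]),
   (280, [g3, g2, g3, g4, g2, g2, g4, g6, g5]),
   (55, [g3, g6, g2, g2, g4, g3, g3, g6, g5]),
   (258, [g4, g4, g3, g2, g5, g3, g3, g3, g6]),
   (165, [g3, g2, g4, g4, g3, g2, g5, g3, g5, g6]),
   (236, [g4, g2, g2, g4, g4, g2, g2, g3, g3]),
   (17, [g4, g2, g2, g4, g4, g2, g2, g3, g3]),
   (76, [g2, g6, g2, g4, g2, g2, g5, g6, g5, g3, g6, g5]),
   (75, [g2, g3, g5, g3, g6, g5]),
   (209, [g4, g3, g2, g6, g2, g2, g4, g3, g3, g6, g5]),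
   (441, []),
   (228, [g4, g2, g2, g4, g4, g4, g3, g3, g5]),
   (83, [g4, g4, g2, g4, g2, g2, g4, g5]),
   (207, [g6, g2, g6, g3, g2, g4, g6, g3, g6]),
   (376, [g6, g2, g2, g6, g2, g2, g5, g6, g3, g6, g5]),
   (64, [g2, g6, g3, g2, g5, g3]),
   (219, [g4, g2, g6, g2, g2, g2, g5, g6, g4, g3, g6, g5]),
   (220, [g3, g2, g6, g2, g2, g2, g4, g5]),
   (192, [g4, g3, g2, g6, g2, g2, g3, g5, g4, g4, g3]),
   (234, [g4, g6, g2, g6, g3, g2, g6, g3, g3, g3, g6, g5]),
   (99, [g2, g2, g2, g4, g3, g2, g4, g3, g4, g4]),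
   (174, [g3, g4, g2, g2, g2, g6, g3, g5, g6, g5]),
   (63, [g4, g3, g2, g6, g2, g2, g4, g3, g3, g6, g5]),
   (391, [g3, g2, g4, g4, g3, g2, g4, g4, g3, g3, g5]),
   (238, [g3, g4, g2, g2, g4, g3, g3, g6, g5]),
   (423, [g2, g3, g6, g2, g2, g4, g3, g3, g6, g5]),
   (319, [g2, g2, g2, g4, g3, g2, g5, g6, g4, g3, g5, g6]),
   (454, []),
   (229, [g3, g6, g2, g4, g2, g2, g4, g3, g5, g6]),
   (283, [g6, g2, g6, g3, g2, g5, g3]),
   (205, [g3, g4, g2, g4, g2, g5, g6, g5, g3, g5, g6, g5]),
   (458, []),
   (459, []),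
   (329, [g2, g4, g2, g2, g4, g2, g4, g4, g4, g3, g3, g5, g6, g5]),
   (91, [g2, g2, g6, g2, g6, g5, g3, g6]),
   (294, [g4, g3, g2, g3, g4, g4, g5, g6]),
   (292, [g2, g4, g2, g2, g3, g3, g6, g5]),
   (257, [g2, g6, g2, g5, g6, g5, g3, g5, g6, g5]),
   (241, [g2, g2, g6, g2, g3, g3, g3, g5, g6]),
   (242, [g3, g2, g6, g2, g2, g6, g3, g5, g3]),
   (243, [g2, g4, g2, g4, g2, g2, g4, g4, g3, g3, g5]),
   (325, [g3, g2, g4, g2, g2, g4, g4, g4, g3, g3, g5, g6]),
   (418, [g3, g2, g2, g6, g3, g2, g6, g3, g6, g5]),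
   (79, [g4, g4, g2, g4, g2, g3, g6, g5, g3, g5, g6]),
   (467, []),
   (252, [g6, g2, g2, g6, g2, g2, g3, g4, g4, g4, g5]),
   (332, [g4, g2, g3, g6, g2, g3, g4, g4, g4, g6, g5]),
   (343, [g3, g2, g3, g6, g2, g3, g6]),
   (150, [g2, g3, g6, g2, g2, g5, g6, g5, g3, g5, g6, g5]),
   (471, []),
   (306, [g2, g6, g2, g5, g3, g4, g4, g5, g6]),
   (362, [g4, g2, g2, g2, g4, g4, g3, g5, g6]),
   (245, [g6, g2, g2, g6, g2, g2, g3, g6, g5, g3, g6])]

/-- Part 20 of cert1. -/
noncomputable def cert1_20 : List (ℕ × List ℕ) :=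
  [(425, [g4, g2, g6, g2, g6, g5, g3, g6, g5]),
   (260, [g3, g4, g4, g6]),
   (311, [g4, g2, g2, g4, g2, g4, g6, g3, g5]),
   (475, []),
   (295, [g6, g2, g4, g4, g2, g2, g3, g3, g3, g5, g6, g5]),
   (477, []),
   (200, [g4, g2, g3, g4, g2, g2, g4, g3]),
   (271, [g3, g6, g2, g2, g4, g3, g3, g6, g5]),
   (281, [g2, g2, g2, g4, g3, g2, g6, g5, g3, g6, g5]),
   (370, [g3, g2, g2, g6, g2, g5, g6, g4, g3]),
   (88, [g2, g6, g3, g2, g5, g3]),
   (380, [g3, g2, g3, g4, g3, g2, g4, g6, g5]),
   (337, [g4, g2, g2, g4, g2, g3, g5, g4, g4, g3, g5, g6, g5]),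
   (420, [g3, g2, g6, g2, g2, g3, g4, g4, g4]),
   (89, [g2, g6, g3, g2, g5, g3]),
   (263, [g2, g2, g4, g2, g2, g2, g4, g4, g4, g3, g3, g5, g6, g5]),
   (226, [g4, g4, g2, g3, g4, g4, g4, g5, g6, g5]),
   (274, [g6, g2, g2, g6, g2, g2, g3, g4, g4, g4, g5]),
   (264, [g2, g3, g4, g2, g2, g4, g5, g6, g5]),
   (284, [g3, g6, g2, g4, g2, g2, g5, g3, g6]),
   (93, [g4, g4, g5, g6, g5]),
   (277, [g3, g6, g2, g4, g4, g5, g6]),
   (278, [g6, g2, g4, g4, g3, g2, g5, g3, g3, g3, g5, g6]),
   (279, [g6, g2, g2, g6, g3, g5, g3, g5]),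
   (403, [g5, g2, g4, g2, g2, g5, g3, g4, g4, g6]),
   (273, [g2, g2, g2, g6, g3, g2, g3, g4, g4, g4, g5, g6]),
   (95, [g4, g2, g4, g2, g2, g4, g4, g3, g6]),
   (462, [g4, g6, g2, g6, g3, g2, g5, g3]),
   (163, [g2, g2, g4, g3, g2, g4, g6, g3, g3, g3, g5, g6]),
   (449, [g2, g4, g3, g2, g6, g4, g3, g5, g6, g5]),
   (397, [g6, g2, g6, g2, g3, g5, g3]),
   (333, [g6, g4, g2, g4, g2, g2, g3, g6, g5, g3, g6]),
   (289, [g3, g4, g2, g3, g6, g2, g3, g5]),
   (346, [g4, g3, g2, g4, g6, g3, g6, g5]),
   (322, [g4, g4, g2, g2, g2, g4, g4, g3, g5]),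
   (486, []),
   (239, [g4, g3, g2, g4, g6, g3, g3, g3, g5, g6, g5]),
   (272, [g3, g2, g3, g6, g2, g3, g5, g4, g4, g3, g5, g6]),
   (90, [g2, g2, g6, g2, g3]),
   (240, [g3, g2, g6, g2, g2, g3, g5, g3, g5]),
   (303, [g6, g2, g4, g4, g2, g2, g5, g3, g3, g3, g6, g5]),
   (338, [g4, g4, g2, g2, g4, g2, g4, g4, g3, g5]),
   (194, [g2, g4, g2, g4, g4, g2, g2, g6, g4, g3, g6, g5]),
   (489, []),
   (422, [g4, g4, g2, g4, g2, g3, g3, g5, g6]),
   (367, [g3, g2, g2, g6, g3, g2, g4, g3, g5, g6, g5]),
   (472, [g4, g6, g2, g6, g3, g2, g4, g4, g5, g6, g5]),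
   (474, [g2, g6, g2, g2, g2, g5, g3, g6, g5]),
   (448, [g3, g2, g4, g2, g4, g3]),
   (428, [g3, g4, g2, g3, g6, g2, g3, g4, g4, g4, g5, g6]),
   (265, [g3, g2, g3, g3, g5, g6, g5]),
   (36, [g3, g5, g2, g4, g2, g2, g4, g6, g3, g3, g3, g6]),
   (490, []),
   (111, [g4, g3, g2, g2, g6, g2, g6, g5, g3, g5, g6, g5]),
   (206, [g4, g2, g6, g2, g5, g3, g4, g4, g5, g6]),
   (310, [g2, g6, g3, g2, g5, g6, g3]),
   (112, [g4, g3, g2, g2, g6, g2, g6, g5, g3, g5, g6, g5]),
   (189, [g4, g2, g6, g2, g3, g4, g4, g5, g6, g5]),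
   (123, [g6, g2, g2, g4, g3, g2, g5, g6]),
   (355, [g4, g3, g2, g2, g6, g2, g5, g3, g6]),
   (317, [g4, g4, g4, g5]),
   (470, [g2, g2, g4, g4, g2, g2, g4, g4, g3, g5]),
   (330, [g3, g4, g2, g3, g6, g2, g3, g5]),
   (71, [g3, g4, g2, g4, g2, g5, g3, g4, g4])]

/-- Part 21 of cert1. -/
noncomputable def cert1_21 : List (ℕ × List ℕ) :=
  [(149, [g2, g4, g4, g2, g2, g4, g6, g3, g3, g3, g5, g6]),
   (321, [g3, g4, g2, g6, g2, g2, g2, g4, g4, g6]),
   (202, [g6, g2, g2, g6, g2, g2, g5, g3, g4, g4]),
   (106, [g4, g2, g4, g2, g2, g4, g4, g3, g6]),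
   (115, []),
   (244, [g4, g2, g5, g2, g4, g2, g4, g4, g4, g5, g6]),
   (107, [g4, g2, g4, g2, g2, g4, g4, g3, g6]),
   (492, [g2, g2, g2, g6, g3, g2, g5, g6, g3, g5, g6]),
   (345, [g2, g6, g2, g2, g2, g5, g6, g4, g3]),
   (61, [g6, g2, g2, g4, g4, g5, g6]),
   (70, [g2, g2, g3, g6, g2, g4, g4, g4, g3, g3, g6]),
   (453, [g4, g2, g4, g4, g2, g2, g4, g3, g3, g6]),
   (249, [g4, g2, g6, g3, g2, g3, g4, g4, g4, g6]),
   (116, [g2, g3, g6, g2, g2, g4, g6, g3, g6]),
   (23, [g4, g2, g2, g4, g4, g4, g5, g6]),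
   (117, [g6, g2, g4, g4, g3, g2, g6, g4, g3]),
   (456, [g4, g2, g6, g2, g2, g2, g3, g5, g3, g6]),
   (291, [g4, g4, g2, g4, g2, g2, g3, g6, g5, g3, g5, g6]),
   (25, [g3, g4, g2, g4, g2, g2, g5, g4, g4, g3, g6, g5]),
   (499, [g3, g2, g6, g2, g5, g3, g5, g6]),
   (298, [g2, g6, g2, g3, g6, g2, g2, g5, g4, g4, g3, g6]),
   (146, [g2, g6, g2, g4, g2, g2, g4, g6, g3, g3, g3, g6]),
   (173, [g2, g3, g4, g3, g2, g6, g3, g5, g3, g6, g5]),
   (399, [g2, g4, g2, g4, g2, g2, g4, g4, g4, g3, g3, g6, g5]),
   (307, [g3, g4, g2, g4, g3, g4, g4, g6, g5]),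
   (30, [g2, g2, g2, g4, g3, g2, g4, g3, g6]),
   (498, [g2, g6, g2, g3, g6, g2, g2, g3, g6, g5, g3, g5]),
   (313, [g2, g2, g6, g2, g2, g3, g3, g3]),
   (38, [g2, g2, g2, g5, g6, g3, g5, g6]),
   (125, [g2, g3, g4, g3, g2, g6, g4, g3, g6]),
   (350, [g3, g2, g4, g2, g2, g2, g4, g3, g4, g4, g6]),
   (414, [g3, g2, g4, g2, g4, g4, g3]),
   (126, [g5, g6, g4, g3]),
   (504, []),
   (184, [g6, g2, g2, g4, g3, g2, g3, g3, g3, g6, g5]),
   (120, [g2, g2, g2, g6, g2, g3, g4, g4, g4]),
   (316, [g3, g2, g3, g4, g2, g2, g4, g3, g3, g5, g6]),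
   (384, [g2, g2, g3, g6, g2, g5, g6, g5, g3, g5, g6]),
   (412, [g3, g2, g6, g2, g2, g4, g6, g3, g3, g3, g6, g5]),
   (455, [g2, g6, g2, g5, g3, g6, g5]),
   (144, []),
   (442, [g2, g2, g6, g2, g2, g3, g6, g5, g3]),
   (506, []),
   (199, [g2, g2, g4, g2, g4, g6, g3, g3, g3]),
   (494, [g6, g5, g2, g4, g2, g2, g3, g5, g3, g5]),
   (103, [g4, g6, g2, g2, g4, g6, g3, g3, g3, g5, g6, g5]),
   (463, [g4, g2, g4, g4, g3, g2, g5, g6, g4, g3, g5, g6]),
   (301, [g6, g2, g3, g4, g2, g3, g4, g4, g4, g5, g6, g5]),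
   (402, [g4, g2, g6, g2, g4, g2, g2, g3, g3, g3, g5, g6, g5]),
   (164, [g6, g3, g2, g2, g6, g3, g2, g6, g5]),
   (253, [g2, g2, g3, g6, g5, g3, g6, g5]),
   (324, [g2, g2, g4, g3, g2, g4, g3, g5, g6, g5]),
   (379, [g2, g4, g2, g4, g2, g2, g6, g4, g3, g5]),
   (170, [g4, g4, g2, g4, g2, g3, g5, g4, g4, g3, g5, g6]),
   (10, [g3, g2, g6, g2, g2, g2, g3, g3, g3, g6]),
   (375, [g6, g2, g2, g4, g3, g2, g4, g3, g4, g4, g5, g6, g5]),
   (331, [g2, g3, g4, g3, g2, g3, g4, g4, g6, g5]),
   (140, [g4, g6, g3, g3, g3, g5, g6, g5]),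
   (389, [g3, g2, g2, g4, g2, g3, g4, g4, g4]),
   (451, [g6, g3, g2, g2, g6, g3, g2, g4, g6, g3, g3, g3, g5, g6, g5]),
   (267, [g3, g5, g2, g4, g2, g4, g4, g3, g3, g5, g6]),
   (143, [g3, g4, g2, g2, g4, g4, g3, g6, g5]),
   (413, [g6, g2, g2, g4, g3, g2, g4, g4, g3, g3, g6, g5]),
   (481, [g2, g2, g4, g2, g2, g2, g4, g4, g3, g5, g6])]

/-- Part 22 of cert1. -/
noncomputable def cert1_22 : List (ℕ × List ℕ) :=
  [(357, [g2, g5, g2, g4, g2, g4, g4, g3, g3, g5, g6]),
   (129, [g3, g4, g2, g2, g2, g4, g4, g3, g6, g5]),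
   (487, [g3, g2, g6, g2, g2, g5, g3, g4, g4, g5]),
   (387, [g6, g2, g2, g4, g4, g2, g2, g6, g4, g3]),
   (388, [g4, g6, g2, g2, g3, g6, g5, g3, g5]),
   (378, [g3, g6, g2, g4, g2, g2, g4, g6, g3, g5, g6]),
   (105, [g2, g4, g2, g2, g2, g3, g5, g3, g5]),
   (293, [g2, g4, g2, g4, g2, g2, g4, g3, g3, g6, g5]),
   (507, [g4, g2, g4, g2, g6, g4, g3]),
   (157, [g4, g4, g2, g4, g2, g3, g6, g5, g3, g5, g6]),
   (429, [g2, g4, g2, g2, g4, g2, g4, g6, g3, g5]),
   (457, [g2, g2, g4, g3, g2, g5, g6, g5, g3, g6]),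
   (282, [g4, g2, g2, g6, g3, g5, g6]),
   (401, [g6, g2, g4, g6, g3, g3, g3, g5, g6, g5]),
   (232, [g4, g2, g2, g2, g6, g3, g3, g3, g5, g6]),
   (81, [g4, g2, g6, g2, g4, g2, g2, g5, g6, g5, g3, g5, g6, g5]),
   (275, [g6, g2, g2, g4, g4, g2, g2, g4, g3, g3]),
   (96, [g4, g6, g2, g4, g3, g4, g4, g6]),
   (368, [g6, g2, g6, g2, g4, g6, g3, g5, g6, g5]),
   (491, [g6, g2, g6, g3, g2, g6, g3, g5, g3, g6, g5]),
   (485, [g5, g2, g4, g2, g3, g4, g4, g4]),
   (29, [g2, g2, g4, g4, g2, g2, g5, g4, g4, g3, g6, g5]),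
   (361, [g4, g4, g2, g2, g2, g3, g6, g5, g3]),
   (464, [g2, g2, g3, g4, g3, g2, g4, g3, g3, g5]),
   (436, [g4, g2, g2, g2, g6, g2, g6, g5, g3, g6]),
   (435, [g4, g3, g2, g6, g2, g2, g3, g5, g4, g4, g3, g5, g6, g5]),
   (469, [g2, g2, g6, g3, g2, g6, g3, g3, g3, g5, g6, g5]),
   (254, [g4, g4, g2, g3, g3, g5, g6, g5]),
   (327, [g2, g3, g4, g2, g4, g4, g4, g3, g3, g6, g5]),
   (381, [g2, g6, g3, g2, g5, g6, g4, g3, g6]),
   (383, [g2, g4, g2, g2, g2, g5, g6, g3, g5, g6]),
   (483, [g3, g2, g2, g4, g3, g2, g4, g3, g5, g6]),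
   (296, [g2, g2, g3, g4, g3, g2, g6, g3, g3, g3, g5]),
   (460, [g2, g4, g4, g3, g2, g3, g3]),
   (484, [g3, g2, g3, g4, g2, g5, g6, g4, g3]),
   (102, [g4, g2, g2, g4, g2, g4, g4, g5, g6, g5]),
   (193, [g4, g2, g6, g2, g4, g2, g2, g3, g4, g4, g4, g5, g6]),
   (497, [g2, g4, g2, g4, g4, g2, g2, g4, g4, g6, g5]),
   (285, [g2, g6, g2, g2, g3, g5, g3, g5, g6, g5]),
   (466, [g6, g3, g2, g6, g2, g2, g4, g4, g4, g6, g5]),
   (340, [g6, g3, g2, g2, g6, g3, g2, g4, g4, g3, g3, g6]),
   (443, [g3, g2, g3, g4, g2, g4, g3, g3, g6, g5]),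
   (426, [g3, g2, g6, g2, g2, g2, g4, g6]),
   (447, [g2, g5, g2, g4, g2, g5, g3, g4, g4, g6]),
   (365, [g2, g3, g6, g2, g2, g4, g3, g6, g5]),
   (505, [g5, g2, g4, g2, g2, g3, g6, g5, g3, g5, g6, g5]),
   (57, [g4, g2, g6, g2, g3, g5, g3, g5, g6]),
   (431, [g2, g2, g6, g2, g4, g4, g6, g5]),
   (230, [g2, g2, g3, g6, g2, g4, g4, g4, g3, g3, g5]),
   (394, [g4, g2, g6, g2, g5, g3, g5]),
   (479, [g2, g3, g4, g2, g4, g4, g4, g5, g6]),
   (508, [g3, g5, g2, g4, g2, g2, g4, g3, g4, g4]),
   (496, [g3, g2, g3, g4, g2, g2, g4, g6, g3, g3, g3, g5, g6, g5]),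
   (437, [g2, g2, g2, g6, g3, g2, g5, g4, g4, g3, g5, g6]),
   (438, [g6, g2, g2, g3, g4, g2, g6, g5]),
   (439, [g2, g6, g2, g4, g2, g2, g5, g6, g5]),
   (248, [g2, g4, g2, g2, g3, g5, g3, g5, g6]),
   (213, [g6, g2, g6, g3, g2, g5, g3, g6]),
   (168, [g2, g3, g4, g2, g2, g2, g4, g4, g4, g6, g5]),
   (446, [g4, g2, g2, g4, g2, g5, g6, g3]),
   (478, [g3, g2, g4, g2, g2, g2, g3, g3, g3, g6, g5]),
   (465, [g4, g2, g6, g2, g2, g2, g6, g5]),
   (256, [g2, g2, g2, g6, g2, g5, g3, g5, g6]),
   (359, [g4, g2, g2, g2, g4, g2, g3, g6, g5, g3, g6, g5])]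

/-- Part 23 of cert1. -/
noncomputable def cert1_23 : List (ℕ × List ℕ) :=
  [(304, [g4, g6, g2, g4, g2, g2, g5, g6, g5]),
   (300, [g2, g4, g2, g2, g4, g2, g4, g4, g4, g3, g3]),
   (482, [g2, g2, g4, g4, g3, g2, g5, g6, g3, g5, g6, g5]),
   (452, [g2, g2, g3, g4, g2, g2, g4, g6, g5]),
   (372, [g6, g2, g4, g4, g3, g2, g3, g5, g4, g4, g3, g5]),
   (217, [g6, g2, g6, g3, g2, g4, g4, g3]),
   (493, [g4, g2, g3, g6, g2, g5, g6, g5, g3, g5]),
   (427, [g3, g4, g2, g4, g2, g2, g4, g3, g4, g4, g5, g6, g5]),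
   (335, [g3, g4, g2, g4, g2, g6, g4, g3, g6]),
   (480, [g3, g2, g4, g2, g3, g3, g6, g5]),
   (201, [g3, g4, g2, g4, g2, g5, g6, g5, g3, g5, g6, g5]),
   (261, [g3, g6, g2, g2, g4, g3, g3, g6, g5]),
   (488, [g2, g2, g2, g6, g3, g2, g5, g3, g3, g3, g5, g6, g5]),
   (175, [g6, g2, g2, g5, g6, g5, g3, g5, g6]),
   (398, [g6, g2, g6, g2, g5, g6, g5, g3, g6, g5]),
   (366, [g2, g6, g2, g4, g2, g2, g4, g6, g3, g5]),
   (407, [g4, g2, g6, g2, g2, g2, g5, g6, g4, g3, g5, g6]),
   (445, [g2, g2, g6, g3, g2, g3, g6]),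
   (214, [g6, g2, g4, g4, g2, g2, g3, g5, g6]),
   (247, [g4, g4, g2, g4, g2, g3, g6, g5, g3, g5, g6]),
   (502, [g4, g2, g2, g4, g2, g4, g3, g4, g4, g5, g6]),
   (410, [g4, g6, g2, g4, g2, g2, g6, g3, g5, g3, g5, g6]),
   (356, [g6, g2, g3, g5, g4, g4, g3, g5, g6, g5]),
   (440, [g4, g2, g6, g2, g2, g2, g4, g3, g3, g5]),
   (419, [g2, g2, g2, g4, g2, g4, g4, g4, g3, g3, g6, g5]),
   (166, [g6, g3, g2, g5, g3, g4, g4]),
   (416, [g2, g5, g2, g4, g2, g2, g4, g4, g4, g3, g3, g6]),
   (259, [g4, g2, g3, g4, g2, g3, g5, g6, g5]),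
   (476, [g6, g2, g2, g6, g2, g3, g6, g5, g3, g5, g6, g5]),
   (235, [g3, g6, g2, g2, g4, g3, g3, g6, g5]),
   (510, [g3, g2, g3, g4, g2, g2, g3, g6, g5]),
   (415, [g3, g2, g3, g6, g2, g3, g6, g5, g3, g5, g6]),
   (177, [g2, g6, g2, g4, g2, g2, g4, g4, g3, g3, g6]),
   (351, [g2, g2, g2, g6, g3, g3, g3, g6]),
   (450, [g2, g4, g4, g2, g2, g2, g5]),
   (434, [g4, g2, g4, g4, g2, g2, g3, g5, g3, g6]),
   (255, [g3, g2, g3, g4, g3, g2, g5, g3, g4, g4, g5]),
   (473, [g3, g4, g2, g6, g3, g3, g3, g5, g6]),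
   (268, []),
   (49, [g3, g4, g2, g6, g2, g2, g2, g4, g3, g5, g6, g5]),
   (178, [g2, g2, g3, g6, g2, g3, g5, g3, g5, g6, g5]),
   (461, [g2, g2, g2, g6, g2, g3, g3, g6]),
   (44, [g2, g6, g2, g2, g2, g6, g3, g3, g3, g5]),
   (204, [g4, g6, g2, g4, g2, g2, g6, g3, g3, g3, g6]),
   (358, [g5, g2, g4, g2, g5]),
   (432, [g4, g6, g2, g6, g3, g2, g6, g3, g5, g3, g5, g6]),
   (45, [g2, g2, g2, g4, g2, g6, g3, g5, g3, g6]),
   (408, [g4, g4, g2, g3, g4, g4, g5]),
   (495, [g6, g2, g2, g4, g4, g2, g2, g3, g3, g3, g5, g6]),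
   (421, [g3, g2, g6, g5, g3]),
   (288, [g4, g6, g2, g6, g3, g2, g4, g6, g3, g5]),
   (100, [g5, g4, g6, g2, g4, g2, g2, g3, g3, g3, g6]),
   (444, [g3, g2, g2, g4, g3, g2, g5, g6, g5, g3]),
   (501, [g2, g2, g6, g3, g2, g4, g6, g5]),
   (468, [g6, g2, g4, g2, g2, g5, g4, g4, g3]),
   (503, [g3, g2, g4, g2, g2, g2, g3, g3, g3, g6, g5]),
   (353, [g5, g6, g4, g3]),
   (433, [g3, g5, g2, g4, g2, g4]),
   (411, [g6, g2, g4, g2, g2, g3, g4, g4, g4, g5, g6, g5]),
   (392, [g2, g2, g2, g4, g2, g4, g3, g4, g4]),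
   (172, [g2, g3, g6, g2, g2, g4, g4, g4, g6, g5]),
   (509, [g4, g3, g2, g6, g2, g2, g4, g3, g6, g5]),
   (500, [g4, g6, g2, g6, g3, g2, g4, g4, g5]),
   (511, [g2, g3, g6, g2, g2, g3, g4, g4, g4])]

/-- Part 24 of cert1. -/
noncomputable def cert1_24 : List (ℕ × List ℕ) :=
  [(0, [g4]),
   (5, []),
   (10, []),
   (15, []),
   (18, []),
   (4, [g2, g6, g3, g2, g4, g6, g3]),
   (19, [g3, g6, g2, g2, g3, g5, g4, g4, g3, g6]),
   (28, []),
   (33, []),
   (11, [g3, g4, g2, g3, g6, g2, g5, g4, g4, g3, g6, g5]),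
   (39, [g4, g4, g2, g4, g2, g3, g6, g5, g3, g5, g6]),
   (47, []),
   (52, []),
   (57, []),
   (61, []),
   (67, []),
   (70, []),
   (74, []),
   (1, [g2, g6, g3, g2, g4, g6, g3]),
   (6, [g2, g6, g3, g2, g5, g3]),
   (83, []),
   (88, []),
   (91, []),
   (95, []),
   (80, [g6, g2, g6, g3, g5, g3, g6, g5]),
   (102, []),
   (106, []),
   (111, []),
   (115, []),
   (7, [g2, g6, g3, g2, g5, g3, g4, g4, g5, g6, g5]),
   (122, []),
   (128, []),
   (34, [g2, g3, g6, g2, g4, g4, g4, g5]),
   (51, [g6, g2, g4, g4, g3, g2, g5, g6, g3, g5]),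
   (12, [g2, g4, g2, g2, g4, g5]),
   (139, []),
   (99, [g6, g2, g2, g3, g4, g2, g5, g6, g4, g3, g5, g6]),
   (136, [g3, g4, g2, g2, g2, g5, g6, g3, g6, g5]),
   (2, [g3, g4, g2, g3, g6, g2, g5, g4, g4, g3, g6, g5]),
   (38, [g3, g4, g2, g3, g6, g2, g6, g3, g5]),
   (152, []),
   (157, []),
   (161, []),
   (9, [g4, g4, g2, g4, g2, g3, g6, g5, g3, g5, g6]),
   (168, []),
   (127, [g2, g2, g3, g6, g2, g4, g3, g6]),
   (48, [g3, g4, g2, g3, g6, g2, g5, g4, g4, g3, g6, g5]),
   (43, [g5, g6, g4, g3]),
   (54, [g4, g6, g2, g6, g3, g2, g4, g3, g4, g4, g5]),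
   (177, []),
   (182, []),
   (132, [g3, g4, g2, g4, g2, g3, g5, g4, g4, g3, g5, g6]),
   (32, [g4, g2, g2, g4, g4, g2, g2, g4, g4, g3, g6]),
   (138, [g3, g2, g4, g2, g2, g5, g3, g4, g4, g5]),
   (148, [g4, g3, g5]),
   (191, []),
   (196, []),
   (199, []),
   (55, [g4, g4, g2, g2, g2, g5, g4, g4, g3, g6]),
   (160, [g2, g6, g2, g3, g6, g2, g2, g5, g3, g3, g3, g5, g6]),
   (92, [g6, g3, g2, g4, g4, g4, g3, g3, g6]),
   (179, [g3, g2, g2, g6, g3, g2, g6, g3, g5, g3, g6]),
   (209, []),
   (216, [])]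

/-- Part 25 of cert1. -/
noncomputable def cert1_25 : List (ℕ × List ℕ) :=
  [(219, []),
   (221, []),
   (20, [g2, g4, g4, g3, g2, g4, g6, g3, g5, g6]),
   (225, []),
   (156, [g4, g2, g3, g4, g2, g2, g5, g6, g3, g5, g6]),
   (226, []),
   (230, []),
   (118, [g2, g2, g2, g4, g3, g2, g6, g3, g6]),
   (234, []),
   (84, [g3, g2, g4, g2, g2, g3, g6, g5, g3, g5, g6]),
   (236, [g6, g2, g6, g3, g2, g5, g3, g6]),
   (73, [g5, g2, g4, g2, g2, g4, g3, g3, g6, g5]),
   (241, []),
   (77, [g4, g3, g2, g6, g2, g2, g3, g5, g4, g4, g3, g6]),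
   (237, [g6, g5, g2, g4, g2, g2, g4, g4, g3, g3, g6]),
   (247, []),
   (24, [g6, g4, g3, g5]),
   (169, [g3, g2, g3, g6, g2, g3, g5, g6, g5]),
   (253, []),
   (165, [g2, g4, g2, g4, g4, g2, g2, g3, g3, g5, g6, g5]),
   (208, [g3, g2, g2, g4, g2, g4, g3, g3, g5, g6, g5]),
   (239, [g3, g4, g2, g6, g2, g2, g2, g3, g4, g4, g6, g5]),
   (86, [g6, g2, g4, g4, g2, g2, g3, g5, g4, g4, g3]),
   (262, []),
   (267, []),
   (271, []),
   (16, [g2, g6, g2, g2, g6, g2, g3, g4, g4, g5, g6]),
   (78, [g6, g2, g4, g4, g2, g2, g4, g3, g3, g6, g5]),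
   (174, [g6, g2, g2, g4, g3, g2, g6, g3, g6]),
   (277, []),
   (260, [g3, g4, g2, g3, g6, g2, g3, g4, g4, g6]),
   (283, []),
   (284, []),
   (288, []),
   (44, [g2, g2, g6, g2, g2, g4, g4, g6, g5]),
   (293, []),
   (296, []),
   (103, [g6, g4, g2, g4, g2, g2, g6, g5, g3, g5, g6]),
   (299, [g2, g3, g4, g3, g2, g6, g4, g3, g6]),
   (175, [g3, g2, g2, g4, g2, g4, g6, g3, g5]),
   (72, [g3, g5, g2, g4, g2, g2, g5, g6, g4, g3, g5]),
   (141, [g4, g4, g2, g2, g4, g2, g6, g5, g3, g5]),
   (135, [g4, g4, g2, g2, g4, g2, g4, g6, g3, g3, g3, g5, g6]),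
   (311, []),
   (316, []),
   (142, [g6, g2, g3, g4, g2, g3, g6, g5]),
   (320, []),
   (324, []),
   (206, [g2, g4, g2, g2, g4, g2, g3, g5, g4, g4, g3, g6]),
   (81, [g2, g2, g6, g3, g2, g5, g3, g5, g6, g5]),
   (229, [g2, g6, g3, g2, g3, g4, g4, g4, g6, g5]),
   (29, [g3, g4, g2, g3, g6, g2, g3, g5]),
   (334, []),
   (337, []),
   (258, [g2, g3, g4, g2, g2, g2, g4, g3, g4, g4, g6, g5]),
   (340, []),
   (341, []),
   (314, [g4, g2, g4, g4, g3, g2, g5, g6, g4, g3]),
   (189, [g4, g2, g6, g2, g2, g2, g3, g3, g5, g6]),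
   (343, []),
   (203, [g5, g4, g6, g2, g4, g2, g2, g6, g3, g5, g3]),
   (220, [g2, g2, g2, g6, g2, g4, g4, g3, g3, g5, g6]),
   (353, []),
   (355, [])]

/-- Part 26 of cert1. -/
noncomputable def cert1_26 : List (ℕ × List ℕ) :=
  [(356, [g3, g2, g3, g4, g3, g2, g4, g4, g4, g5, g6]),
   (358, []),
   (129, [g6, g2, g3, g4, g2, g3, g4, g4, g4, g6, g5]),
   (306, [g2, g4, g2, g2, g5]),
   (8, [g2, g2, g3, g6, g2, g4, g3, g5, g6]),
   (366, []),
   (368, []),
   (312, [g2, g4, g4, g2, g2, g2, g4, g3, g3, g6]),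
   (317, [g3, g2, g3, g4, g2, g2, g3, g6, g5, g3, g6, g5]),
   (68, [g2, g4, g3, g2, g4, g3, g3, g6]),
   (35, [g6, g2, g2, g4, g4, g2, g2, g4, g4, g4, g3, g3, g5, g6, g5]),
   (53, [g2, g4, g2, g2, g4, g5]),
   (378, []),
   (379, []),
   (294, [g6, g2, g2, g3, g4, g2, g5, g6, g4, g3, g5, g6]),
   (383, []),
   (170, [g4, g2, g6, g2, g4, g2, g2, g3, g3, g3, g5, g6, g5]),
   (108, [g2, g6, g2, g2, g4, g6, g3, g3, g3, g5, g6, g5]),
   (327, [g6, g2, g4, g4, g3, g2, g4, g3, g6, g5]),
   (146, [g5, g6, g5]),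
   (46, []),
   (71, [g2, g6, g2, g6, g3, g3, g3, g6]),
   (250, [g4, g2, g6, g2, g4, g2, g2, g5, g6, g3, g5, g6, g5]),
   (387, []),
   (349, [g2, g3, g6, g2, g4, g4, g4, g5]),
   (292, [g4, g2, g3, g4, g2, g2, g4, g3, g3, g6, g5]),
   (218, [g6, g2, g2, g3, g4, g2, g3, g5, g4, g4, g3]),
   (307, [g4, g4, g2, g4, g2, g5]),
   (374, [g2, g4, g2, g2, g4, g3, g3, g5, g6]),
   (134, [g6, g2, g3, g4, g2, g3, g5, g3]),
   (369, [g6, g3, g2, g2, g6, g3, g2, g6, g5]),
   (397, []),
   (399, []),
   (348, [g3, g4, g2, g4, g2, g2, g6]),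
   (42, [g4, g4, g2, g4, g2, g3, g5, g4, g4, g3, g5, g6]),
   (198, [g3, g4, g2, g5, g3, g4, g4]),
   (186, [g2, g2, g4, g4, g2, g2, g3, g6, g5]),
   (66, [g2, g2, g6, g2, g4, g4, g3, g3, g6]),
   (300, [g2, g2, g3, g4, g2, g5, g6]),
   (117, [g4, g2, g4, g4, g3, g2, g5, g3, g3, g3, g5, g6, g5]),
   (291, [g2, g6, g2, g3, g5, g6]),
   (180, [g3, g4, g2, g4, g2, g2, g4, g4, g4, g6]),
   (144, [g2, g2, g3, g6, g2]),
   (408, []),
   (281, [g4, g2, g2, g4, g2, g5, g3, g6]),
   (410, []),
   (215, [g4, g3, g2, g3, g4, g4, g5, g6]),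
   (303, [g2, g4, g2, g2, g4, g2, g4, g3, g5, g6]),
   (413, []),
   (414, []),
   (264, [g3, g4, g2, g6, g2, g2, g2, g3, g3, g3]),
   (212, [g2, g6, g2, g2, g2, g4, g4, g4, g5, g6]),
   (113, [g4, g2, g5, g6, g4, g3, g5, g6, g5]),
   (121, [g4, g2, g2, g2, g6, g2, g5, g3, g4, g4, g5, g6, g5]),
   (123, [g3, g5, g2, g4, g2, g5, g4, g4, g3, g5]),
   (124, [g3, g5, g2, g4, g2, g5, g4, g4, g3, g5]),
   (402, [g2, g2, g3, g4, g2, g2, g6, g3, g3, g3, g5, g6, g5]),
   (110, [g3, g2, g4, g2, g2, g3, g4, g4, g5, g6, g5]),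
   (164, [g6, g2, g3, g6, g2, g2, g4, g4, g4, g5, g6, g5]),
   (187, [g4, g2, g4, g4, g2, g2, g5, g6, g4, g3, g6]),
   (150, [g3, g5, g2, g4, g2, g2, g5, g3, g4, g4, g5, g6]),
   (280, [g6, g2, g3, g4, g4, g6]),
   (197, [g6, g5, g2, g4, g2, g2, g5, g6, g5, g3, g6]),
   (420, [g6, g5, g2, g4, g2, g2, g3, g4, g4, g5, g6])]

/-- Part 27 of cert1. -/
noncomputable def cert1_27 : List (ℕ × List ℕ) :=
  [(205, [g3, g4, g2, g4, g2, g5, g6, g5, g3, g6, g5]),
   (192, [g4, g2, g3, g4, g2, g3, g5, g6, g5]),
   (252, [g3, g6, g2, g2, g6, g4, g3, g5, g6, g5]),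
   (211, [g4, g6, g2, g6, g3, g2, g5, g3, g4, g4, g5, g6]),
   (363, [g4, g3, g2, g6, g2, g2, g5, g3, g3, g3, g5]),
   (131, [g4, g2, g2, g6, g3, g2, g4, g3, g6]),
   (396, [g2, g6, g2, g2, g6, g2, g4, g5]),
   (370, [g6, g3, g2, g3, g4, g4, g5]),
   (87, [g4, g3, g2, g6, g2, g2, g4, g3, g3, g6, g5]),
   (193, [g4, g4, g2, g2, g2, g5, g4, g4, g3, g6]),
   (434, []),
   (345, [g2, g6, g2, g4, g4, g4, g5, g6, g5]),
   (59, [g4, g2, g3, g6, g2, g6, g3, g5, g3, g5, g6, g5]),
   (201, []),
   (323, [g4, g2, g2, g4, g2, g4, g4, g4, g5]),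
   (329, [g2, g6, g2, g2, g5, g4, g4, g3, g5]),
   (75, [g2, g2, g3, g6, g2, g3, g3, g3, g6, g5]),
   (207, [g2, g6, g3, g2, g4, g6, g3, g6]),
   (438, []),
   (63, [g2, g4, g3, g2, g3, g5]),
   (14, [g4, g6, g2, g6, g3, g2, g5, g3, g4, g4, g5, g6]),
   (126, [g2, g2, g2, g6, g3, g2, g4, g6, g3, g3, g3, g5]),
   (429, [g2, g3, g4, g2, g2, g2, g5, g3, g3, g3]),
   (60, [g2, g2, g4, g3, g2, g4, g4, g4, g3, g3, g6, g5]),
   (195, [g4, g3, g2, g6, g2, g2, g4, g3, g3, g6, g5]),
   (446, []),
   (350, [g6, g3, g2, g2, g6, g3, g2, g3, g5, g3, g5, g6]),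
   (259, [g3, g4, g2]),
   (151, [g2, g4, g3, g2, g4, g4, g4, g5]),
   (265, [g6, g2, g2, g4, g3, g2, g5, g3, g3, g3, g6, g5]),
   (65, [g2, g2, g3, g6, g2, g3, g3, g3, g5, g6, g5]),
   (318, [g4, g2, g6, g2, g4, g3, g3, g5, g6]),
   (17, [g3, g2, g4, g2, g2, g2, g3, g3, g3, g5, g6, g5]),
   (3, []),
   (432, [g4, g3, g2, g6, g2, g2, g3, g6, g5, g3]),
   (451, []),
   (453, []),
   (405, [g5, g2, g4, g2, g5]),
   (90, [g4, g2, g4, g4, g2, g2, g4, g4, g4, g3, g3, g6, g5]),
   (112, [g3, g2, g4, g4, g3, g2, g3, g3, g3, g5, g6, g5]),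
   (287, [g6, g2, g6, g3, g2, g6, g3, g5, g3, g5]),
   (56, [g3, g6, g2, g2, g4, g3, g3, g5, g6, g5]),
   (269, [g4, g3, g2, g6, g2, g2, g3, g5, g4, g4, g3]),
   (435, [g3, g4, g2, g4, g3, g6, g5]),
   (224, [g2, g4, g4, g2, g2, g3, g6, g5, g3, g6]),
   (22, [g3, g2, g3, g4, g2, g4, g3, g3, g5, g6, g5]),
   (223, [g2, g6, g2, g4, g2, g2, g4]),
   (437, [g2, g4, g4, g2, g2, g2]),
   (462, []),
   (93, [g4, g2, g4, g2, g2, g6, g3, g3, g3, g5, g6, g5]),
   (463, []),
   (407, [g4, g2, g5, g2, g4, g2, g4, g4, g5, g6, g5]),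
   (465, []),
   (423, [g4, g2, g4, g2, g6, g5, g3, g5]),
   (325, [g2, g2, g4, g2, g5, g3, g3, g3, g6]),
   (246, [g4, g3, g2, g4, g6, g3, g3, g3, g6]),
   (305, [g3, g4, g2, g2, g2, g4, g5, g6, g5]),
   (421, [g6, g3, g2, g6, g2, g2, g4, g6, g3, g5, g6]),
   (403, [g3, g2, g4, g2, g2, g2, g4, g4, g3, g3, g5, g6]),
   (347, [g3, g2, g3, g6, g2, g3]),
   (419, [g2, g5, g2, g4, g2, g2, g5, g3, g3, g3, g5, g6, g5]),
   (458, [g3, g5, g2, g4, g2, g2, g4, g3, g3, g5, g6]),
   (394, [g4, g2, g2, g6, g3, g5, g3, g5, g6]),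
   (254, [g3, g2, g4, g4, g3, g2, g3])]

/-- Part 28 of cert1. -/
noncomputable def cert1_28 : List (ℕ × List ℕ) :=
  [(418, [g4, g2, g2, g4, g2, g6, g3, g6]),
   (401, [g2, g5, g3, g4, g4, g5, g6, g5]),
   (149, [g6, g2, g2, g4, g3, g2, g3, g3, g3, g6]),
   (476, []),
   (232, [g4, g2, g2, g2, g3, g6, g5, g3, g6, g5]),
   (172, [g6, g2, g6, g3, g2, g3, g4, g4]),
   (380, [g3, g5, g2, g4, g2, g4, g4, g3, g3, g5, g6]),
   (270, [g6, g4, g3, g5]),
   (395, [g2, g3, g4, g3, g2, g4, g4, g3, g3]),
   (222, [g3, g6, g2, g2, g3, g5, g4, g4, g3, g6]),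
   (21, [g4, g2, g6, g2, g3, g3, g5]),
   (266, [g4, g2, g6, g2, g3, g3, g5]),
   (322, [g4, g2, g2, g4, g2, g4, g4, g4, g5]),
   (104, [g2, g6, g2, g2]),
   (263, [g3, g4, g2, g4, g2, g4, g4, g3, g5, g6, g5]),
   (89, [g6, g2, g6, g3, g5, g3, g6, g5]),
   (155, [g3, g6, g2, g2, g4, g6, g3, g3, g3]),
   (480, []),
   (382, [g3, g2, g2, g6, g2, g5, g3, g3, g3, g5, g6, g5]),
   (23, [g3, g2, g6, g2, g2, g5, g6, g3, g6, g5]),
   (321, [g4, g6, g2, g5, g3, g4, g4, g6, g5]),
   (76, [g4, g3, g2, g2, g6, g2, g3, g5, g3, g6]),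
   (450, [g4, g2, g4, g4, g2, g2, g3, g4, g4, g5, g6]),
   (464, [g4, g3, g2, g2, g6, g2, g3, g5, g3, g6]),
   (30, [g3, g2, g3, g4, g2, g2, g3, g3]),
   (381, [g2, g5, g2, g4, g2, g4, g6, g3, g3, g3]),
   (96, [g2, g4, g2, g2, g4, g2, g3, g4, g4, g4]),
   (275, [g6, g2, g2, g3, g4, g2, g5, g6, g5, g3, g5]),
   (289, [g2, g6, g3, g2, g5, g3]),
   (483, []),
   (97, [g3, g4, g2, g3, g6, g2, g6, g3, g5]),
   (94, [g2, g6, g3, g2, g5, g3, g4, g4, g5, g6, g5]),
   (295, [g3, g2, g2, g4, g2, g3, g5, g3, g5]),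
   (282, [g2, g5, g2, g4, g2, g5, g4, g4, g3, g5]),
   (415, [g4, g3, g2, g3, g4, g4, g4, g6]),
   (98, [g2, g2, g3, g4, g2, g2, g3, g5, g3, g6, g5]),
   (388, [g4, g2, g4, g4, g3, g2, g6, g5]),
   (454, [g4, g2, g2, g2, g6, g2, g5, g3]),
   (372, [g4, g6, g2, g2, g6, g5, g3, g6]),
   (286, [g6, g2, g2, g3, g4, g2, g5, g3, g3, g3, g5, g6]),
   (248, [g2, g6, g2, g2, g2, g3, g5, g4, g4, g3, g5]),
   (472, [g4, g6, g2, g6, g3, g2, g4, g4, g5, g6, g5]),
   (25, [g6, g4, g2, g4, g2, g2, g6, g5, g3, g5, g6]),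
   (298, [g6, g2, g3, g4, g2, g3, g4, g4, g4, g6, g5]),
   (479, [g3, g4, g2, g4, g2, g6, g4, g3, g5, g6]),
   (243, [g2, g2, g2, g6, g3, g2, g4, g4, g4, g3, g3, g5]),
   (119, [g3, g2, g4, g2, g3, g3, g3, g6, g5]),
   (101, [g2, g3, g4, g3, g2, g6, g4, g3, g6]),
   (153, [g2, g3, g4, g2, g2, g2, g5, g6, g4, g3, g6, g5]),
   (100, [g3, g2, g4, g4, g3, g2, g4, g5]),
   (190, [g2, g2, g4, g2, g6, g4, g3, g6, g5]),
   (452, [g2, g3, g6, g2, g3, g5, g4, g4, g3, g6]),
   (361, [g2, g6, g2, g4, g2, g2, g3, g4, g4, g4, g5, g6]),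
   (319, [g2, g6, g3, g2, g5, g3]),
   (114, [g4, g2, g4, g2, g2, g5, g6, g4, g3, g6]),
   (309, [g3, g2, g3, g4, g3, g2, g4, g5]),
   (26, [g3, g2, g3, g4, g3, g2, g4, g5]),
   (181, [g4, g6, g2, g4, g2, g2, g4, g3, g3, g6, g5]),
   (313, [g4, g2, g2, g4, g4, g2, g2, g4, g3, g6]),
   (385, [g3, g2, g2, g6, g2, g6, g3, g5]),
   (364, [g3, g2, g2, g6, g2, g3, g5, g6]),
   (412, [g3, g4, g2, g4, g2, g6, g5]),
   (493, []),
   (107, [g3, g2, g3, g4, g3, g2, g4, g4, g4, g5, g6])]

/-- Part 29 of cert1. -/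
noncomputable def cert1_29 : List (ℕ × List ℕ) :=
  [(371, [g3, g2, g6, g2, g2, g2, g4, g6, g3, g3, g3, g5, g6, g5]),
   (210, [g2, g2, g4, g2, g2, g2, g3, g3, g5, g6]),
   (308, [g2, g4, g2, g4, g2, g2, g4, g4, g3, g3]),
   (231, [g3, g2, g4, g4, g3, g2, g5, g6, g5, g3]),
   (326, [g2, g6, g3, g2, g5, g3, g4, g4, g5, g6, g5]),
   (79, [g4, g4, g2, g2, g4, g2, g4, g6, g3, g5, g6, g5]),
   (27, [g3, g4, g2, g3, g6, g2, g3, g5]),
   (436, [g6, g3, g2, g2, g6, g3, g2, g4, g6, g3, g6, g5]),
   (251, [g2, g2, g6, g3, g2, g5, g3, g5, g6, g5]),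
   (62, [g4, g2, g6, g2, g4, g2, g2, g4, g3, g3, g6, g5]),
   (390, [g6, g2, g2, g4, g4, g2, g2, g4, g6, g3, g3, g3]),
   (425, [g3, g2, g4, g3]),
   (497, []),
   (346, [g3, g2, g4, g2, g3, g5, g4, g4, g3, g5, g6]),
   (240, [g4, g2, g4, g2, g2, g4, g3, g5]),
   (485, [g2, g5, g2, g4, g2, g2, g4, g3, g6, g5]),
   (166, [g3, g2, g3, g4, g3, g2, g4, g4, g6]),
   (422, [g3, g2, g2, g6, g3, g2, g3, g4, g4, g6, g5]),
   (428, [g4, g2, g2, g2, g6, g2, g6, g4, g3]),
   (474, [g3, g2, g3, g4, g3, g2, g3, g3]),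
   (440, [g6, g4, g2, g4, g2, g2, g4, g4, g3, g5, g6]),
   (494, [g2, g2, g6, g3, g2, g5, g3, g4, g4]),
   (392, [g3, g6, g2, g2, g5, g3, g3, g3, g5, g6]),
   (50, [g4, g2, g4, g2, g4, g4, g3, g3, g5, g6]),
   (69, [g4, g2, g3, g6, g2, g5, g3, g3, g3]),
   (183, [g4, g2, g3, g6, g2, g5, g6, g5, g3, g6, g5]),
   (257, [g4, g3, g2, g2, g6, g2, g3, g5, g4, g4, g3, g5, g6]),
   (491, [g4, g2, g4, g4, g3, g2, g5, g6, g4, g3]),
   (162, [g6, g2, g2, g4, g4, g5, g6]),
   (501, [g3, g4, g2, g4, g2, g2, g4, g3, g6, g5]),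
   (475, [g3, g2, g3, g4, g3, g2, g3, g5, g3, g5]),
   (409, [g6, g2, g2, g2, g4, g4, g4, g3, g3, g5, g6]),
   (213, [g3, g2, g2, g6, g2, g4, g4, g3, g5, g6, g5]),
   (352, [g4, g2, g5, g6, g4, g3, g5]),
   (393, [g2, g6, g3, g2, g4, g3, g4, g4, g6]),
   (470, [g3, g4, g2, g4, g2, g2, g5, g6, g4, g3]),
   (492, [g2, g2, g6, g2, g2, g3, g3, g3, g5, g6, g5]),
   (504, [g4, g2, g3, g4, g2, g2, g4, g3, g4, g4, g6]),
   (495, [g6, g2, g2, g2, g4, g4, g3, g3, g5, g6, g5]),
   (500, [g3, g2, g2, g6, g2, g3, g3, g3, g5, g6]),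
   (373, [g2, g2, g4, g2, g2, g2, g3, g3, g3, g6]),
   (268, [g2, g2, g6, g2, g2, g3, g5, g3, g6]),
   (331, [g4, g2, g4, g4, g2, g2, g6, g5, g3, g5]),
   (233, [g2, g6, g2, g2, g3, g5, g4, g4, g3, g6]),
   (145, [g5, g6, g5]),
   (339, [g4, g4, g2, g4, g6, g3, g5, g6]),
   (278, [g4, g6, g2, g6, g3, g2, g4, g4, g3, g5, g6, g5]),
   (279, [g4, g6, g2, g6, g3, g2, g4, g4, g3, g5, g6, g5]),
   (41, [g6, g2, g6, g2, g4, g6, g3]),
   (158, [g6, g2, g3, g4, g2, g3, g5, g3, g5, g6, g5]),
   (13, [g4, g4, g2, g3, g3, g5, g6]),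
   (185, [g6, g2, g6, g2, g3, g4, g4]),
   (109, [g2, g2, g2, g3, g6, g5, g3]),
   (360, [g6, g2, g2, g6, g2, g2, g3, g5, g3]),
   (137, [g4, g2, g6, g3, g2, g3, g4, g4, g4]),
   (375, [g3, g6, g2, g4, g4, g3, g3]),
   (359, [g2, g6, g3, g2, g3, g6]),
   (389, [g3, g2, g3, g4, g2, g2, g5, g6]),
   (140, [g4, g4, g2, g3, g6, g5, g3, g5, g6]),
   (391, [g6, g3, g2, g4, g4, g4, g3, g3, g5]),
   (200, [g2, g6, g2, g2, g5, g3, g6, g5]),
   (261, [g4, g2, g4, g2, g2, g3, g6, g5, g3, g5, g6]),
   (235, [g6, g2, g2, g3, g4, g2, g3, g5, g4, g4, g3, g6]),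
   (508, [g3, g2, g4, g2, g4, g4, g6])]

/-- Part 30 of cert1. -/
noncomputable def cert1_30 : List (ℕ × List ℕ) :=
  [(441, [g6, g2, g2, g2, g4, g4, g4, g5, g6]),
   (171, [g4, g4, g2, g4, g2, g3, g4, g4, g6, g5]),
   (457, [g2, g6, g2, g3, g6, g2, g2, g6, g4, g3, g5, g6]),
   (125, [g2, g3, g6, g2, g4, g4, g4, g5]),
   (304, [g3, g2, g3, g4, g2, g6, g3, g3, g3, g5, g6]),
   (377, [g4, g2, g6, g3, g2, g5, g3, g5]),
   (227, [g4, g3, g2, g6, g2, g2, g5, g3, g4, g4, g5, g6]),
   (105, [g4, g3, g2, g6, g2, g2, g3, g3, g3, g5, g6]),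
   (173, [g4, g2, g2, g2, g4, g2, g4, g3, g3, g6]),
   (184, [g3, g4, g2, g4, g2, g5, g6, g3]),
   (443, [g4, g2, g6, g2, g2, g2, g4, g4, g4, g6, g5]),
   (477, [g3, g2, g3, g6, g2, g6, g3, g6, g5]),
   (398, [g2, g5, g2, g4, g2, g2, g5, g6, g4, g3]),
   (400, [g2, g4, g6, g3, g3, g3, g6, g5]),
   (163, [g3, g4, g2, g3, g6, g2, g5, g4, g4, g3, g5, g6, g5]),
   (204, [g3, g4, g3, g2, g5, g3, g4, g4, g5, g6]),
   (498, [g3, g2, g3, g4, g3, g2, g5, g4, g4, g3, g6, g5]),
   (333, [g6, g3, g2, g6, g3, g5, g3, g5]),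
   (354, [g4, g4, g2, g4, g2, g3, g3, g6, g5]),
   (188, [g6, g4, g2, g4, g2, g2, g3, g4, g4, g5, g6]),
   (202, [g6, g2, g2, g6, g2, g2, g6, g3, g5, g3, g6, g5]),
   (310, [g2, g2, g6, g2, g3, g3, g3, g5, g6]),
   (404, [g3, g2, g4, g2, g2, g5, g3, g6, g5]),
   (426, [g4, g2, g4, g4, g3, g2, g6, g4, g3, g6]),
   (315, [g3, g4, g2, g2, g2, g3, g4, g4, g4, g5]),
   (176, [g4, g4, g2, g2, g2, g6, g5, g3, g5, g6]),
   (342, [g2, g6, g2, g4, g2, g2, g3, g5, g3, g5]),
   (217, [g2, g2, g4, g2, g2, g2, g3, g3, g3, g6, g5]),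
   (37, [g2, g5, g2, g4, g2, g6, g4, g3, g6]),
   (351, [g2, g2, g6, g2, g2, g4, g4, g3, g3, g5]),
   (417, [g6, g2, g2, g6, g2, g2, g3, g4, g4, g5, g6, g5]),
   (442, [g3, g2, g3, g4, g4, g4, g6, g5]),
   (338, [g2, g3, g4, g2, g5, g3, g3, g3, g6, g5]),
   (49, [g4, g2, g3, g4, g2, g6, g3, g5, g6, g5]),
   (506, [g3, g2, g2, g4, g2, g6, g3]),
   (499, [g4, g2, g2, g4, g2, g3, g6, g5, g3, g6]),
   (58, [g2, g2, g3, g4, g3, g2, g3, g3, g5, g6]),
   (249, [g6, g2, g2, g4, g3, g4, g4, g6, g5]),
   (167, [g2, g2, g3, g4, g3, g2, g3, g5, g3, g5, g6, g5]),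
   (433, [g2, g2, g6, g3, g2, g4, g6, g3, g5]),
   (297, [g2, g4, g2, g4, g2, g2, g3, g4, g4, g5, g6, g5]),
   (510, [g2, g4, g3, g2, g5, g3, g3, g3, g5, g6]),
   (301, [g3, g2, g2, g4, g2, g5, g6, g3]),
   (478, [g4, g4, g2, g2, g2, g5, g4, g4, g3]),
   (489, [g6, g4, g2, g4, g2, g2, g4, g6, g3, g3, g3, g6]),
   (447, [g4, g3, g2, g2, g6, g2, g4, g5, g6, g5]),
   (82, [g5, g2, g4, g2]),
   (482, [g4, g2, g2, g4, g4, g2, g2, g3, g3, g6]),
   (344, [g2, g2, g4, g4, g3, g2, g3, g3, g3, g5, g6, g5]),
   (455, [g6, g2, g2, g6, g2, g4, g4, g4, g6, g5]),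
   (406, [g4, g2, g3, g4, g2, g3, g6, g5]),
   (274, [g4, g4, g2, g2, g4, g2, g3, g5, g4, g4, g3, g5]),
   (147, [g3, g4, g2, g6, g5, g3, g5]),
   (448, [g4, g3, g2, g6, g2, g2, g4, g3, g3, g6, g5]),
   (276, [g2, g6, g3, g3, g3, g6]),
   (367, [g2, g2, g6, g3, g2, g4, g4, g6, g5]),
   (302, [g2, g4, g2, g2, g3]),
   (357, [g4, g2, g3, g4, g2, g4, g4, g3, g3, g6, g5]),
   (473, [g2, g4, g2, g2, g4, g2, g5, g6, g4, g3, g6, g5]),
   (255, [g3, g4, g2, g2, g6, g3, g5, g3, g5, g6, g5]),
   (411, [g4, g2, g3, g4, g2, g3, g5, g4, g4, g3, g5, g6, g5]),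
   (244, [g2, g6, g2, g3, g5, g3, g6, g5]),
   (444, [g3, g4, g2, g4, g2, g2, g5, g4, g4, g3, g6]),
   (484, [g2, g2, g2, g6, g2, g6, g4, g3, g5])]

/-- Part 31 of cert1. -/
noncomputable def cert1_31 : List (ℕ × List ℕ) :=
  [(85, [g3, g4, g2]),
   (490, [g4, g2, g3, g6, g2, g5, g4, g4, g3, g5, g6]),
   (133, [g3, g2, g4, g2, g6]),
   (330, [g4, g2, g3, g6, g2, g4, g4, g4, g6]),
   (272, [g4, g6, g2, g3, g3, g5, g6]),
   (427, [g2, g6, g2, g2, g4, g3, g4, g4]),
   (36, [g4, g2, g2, g2, g4, g2, g6, g5, g3, g5]),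
   (245, [g4, g2, g3, g4, g2, g2, g6, g3, g5, g3, g5, g6, g5]),
   (486, [g3, g2, g3, g4, g2, g2, g5, g3, g3, g3, g6]),
   (481, [g3, g2, g4, g2, g6, g3, g5, g3, g5]),
   (430, [g3, g4, g2, g4, g2, g5, g6, g5, g3, g5, g6, g5]),
   (460, [g4, g2, g3, g4, g2, g3, g3, g3, g5, g6, g5]),
   (273, [g5, g2, g4, g2, g2, g4, g4, g4, g3, g3, g6]),
   (424, [g4, g2, g2, g5, g6, g5, g3, g5]),
   (116, [g2, g5, g2, g4, g2, g4, g3, g4, g4, g5, g6]),
   (431, [g4, g3, g2, g2, g6, g2, g3, g4, g4, g4, g5, g6, g5]),
   (439, [g4, g2, g6, g2, g3, g4, g4, g4]),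
   (467, [g2, g2, g4, g3, g4, g4, g5, g6]),
   (376, [g2, g6, g3, g2, g5, g6, g3]),
   (445, [g2, g2, g2, g4, g3, g2, g5, g6, g4, g3, g5, g6]),
   (507, [g2, g2, g4, g2, g2, g2, g4, g3, g4, g4, g6, g5]),
   (468, [g2, g2, g6, g2, g2, g3, g4, g4, g4, g5, g6]),
   (45, [g3, g2, g6, g2, g2, g3, g4, g4, g6]),
   (365, [g2, g4, g2, g4, g2, g2, g4, g4, g3, g3, g5]),
   (461, [g4, g2, g3, g6, g2, g5, g6, g3, g6, g5]),
   (290, [g4, g4, g3, g2, g4, g5, g6]),
   (471, [g4, g4, g2, g2, g4, g2, g6, g5, g3, g5, g6]),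
   (154, [g3, g2, g2, g6, g3, g2, g3, g5, g4, g4, g3, g5, g6]),
   (64, [g3, g2, g6, g3, g5]),
   (178, [g4, g2, g2, g2, g6, g2, g4, g3, g4, g4, g5]),
   (228, [g2, g3, g6, g2, g2, g5, g6, g4, g3, g5]),
   (336, [g6, g2, g4, g4, g3, g2, g4, g4, g3, g3, g5, g6]),
   (459, [g6, g2, g4, g4, g2, g2, g3, g6, g5, g3, g5]),
   (488, [g5, g2, g4, g2, g4, g6, g3, g3, g3]),
   (242, [g4, g3, g2, g2, g6, g2, g3, g5, g3, g6]),
   (335, [g3, g2, g4, g2, g2, g3, g5, g3, g5]),
   (214, [g3, g2, g3, g4, g2, g2, g3, g5, g4, g4, g3]),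
   (285, [g2, g2, g6, g4, g3, g5, g6, g5]),
   (449, [g4, g4, g2, g2, g4, g3]),
   (143, [g3, g2, g4, g2, g2, g2, g4, g6, g3, g6]),
   (386, [g2, g2, g3, g6, g2, g5, g3, g4, g4, g5, g6, g5]),
   (416, [g3, g2, g2, g6, g2, g4, g6, g3, g3, g3, g5]),
   (456, [g2, g2, g4, g2, g3, g3]),
   (328, [g5, g2, g4, g2, g2, g4, g4, g3]),
   (31, [g3, g2, g3, g6, g2, g4, g3, g3, g5]),
   (238, [g3, g2, g4, g4, g3, g3]),
   (496, [g3, g2, g4, g2, g2, g2, g4, g6, g3, g6]),
   (130, [g2, g2, g6, g2, g4, g4, g4, g3, g3, g6]),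
   (120, [g3, g4, g2, g4, g2, g3, g3, g5]),
   (332, [g4, g2, g6, g3, g2, g3, g5, g4, g4, g3]),
   (159, [g3, g2, g3, g4, g3, g2, g6, g3, g5]),
   (194, [g2, g4, g2, g2, g4, g2, g5, g6]),
   (466, [g4, g3, g2, g6, g2, g2, g4, g4, g4, g3, g3, g5]),
   (40, [g3, g2, g3, g4, g2, g4, g4, g4, g3, g3, g5, g6]),
   (469, [g4, g2, g4, g2, g2, g3, g6, g5, g3, g5, g6, g5]),
   (503, [g4, g3, g2, g3, g3, g3, g6]),
   (384, [g2, g3, g4, g2, g2, g3, g3, g3, g6]),
   (256, [g4, g3, g2, g2, g6, g2, g6, g4, g3, g6, g5]),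
   (505, [g3, g2, g3, g6, g2, g3, g5, g3, g5]),
   (502, [g2, g4, g4, g2, g2, g2, g3, g4, g4, g4, g5, g6]),
   (487, [g4, g4, g2, g4]),
   (509, [g2, g4, g6, g3, g3, g3, g6, g5]),
   (362, [g6, g3, g2, g6, g2, g6, g3, g3, g3, g5, g6]),
   (511, [g6, g5, g2, g4, g2, g2, g5, g3, g4, g4])]

/-- Part 32 of cert1. -/
noncomputable def cert1_32 : List (ℕ × List ℕ) :=
  [(0, [g5]),
   (6, []),
   (2, [g5, g6, g4, g3]),
   (15, [g4, g3, g2, g6, g2, g2, g4, g3, g3, g6, g5]),
   (19, []),
   (5, [g6, g4, g3, g5]),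
   (1, []),
   (7, [g2, g6, g3, g2, g5, g3]),
   (34, []),
   (38, []),
   (43, []),
   (48, []),
   (53, []),
   (13, [g4, g2, g6, g2, g3, g4, g4, g4, g6]),
   (62, []),
   (3, [g2, g2, g4, g3, g2, g4, g4, g4, g3, g3, g6, g5]),
   (70, [g2, g2, g3, g4, g2, g2, g4, g6, g5]),
   (20, [g6, g2, g3, g6, g2, g2, g4, g4, g3, g6]),
   (18, [g2, g2, g4, g2, g2, g2, g4, g4, g4, g3, g3, g5, g6, g5]),
   (4, []),
   (17, [g4, g2, g2, g4, g2, g4, g4, g5]),
   (21, [g2, g2, g4, g2, g2, g2, g4, g4, g4, g3, g3, g5, g6, g5]),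
   (22, [g3, g4, g2, g4, g2, g4, g4, g3, g5, g6, g5]),
   (96, []),
   (91, [g3, g6, g2, g2, g4, g3, g3, g6, g5]),
   (25, [g4, g4, g2, g4, g2, g3, g6, g5, g3, g5, g6]),
   (107, []),
   (112, []),
   (28, [g3, g4, g2, g3, g6, g2, g6, g3, g5]),
   (115, [g3, g4, g2, g3, g6, g2, g3, g5]),
   (123, []),
   (129, []),
   (32, [g5, g6, g4, g3]),
   (52, [g2, g3, g6, g2, g2, g4, g4, g6]),
   (8, []),
   (35, [g4, g2, g6, g3, g2, g6, g3, g5, g3]),
   (142, []),
   (146, []),
   (9, []),
   (54, [g3, g4, g2, g3, g6, g2, g4, g4, g5, g6]),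
   (153, []),
   (158, []),
   (162, []),
   (10, []),
   (44, [g2, g6, g3, g2, g5, g3]),
   (128, [g2, g3, g4, g3, g2, g5, g6, g4, g3, g6]),
   (46, [g3, g4, g2, g3, g6, g2, g6, g3, g5]),
   (148, [g4, g4, g2, g4, g2, g3, g6, g5, g3, g5, g6]),
   (11, []),
   (178, []),
   (50, [g3, g3]),
   (139, [g6, g2, g2, g3, g4, g2, g3, g3, g5, g6, g5]),
   (33, [g3, g2, g2, g4, g2, g4, g4, g4]),
   (12, []),
   (39, [g3, g4, g2, g3, g6, g2, g6, g5, g3, g5, g6]),
   (192, []),
   (197, []),
   (191, [g3, g4, g2, g4, g2, g4, g5, g6]),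
   (201, []),
   (59, [g4, g2, g3, g6, g2, g6, g3, g5, g3]),
   (92, [g3, g4, g2, g2, g2, g4, g4, g3, g6]),
   (61, [g4, g6, g2, g6, g3, g2, g5, g3, g4, g4, g5, g6]),
   (14, []),
   (207, [g3, g6, g2, g2, g3, g5, g4, g4, g3])]

/-- Part 33 of cert1. -/
noncomputable def cert1_33 : List (ℕ × List ℕ) :=
  [(220, []),
   (65, [g4, g6, g2, g6, g3, g2, g5, g3, g4, g4, g5, g6]),
   (73, [g2, g3, g5, g3, g6, g5]),
   (67, [g4, g2, g6, g2, g3, g4, g4, g4, g6]),
   (68, [g3, g4, g2, g4, g2, g4, g4, g3, g5, g6, g5]),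
   (155, [g2, g6, g2, g4, g2, g2, g3, g3, g3, g5, g6]),
   (16, [g3, g2, g3, g6, g2, g5, g3, g4, g4, g6]),
   (71, [g2, g5, g2, g4, g2, g2, g5, g6, g4, g3, g6]),
   (72, [g4, g2, g6, g2, g3, g4, g4, g4, g6]),
   (66, [g4, g3, g2, g3, g3, g3]),
   (75, [g4, g2, g6, g2, g3, g4, g4, g4, g6]),
   (74, [g4, g2, g6, g2, g3, g4, g4, g4, g6]),
   (242, []),
   (77, [g6, g4, g3, g5]),
   (78, [g2, g6, g3, g2, g5, g3]),
   (140, [g3, g4, g2, g4, g4, g2, g2, g3, g5, g4, g4, g3, g6]),
   (237, [g2, g6, g3, g2, g3, g4, g4, g4, g6, g5]),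
   (121, [g3, g2, g3, g6, g2, g3]),
   (82, [g2, g6, g2, g3, g5]),
   (84, [g2, g6, g2, g3, g5]),
   (83, [g2, g6, g2, g3, g5]),
   (125, [g3, g4, g2, g4, g2, g5, g6, g5, g3, g5]),
   (86, [g4, g2, g6, g2, g3, g4, g4, g4, g6]),
   (87, [g6, g4, g3, g5]),
   (89, [g4, g2, g6, g2, g3, g4, g4, g4, g6]),
   (88, [g4, g2, g6, g2, g3, g4, g4, g4, g6]),
   (90, [g6, g2, g2, g6, g2, g2, g3, g4, g4, g4, g5]),
   (24, [g3, g6, g2, g2, g4, g3, g3, g6, g5]),
   (60, [g3, g6, g2, g2, g3, g5, g4, g4, g3, g6, g5]),
   (278, []),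
   (260, [g2, g3, g4, g2, g2, g5, g6, g4, g3, g6, g5]),
   (95, [g2, g6, g3, g2, g5, g3]),
   (23, []),
   (289, []),
   (98, [g6, g2, g2, g6, g2, g2, g3, g4, g4, g4, g5]),
   (105, [g4, g2, g6, g2, g4, g2, g2, g4, g4, g4, g3, g3, g5, g6]),
   (103, [g3, g2, g4, g2, g2, g4, g4, g3, g3, g5]),
   (298, []),
   (303, []),
   (100, [g2, g6, g2, g4, g2, g2, g4, g4, g3, g6, g5]),
   (233, [g4, g2, g2, g4, g2, g3, g3, g3, g6, g5]),
   (99, [g2, g3, g4, g2, g2, g5, g6]),
   (310, []),
   (26, []),
   (317, []),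
   (141, [g3, g2, g6, g2, g2, g2, g6, g5, g3, g5]),
   (110, [g2, g6, g3, g2, g5, g3]),
   (258, [g2, g3, g4, g2, g2, g2, g4, g3, g4, g4, g6, g5]),
   (27, []),
   (328, []),
   (319, [g4, g2, g4, g2, g2, g6, g3, g3, g3, g5, g6, g5]),
   (29, [g2, g6, g3, g2, g5, g3, g4, g4, g5, g6, g5]),
   (116, [g4, g4, g2, g4, g2, g3, g6, g5, g3, g5, g6]),
   (117, [g4, g4, g5, g6, g5]),
   (323, [g2, g6, g3, g2, g5, g3]),
   (119, [g2, g3, g6, g2, g5, g3]),
   (120, [g4, g2, g6, g2, g3, g4, g4, g4, g6]),
   (81, [g2, g3, g4, g3, g2, g4, g4, g4, g5, g6, g5]),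
   (124, [g4, g2, g6, g2, g3, g4, g4, g4, g6]),
   (30, []),
   (122, [g4, g2, g6, g2, g3, g4, g4, g4, g6]),
   (85, [g2, g2, g6, g2, g2, g3, g5, g3, g5]),
   (170, [g3, g2, g6, g2, g2, g2, g3, g3, g3, g6]),
   (130, [g3, g2, g3, g4, g3, g2, g5, g3, g6])]

/-- Part 34 of cert1. -/
noncomputable def cert1_34 : List (ℕ × List ℕ) :=
  [(45, [g2, g3, g6, g2, g3]),
   (31, []),
   (127, [g6, g2, g3, g4, g2, g3, g3]),
   (269, [g4, g2, g6, g3, g2, g4, g4, g6, g5]),
   (138, [g2, g3, g6, g2, g4, g4, g4, g5]),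
   (276, [g4, g2, g2, g3, g5, g6, g5]),
   (369, []),
   (311, [g2, g4, g4, g2, g2, g2, g3, g3, g5]),
   (364, [g3, g4, g2, g2, g2, g4, g4, g3, g6, g5]),
   (137, [g5, g6, g4, g3]),
   (132, [g4, g2, g6, g3, g2, g3, g4, g4, g4]),
   (51, [g2, g4, g2, g2, g5, g6, g3, g6]),
   (79, [g6, g2, g4, g4, g2, g2, g3, g3, g6, g5]),
   (109, [g2, g2, g2, g4, g3, g2, g4, g6, g3, g5]),
   (36, []),
   (143, [g6]),
   (352, []),
   (147, [g5, g6, g4, g3, g5, g6, g5]),
   (37, []),
   (145, [g4, g3, g6]),
   (47, [g4, g4, g2, g4, g2, g3, g6, g5, g3, g5, g6]),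
   (231, [g2, g5, g2, g4, g2, g2, g6, g3, g6, g5]),
   (150, [g3, g4, g2, g3, g6, g2, g6, g3, g5]),
   (388, []),
   (259, [g4, g2, g3, g6, g2, g5, g6, g5, g3, g5]),
   (40, []),
   (239, [g2, g3, g6, g2, g4, g4, g4, g5]),
   (69, [g4, g3, g2, g6, g2, g2, g4, g3, g4, g4, g5, g6, g5]),
   (374, [g6, g2, g6, g2, g4, g6, g3]),
   (157, [g5, g6, g5]),
   (41, []),
   (398, []),
   (160, [g4, g4, g2, g4, g2, g3, g6, g5, g3, g5, g6]),
   (161, [g5, g6, g4, g3]),
   (42, []),
   (401, []),
   (354, [g6, g4, g2, g4, g2, g2, g3, g6, g5]),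
   (165, [g4, g4, g2, g4, g2, g3, g6, g5, g3, g5, g6]),
   (202, [g2, g4, g4, g3, g2, g3, g6, g5, g3, g5]),
   (336, [g2, g2, g4, g4, g2, g2, g5, g4, g4, g3, g6, g5]),
   (291, [g3, g2, g6, g2, g2, g4, g4, g3, g3, g5, g6]),
   (169, [g2, g2, g3, g4, g2, g2, g3, g4, g4, g4, g5, g6, g5]),
   (126, [g6, g3, g2, g2, g6, g3, g2, g5]),
   (385, [g4, g4, g2, g4, g2, g3, g6, g5, g3, g5, g6]),
   (395, [g6, g2, g5, g6, g4, g3, g6, g5]),
   (332, [g3, g4, g2, g4, g2, g2, g3, g4, g4, g5]),
   (174, [g2, g2, g4, g2, g2, g2, g4, g4, g4, g3, g3, g5, g6, g5]),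
   (248, [g4, g2, g4, g4, g3, g2, g5, g6, g3, g5, g6]),
   (176, [g4, g4, g4, g5, g6]),
   (281, [g4, g6, g2, g6, g3, g2, g6, g4, g3]),
   (49, []),
   (329, [g4, g2, g2, g4, g4, g2, g2, g4, g3, g4, g4, g5, g6, g5]),
   (181, [g5, g6, g4, g3, g6]),
   (180, [g5, g6, g4, g3, g6]),
   (203, [g2, g2, g3, g6, g2, g4, g6, g3, g3, g3, g5]),
   (280, [g3, g2, g2, g6, g2, g3, g4, g4, g5]),
   (186, [g2, g2, g6, g2, g2, g5, g6, g4, g3, g6, g5]),
   (371, [g4, g2, g6, g2, g5, g3, g3, g3, g6]),
   (184, [g2, g2, g4, g2, g2, g2, g4, g4, g4, g5, g6, g5]),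
   (187, [g2, g4, g2, g5, g3, g3, g3, g5]),
   (188, [g3, g3]),
   (189, [g3, g4, g2, g3, g6, g2, g6, g3, g5]),
   (190, [g6, g2, g2, g6, g2, g2, g3, g4, g4, g4, g5]),
   (57, [g3, g4, g2, g4, g2, g5, g6, g5, g3, g6, g5])]

/-- Part 35 of cert1. -/
noncomputable def cert1_35 : List (ℕ × List ℕ) :=
  [(55, []),
   (199, [g3, g6, g2, g2, g4, g3, g3, g5, g6, g5]),
   (194, [g4, g2, g4, g2, g6, g4, g3, g5]),
   (209, [g2, g2, g4, g3, g2, g4, g4, g4, g3, g3, g6, g5]),
   (306, [g3, g2, g3, g4, g2, g3, g3, g5, g6, g5]),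
   (56, []),
   (397, [g4, g6, g2, g4, g2, g2, g4, g4, g3, g5, g6, g5]),
   (193, [g4, g4, g2, g2, g2, g5, g4, g4, g3, g6]),
   (270, [g2, g6, g2, g3, g6, g2, g2, g4, g4, g4, g3, g3]),
   (58, []),
   (166, [g6, g2, g2, g4, g4, g2, g2, g3, g4, g4, g5]),
   (182, [g5, g2, g4, g2, g2, g3, g6, g5, g3, g6]),
   (399, [g4, g2, g3, g4, g2, g4, g4, g4, g6]),
   (205, [g4, g2, g6, g2, g3, g4, g4, g4, g6]),
   (324, [g4, g2, g2, g4, g2, g3, g6, g5, g3, g5, g6, g5]),
   (63, [g4, g4, g2, g2, g2, g6, g3]),
   (224, [g2, g2, g4, g3, g2, g4, g4, g4, g3, g3, g6, g5]),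
   (195, [g4, g3, g2, g6, g2, g2, g4, g3, g3, g6, g5]),
   (431, [g4, g2, g4, g2, g2, g5, g6, g5]),
   (212, [g4, g3, g2, g6, g2, g2, g4, g3, g3, g6, g5]),
   (211, [g2, g2, g4, g3, g2, g4, g4, g4, g3, g3, g6, g5]),
   (213, [g4, g2, g3, g6, g2, g6, g3, g5, g3]),
   (443, []),
   (215, [g2, g4, g3, g2, g3, g5]),
   (216, [g4, g6, g2, g6, g3, g2, g5, g3, g4, g4, g5, g6]),
   (255, [g3, g2, g4, g4, g3, g2, g4, g6, g3, g3, g3, g5, g6, g5]),
   (387, [g3, g4, g2, g2, g2, g3, g5, g4, g4, g3, g5]),
   (448, []),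
   (64, []),
   (221, [g2, g6, g3, g2, g5, g3]),
   (265, [g4, g4, g2, g4, g2, g4, g3, g3, g6]),
   (318, [g4, g2, g4, g4, g2, g2, g5, g6, g5, g3, g5]),
   (208, [g4, g3, g2, g6, g2, g2, g4, g3, g3, g6, g5]),
   (225, [g4, g6, g2, g6, g3, g2, g5, g3, g4, g4, g5, g6]),
   (226, [g3, g2, g3, g6, g2, g5]),
   (452, []),
   (453, [g6, g2, g2, g6, g2, g2, g5, g6, g4, g3, g5, g6, g5]),
   (229, [g3, g2, g3, g6, g2, g5]),
   (230, [g3, g4, g4, g6]),
   (149, [g2, g3, g4, g2, g4, g4, g3, g5]),
   (232, [g4, g4, g4, g5, g6]),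
   (104, [g4, g2, g3, g4, g2, g2, g5, g6, g4, g3, g5]),
   (363, [g4, g4, g2, g6, g2, g2, g2, g3, g4, g4, g4, g5]),
   (235, [g4, g2, g6, g3, g2, g6, g3, g5, g3]),
   (236, [g4, g4, g2, g4, g2, g3, g6, g5, g3, g5, g6]),
   (80, [g4, g2, g3, g6, g2, g5, g6, g5, g3, g5]),
   (238, [g2, g5, g2, g4, g2, g2, g5, g6, g4, g3, g6]),
   (154, [g4, g2, g6, g3, g2, g3, g4, g4, g4]),
   (334, [g4, g2, g2, g4, g4, g3, g5]),
   (367, [g6, g2, g2, g2, g4, g3, g4, g4, g5, g6, g5]),
   (76, []),
   (366, [g6, g2, g2, g2, g4, g3, g4, g4, g5, g6, g5]),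
   (244, [g3, g4, g2, g4, g2, g4, g4, g3, g5, g6, g5]),
   (425, [g4, g2, g2, g2, g3, g5]),
   (378, [g6, g2, g2, g4, g4, g2, g2, g3, g3]),
   (247, [g3, g4, g2, g4, g2, g4, g4, g3, g5, g6, g5]),
   (175, [g4, g2, g2, g4, g4, g2, g2, g4, g4, g3, g6, g5]),
   (468, []),
   (403, [g3, g2, g4, g2, g2, g2, g4, g4, g3, g3]),
   (313, [g6, g2, g6, g2, g5, g6, g5, g3, g6, g5]),
   (419, [g2, g6, g2, g2, g6, g2, g5, g3, g4, g4]),
   (458, [g2, g4, g2, g2, g4, g2, g3, g4, g4, g5, g6]),
   (444, [g4, g3, g2, g6, g2, g2, g4, g4, g4, g3, g3, g6, g5]),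
   (217, [g3, g2, g4, g4, g3, g2, g4, g4, g4, g3, g3, g5, g6])]

/-- Part 36 of cert1. -/
noncomputable def cert1_36 : List (ℕ × List ℕ) :=
  [(423, [g6, g3, g2, g3, g4, g4, g4, g5, g6, g5]),
   (400, [g3, g4, g2, g3, g6, g2, g4, g6, g3, g5, g6, g5]),
   (111, [g2, g6, g2, g3, g6, g2, g2, g6]),
   (152, [g2, g6, g3, g2, g3, g4, g4, g4, g6, g5]),
   (94, [g2, g2, g3, g6, g2, g3, g3, g3, g5]),
   (261, [g4, g6, g5]),
   (263, [g3, g4, g2, g4, g2, g4, g4, g3, g5, g6, g5]),
   (262, [g3, g4, g2, g4, g2, g4, g4, g3, g5, g6, g5]),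
   (414, [g3, g2, g4, g4, g3, g2, g6, g5]),
   (222, [g2, g2, g4, g2, g2, g2, g4, g6, g3, g3, g3, g6, g5]),
   (271, [g2, g2, g4, g2, g2, g2, g5, g3, g3, g3, g6, g5]),
   (267, [g4, g2, g6, g2, g3, g4, g4, g4, g6]),
   (361, [g3, g4, g2, g4, g2, g5, g6, g5, g3, g5]),
   (131, [g6, g2, g2, g6, g2, g2, g4, g5]),
   (200, [g2, g3, g4, g2, g2, g4, g5, g6]),
   (266, [g2, g2, g4, g2, g2, g2, g5, g3, g3, g3, g6, g5]),
   (432, [g2, g2, g6, g3, g2, g3, g3, g3, g6]),
   (481, []),
   (457, [g2, g2, g6, g3, g2, g3, g4, g4, g5, g6]),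
   (286, [g6, g2, g4, g4, g3, g2, g5, g3, g3, g3, g5, g6]),
   (133, [g4, g2, g2, g3, g5, g6, g5]),
   (301, [g3, g2, g4, g4, g3, g2, g6, g3, g5, g3]),
   (93, []),
   (482, []),
   (183, [g3, g4, g2, g4, g2, g2, g5, g6, g4, g3, g5, g6, g5]),
   (177, [g6, g2, g6, g2, g4, g4, g3, g6]),
   (283, [g2, g4, g2, g2, g4, g2, g3, g6, g5]),
   (282, [g2, g5, g2, g4, g2, g5, g4, g4, g3, g5]),
   (295, [g3, g2, g2, g4, g2, g3, g5, g3, g5]),
   (442, [g4, g2, g6, g2, g4, g2, g2, g3, g3, g3, g5]),
   (275, [g6, g2, g4, g4, g3, g2, g6, g4, g3]),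
   (287, [g3, g4, g2, g3, g6, g2, g6, g3, g5]),
   (288, [g2, g6, g3, g2, g5, g3]),
   (97, []),
   (485, []),
   (168, [g3, g2, g2, g4, g2, g5, g3, g6, g5]),
   (350, [g3, g5, g2, g4, g2, g5, g6, g4, g3, g5, g6, g5]),
   (293, [g6, g2, g3, g4, g2, g3, g4, g4, g4, g6, g5]),
   (379, [g4, g3, g2, g6, g2, g2, g6, g3, g3, g3, g5, g6, g5]),
   (284, [g3, g2, g4, g2, g2, g4, g4, g4, g5, g6]),
   (299, [g3, g2, g4, g2, g2, g6, g3, g3, g3, g5]),
   (297, [g4, g4, g2, g4, g2, g3, g6, g5, g3, g5, g6]),
   (101, []),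
   (296, [g3, g2, g2, g4, g2, g6, g3, g5, g3, g5]),
   (406, [g2, g4, g2, g5, g4, g4, g3, g6]),
   (277, [g4, g2, g4, g4, g3, g2, g5]),
   (440, [g6, g2, g2, g4, g4, g2, g2, g5]),
   (102, []),
   (476, [g3, g2, g4, g2, g2, g4, g3, g4, g4, g6, g5]),
   (305, [g6, g2, g3, g4, g2, g3, g4, g4, g4, g6, g5]),
   (196, [g3, g2, g3, g4, g3, g2, g4, g6]),
   (330, [g3, g2, g6, g2, g2, g4, g3, g4, g4, g5]),
   (308, [g3, g2, g3, g4, g3, g2, g4, g4, g4, g5, g6]),
   (405, [g3, g2, g4, g4, g5, g6, g5]),
   (106, []),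
   (135, [g2, g2, g4, g4, g3, g2, g6, g4, g3, g6, g5]),
   (312, [g2, g6, g3, g2, g5, g3]),
   (251, [g3, g4, g2, g3, g6, g2, g4, g3, g5, g6]),
   (491, []),
   (315, [g4, g4, g4, g5, g6]),
   (316, [g4, g4, g5, g6, g5]),
   (108, []),
   (223, [g6, g2, g4, g4, g2, g2, g4, g3, g4, g4]),
   (114, [g4, g3, g2, g2, g6, g2, g3, g5, g3, g6])]

/-- Part 37 of cert1. -/
noncomputable def cert1_37 : List (ℕ × List ℕ) :=
  [(320, [g3, g4, g2, g3, g6, g2, g6, g3, g5]),
   (464, [g2, g5, g6, g3, g5, g6]),
   (322, [g3, g4, g2, g3, g6, g2, g6, g3, g5]),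
   (118, [g2, g6, g3, g2, g5, g3]),
   (206, [g4, g4, g2, g4, g2, g2, g5, g3, g3, g3, g6, g5]),
   (325, [g2, g4, g2, g5, g3, g3, g3, g5]),
   (326, [g2, g6, g3, g2, g5, g3]),
   (327, [g5, g6, g5]),
   (113, []),
   (179, [g3, g2, g4, g4, g3, g2, g3, g6, g5, g3]),
   (307, [g2, g2, g6, g2, g6, g4, g3, g5, g6]),
   (418, [g2, g2, g6, g2, g2, g5, g3, g4, g4, g5, g6]),
   (173, [g4, g2, g6, g2, g4, g2, g2, g4, g4, g3, g3]),
   (498, []),
   (240, [g4, g4, g2, g2, g3, g3, g3, g6, g5]),
   (490, [g3, g2, g4, g4, g5, g6, g5]),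
   (167, [g4, g2, g4, g4, g3, g2, g5, g4, g4, g3]),
   (479, [g6, g2, g4, g4, g2, g2, g5, g3, g5, g6, g5]),
   (424, [g3, g2, g4, g2, g5, g3, g4, g4, g6]),
   (428, [g3, g2, g2, g4, g3, g2, g3, g5, g4, g4, g3, g6]),
   (340, [g2, g2, g3, g4, g2, g2, g3, g4, g4, g4, g5, g6, g5]),
   (494, [g3, g2, g4, g2, g6, g5, g3, g5, g6, g5]),
   (497, [g6, g2, g2, g6, g2, g5, g3, g4, g4, g6, g5]),
   (345, [g4, g2, g6, g2, g3, g4, g4, g4, g6]),
   (390, [g4, g2, g4, g6, g3, g3, g3]),
   (343, [g4, g2, g6, g2, g3, g4, g4, g4, g6]),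
   (346, [g2, g3, g6, g2, g5, g3]),
   (347, [g2, g2, g3, g4, g2, g2, g3, g4, g4, g4, g5, g6, g5]),
   (348, [g3, g2, g3, g4, g3, g2, g4, g4, g4, g5, g6]),
   (437, [g2, g4, g4, g2, g2, g2]),
   (292, [g6, g2, g3, g4, g2, g4, g3, g5, g6, g5]),
   (409, [g3, g5, g2, g4, g2, g2, g4, g3, g4, g4, g6]),
   (144, []),
   (353, [g2, g3, g4, g3, g2, g6, g4, g3, g6]),
   (164, [g2, g6, g2, g4, g2, g2, g3, g4, g4, g6]),
   (356, [g5, g6, g4, g3]),
   (355, [g5, g6, g4, g3]),
   (360, [g6, g2, g3, g4, g2, g3, g4, g4, g4, g6, g5]),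
   (358, [g6, g2, g3, g4, g2, g3, g4, g4, g4, g6, g5]),
   (359, [g3, g3]),
   (357, [g6, g2, g3, g4, g2, g3, g4, g4, g4, g6, g5]),
   (268, [g2, g2, g6, g2, g2, g3, g5, g3, g5]),
   (362, [g3, g5, g2, g4, g2, g3, g3, g5]),
   (234, [g2, g5, g2, g4, g2, g3, g4, g4, g6, g5]),
   (136, [g3, g4, g2, g2, g2, g4, g4, g3, g6, g5]),
   (365, [g5, g6, g4, g3]),
   (243, [g4, g4, g2, g2, g4, g4, g4, g3, g3, g5]),
   (241, [g4, g4, g2, g2, g4, g4, g4, g3, g3, g5]),
   (368, [g4, g4, g2, g4, g2, g3, g6, g5, g3, g5, g6]),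
   (134, []),
   (420, [g6, g2, g4, g4, g3, g2, g6, g3, g5, g3, g6]),
   (185, [g2, g4, g3, g2, g4, g4, g3, g3, g6]),
   (372, [g6]),
   (384, [g2, g3, g4, g2, g2, g4, g4, g4, g3, g3, g5, g6, g5]),
   (156, [g6, g2, g3, g4, g2, g3, g5, g3]),
   (375, [g2, g3, g6, g2, g5, g3]),
   (466, [g4, g6, g2, g6, g3, g2, g5, g6, g4, g3, g6]),
   (445, [g5, g2, g4, g2, g2, g4, g4, g6]),
   (246, [g2, g4, g4, g2, g2, g5, g4, g4, g3, g5, g6]),
   (294, [g2, g2, g2, g4, g3, g2, g4, g4, g3, g5]),
   (380, [g4, g3, g5, g6]),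
   (477, [g4, g2, g4, g2, g2, g5, g3, g3, g3, g5, g6, g5]),
   (459, [g4, g4, g2, g2, g4, g2, g4, g3, g5]),
   (508, [g4, g2, g6, g2, g2, g2, g6, g5, g3, g5, g6, g5])]

/-- Part 38 of cert1. -/
noncomputable def cert1_38 : List (ℕ × List ℕ) :=
  [(373, [g2, g2, g2, g6, g2, g3, g3, g3, g5]),
   (171, [g4, g4, g2, g4, g2, g3, g6, g5, g3, g5, g6]),
   (460, [g6, g2, g2, g3, g4, g2, g3, g5, g4, g4, g3, g6]),
   (218, [g4, g4, g2, g2, g4, g4, g3, g3, g5, g6, g5]),
   (151, []),
   (465, [g4, g2, g3, g5, g3, g6]),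
   (344, [g4, g3, g2, g5, g6, g4, g3, g5]),
   (454, [g6, g2, g4, g4, g3, g2, g3, g5, g3, g5, g6]),
   (392, [g2, g3, g6, g2, g5, g3]),
   (393, [g6, g2, g2, g6, g2, g2, g3, g4, g4, g4, g5]),
   (447, [g2, g3, g6, g2, g2, g6, g3, g5, g3, g5, g6]),
   (172, [g2, g6, g4, g3, g5, g6, g5]),
   (396, [g2, g5, g2, g4, g2, g2, g5, g6, g4, g3, g6]),
   (198, [g3, g2, g2, g4, g2, g3, g5, g4, g4, g3, g5]),
   (159, []),
   (204, [g2, g3, g4, g2, g3, g5, g3, g5, g6]),
   (257, [g3, g2, g6, g2, g4, g4, g3, g6, g5]),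
   (163, []),
   (402, [g3, g2, g3, g4, g3, g2, g4, g4, g4, g5, g6]),
   (250, [g2, g4, g2, g4, g4, g2, g2, g3, g4, g4, g4, g5, g6]),
   (404, [g2, g6, g3, g2, g5, g3]),
   (309, [g3, g4, g3, g2, g4, g4, g4, g5, g6]),
   (300, [g2, g4, g2, g6, g4, g3, g5, g6]),
   (438, [g2, g2, g6, g3, g3, g3, g5, g6, g5]),
   (408, [g2, g2, g4, g2, g2, g2, g4, g4, g4, g3, g3, g5, g6, g5]),
   (351, [g2, g2, g2, g4, g3, g2, g5, g6, g5]),
   (410, [g4, g4, g2, g4, g2, g3, g6, g5, g3, g5, g6]),
   (411, [g4, g6, g3, g3, g3, g5, g6, g5]),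
   (436, [g4, g3, g2, g6, g2, g2, g4, g6, g3, g5, g6]),
   (413, [g6, g2, g2, g6, g2, g2, g3, g4, g4, g4, g5]),
   (264, [g3, g4, g2, g4, g4, g2, g2, g3, g5, g3]),
   (449, [g4, g4, g2, g2, g2, g3, g3, g6, g5]),
   (472, [g6, g5, g2, g4, g2, g2, g5, g3, g4, g4, g5]),
   (417, [g4, g4, g4, g5, g6]),
   (331, [g4, g2, g3, g6, g2, g4, g3, g4, g4, g5]),
   (252, [g4, g2, g4, g4, g3, g2, g3, g3, g5, g6]),
   (370, [g4, g2, g4, g4, g3, g2, g3, g6]),
   (502, [g3, g5, g2, g4, g2, g5, g3, g4, g4, g5]),
   (434, [g2, g5, g2, g4, g2, g2, g3, g3, g3]),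
   (256, [g2, g4, g4, g4, g3, g3, g6, g5]),
   (338, [g2, g3, g6, g2, g4, g4, g3, g5, g6, g5]),
   (245, [g2, g2, g2, g3, g6, g5]),
   (463, [g4, g4, g2, g2, g5, g6, g4, g3, g6, g5]),
   (427, [g4, g2, g3, g4, g2, g3, g5, g6, g5]),
   (339, [g3, g6, g2, g4, g2, g2, g3, g3]),
   (429, [g2, g4, g2, g5, g3, g3, g3, g5]),
   (430, [g4, g2, g6, g2, g3, g4, g4, g4, g6]),
   (210, [g3, g2, g2, g6, g2, g4, g4]),
   (272, [g6, g5, g2, g4, g2, g2, g6, g3, g5, g3, g5, g6]),
   (433, [g4, g2, g6, g2, g3, g4, g4, g4, g6]),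
   (422, [g2, g2, g4, g2, g2, g2, g3, g3]),
   (480, [g6, g2, g4, g4, g3, g2, g6, g5, g3, g5]),
   (412, [g2, g2, g2, g4, g2, g4, g4, g4]),
   (349, [g2, g2, g4, g4, g3, g2, g5, g3]),
   (407, [g4, g6, g2, g2, g3, g4, g4, g4, g5, g6]),
   (450, [g3, g2, g2, g6, g2, g3, g3, g5, g6, g5]),
   (302, [g2, g4, g4, g2, g2, g6, g3, g3, g3, g5, g6, g5]),
   (441, [g4, g4, g5, g6, g5]),
   (285, [g3, g2, g4, g2, g2, g2, g3, g3, g3, g6]),
   (214, []),
   (254, [g2, g5, g2, g4, g2, g5, g6]),
   (377, [g2, g2, g4, g3, g2, g6, g5, g3, g6]),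
   (484, [g5, g2, g4, g2, g4, g4, g5, g6, g5]),
   (394, [g2, g2, g3, g4, g3, g2, g5, g6, g4, g3, g6])]

/-- Part 39 of cert1. -/
noncomputable def cert1_39 : List (ℕ × List ℕ) :=
  [(219, []),
   (415, [g4, g2, g2, g4, g3, g3, g5, g6, g5]),
   (439, [g4, g3, g2, g6, g2, g2, g4, g4, g4, g3, g3, g5, g6, g5]),
   (451, [g3, g2, g3, g6, g2, g5]),
   (227, []),
   (228, [g4, g6, g2, g6, g3, g2, g5, g4, g4, g3, g5, g6]),
   (391, [g2, g6, g2, g2, g6, g2, g3, g3]),
   (505, [g2, g6, g2, g3, g3, g6]),
   (456, [g4, g2, g3, g4, g2, g3, g5, g6, g5]),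
   (274, [g3, g2, g4, g2, g2, g2, g4, g3, g6, g5]),
   (253, [g4, g2, g5, g2, g4, g2, g5, g4, g4, g3]),
   (382, [g4, g2, g4, g2, g2, g3, g6, g5, g3]),
   (386, [g6, g4, g2, g4, g2, g2, g5, g6, g3, g5, g6]),
   (474, [g4, g2, g3, g4, g2, g2, g5, g6, g4, g3, g5]),
   (462, [g2, g3, g4, g3, g2, g6, g4, g3, g6]),
   (426, [g2, g2, g4, g4, g3, g5]),
   (321, [g3, g4, g2, g5, g3, g3, g3]),
   (389, [g6, g3, g2, g5, g6, g4, g3, g5]),
   (376, [g2, g4, g2, g3, g4, g4, g6]),
   (467, [g6]),
   (249, []),
   (469, [g4, g4, g2, g4, g2, g3, g6, g5, g3, g5, g6]),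
   (470, [g5]),
   (489, [g2, g2, g6, g2, g2, g5, g6, g5]),
   (416, [g6, g2, g2, g3, g4, g2, g4, g3, g3, g6]),
   (473, [g4, g2, g3, g4, g2, g3, g5, g6, g5]),
   (461, [g4, g2, g2, g4, g2, g3, g3, g3, g6, g5]),
   (501, [g4, g4, g2, g4, g2, g5, g3, g3, g3]),
   (304, [g3, g2, g2, g4, g2, g5, g3, g6]),
   (381, [g4, g2, g2, g4, g2, g6, g4, g3, g5]),
   (478, [g2, g6, g3, g2, g5, g3]),
   (337, [g4, g2, g4, g4, g3, g2, g4, g3, g4, g4, g6, g5]),
   (435, [g6, g2, g4, g4, g2, g2, g3, g3, g3, g6]),
   (273, []),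
   (279, []),
   (486, [g6, g2, g2, g5, g6, g4, g3, g6, g5]),
   (446, [g6, g2, g6, g2, g5, g3, g4, g4, g5, g6, g5]),
   (290, []),
   (483, [g2, g2, g5, g6, g4, g3, g5, g6, g5]),
   (487, [g4, g6, g2, g6, g3, g2, g5, g3, g4, g4, g5, g6]),
   (488, [g6, g2, g3, g4, g2, g3, g4, g4, g4, g6, g5]),
   (471, [g4, g6, g2, g6, g3, g2, g4, g4, g5, g6, g5]),
   (335, [g3, g4, g3, g2, g4, g4, g4, g5, g6]),
   (314, []),
   (495, [g4, g6, g2, g4, g2, g2, g6, g3, g3, g3, g5, g6, g5]),
   (493, [g5]),
   (341, [g6, g2, g3, g4, g2, g3, g4, g4, g6, g5]),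
   (492, [g4, g3, g2, g2, g6, g2, g5, g6, g5, g3]),
   (496, [g5, g6, g5]),
   (342, [g3, g2, g3, g4, g2, g2, g3, g5, g4, g4, g3, g6, g5]),
   (333, []),
   (499, [g4, g6, g2, g6, g3, g2, g5, g3, g4, g4, g5, g6]),
   (500, [g4, g2, g4, g2, g6, g4, g3, g5]),
   (475, [g5, g2, g4, g2, g3, g6, g5, g3, g5, g6]),
   (421, [g4, g2, g3, g6, g2, g5, g6, g5, g3, g6, g5]),
   (503, [g3, g2, g3, g6, g2, g5]),
   (504, [g2, g2, g4, g2, g2, g2, g4, g4, g4, g3, g3, g5, g6, g5]),
   (455, [g2, g6, g2, g4, g3, g4, g4]),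
   (510, [g3, g2, g2, g4, g3, g2, g5, g3, g3, g3, g6]),
   (507, [g2, g4, g2, g5, g3, g3, g3, g5]),
   (383, [g4, g2, g2, g2, g6, g2, g3, g4, g4, g4, g6, g5]),
   (509, [g4, g4, g2, g4, g2, g3, g6, g5, g3, g5, g6]),
   (506, [g2, g6, g2, g2, g3, g6]),
   (511, [g4, g2, g6, g2, g3, g4, g4, g4, g6])]

/-- Part 40 of cert1. -/
noncomputable def cert1_40 : List (ℕ × List ℕ) :=
  [(0, [g6]),
   (1, [g2, g2, g4, g2, g2, g2, g4, g4, g4, g3, g3, g5, g6, g5]),
   (11, []),
   (3, [g4, g6, g2, g6, g3, g2, g5, g3, g4, g4, g5, g6]),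
   (4, [g6, g4, g3, g5]),
   (19, [g3, g6, g2, g2, g3, g5, g4, g4, g3, g6]),
   (18, [g2, g6, g3, g2, g5, g3]),
   (29, []),
   (35, []),
   (39, []),
   (10, [g5, g6, g4, g3]),
   (2, []),
   (33, [g3, g2, g2, g4, g2, g4, g4, g4, g3, g3]),
   (58, []),
   (63, []),
   (67, [g4, g3, g2, g6, g2, g2, g4, g3, g3, g6, g5]),
   (16, [g3, g2, g3, g6, g2, g5]),
   (75, []),
   (6, [g2, g6, g3, g2, g5, g3]),
   (5, [g3, g6, g2, g2, g3, g5, g4, g4, g3, g6]),
   (84, []),
   (89, []),
   (24, [g2, g2, g4, g2, g2, g2, g4, g4, g4, g3, g3, g5, g6, g5]),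
   (97, []),
   (22, [g2, g2, g4, g2, g2, g2, g4, g4, g4, g3, g3, g5, g6, g5]),
   (103, []),
   (26, [g3, g2, g3, g4, g3, g2, g4, g4, g4, g5, g6]),
   (27, [g3, g4, g2, g3, g6, g2, g6, g3, g5]),
   (28, [g2, g6, g3, g2, g5, g3]),
   (7, []),
   (124, []),
   (130, []),
   (51, [g2, g3, g6, g2, g2, g4, g4, g6]),
   (12, [g2, g4, g2, g2, g4, g5]),
   (34, [g4, g2, g6, g3, g2, g6, g3, g5, g3]),
   (8, []),
   (105, [g3, g2, g6, g2, g2, g2, g3, g5, g3, g5, g6, g5]),
   (147, []),
   (148, []),
   (9, []),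
   (154, []),
   (41, [g2, g3, g6, g2, g5, g3]),
   (161, [g3, g4, g2, g3, g6, g2, g5, g4, g4, g3, g6, g5]),
   (46, [g4, g4, g2, g4, g2, g3, g5, g4, g4, g3, g5, g6]),
   (44, [g3, g2, g3, g4, g3, g2, g4, g4, g4, g5, g6]),
   (45, [g2, g2, g4, g2, g2, g2, g4, g4, g4, g3, g3, g5, g6, g5]),
   (43, [g3, g4, g2, g3, g6, g2, g5, g4, g4, g3, g6, g5]),
   (54, [g4, g6, g2, g6, g3, g2, g4, g3, g4, g4, g5]),
   (48, [g5, g6, g4, g3]),
   (49, [g6, g2, g2, g6, g2, g2, g3, g4, g4, g4, g5]),
   (183, []),
   (32, [g3, g2, g2, g4, g2, g4, g4, g4]),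
   (138, [g3, g2, g4, g2, g2, g5, g3, g4, g4, g5]),
   (132, [g2, g2, g3, g4, g2, g2, g4, g3, g5, g6]),
   (47, [g3, g4, g2, g3, g6, g2, g6, g5, g3, g5, g6, g5]),
   (193, []),
   (72, [g3, g6, g2, g2, g3, g6, g5, g3]),
   (57, [g4, g2, g6, g2, g3, g4, g4, g4, g6]),
   (13, []),
   (204, []),
   (60, [g4, g6, g2, g6, g3, g2, g5, g3, g4, g4, g5, g6]),
   (209, []),
   (212, []),
   (14, [])]

/-- Part 41 of cert1. -/
noncomputable def cert1_41 : List (ℕ × List ℕ) :=
  [(153, [g2, g2, g3, g4, g3, g2, g6, g4, g3]),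
   (222, []),
   (66, [g4, g2, g6, g2, g3, g4, g4, g4, g6]),
   (15, [g2, g2, g4, g3, g2, g4, g4, g4, g3, g3, g6, g5]),
   (68, [g4, g4, g4, g5, g6]),
   (227, []),
   (230, [g2, g2, g3, g4, g2, g2, g4, g6, g5]),
   (112, [g2, g2, g2, g4, g3, g2, g6, g3, g6]),
   (56, [g3, g4, g2, g2, g3, g5, g4, g4, g3, g6]),
   (236, []),
   (83, [g6, g2, g3, g6, g2, g2, g4, g4, g3, g6]),
   (17, []),
   (243, []),
   (77, [g6, g2, g6, g3, g2, g5, g3, g6]),
   (80, [g6, g4, g3, g5]),
   (79, [g3, g2, g3, g6, g2, g5]),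
   (78, [g6, g4, g3, g5]),
   (251, []),
   (82, [g4, g3, g5, g6]),
   (74, [g4, g2, g2, g4, g2, g4, g4, g5]),
   (20, []),
   (259, []),
   (86, [g6, g2, g6, g3, g2, g5, g3, g6]),
   (263, []),
   (88, [g2, g2, g4, g2, g2, g2, g4, g4, g4, g3, g3, g5, g6, g5]),
   (21, []),
   (90, [g2, g4, g3, g2, g3, g5]),
   (91, [g3, g4, g2, g4, g2, g4, g4, g3, g5, g6, g5]),
   (174, [g3, g2, g4, g2, g2, g2, g5, g6, g3]),
   (279, []),
   (94, [g2, g6, g3, g2, g5, g3]),
   (284, []),
   (275, [g2, g2, g6, g3, g2, g3, g6, g5]),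
   (23, []),
   (291, []),
   (294, []),
   (100, [g4, g6, g2, g6, g3, g2, g5, g3, g4, g4, g5, g6]),
   (299, []),
   (102, [g4, g4, g2, g4, g2, g3, g6, g5, g3, g5, g6]),
   (25, []),
   (306, []),
   (36, [g2, g2, g2, g6, g2, g4, g3, g5]),
   (311, []),
   (229, [g3, g2, g6, g2, g2, g4, g3, g3, g6]),
   (146, [g3, g2, g2, g6, g2, g3, g4, g4, g4, g5, g6, g5]),
   (109, [g5]),
   (185, [g3, g2, g4, g2, g2, g2, g3, g5, g4, g4, g3, g5, g6, g5]),
   (206, [g2, g4, g2, g2, g4, g2, g3, g5, g4, g4, g3, g6]),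
   (71, [g4, g4, g2, g4, g2, g2, g4, g4, g4, g5, g6, g5]),
   (121, [g2, g6, g2, g2, g2, g4, g4, g3, g5, g6, g5]),
   (135, [g6, g2, g3, g4, g2, g3, g6]),
   (115, [g3, g4, g2, g3, g6, g2, g6, g3, g5]),
   (116, [g4, g6, g2, g6, g3, g2, g5, g3, g4, g4, g5, g6]),
   (166, [g3, g2, g3, g4, g3, g2, g4, g4, g4, g5, g6]),
   (118, [g3, g4, g2, g3, g6, g2, g6, g3, g5]),
   (302, [g2, g6, g2, g3, g6, g2, g2, g5, g4, g4, g3, g6]),
   (120, [g6, g2, g2, g6, g2, g2, g3, g4, g4, g4, g5]),
   (113, [g2, g2, g6, g2, g3, g3, g3, g5, g6, g5]),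
   (343, []),
   (345, []),
   (30, []),
   (350, []),
   (126, [g6, g2, g6, g2, g3, g5, g6]),
   (356, [])]

/-- Part 42 of cert1. -/
noncomputable def cert1_42 : List (ℕ × List ℕ) :=
  [(358, []),
   (355, [g3, g2, g3, g4, g3, g2, g4, g4, g4, g5, g6]),
   (31, []),
   (196, [g6, g2, g4, g2, g2, g5, g6, g3, g5, g6, g5]),
   (53, [g3, g4, g2, g3, g6, g2, g5, g3, g4, g4, g5, g6]),
   (367, []),
   (134, [g3, g2, g3, g4, g3, g2, g4, g4, g4, g5, g6]),
   (114, [g6, g2, g6, g2, g3, g4, g4, g4, g5]),
   (327, [g4, g2, g2, g2, g6, g2, g5, g3, g3, g3, g6]),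
   (374, []),
   (52, [g6, g2, g2, g3, g4, g2, g6, g4, g3]),
   (139, [g4, g2, g6, g3, g2, g6, g3, g5, g3]),
   (325, [g2, g2, g6, g2, g2, g4, g3, g6]),
   (293, [g2, g2, g4, g4, g3, g2]),
   (379, [g2, g3, g6, g2, g5, g3]),
   (143, [g4, g2, g6, g3, g2, g6, g3, g5, g3]),
   (353, [g2, g2, g4, g2, g2, g2, g3, g3, g3, g6]),
   (317, [g2, g6, g2, g2, g3, g3, g3, g5, g6]),
   (108, [g2, g6, g2, g2, g4, g4, g4, g3, g3, g5, g6, g5]),
   (37, []),
   (38, []),
   (324, [g4, g2, g4, g4, g2, g2, g5, g4, g4, g3, g6]),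
   (150, [g3, g2, g3, g4, g3, g2, g4, g4, g4, g5, g6]),
   (219, [g2, g3, g4, g3, g2, g5, g6, g4, g3, g5, g6, g5]),
   (292, [g4, g2, g3, g4, g2, g2, g4, g3, g3, g6, g5]),
   (64, [g2, g3, g4, g2, g2, g2, g3, g5, g6]),
   (40, []),
   (344, [g4, g3, g2, g5, g4, g4, g3, g5]),
   (156, [g4, g3, g5, g6]),
   (369, [g6, g3, g2, g2, g6, g3, g2, g6, g5]),
   (368, [g6, g2, g3, g4, g2, g3, g5, g3, g5, g6, g5]),
   (346, [g2, g4, g3, g2, g6, g3, g5, g3]),
   (160, [g6, g2, g3, g4, g2, g3, g4, g4, g4, g6, g5]),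
   (42, [g4, g4, g2, g4, g2, g3, g5, g4, g4, g3, g5, g6]),
   (162, [g3, g4, g2, g3, g6, g2, g6, g3, g5]),
   (397, [g4, g4, g2, g4, g2, g3, g5, g4, g4, g3, g5]),
   (402, []),
   (208, [g2, g4, g4, g2, g2, g2, g4, g3, g5, g6]),
   (117, [g3, g2, g3, g4, g3, g2, g4, g4, g4, g5, g6]),
   (406, []),
   (168, [g2, g6, g3, g2, g5, g3]),
   (314, [g4, g6, g2, g4, g2, g2, g4, g4, g5, g6, g5]),
   (213, [g2, g2, g6, g2, g2, g3, g6, g5, g3]),
   (408, [g3, g4, g2, g3, g6, g2, g6, g3, g6, g5]),
   (172, [g4, g3, g5, g6]),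
   (173, [g3, g2, g3, g4, g3, g2, g4, g4, g4, g5, g6]),
   (92, [g2, g2, g4, g3, g2, g4, g4, g4, g3, g3]),
   (296, [g2, g2, g3, g4, g3, g2, g6, g4, g3]),
   (409, [g2, g2, g3, g4, g2, g2, g3, g5, g3]),
   (264, [g3, g4, g2, g6, g2, g2, g2, g3, g3, g3]),
   (261, [g3, g2, g6, g2, g2, g2, g5, g6, g3, g5, g6, g5]),
   (179, [g3, g4, g4, g6]),
   (180, [g3, g2, g3, g4, g2, g4, g4, g4, g3, g3, g5, g6, g5]),
   (347, [g3, g5, g2, g4, g2, g5, g3, g4, g4, g5]),
   (182, [g3, g3]),
   (50, []),
   (184, [g5, g6, g4, g3]),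
   (110, [g6, g2, g2, g3, g4, g2, g4, g4, g4, g6]),
   (393, [g6, g2, g3, g6, g2, g2, g4, g4, g4, g5, g6, g5]),
   (187, [g6, g2, g2, g6, g2, g2, g3, g4, g4, g4, g5]),
   (403, [g4, g4, g2, g4, g2, g4, g6, g3]),
   (203, [g5, g2, g4, g2, g2, g4, g3, g3, g6, g5]),
   (363, [g6, g2, g3, g4, g2, g3, g4, g4, g4, g5, g6]),
   (205, [g3, g4, g2, g4, g2, g5, g6, g5, g3, g6, g5])]

/-- Part 43 of cert1. -/
noncomputable def cert1_43 : List (ℕ × List ℕ) :=
  [(370, [g4, g2, g6, g2, g4, g2, g2, g4, g4, g3, g3, g6, g5]),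
   (55, []),
   (194, [g6, g2, g6, g3, g2, g5, g3, g6]),
   (195, [g2, g4, g3, g2, g3, g5]),
   (131, [g4, g2, g2, g6, g3, g2, g4, g3, g6]),
   (197, [g3, g2, g3, g6, g2, g5]),
   (333, [g4, g2, g6, g3, g2, g3, g6]),
   (420, [g2, g2, g4, g4, g2, g2, g3, g5, g4, g4, g3, g5, g6]),
   (200, [g3, g4, g2, g4, g2, g4, g4, g3, g5, g6, g5]),
   (201, [g4, g2, g6, g2, g3, g4, g4, g4, g6]),
   (202, [g5, g2, g4, g2, g5, g3, g3, g3]),
   (189, [g4, g2, g2, g2, g4, g2, g4, g6, g3, g5]),
   (59, []),
   (191, [g3, g4, g2, g4, g2, g4, g5, g6]),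
   (111, [g4, g2, g2, g4, g2, g5, g4, g4, g3, g5]),
   (211, [g6, g2, g6, g3, g2, g4, g6, g3, g6]),
   (165, [g2, g2, g4, g4, g3, g2, g3]),
   (61, []),
   (439, []),
   (207, [g6, g2, g6, g3, g2, g4, g6, g3, g6]),
   (62, []),
   (170, [g2, g4, g2, g5, g6, g5, g3]),
   (444, []),
   (215, [g4, g6, g2, g6, g3, g2, g5, g3, g4, g4, g5, g6]),
   (329, [g6, g2, g6, g3, g2, g4, g4, g3, g5]),
   (217, [g3, g5, g2, g4, g2, g3, g3, g5]),
   (437, [g6, g3, g2, g2, g6, g3, g2, g5, g6, g3]),
   (151, [g2, g4, g3, g2, g4, g4, g4, g5]),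
   (239, [g3, g2, g3, g4, g2, g2, g3, g5, g4, g4, g3, g5, g6]),
   (221, [g4, g6, g2, g6, g3, g2, g5, g3, g4, g4, g5, g6]),
   (65, []),
   (223, [g2, g2, g4, g2, g2, g2, g4, g4, g4, g3, g3, g5, g6, g5]),
   (224, [g4, g6, g2, g6, g3, g2, g5, g3, g4, g4, g5, g6]),
   (225, [g4, g2, g6, g2, g3, g4, g4, g4, g6]),
   (307, [g2, g2, g3, g4, g2, g6, g5]),
   (69, []),
   (228, [g6, g2, g2, g6, g2, g2, g3, g4, g4, g4, g5]),
   (107, [g2, g2, g4, g3, g2, g4, g3, g4, g4, g6, g5]),
   (70, [g3, g2, g3, g6, g2, g5, g3, g4, g4, g6]),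
   (258, [g2, g4, g4, g3, g2, g4, g3, g3, g5]),
   (260, [g3, g6, g2, g2, g4, g3, g3, g6, g5]),
   (269, [g2, g4, g3, g2, g4, g4, g4]),
   (234, [g4, g2, g6, g2, g3, g4, g4, g4, g6]),
   (460, []),
   (73, []),
   (237, [g3, g2, g3, g6, g2, g5]),
   (238, [g4, g3, g5, g6]),
   (220, [g2, g2, g6, g2, g5, g3, g4, g4, g5, g6, g5]),
   (462, [g4, g6, g2, g6, g3, g2, g5, g3, g5]),
   (463, []),
   (464, []),
   (76, []),
   (389, [g4, g3, g2, g5, g6, g4, g3, g5, g6]),
   (256, [g3, g4, g2, g2, g4, g3, g3, g6, g5]),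
   (246, [g3, g4, g2, g4, g2, g4, g4, g3, g5, g6, g5]),
   (378, [g3, g4, g2, g4, g4, g2, g2, g3, g5, g4, g4, g3, g6]),
   (298, [g3, g4, g2, g2, g2, g4, g5, g6, g5]),
   (469, []),
   (250, [g5, g6, g5]),
   (81, []),
   (252, [g2, g2, g6, g2, g2, g3, g4, g4, g4, g5, g6]),
   (253, [g2, g6, g2, g3, g5]),
   (446, [g2, g4, g4, g3, g2, g6, g3, g5, g3, g5, g6, g5]),
   (429, [g2, g3, g4, g2, g5, g6, g5, g3])]

/-- Part 44 of cert1. -/
noncomputable def cert1_44 : List (ℕ × List ℕ) :=
  [(245, [g3, g6, g2, g2, g3, g6, g5, g3, g6]),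
   (257, [g2, g2, g3, g4, g2, g2, g3, g4, g4, g4, g5, g6, g5]),
   (231, [g6, g2, g4, g4, g2, g2, g5, g3, g3, g3]),
   (85, []),
   (232, [g3, g6, g2, g2, g4, g3, g3, g6, g5]),
   (178, [g4, g2, g2, g2, g6, g2, g5, g6, g3, g5, g6]),
   (262, [g6, g4, g3, g5]),
   (87, []),
   (177, [g3, g2, g2, g6, g3, g2, g6, g3, g5]),
   (265, [g4, g3, g5, g6]),
   (266, [g4, g2, g6, g2, g3, g4, g4, g4, g6]),
   (271, [g4, g2, g6, g2, g3, g4, g4, g4, g6]),
   (322, [g4, g4, g2, g2, g2, g4, g4, g3, g5]),
   (233, [g2, g6, g3, g2, g3, g6]),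
   (380, [g3, g2, g4, g2, g4, g3, g4, g4, g6, g5]),
   (267, [g4, g2, g6, g2, g3, g4, g4, g4, g6]),
   (451, [g6, g3, g2, g3, g4, g4, g6]),
   (457, [g2, g4, g3, g2, g4, g4, g4, g6, g5]),
   (459, [g3, g2, g4, g2, g2, g2, g3, g3, g3, g5, g6]),
   (96, [g3, g2, g6, g2, g2, g5, g3, g6, g5]),
   (426, [g3, g4, g2, g2, g2, g4, g4, g4, g3, g3]),
   (450, [g4, g2, g4, g4, g2, g2, g3, g4, g4, g5, g6]),
   (407, [g3, g4, g2, g4, g4, g2, g2, g4, g6, g5]),
   (93, []),
   (280, [g4, g6, g2, g6, g3, g2, g5, g3, g4, g4, g5, g6]),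
   (477, [g4, g4, g2, g4, g2, g2, g3, g4, g4, g4, g6]),
   (288, [g2, g4, g2, g2, g4, g2, g3, g6, g5]),
   (283, [g2, g6, g3, g2, g5, g3]),
   (95, []),
   (415, [g3, g2, g4, g2, g2, g2, g5, g6, g3]),
   (289, [g3, g4, g2, g3, g6, g2, g3, g5]),
   (287, [g2, g6, g3, g2, g5, g3]),
   (282, [g2, g5, g2, g4, g2, g5, g4, g4, g3, g5]),
   (286, [g2, g6, g3, g2, g5, g3, g4, g4, g5, g6, g5]),
   (290, [g6, g4, g3, g5]),
   (98, []),
   (152, [g3, g2, g2, g4, g2, g6, g3, g3, g3, g6]),
   (141, [g2, g4, g4, g2, g2, g2, g4, g4, g3, g3, g5]),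
   (99, []),
   (295, [g5, g2, g4, g2, g5, g3, g3, g3]),
   (175, [g2, g3, g4, g2, g2, g2, g3, g5, g6]),
   (428, [g3, g4, g2, g3, g6, g2, g3, g4, g4, g4, g5, g6]),
   (248, [g4, g4, g2, g2, g4, g4, g6, g5]),
   (101, []),
   (434, [g4, g2, g4, g2, g3, g5, g4, g4, g3, g6]),
   (431, [g6, g3, g2, g4, g3, g4, g4, g5, g6]),
   (119, [g3, g2, g6, g2, g2, g3, g5, g4, g4, g3]),
   (305, [g6, g3, g2, g2, g6, g3, g2, g4, g3, g5, g6, g5]),
   (387, [g3, g4, g2, g3, g6, g2, g3, g5, g3]),
   (303, [g6, g4, g2, g4, g2, g2, g6, g5, g3, g5, g6]),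
   (104, []),
   (226, [g6, g2, g3, g6, g2, g2, g6, g3]),
   (308, [g4, g6, g2, g6, g3, g2, g5, g3, g4, g4, g5, g6]),
   (312, [g3, g2, g3, g4, g3, g2, g4, g4, g4, g5, g6]),
   (319, []),
   (106, []),
   (309, [g3, g2, g3, g4, g3, g2, g4, g4, g4, g5, g6]),
   (328, [g6, g3, g2, g6, g2, g2, g5, g6, g4, g3, g5, g6]),
   (169, [g6, g2, g2, g4, g3, g2, g4]),
   (315, [g4, g4, g5, g6, g5]),
   (412, [g3, g4, g2, g4, g2, g6, g5]),
   (145, [g3, g2, g2, g6, g2, g6, g3, g5]),
   (493, [g2, g3, g4, g3, g2, g6, g4, g3, g6, g5]),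
   (310, [])]

/-- Part 45 of cert1. -/
noncomputable def cert1_45 : List (ℕ × List ℕ) :=
  [(320, [g2, g6, g3, g2, g5, g3]),
   (366, [g2, g2, g4, g4, g3, g2, g4, g3, g5, g6, g5]),
   (268, [g4, g4, g2, g2, g2, g5, g6, g3, g6, g5]),
   (326, [g3, g4, g2, g3, g6, g2, g6, g3, g5]),
   (149, [g6, g2, g2, g4, g4, g2, g2, g4, g6, g3, g3, g3]),
   (140, [g4, g6, g2, g6, g3, g2, g4, g4, g5, g6]),
   (323, [g3, g4, g2, g3, g6, g2, g6, g3, g5]),
   (136, [g6, g2, g4, g2, g2, g4, g4, g4, g6]),
   (313, [g4, g2, g5, g2, g4, g2, g4, g4, g4, g6, g5]),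
   (216, [g4, g2, g4, g2, g4, g6, g3]),
   (330, [g3, g2, g3, g6, g2, g5]),
   (331, [g2, g3, g4, g3, g2, g6, g4, g3, g6]),
   (392, [g3, g4, g2, g2, g4, g4, g3, g3, g5]),
   (198, [g2, g4, g3, g2, g4, g4]),
   (334, [g4, g4, g2, g4, g2, g3, g6, g5, g3, g5, g6]),
   (449, [g4, g2, g2, g2, g6, g4, g3]),
   (422, [g3, g2, g2, g6, g3, g2, g3, g4, g4, g6]),
   (337, [g4, g4, g5, g6, g5]),
   (461, [g6, g2, g2, g3, g4, g2, g6, g4, g3, g5, g6, g5]),
   (339, [g2, g2, g3, g4, g2, g2, g3, g4, g4, g4, g5, g6, g5]),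
   (340, [g2, g3, g6, g2, g5, g3]),
   (341, [g4, g2, g6, g2, g3, g4, g4, g4, g6]),
   (342, [g2, g6, g3, g2, g5, g3]),
   (122, []),
   (155, [g4, g4, g2, g4, g3, g6]),
   (123, []),
   (159, [g3, g5, g2, g4, g2, g5, g3, g4, g4, g5, g6, g5]),
   (181, [g4, g2, g3, g6, g2, g5, g6, g5, g3, g6, g5]),
   (348, [g5]),
   (476, [g6, g2, g2, g4, g3, g2, g4, g3, g3, g5, g6]),
   (125, []),
   (351, [g4, g2, g6, g3, g2, g6, g3, g5, g3]),
   (352, [g2, g3, g4, g3, g2, g6, g4, g3, g6]),
   (144, [g2, g2, g4, g2, g2, g2, g3, g3, g3, g6]),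
   (354, [g4, g3, g5, g6]),
   (129, [g3, g2, g3, g4, g3, g2, g4, g4, g4, g5, g6]),
   (127, []),
   (357, [g6, g2, g2, g6, g2, g2, g3, g4, g4, g4, g5]),
   (128, []),
   (376, [g2, g6, g2, g3, g3, g6, g5]),
   (441, [g4, g3, g2, g6, g2, g2, g4, g3, g3]),
   (361, [g5, g6, g5]),
   (505, [g4, g3, g5, g6]),
   (190, [g2, g6, g2, g3, g6]),
   (364, [g4, g3, g5, g6]),
   (416, [g5, g4, g6, g2, g4, g2, g2, g6, g3, g6, g5]),
   (321, [g2, g4, g4, g2, g2, g2, g4, g5, g6]),
   (133, []),
   (158, [g6, g2, g3, g4, g2, g3, g5, g3, g5, g6, g5]),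
   (157, [g4, g3, g2, g6, g2, g2, g4, g3, g6, g5]),
   (192, [g3, g4, g2, g4, g2, g2, g4, g4, g4, g3, g3, g6, g5]),
   (371, [g2, g3, g6, g2, g5, g3]),
   (391, [g5, g6, g4, g3]),
   (504, [g6, g2, g2, g6, g2, g2, g3, g5, g3]),
   (137, []),
   (375, [g4, g2, g3, g6, g2, g6, g3, g5, g3]),
   (359, [g2, g3, g4, g2, g5, g6, g5, g3]),
   (467, [g2, g2, g4, g3, g2, g5, g6, g5, g3, g5, g6, g5]),
   (247, [g6, g2, g4, g4, g2, g2, g3, g3, g6, g5]),
   (142, [g2, g3, g6, g2, g5, g3]),
   (270, [g3, g5, g2, g4, g2, g4, g4, g4, g5]),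
   (414, [g2, g4, g2, g3, g6]),
   (481, [g4, g4, g2, g2, g4, g6, g3, g3, g3, g5, g6]),
   (383, [g6])]

/-- Part 46 of cert1. -/
noncomputable def cert1_46 : List (ℕ × List ℕ) :=
  [(384, [g4, g2, g6, g3, g2, g6, g3, g5, g3]),
   (385, [g5, g6, g5]),
   (386, [g4, g2, g6, g3, g2, g6, g3, g5, g3]),
   (304, [g3, g2, g3, g4, g2, g6, g3, g3, g3, g5, g6]),
   (475, [g3, g4, g2, g4, g4, g2, g2, g4, g4, g3, g3]),
   (244, [g4, g2, g3, g5, g3, g6, g5]),
   (452, [g4, g3, g2, g6, g2, g2, g6, g5]),
   (372, [g5, g6, g4, g3]),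
   (332, [g4, g4, g2, g2, g2, g4, g4, g5, g6, g5]),
   (186, [g3, g2, g2, g4, g2, g5, g3, g5, g6]),
   (411, [g6, g2, g3, g6, g2, g2, g4, g4, g3, g3, g5, g6, g5]),
   (417, [g2, g2, g4, g4, g3, g2, g3, g6, g5, g3, g5]),
   (400, [g3, g4, g2, g3, g6, g2, g5, g4, g4, g3, g6, g5]),
   (163, [g3, g4, g2, g3, g6, g2, g5, g4, g4, g3, g5, g6, g5]),
   (398, [g6]),
   (399, [g4, g4, g2, g4, g2, g3, g6, g5, g3, g5, g6]),
   (396, [g4, g4, g2, g4, g2, g3, g5, g4, g4, g3, g5, g6]),
   (498, [g6, g3, g2, g6, g3, g5, g3, g5, g6]),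
   (164, []),
   (188, [g6, g2, g6, g3, g2, g6, g3, g3, g3, g5]),
   (479, [g3, g2, g2, g6, g3, g2, g4]),
   (405, [g5]),
   (167, []),
   (278, [g6, g2, g4, g4, g2, g2, g4, g3, g6]),
   (171, [g2, g2, g4, g2, g2, g2, g4, g4, g4, g3, g3]),
   (176, [g3, g4, g2, g4, g2, g5, g6, g3]),
   (497, [g3, g4, g2, g4, g2, g2, g3, g4, g4, g5]),
   (394, [g4, g2, g6, g2, g4, g2, g2, g5, g3, g6, g5]),
   (316, [g2, g3, g4, g2, g6, g5, g3, g5]),
   (413, [g4, g4, g4, g5, g6]),
   (381, [g6, g2, g6, g3, g2, g3, g3, g3, g5]),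
   (285, [g2, g2, g4, g3, g2, g4, g4, g4, g3, g3]),
   (365, [g4, g2, g2, g2, g4, g2, g4, g4, g3, g3, g6]),
   (395, [g2, g4, g4, g2, g2, g2, g4, g3, g3, g6]),
   (433, [g2, g6, g2, g2, g6, g2, g3, g5, g3, g6, g5]),
   (499, [g2, g2, g3, g4, g2, g2, g4, g4, g3, g6, g5]),
   (199, [g2, g6, g2, g2, g6, g2, g4, g4, g4, g6]),
   (507, [g2, g6, g2, g3, g6, g2, g2, g4, g3, g6]),
   (336, [g3, g2, g4, g2, g2, g2, g4, g4, g6, g5]),
   (510, []),
   (471, [g3, g2, g2, g6, g3, g2, g4, g4, g3, g5, g6]),
   (506, [g2, g2, g3, g4, g3, g2, g5, g6, g3]),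
   (276, [g4, g2, g2, g4, g6]),
   (453, [g4, g2, g6, g2, g4, g6, g3, g3, g3, g5]),
   (297, [g2, g3, g4, g3, g2, g5, g4, g4, g3, g5, g6, g5]),
   (255, [g2, g6, g2, g3, g3, g6, g5]),
   (458, [g3, g6, g2, g2, g3, g6, g5, g3]),
   (301, [g4, g4, g3, g2, g4, g6, g3, g5]),
   (432, [g4, g6, g2, g6, g3, g2, g5, g3, g4, g4, g5, g6]),
   (418, [g2, g6, g2, g2, g6, g2, g3, g4, g4, g4]),
   (300, [g2, g2, g4, g2, g2, g2, g3, g5, g3]),
   (435, [g5, g3, g4, g4, g6, g5]),
   (436, [g2, g6, g3, g2, g5, g3]),
   (218, [g2, g6, g2, g2, g2, g6, g3, g3, g3, g6]),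
   (482, [g6, g2, g2, g6, g2, g3, g4, g4, g5]),
   (210, []),
   (440, [g4, g4, g2, g4, g2, g3, g6, g5, g3, g5, g6]),
   (360, [g6, g2, g2, g4, g3, g2, g4, g3, g5]),
   (490, [g3, g4, g2, g3, g6, g2, g6, g3, g5, g3, g6]),
   (484, [g2, g4, g2, g4, g6]),
   (214, []),
   (445, [g3, g4, g2, g4, g2, g4, g4, g3, g5, g6, g5]),
   (254, [g2, g4, g4, g3, g2, g3, g4, g4, g4, g5, g6]),
   (447, [g4, g2, g6, g3, g2, g6, g3, g5, g3])]

/-- Part 47 of cert1. -/
noncomputable def cert1_47 : List (ℕ × List ℕ) :=
  [(501, [g2, g2, g3, g4, g3, g2, g5, g4, g4, g3, g5]),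
   (335, [g6, g2, g2, g2, g5, g3, g3, g3, g5, g6, g5]),
   (277, [g6, g2, g2, g4, g4, g2, g2, g4, g3]),
   (272, [g4, g6, g2, g3, g3, g5, g6]),
   (390, [g4, g2, g2, g2, g4, g2, g3, g5, g3, g5, g6, g5]),
   (427, [g4, g2, g6, g3, g2, g4, g6, g5]),
   (454, [g3, g2, g3, g6, g2, g5]),
   (455, [g6]),
   (485, [g3, g2, g3, g4, g2, g2, g5, g3, g3, g3, g6]),
   (273, [g4, g2, g6, g3, g2, g3, g4, g4, g4, g5]),
   (430, [g3, g4, g2, g2, g3, g5, g4, g4, g3, g6]),
   (274, [g6, g3, g2, g2, g6, g3, g2]),
   (235, []),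
   (338, [g6, g2, g3, g6, g2, g2, g3, g6]),
   (240, [g2, g3, g4, g3, g2, g5, g4, g4, g3, g6]),
   (241, []),
   (242, []),
   (465, [g3, g4, g2, g4, g2, g4, g4, g3, g5, g6, g5]),
   (466, [g2, g4, g2, g5, g3, g3, g3, g5]),
   (377, [g5, g4, g6, g2, g4, g2, g2, g3, g5, g4, g4, g3, g6]),
   (468, [g4, g4, g2, g4, g2, g3, g6, g5, g3, g5, g6]),
   (249, []),
   (492, [g3, g2, g4, g2, g2, g2, g5, g3, g4, g4, g5, g6]),
   (424, [g3, g5, g2, g4, g2, g2, g4, g3, g3, g5]),
   (472, [g2, g2, g6, g2, g2, g3, g4, g4, g4, g5, g6]),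
   (483, [g2, g2, g3, g4, g3, g2, g4, g4, g3, g3, g5]),
   (489, [g2, g3, g6, g2, g2, g6, g3, g3, g3]),
   (388, [g2, g4, g4, g2, g2, g4, g4, g4, g3, g3, g6]),
   (349, [g3, g4, g2, g6, g2, g2, g2, g3, g4, g4, g6, g5]),
   (281, [g2, g2, g2, g4, g2, g4, g4, g3, g3, g5, g6]),
   (478, [g4, g2, g3, g4, g2, g3, g5, g6, g5]),
   (404, [g3, g2, g4, g2, g2, g4, g3, g3, g5]),
   (488, [g5, g2, g4, g2, g4, g6, g3, g3, g3]),
   (382, [g2, g2, g2, g6, g5, g3, g5, g6]),
   (438, [g3, g4, g2, g4, g2, g2, g5, g6, g5, g3, g5, g6]),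
   (473, [g3, g4, g2, g6, g2, g2, g2, g5, g6, g4, g3, g5, g6]),
   (443, [g2, g2, g6, g2, g2, g5, g3, g3, g3, g5, g6]),
   (456, [g3, g2, g2, g6, g2, g6]),
   (486, [g6, g4, g3, g5]),
   (508, [g2, g2, g4, g3, g2, g6, g3, g3, g3, g5, g6]),
   (480, [g6, g2, g3, g4, g2, g6, g3, g5, g3, g6, g5]),
   (474, [g2, g2, g3, g6, g2, g3, g3, g5, g6, g5]),
   (442, [g2, g3, g6, g2, g4, g4, g5, g6]),
   (491, [g6, g2, g6, g2, g3, g5, g6]),
   (470, [g3, g2, g2, g4, g2, g5, g3, g4, g4, g6]),
   (318, [g2, g6, g3, g2, g5, g3, g5]),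
   (496, [g3, g4, g2, g3, g6, g2, g4, g4, g3, g3]),
   (495, [g5, g2, g4, g2, g5, g3, g3, g3]),
   (494, [g6, g2, g2, g6, g2, g2, g4, g3, g5, g6, g5]),
   (410, [g4, g2, g6, g2, g4, g2, g2, g4, g4, g3, g3]),
   (401, [g2, g3, g3, g6]),
   (419, [g2, g4, g2, g5, g6, g3]),
   (500, [g4, g6, g2, g6, g3, g2, g5, g3, g4, g4, g5, g6]),
   (448, [g4, g4, g2, g6, g2, g2, g2, g4, g3, g5, g6]),
   (502, [g6, g3, g2, g6, g2, g4, g3, g5]),
   (503, [g2, g2, g4, g2, g2, g2, g4, g4, g4, g3, g3, g5, g6, g5]),
   (373, [g6, g2, g2, g6, g2, g2, g3, g5, g3]),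
   (362, [g4, g3, g5, g6]),
   (425, [g2, g3, g4, g2, g2, g4, g4, g4, g5]),
   (421, [g3, g2, g6, g2, g2, g6, g3]),
   (487, [g3, g2, g3, g4, g2, g2, g5, g6, g5, g3, g6, g5]),
   (509, [g3, g4, g2, g3, g6, g2, g6, g3, g5]),
   (423, []),
   (511, [g6, g3, g2, g6, g2, g4, g3, g5])]

/-- Level 1. -/
noncomputable def lev1 : StabCert.Lev :=
  ⟨896, [1, 2, 3, 4, 5, 6], (words1_0 ++ (words1_1 ++ (words1_2 ++ (words1_3 ++ (words1_4 ++ (words1_5 ++ (words1_6 ++ (words1_7)))))))), (cert1_0 ++ (cert1_1 ++ (cert1_2 ++ (cert1_3 ++ (cert1_4 ++ (cert1_5 ++ (cert1_6 ++ (cert1_7 ++ (cert1_8 ++ (cert1_9 ++ (cert1_10 ++ (cert1_11 ++ (cert1_12 ++ (cert1_13 ++ (cert1_14 ++ (cert1_15 ++ (cert1_16 ++ (cert1_17 ++ (cert1_18 ++ (cert1_19 ++ (cert1_20 ++ (cert1_21 ++ (cert1_22 ++ (cert1_23 ++ (cert1_24 ++ (cert1_25 ++ (cert1_26 ++ (cert1_27 ++ (cert1_28 ++ (cert1_29 ++ (cert1_30 ++ (cert1_31 ++ (cert1_32 ++ (cert1_33 ++ (cert1_34 ++ (cert1_35 ++ (cert1_36 ++ (cert1_37 ++ (cert1_38 ++ (cert1_39 ++ (cert1_40 ++ (cert1_41 ++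 (cert1_42 ++ (cert1_43 ++ (cert1_44 ++ (cert1_45 ++ (cert1_46 ++ (cert1_47))))))))))))))))))))))))))))))))))))))))))))))))⟩

/-- Part 0 of words2. -/
noncomputable def words2_0 : List (List ℕ) :=
  [[],
   [g2],
   [g2, g2],
   [g3, g2],
   [g4, g2],
   [g6, g2],
   [g2, g2, g2],
   [g4, g2, g2],
   [g6, g2, g2],
   [g4, g3, g2],
   [g6, g3, g2],
   [g2, g4, g2],
   [g3, g4, g2],
   [g4, g4, g2],
   [g2, g6, g2],
   [g3, g6, g2],
   [g4, g6, g2],
   [g4, g2, g2, g2],
   [g6, g2, g2, g2],
   [g2, g4, g2, g2],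
   [g3, g4, g2, g2],
   [g4, g4, g2, g2],
   [g2, g6, g2, g2],
   [g3, g6, g2, g2],
   [g4, g6, g2, g2],
   [g2, g4, g3, g2],
   [g3, g4, g3, g2],
   [g4, g4, g3, g2],
   [g2, g6, g3, g2],
   [g2, g2, g4, g2],
   [g3, g2, g4, g2],
   [g4, g2, g4, g2],
   [g5, g2, g4, g2],
   [g2, g3, g4, g2],
   [g2, g2, g6, g2],
   [g3, g2, g6, g2],
   [g4, g2, g6, g2],
   [g6, g2, g6, g2],
   [g2, g3, g6, g2],
   [g2, g4, g2, g2, g2],
   [g3, g4, g2, g2, g2],
   [g4, g4, g2, g2, g2],
   [g2, g6, g2, g2, g2],
   [g3, g2, g4, g2, g2],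
   [g4, g2, g4, g2, g2],
   [g5, g2, g4, g2, g2],
   [g6, g2, g4, g2, g2],
   [g2, g3, g4, g2, g2],
   [g2, g4, g4, g2, g2],
   [g2, g2, g6, g2, g2],
   [g3, g2, g6, g2, g2],
   [g2, g3, g6, g2, g2],
   [g2, g2, g4, g3, g2],
   [g2, g3, g4, g3, g2],
   [g2, g4, g4, g3, g2],
   [g2, g2, g6, g3, g2],
   [g4, g2, g6, g3, g2],
   [g6, g2, g6, g3, g2],
   [g2, g2, g2, g4, g2],
   [g3, g2, g2, g4, g2],
   [g4, g2, g2, g4, g2],
   [g3, g4, g2, g4, g2],
   [g4, g4, g2, g4, g2],
   [g2, g5, g2, g4, g2]]

/-- Part 1 of words2. -/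
noncomputable def words2_1 : List (List ℕ) :=
  [[g3, g5, g2, g4, g2],
   [g2, g2, g3, g4, g2],
   [g3, g2, g3, g4, g2],
   [g4, g2, g3, g4, g2],
   [g6, g2, g3, g4, g2],
   [g2, g2, g2, g6, g2],
   [g3, g2, g2, g6, g2],
   [g6, g2, g2, g6, g2],
   [g6, g3, g2, g6, g2],
   [g2, g2, g3, g6, g2],
   [g3, g2, g3, g6, g2],
   [g4, g2, g3, g6, g2],
   [g2, g2, g4, g2, g2, g2],
   [g3, g2, g4, g2, g2, g2],
   [g2, g3, g4, g2, g2, g2],
   [g2, g4, g4, g2, g2, g2],
   [g3, g2, g6, g2, g2, g2],
   [g4, g2, g6, g2, g2, g2],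
   [g2, g4, g2, g4, g2, g2],
   [g3, g4, g2, g4, g2, g2],
   [g4, g4, g2, g4, g2, g2],
   [g6, g4, g2, g4, g2, g2],
   [g2, g5, g2, g4, g2, g2],
   [g3, g5, g2, g4, g2, g2],
   [g6, g5, g2, g4, g2, g2],
   [g2, g6, g2, g4, g2, g2],
   [g3, g6, g2, g4, g2, g2],
   [g4, g6, g2, g4, g2, g2],
   [g2, g2, g3, g4, g2, g2],
   [g3, g2, g3, g4, g2, g2],
   [g4, g2, g3, g4, g2, g2],
   [g2, g2, g4, g4, g2, g2],
   [g4, g2, g4, g4, g2, g2],
   [g6, g2, g4, g4, g2, g2],
   [g6, g2, g2, g6, g2, g2],
   [g4, g3, g2, g6, g2, g2],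
   [g6, g3, g2, g6, g2, g2],
   [g6, g2, g3, g6, g2, g2],
   [g2, g2, g2, g4, g3, g2],
   [g3, g2, g2, g4, g3, g2],
   [g6, g2, g2, g4, g3, g2],
   [g2, g2, g3, g4, g3, g2],
   [g3, g2, g3, g4, g3, g2],
   [g2, g2, g4, g4, g3, g2],
   [g3, g2, g4, g4, g3, g2],
   [g4, g2, g4, g4, g3, g2],
   [g6, g2, g4, g4, g3, g2],
   [g2, g2, g2, g6, g3, g2],
   [g3, g2, g2, g6, g3, g2],
   [g4, g2, g2, g6, g3, g2],
   [g4, g6, g2, g6, g3, g2],
   [g4, g2, g2, g2, g4, g2],
   [g2, g4, g2, g2, g4, g2],
   [g4, g4, g2, g2, g4, g2],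
   [g4, g2, g5, g2, g4, g2],
   [g6, g2, g2, g3, g4, g2],
   [g4, g2, g2, g2, g6, g2],
   [g4, g3, g2, g2, g6, g2],
   [g2, g6, g2, g2, g6, g2],
   [g3, g4, g2, g3, g6, g2],
   [g2, g4, g2, g6, g2, g2, g2],
   [g3, g4, g2, g6, g2, g2, g2],
   [g4, g4, g2, g6, g2, g2, g2],
   [g4, g2, g6, g2, g4, g2, g2]]

/-- Part 2 of words2. -/
noncomputable def words2_2 : List (List ℕ) :=
  [[g5, g4, g6, g2, g4, g2, g2],
   [g4, g2, g2, g4, g4, g2, g2],
   [g6, g2, g2, g4, g4, g2, g2],
   [g2, g4, g2, g4, g4, g2, g2],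
   [g3, g4, g2, g4, g4, g2, g2],
   [g2, g6, g2, g3, g6, g2, g2],
   [g6, g3, g2, g2, g6, g3, g2]]

/-- Part 0 of cert2. -/
noncomputable def cert2_0 : List (ℕ × List ℕ) :=
  [(1, []),
   (2, []),
   (6, []),
   (0, [g3, g3, g3, g5]),
   (11, []),
   (14, []),
   (3, [g5, g3]),
   (19, []),
   (22, []),
   (25, []),
   (28, []),
   (29, []),
   (33, []),
   (27, [g6, g3, g3, g3, g6]),
   (34, []),
   (38, []),
   (32, []),
   (39, []),
   (42, []),
   (31, [g5, g6, g4, g3, g5, g6, g5]),
   (47, []),
   (48, []),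
   (49, []),
   (51, []),
   (45, []),
   (52, []),
   (53, []),
   (54, []),
   (55, []),
   (58, []),
   (15, [g4, g6, g3, g5, g6, g5]),
   (56, [g5, g3, g4, g4]),
   (63, []),
   (65, []),
   (69, []),
   (12, [g4, g6, g3, g5, g6, g5]),
   (16, [g3, g3, g3, g6]),
   (26, [g6, g5, g3, g6]),
   (73, []),
   (76, []),
   (78, []),
   (79, []),
   (75, [g6, g3, g5, g3]),
   (23, [g4, g4, g4, g3, g3, g5, g6, g5]),
   (82, []),
   (86, []),
   (89, []),
   (92, []),
   (95, []),
   (67, [g3, g5, g6, g5]),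
   (20, [g4, g4, g4, g3, g3, g5, g6, g5]),
   (62, [g4, g4, g5]),
   (102, []),
   (105, []),
   (107, []),
   (111, []),
   (87, [g5, g6]),
   (43, [g3, g4, g4, g5, g6, g5]),
   (64, [g4, g4, g4, g5, g6, g5]),
   (36, [g3, g4, g4, g4, g6, g5]),
   (116, []),
   (77, [g3, g4, g4, g4]),
   (57, [g3, g5, g4, g4, g3, g6]),
   (59, [g4, g4, g4, g5, g6, g5])]

/-- Part 1 of cert2. -/
noncomputable def cert2_1 : List (ℕ × List ℕ) :=
  [(4, [g4, g4, g4, g5, g6, g5]),
   (112, [g4, g6, g3, g3, g3, g5, g6]),
   (10, [g4, g6, g3, g3, g3, g5, g6]),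
   (85, [g4, g6, g3, g5, g6, g5]),
   (80, [g4, g3, g6, g5]),
   (106, [g4, g4, g4, g5, g6]),
   (37, [g3, g3, g3, g5, g6]),
   (122, []),
   (68, [g6, g5, g3, g6, g5]),
   (103, [g4, g4, g4, g5, g6]),
   (9, [g4, g4, g4, g5, g6]),
   (114, [g6, g3, g3, g3, g6]),
   (98, [g6, g3, g5, g3, g6, g5]),
   (24, [g5, g3, g5]),
   (72, [g3, g6, g5, g3, g6]),
   (21, [g6, g3, g6, g5]),
   (40, [g4, g3, g5, g6, g5]),
   (124, []),
   (97, [g5, g6, g3, g5, g6]),
   (101, [g3, g5, g3, g5, g6]),
   (44, [g3, g3, g5, g6]),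
   (8, [g6, g4, g3]),
   (61, [g3, g4, g4, g5, g6, g5]),
   (7, [g4, g4, g4, g3, g3, g5, g6]),
   (17, [g3, g3, g3, g6, g5]),
   (109, [g6, g5, g3, g5]),
   (91, [g6, g3, g5, g3, g5, g6, g5]),
   (121, [g4, g3, g6, g5]),
   (123, [g5, g6, g4, g3]),
   (18, [g3, g4, g4, g4, g5, g6]),
   (100, [g6, g5, g3, g6]),
   (41, [g3, g6, g5, g3, g5, g6, g5]),
   (131, []),
   (113, [g4, g6, g5]),
   (88, [g4, g3, g3, g5, g6, g5]),
   (128, [g3, g3, g3]),
   (104, [g5, g4, g4, g3, g5, g6, g5]),
   (133, []),
   (74, [g4, g4, g4, g5, g6]),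
   (30, [g4, g3, g5, g6, g5]),
   (96, [g6, g3, g5, g6]),
   (70, [g4, g4, g4, g5, g6]),
   (5, [g4, g4, g4, g5, g6]),
   (108, [g3, g4, g4]),
   (13, [g4, g4, g4, g3, g3, g5, g6, g5]),
   (60, [g5, g6, g4, g3]),
   (127, [g4, g4, g3, g5, g6, g5]),
   (66, [g4, g6, g3, g3, g3, g5, g6]),
   (35, [g3, g3, g5]),
   (84, [g6, g3, g5, g3, g5]),
   (93, [g4, g4, g4, g3, g3, g6, g5]),
   (90, [g5, g6, g3]),
   (46, [g4, g6, g3, g3, g3, g5, g6]),
   (81, [g4, g6, g3, g3, g3, g6, g5]),
   (130, [g4, g4, g4, g3, g3, g6]),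
   (126, [g4]),
   (99, [g3, g6, g5, g3, g5]),
   (129, [g6, g5]),
   (120, [g6, g3, g5, g3, g5, g6, g5]),
   (50, [g3, g3, g3, g6]),
   (118, [g3, g4, g4, g4, g5, g6, g5]),
   (134, [g4, g6, g3, g3, g3, g5, g6]),
   (125, [g3, g4, g4, g4, g5]),
   (83, [g4, g3, g4, g4, g6, g5])]

/-- Part 2 of cert2. -/
noncomputable def cert2_2 : List (ℕ × List ℕ) :=
  [(71, [g4, g4, g4, g3, g3, g5]),
   (115, [g3, g5, g6]),
   (117, [g4, g4, g3]),
   (94, [g6, g5, g3]),
   (119, [g5, g6]),
   (110, [g4, g4, g5, g6, g5]),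
   (132, [g5, g3, g3, g3, g6, g5]),
   (0, [g3]),
   (3, []),
   (6, [g5, g3]),
   (1, [g4, g6, g3, g3, g3, g5, g6, g5]),
   (12, []),
   (15, []),
   (2, [g3, g3, g3]),
   (20, []),
   (23, []),
   (26, []),
   (16, [g3, g5, g3, g5]),
   (30, []),
   (4, [g4, g6, g3, g3, g3, g5, g6, g5]),
   (27, [g4, g6, g3, g3, g3, g5, g6, g5]),
   (35, []),
   (5, [g4, g6, g3, g3, g3, g5, g6, g5]),
   (10, [g4, g4, g4, g5, g6]),
   (40, []),
   (24, [g3]),
   (43, []),
   (7, [g4, g3, g5, g6]),
   (41, [g3]),
   (50, []),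
   (8, [g4, g3, g5, g6]),
   (18, [g5, g3, g3, g3]),
   (36, [g3, g5, g3, g5, g6]),
   (9, [g4, g6, g3, g3, g3, g5, g6, g5]),
   (13, []),
   (37, [g3, g5, g6, g5]),
   (59, []),
   (38, [g4, g3, g5, g6]),
   (61, []),
   (64, []),
   (66, []),
   (70, []),
   (53, [g4, g6, g3, g3, g3, g5, g6]),
   (32, [g3, g4, g4, g4, g6, g5]),
   (33, [g3, g5, g4, g4, g3, g5, g6, g5]),
   (74, []),
   (77, []),
   (17, [g5]),
   (21, [g3, g3, g3, g5]),
   (80, []),
   (51, [g5]),
   (83, []),
   (87, []),
   (90, []),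
   (93, []),
   (95, [g6, g5, g3, g5, g6, g5]),
   (68, [g4, g3, g4, g4, g6]),
   (78, [g3, g4, g4, g4, g5, g6]),
   (88, [g5, g6, g4, g3, g5, g6]),
   (103, []),
   (106, []),
   (108, []),
   (112, []),
   (92, [g4, g6, g3, g3, g3, g6, g5])]

/-- Part 3 of cert2. -/
noncomputable def cert2_3 : List (ℕ × List ℕ) :=
  [(49, [g6, g3, g5, g6]),
   (65, [g4, g6, g3, g3, g3, g5, g6, g5]),
   (55, [g4, g6, g3, g3, g3, g5, g6]),
   (82, [g3, g3, g3, g5]),
   (75, [g4, g3, g5, g6]),
   (56, [g4, g6]),
   (102, [g4, g6, g3, g5, g6]),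
   (25, [g4, g3, g5, g6, g5]),
   (69, [g4, g6, g3, g5, g6, g5]),
   (28, [g4, g4, g4, g5, g6]),
   (62, [g4, g4, g4]),
   (76, [g6]),
   (73, [g4, g6, g3, g3, g3, g5, g6, g5]),
   (52, [g4, g4, g4, g5, g6]),
   (120, [g3, g6, g5, g3]),
   (114, [g3, g3, g5]),
   (58, [g4, g6, g3, g5, g6, g5]),
   (11, [g4, g3, g5, g6]),
   (123, []),
   (57, [g4, g4, g4, g5]),
   (45, [g3, g4, g4, g4, g5, g6]),
   (85, [g5, g3, g4, g4, g5, g6]),
   (79, [g4, g3, g4, g4, g5, g6, g5]),
   (47, [g3, g5]),
   (125, []),
   (113, [g3, g4, g4, g4, g5, g6]),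
   (100, [g3, g3, g3, g5, g6]),
   (46, [g5, g6, g4, g3]),
   (22, [g3, g3, g3, g5, g6]),
   (98, [g3, g4, g4, g5, g6]),
   (39, [g6, g3, g5, g3, g5, g6, g5]),
   (19, [g4, g3, g6]),
   (119, [g3, g3, g3, g5]),
   (101, [g5]),
   (116, [g4, g4, g4, g5]),
   (67, [g6, g3, g3, g3, g5, g6]),
   (42, [g5, g3, g3, g3]),
   (128, [g4, g4, g4, g3, g3, g5, g6]),
   (48, [g3, g5, g4, g4, g3, g5]),
   (132, []),
   (110, [g4, g3, g5, g6]),
   (72, [g4, g5, g6, g5]),
   (91, [g6, g3]),
   (126, [g4, g3, g4, g4, g6, g5]),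
   (84, [g5, g6, g4, g3, g5]),
   (105, [g4, g6, g3, g3, g3, g5, g6, g5]),
   (34, [g4, g4, g4, g5, g6]),
   (115, [g5, g3, g5, g6]),
   (111, [g4, g4, g4, g3, g3, g5, g6, g5]),
   (14, [g4, g6, g3, g3, g3, g5, g6]),
   (107, [g6, g3, g6]),
   (54, [g4, g4, g4, g5, g6]),
   (129, [g6, g5, g3, g5, g6]),
   (97, [g4, g6, g3, g5, g6]),
   (63, [g4, g4, g4, g5, g6]),
   (29, [g4, g6, g3, g3, g3, g5, g6]),
   (134, [g4, g6, g3, g3, g3]),
   (86, [g4, g3, g6, g5]),
   (71, [g4, g3, g4, g4, g5]),
   (124, [g4, g3, g4, g4, g6]),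
   (89, [g3, g5, g4, g4, g3, g5, g6, g5]),
   (117, [g5, g3, g4, g4, g5, g6, g5]),
   (118, [g4, g4, g6]),
   (104, [g6, g5, g3, g5])]

/-- Part 4 of cert2. -/
noncomputable def cert2_4 : List (ℕ × List ℕ) :=
  [(131, [g6, g5, g3]),
   (130, [g3, g4, g4, g6]),
   (31, [g4, g3, g5, g6]),
   (99, [g4, g6, g3, g3, g3, g5]),
   (94, [g3, g5]),
   (44, [g6, g3, g5, g3, g6]),
   (121, [g6, g3, g3, g3]),
   (81, [g6, g3, g5, g3, g5, g6]),
   (109, [g4, g3, g4, g4, g5, g6]),
   (122, [g3, g4, g4, g6, g5]),
   (133, [g4, g4, g4, g5]),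
   (96, [g4, g4, g4, g5, g6]),
   (127, [g4, g4, g4, g6, g5]),
   (60, [g5, g3, g4, g4, g6]),
   (0, [g4]),
   (4, []),
   (7, []),
   (9, []),
   (13, []),
   (16, []),
   (17, []),
   (21, []),
   (24, []),
   (27, []),
   (15, [g5]),
   (31, []),
   (1, [g3, g3, g5]),
   (12, [g3, g3, g5]),
   (36, []),
   (10, [g4, g3, g5, g6]),
   (5, [g4, g4, g4, g3, g3, g5, g6]),
   (41, []),
   (23, [g6, g3, g5, g3, g5, g6]),
   (44, []),
   (2, [g3, g5, g3, g5]),
   (20, [g3, g5, g3, g5]),
   (47, [g4, g6]),
   (18, [g5, g3, g5]),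
   (8, [g4, g6, g3, g5, g6, g5]),
   (38, [g4, g6, g3, g3, g3, g5]),
   (3, [g4, g6, g3, g5, g6]),
   (26, [g4, g6, g3, g5, g6]),
   (56, []),
   (60, []),
   (33, [g4]),
   (62, []),
   (11, [g3, g3, g3, g5, g6]),
   (67, []),
   (58, [g5, g6, g3, g5]),
   (68, [g4, g3, g3]),
   (72, [g4, g4, g5, g6, g5]),
   (35, [g3, g3, g3, g5, g6]),
   (75, []),
   (50, [g4, g6, g3, g6]),
   (6, [g3, g5, g3]),
   (40, [g3, g5, g3]),
   (81, []),
   (77, [g3, g4, g4, g4]),
   (84, []),
   (85, []),
   (91, []),
   (94, []),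
   (96, []),
   (30, [g3, g4, g4, g5, g6])]

/-- Part 5 of cert2. -/
noncomputable def cert2_5 : List (ℕ × List ℕ) :=
  [(99, []),
   (100, [g3, g3, g3, g5, g6, g5]),
   (69, [g6, g4, g3]),
   (64, [g4, g3, g4, g4, g6, g5]),
   (109, []),
   (113, []),
   (76, [g6, g3, g6, g5]),
   (114, []),
   (115, []),
   (63, [g4, g6, g3, g3, g3, g6, g5]),
   (117, []),
   (14, [g4, g6, g3, g5, g6, g5]),
   (32, [g6, g5, g3]),
   (118, []),
   (86, [g3, g4, g4, g5, g6]),
   (55, [g5, g6, g5, g3, g6, g5]),
   (106, [g4, g4, g4, g3, g3, g6]),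
   (49, [g5, g6, g5, g3, g5, g6]),
   (98, [g4, g4, g3, g3]),
   (120, []),
   (121, []),
   (111, [g6, g3, g5, g6]),
   (61, [g4, g3, g4, g4, g6]),
   (29, [g4, g4, g3, g3, g6]),
   (28, [g5, g6, g3, g5, g6, g5]),
   (92, [g4, g5, g6]),
   (74, [g3, g3, g6, g5]),
   (101, [g3, g5, g3, g5, g6]),
   (42, [g4, g5]),
   (79, [g3, g3, g3, g5, g6, g5]),
   (51, [g3, g4, g4, g4, g6]),
   (126, []),
   (52, [g3, g5]),
   (22, [g4, g4, g4, g3, g3, g5, g6, g5]),
   (93, [g4, g4, g4, g3, g3, g6]),
   (116, [g4, g4, g4, g6, g5]),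
   (123, [g3, g5, g4, g4, g3]),
   (46, [g5, g6, g5]),
   (87, [g5, g6, g4, g3, g5, g6, g5]),
   (127, []),
   (80, [g3, g4, g4, g4, g6]),
   (88, [g4, g3, g5, g6]),
   (25, [g5, g6, g3, g5, g6]),
   (19, [g4, g3, g3, g5]),
   (83, [g4, g3, g3, g5]),
   (129, []),
   (108, [g4, g4, g4, g3, g3, g5, g6]),
   (122, [g4, g3, g4, g4, g6]),
   (37, [g5, g6, g5, g3, g5, g6]),
   (125, [g3, g6, g5, g3, g6]),
   (90, [g4, g6, g3, g3, g3, g5, g6, g5]),
   (124, [g4, g3, g5, g6]),
   (70, [g4, g6, g3, g3, g3, g6]),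
   (133, [g3, g3, g3, g5]),
   (102, [g3, g6]),
   (89, [g6, g4, g3, g5]),
   (57, [g5, g3, g5, g6, g5]),
   (107, [g3, g6, g5, g3, g5]),
   (132, [g5]),
   (95, [g3, g5, g4, g4, g3, g5]),
   (130, [g4, g4, g5]),
   (103, [g3, g4, g4, g4, g6, g5]),
   (105, [g4, g4, g3, g6]),
   (119, [g3, g5, g3, g6, g5])]

/-- Part 6 of cert2. -/
noncomputable def cert2_6 : List (ℕ × List ℕ) :=
  [(66, [g3, g6, g5]),
   (134, [g4, g5]),
   (128, [g3, g5, g4, g4, g3, g6]),
   (73, [g4, g4, g4, g3, g3, g6, g5]),
   (131, [g5, g3, g3, g3]),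
   (65, [g5, g6, g5, g3, g5]),
   (82, [g4, g4, g4, g3, g3]),
   (104, [g4, g4, g4, g5]),
   (97, [g3, g3, g3, g6]),
   (53, [g3, g5, g3, g5]),
   (43, [g4, g3, g6, g5]),
   (39, [g4, g3, g5, g6, g5]),
   (78, [g4, g4, g4, g6]),
   (112, [g5, g6, g3]),
   (45, [g4, g3, g5, g6]),
   (54, [g5, g6, g5, g3, g5, g6, g5]),
   (110, [g6, g5, g3, g5, g6, g5]),
   (59, [g3, g4, g4, g4, g6, g5]),
   (48, [g4, g4, g4, g3, g3, g5, g6, g5]),
   (71, [g5, g6, g4, g3]),
   (34, [g5, g4, g4, g3, g5, g6]),
   (0, [g5]),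
   (1, [g4, g4, g4, g5, g6]),
   (2, [g3, g3]),
   (3, [g5]),
   (5, [g3, g3]),
   (4, [g3, g3]),
   (6, [g4, g6, g3, g3, g3, g5, g6, g5]),
   (8, [g4, g6, g3, g3, g3, g5, g6, g5]),
   (7, [g4, g6, g3, g3, g3, g5, g6, g5]),
   (10, [g4, g3, g5, g6]),
   (9, [g4, g3, g5, g6]),
   (32, []),
   (16, [g4, g4, g4, g5, g6, g5]),
   (13, [g3, g3]),
   (33, [g4, g4, g4, g3, g3, g5, g6, g5]),
   (26, [g4, g4, g4, g5, g6]),
   (12, [g4, g4, g4, g5, g6, g5]),
   (18, [g4, g3, g5, g6]),
   (17, [g4, g3, g5, g6]),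
   (45, []),
   (24, [g4, g4, g4, g3, g3, g5, g6]),
   (21, [g4, g6, g3, g3, g3, g5, g6, g5]),
   (47, [g4, g3, g5, g6, g5]),
   (40, [g5, g3, g3, g3]),
   (20, [g4, g4, g4, g3, g3, g5, g6]),
   (38, [g5]),
   (15, [g4, g4, g4, g5, g6]),
   (27, [g4, g3, g5, g6]),
   (53, [g4, g6, g3, g5, g6, g5]),
   (29, [g4, g6, g3, g3, g3, g5, g6, g5]),
   (35, [g3, g3]),
   (31, [g5, g6, g4, g3]),
   (11, []),
   (14, [g4, g4, g4, g3, g3, g5, g6, g5]),
   (34, [g4, g6, g3, g3, g3, g5, g6, g5]),
   (30, [g3, g3]),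
   (37, [g4, g6, g3, g3, g3, g5, g6, g5]),
   (36, [g4, g6, g3, g3, g3, g5, g6, g5]),
   (25, [g5]),
   (51, [g6, g3, g5, g3, g5, g6]),
   (23, [g3, g5]),
   (41, [g4, g3, g5, g6]),
   (78, [g4, g4, g4, g5, g6, g5])]

/-- Part 7 of cert2. -/
noncomputable def cert2_7 : List (ℕ × List ℕ) :=
  [(50, [g4, g6, g3, g3, g3, g5, g6, g5]),
   (46, [g4, g3, g5, g6]),
   (19, []),
   (44, [g4, g3, g5, g6]),
   (22, [g4, g3, g5, g6, g5]),
   (48, [g3, g3]),
   (49, [g4, g3, g5, g6]),
   (43, [g4, g6, g3, g3, g3, g5, g6, g5]),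
   (39, [g6, g3, g5, g3, g5, g6]),
   (52, [g4, g6, g3, g3, g3, g5, g6, g5]),
   (28, [g4, g6, g3, g5, g6, g5]),
   (54, [g5]),
   (55, [g4, g6, g3, g3, g3, g5, g6, g5]),
   (57, [g4, g6, g3, g3, g3, g5, g6, g5]),
   (56, [g4, g6, g3, g3, g3, g5, g6, g5]),
   (103, [g4, g6, g3, g5, g6]),
   (102, [g4, g6, g3, g5, g6]),
   (117, [g4, g6, g3, g3, g3, g6, g5]),
   (98, [g4, g3, g3, g5, g6, g5]),
   (62, [g4, g6, g3, g3, g3, g5, g6, g5]),
   (63, [g4, g6, g3, g3, g3, g5, g6, g5]),
   (66, [g4, g4, g4, g5, g6, g5]),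
   (65, [g4, g6, g3, g3, g3, g5, g6, g5]),
   (64, [g4, g4, g4, g5, g6, g5]),
   (68, [g4, g6, g3, g3, g3, g5, g6, g5]),
   (67, [g4, g6, g3, g3, g3, g5, g6, g5]),
   (70, [g3, g5, g3]),
   (69, [g3, g5, g3]),
   (89, [g5, g6, g5, g3]),
   (72, [g5, g6, g4, g3]),
   (73, [g4, g6, g3, g3, g3, g5, g6, g5]),
   (106, [g4, g4, g4, g5, g6]),
   (75, [g5, g6, g5]),
   (76, [g5]),
   (80, [g4, g3, g5, g6]),
   (42, [g4, g4, g4, g5, g6, g5]),
   (79, [g4, g6, g3, g3, g3, g5, g6, g5]),
   (77, [g4, g3, g5, g6]),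
   (81, [g6]),
   (121, [g4, g3, g6, g5]),
   (83, [g5, g6, g4, g3]),
   (84, [g4, g3, g5, g6]),
   (88, [g4, g3, g5, g6]),
   (86, [g4, g3, g5, g6]),
   (93, [g4, g4, g4, g3, g3, g5, g6]),
   (85, [g4, g3, g5, g6]),
   (71, [g3, g3, g3, g5, g6, g5]),
   (90, [g5, g6, g5]),
   (128, []),
   (92, [g4, g3, g5, g6]),
   (87, [g4, g4, g4, g3, g3, g5, g6]),
   (94, [g5, g3, g4, g4, g6, g5]),
   (95, [g4, g3, g5, g6]),
   (97, [g4, g3, g5, g6]),
   (96, [g4, g3, g5, g6]),
   (61, [g4, g3, g3, g5, g6, g5]),
   (99, [g3, g4, g4, g6]),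
   (101, [g4, g4, g3, g3, g6, g5]),
   (100, [g4, g4, g4, g3, g3, g5]),
   (59, [g4, g6, g3, g5, g6]),
   (58, [g4, g6, g3, g5, g6]),
   (118, [g4, g3, g5, g6, g5]),
   (105, [g4, g6, g3, g3, g3, g5, g6, g5]),
   (74, [g4, g4, g4, g5, g6])]

/-- Part 8 of cert2. -/
noncomputable def cert2_8 : List (ℕ × List ℕ) :=
  [(107, [g4, g6, g3, g3, g3, g5, g6, g5]),
   (108, [g4, g3, g5, g6]),
   (110, [g4, g6, g3, g3, g3, g5, g6, g5]),
   (109, [g4, g6, g3, g3, g3, g5, g6, g5]),
   (112, [g3, g5, g3]),
   (111, [g3, g5, g3]),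
   (119, [g4, g4, g4, g5, g6]),
   (123, [g4, g3, g5, g6, g5]),
   (127, [g5, g6, g4, g3, g6]),
   (116, [g5, g3, g4, g4, g6, g5]),
   (60, [g5, g3, g4, g4, g5, g6, g5]),
   (104, [g4, g3, g5, g6, g5]),
   (113, [g4, g4, g4, g5, g6]),
   (131, [g4, g6, g3, g3, g3, g6]),
   (82, [g6, g4, g3, g5, g6, g5]),
   (132, [g5, g6, g4, g3]),
   (114, [g4, g3, g5, g6, g5]),
   (125, [g3, g4, g4, g4, g5, g6, g5]),
   (124, [g3, g4, g4, g4, g5, g6, g5]),
   (126, [g5]),
   (115, [g5, g6, g4, g3, g6]),
   (91, []),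
   (130, [g4, g4, g4, g5, g6]),
   (129, [g4, g4, g4, g5, g6]),
   (120, [g3, g4, g4, g5, g6, g5]),
   (122, [g5, g6, g4, g3]),
   (134, [g5, g3, g5]),
   (133, [g5, g3, g3, g3, g5]),
   (0, [g6]),
   (5, []),
   (8, []),
   (10, []),
   (4, [g4, g4, g4, g5, g6]),
   (1, []),
   (18, []),
   (7, [g3, g3]),
   (2, []),
   (9, [g5]),
   (3, []),
   (31, [g6, g5, g3]),
   (12, [g3, g3]),
   (16, [g3, g3]),
   (37, []),
   (27, [g4, g3, g5, g6, g5]),
   (13, [g3, g3]),
   (17, [g4, g6, g3, g3, g3, g5, g6, g5]),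
   (6, []),
   (46, []),
   (20, [g4, g6, g3, g3, g3, g5, g6, g5]),
   (24, [g4, g6, g3, g3, g3, g5, g6, g5]),
   (22, [g3, g4, g4, g6]),
   (41, [g6, g3, g5, g3, g5, g6, g5]),
   (21, [g4, g6, g3, g3, g3, g5, g6, g5]),
   (25, [g5, g3, g4, g4, g6, g5]),
   (26, [g4, g3, g5, g6]),
   (15, [g4, g3, g5, g6, g5]),
   (57, []),
   (29, [g5, g3, g4, g4, g6, g5]),
   (30, [g5, g6, g4, g3]),
   (11, [g3, g3, g3, g5, g6]),
   (32, [g4, g4, g5, g6, g5]),
   (68, []),
   (71, []),
   (72, [])]

/-- Part 9 of cert2. -/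
noncomputable def cert2_9 : List (ℕ × List ℕ) :=
  [(67, [g4, g4, g4, g3, g3, g5, g6, g5]),
   (14, []),
   (75, [g3, g4, g4, g5, g6]),
   (43, [g3, g3, g6]),
   (40, [g4, g3, g5, g6]),
   (23, [g3, g4, g4, g4, g5, g6]),
   (81, [g6, g5]),
   (39, [g3, g3, g6]),
   (85, []),
   (88, []),
   (19, []),
   (94, [g4, g3, g4, g4, g5]),
   (97, []),
   (98, []),
   (100, []),
   (101, []),
   (104, []),
   (66, [g3, g3, g3, g6, g5]),
   (110, []),
   (55, [g5, g6, g5]),
   (64, [g5, g6, g4, g3, g5]),
   (28, []),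
   (58, [g4, g6, g5]),
   (82, [g6, g3, g5, g3, g5]),
   (60, [g4, g6, g3, g3, g3, g5, g6, g5]),
   (61, [g4, g6, g3, g3, g3, g5, g6, g5]),
   (62, [g5, g6, g4, g3]),
   (70, [g3, g3, g6]),
   (56, [g6, g4, g3]),
   (119, []),
   (53, [g5, g6, g3]),
   (36, [g4, g4, g4, g3, g3, g5, g6, g5]),
   (33, []),
   (69, [g4, g6, g5]),
   (63, [g3, g3, g6]),
   (34, []),
   (35, []),
   (117, [g5, g3, g3, g3, g6, g5]),
   (74, [g5, g6, g5]),
   (38, [g4, g6, g3, g3, g3]),
   (114, [g3, g6, g5, g3, g5, g6]),
   (99, [g4, g4, g4, g6]),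
   (78, [g4, g4, g5, g6, g5]),
   (79, [g5, g6, g4, g3]),
   (80, [g6]),
   (42, [g5, g6]),
   (59, [g3, g5, g3, g5, g6]),
   (83, [g4, g3, g5, g6]),
   (91, [g4, g3, g5, g6]),
   (44, []),
   (106, [g5, g3, g6]),
   (116, [g4, g4, g4, g5]),
   (45, []),
   (89, [g4, g6, g5]),
   (124, [g6, g4, g3]),
   (84, [g4, g3, g5, g6]),
   (92, [g6]),
   (93, [g5, g3, g4, g4, g6, g5]),
   (47, [g5, g6, g3, g5, g6]),
   (130, []),
   (96, [g3, g3]),
   (48, []),
   (49, []),
   (77, [g4, g5])]

/-- Part 10 of cert2. -/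
noncomputable def cert2_10 : List (ℕ × List ℕ) :=
  [(50, []),
   (51, []),
   (131, [g6, g5, g3, g6, g5]),
   (105, [g4]),
   (52, []),
   (103, [g4, g4, g4]),
   (86, [g6, g3, g3, g3, g5]),
   (107, [g6, g4, g3, g5]),
   (122, [g3, g4, g4, g4, g6]),
   (109, [g5]),
   (54, []),
   (127, [g5, g3, g5]),
   (134, []),
   (113, [g4, g6, g3, g3, g3, g5, g6, g5]),
   (76, [g5, g6, g3, g6, g5]),
   (133, [g6, g4, g3, g6]),
   (87, [g4, g4, g6, g5]),
   (73, [g5, g6, g3, g5]),
   (118, [g4, g6, g3, g3, g3, g5, g6, g5]),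
   (65, []),
   (121, [g3, g5, g3]),
   (120, [g3, g5, g3]),
   (108, [g6, g3, g5, g3, g6, g5]),
   (123, [g4, g6, g3, g3, g3, g5, g6, g5]),
   (90, [g5, g6, g4, g3, g5]),
   (125, [g5]),
   (126, [g6]),
   (111, [g5, g3, g3, g3, g5]),
   (128, [g4, g3, g5, g6]),
   (129, [g4, g3, g5, g6]),
   (95, []),
   (102, [g3, g6, g5, g3]),
   (132, [g4, g3, g5, g6]),
   (115, [g5, g6, g4, g3, g6, g5]),
   (112, [])]

/-- Level 2. -/
noncomputable def lev2 : StabCert.Lev :=
  ⟨902, [2, 3, 4, 5, 6], (words2_0 ++ (words2_1 ++ (words2_2))), (cert2_0 ++ (cert2_1 ++ (cert2_2 ++ (cert2_3 ++ (cert2_4 ++ (cert2_5 ++ (cert2_6 ++ (cert2_7 ++ (cert2_8 ++ (cert2_9 ++ (cert2_10)))))))))))⟩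

/-- Part 0 of words3. -/
noncomputable def words3_0 : List (List ℕ) :=
  [[],
   [g3],
   [g4],
   [g3, g3],
   [g4, g3],
   [g5, g3],
   [g6, g3],
   [g4, g4],
   [g3, g3, g3],
   [g4, g3, g3],
   [g4, g4, g3],
   [g6, g4, g3],
   [g3, g5, g3],
   [g6, g5, g3],
   [g4, g6, g3],
   [g5, g6, g3],
   [g3, g4, g4],
   [g4, g4, g4],
   [g5, g3, g3, g3],
   [g6, g3, g3, g3],
   [g4, g4, g3, g3],
   [g5, g4, g4, g3],
   [g5, g6, g4, g3],
   [g6, g3, g5, g3],
   [g3, g6, g5, g3],
   [g5, g6, g5, g3],
   [g4, g3, g4, g4],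
   [g5, g3, g4, g4],
   [g3, g4, g4, g4],
   [g4, g6, g3, g3, g3],
   [g4, g4, g4, g3, g3],
   [g3, g5, g4, g4, g3]]

/-- Part 0 of cert3. -/
noncomputable def cert3_0 : List (ℕ × List ℕ) :=
  [(1, []),
   (3, []),
   (6, [g5, g6]),
   (8, []),
   (5, [g6, g5]),
   (12, []),
   (9, [g6, g5]),
   (16, []),
   (0, []),
   (19, [g5, g6]),
   (7, []),
   (14, [g6, g5]),
   (18, []),
   (24, []),
   (23, []),
   (13, [g6, g5]),
   (20, []),
   (28, []),
   (4, [g5, g6]),
   (2, [g6, g5]),
   (10, []),
   (31, []),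
   (17, [g6, g5]),
   (29, []),
   (26, [g6]),
   (21, [g6, g5]),
   (15, [g5]),
   (25, [g5, g6]),
   (30, []),
   (11, [g5, g6]),
   (22, [g5, g6]),
   (27, []),
   (2, []),
   (4, []),
   (7, []),
   (9, []),
   (10, []),
   (11, []),
   (14, []),
   (17, []),
   (12, [g6, g5]),
   (20, []),
   (13, [g6]),
   (15, [g6]),
   (16, [g5, g6]),
   (1, [g6]),
   (22, []),
   (21, []),
   (26, []),
   (0, []),
   (23, [g6, g5]),
   (29, []),
   (30, []),
   (5, [g6]),
   (25, [g6]),
   (24, [g5]),
   (27, [g5, g6]),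
   (6, [g6]),
   (8, []),
   (18, [g6]),
   (31, [g5]),
   (28, [g6, g5]),
   (3, []),
   (19, [g5, g6, g5])]

/-- Part 1 of cert3. -/
noncomputable def cert3_1 : List (ℕ × List ℕ) :=
  [(0, [g5]),
   (5, []),
   (7, [g6, g5]),
   (3, [g5]),
   (4, [g6]),
   (1, []),
   (15, []),
   (2, [g5, g6]),
   (18, []),
   (20, [g6, g5]),
   (21, []),
   (22, []),
   (12, [g5]),
   (25, []),
   (14, [g6]),
   (6, []),
   (27, []),
   (17, [g6]),
   (8, []),
   (24, [g6, g5]),
   (9, [g5, g6]),
   (10, []),
   (11, []),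
   (28, []),
   (19, [g5, g6]),
   (13, []),
   (31, [g5, g6, g5]),
   (16, []),
   (23, []),
   (29, [g6]),
   (30, [g6]),
   (26, [g5, g6, g5]),
   (0, [g6]),
   (6, []),
   (2, [g5]),
   (3, [g6]),
   (11, []),
   (13, []),
   (1, []),
   (17, [g6, g5]),
   (19, []),
   (9, [g5]),
   (10, [g6]),
   (4, []),
   (23, []),
   (5, []),
   (21, []),
   (25, []),
   (16, [g6]),
   (7, [g5, g6]),
   (26, [g6]),
   (8, []),
   (30, [g6, g5]),
   (14, []),
   (22, [g6]),
   (12, []),
   (31, []),
   (15, []),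
   (18, [g6]),
   (29, []),
   (28, [g5]),
   (27, []),
   (20, [g5, g6]),
   (24, [])]

/-- Level 3. -/
noncomputable def lev3 : StabCert.Lev :=
  ⟨894, [3, 4, 5, 6], (words3_0), (cert3_0 ++ (cert3_1))⟩

/-- Part 0 of words4. -/
noncomputable def words4_0 : List (List ℕ) :=
  [[],
   [g5],
   [g6],
   [g6, g5],
   [g5, g6],
   [g5, g6, g5]]

/-- Part 0 of cert4. -/
noncomputable def cert4_0 : List (ℕ × List ℕ) :=
  [(1, []),
   (0, []),
   (4, []),
   (5, []),
   (2, []),
   (3, []),
   (2, []),
   (3, []),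
   (0, []),
   (1, []),
   (5, []),
   (4, [])]

/-- Level 4. -/
noncomputable def lev4 : StabCert.Lev :=
  ⟨938, [5, 6], (words4_0), (cert4_0)⟩

/-- Neighbours, part 0. -/
noncomputable def nbs0 : List (List ℕ) :=
  [[],
   [910, 969, 1003, 1028, 1035, 1096, 1107, 1112, 1146, 1216, 1257, 1271, 1280, 1338, 1403, 1413, 1483, 1486, 1518, 1536, 1550],
   [922, 951, 1012, 1028, 1044, 1061, 1110, 1143, 1160, 1178, 1210, 1254, 1283, 1300, 1322, 1404, 1429, 1442, 1456, 1526, 1555],
   [900, 949, 979, 987, 1028, 1070, 1078, 1119, 1154, 1162, 1208, 1263, 1307, 1342, 1350, 1396, 1448, 1495, 1530, 1538, 1584],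
   [905, 968, 974, 1002, 1028, 1066, 1124, 1186, 1193, 1198, 1266, 1295, 1323, 1330, 1392, 1439, 1447, 1451, 1462, 1512, 1579],
   [899, 1018, 1023, 1024, 1028, 1095, 1222, 1227, 1228, 1232, 1246, 1253, 1374, 1379, 1380, 1384, 1438, 1562, 1567, 1568, 1572],
   [922, 957, 970, 981, 1038, 1068, 1084, 1113, 1165, 1228, 1247, 1280, 1331, 1364, 1373, 1390, 1444, 1481, 1512, 1530, 1543],
   [903, 938, 951, 961, 971, 1060, 1075, 1102, 1111, 1124, 1137, 1253, 1280, 1290, 1303, 1316, 1431, 1458, 1469, 1482, 1495],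
   [920, 952, 999, 1012, 1029, 1078, 1093, 1125, 1144, 1229, 1267, 1280, 1297, 1351, 1377, 1414, 1462, 1493, 1513, 1547, 1562],
   [915, 966, 1008, 1020, 1044, 1234, 1249, 1256, 1266, 1280, 1292, 1302, 1315, 1327, 1340, 1350, 1363, 1368, 1379, 1389, 1402],
   [926, 976, 980, 1012, 1054, 1059, 1089, 1107, 1141, 1148, 1180, 1195, 1228, 1266, 1318, 1357, 1405, 1443, 1495, 1534, 1582],
   [902, 939, 951, 992, 1033, 1078, 1107, 1117, 1163, 1209, 1236, 1250, 1279, 1287, 1333, 1379, 1428, 1457, 1466, 1512, 1558],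
   [906, 967, 984, 1044, 1051, 1080, 1107, 1116, 1187, 1192, 1245, 1253, 1311, 1329, 1393, 1446, 1452, 1462, 1522, 1530, 1559],
   [922, 958, 997, 1010, 1021, 1071, 1107, 1124, 1149, 1200, 1233, 1268, 1277, 1350, 1381, 1399, 1420, 1436, 1490, 1510, 1562],
   [895, 904, 907, 922, 937, 1146, 1155, 1158, 1173, 1188, 1367, 1376, 1379, 1394, 1409, 1450, 1453, 1462, 1465, 1480, 1495],
   [931, 947, 1005, 1032, 1044, 1078, 1109, 1124, 1146, 1179, 1228, 1241, 1273, 1308, 1332, 1397, 1432, 1468, 1502, 1539, 1544],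
   [919, 951, 1016, 1025, 1048, 1076, 1105, 1130, 1146, 1167, 1225, 1251, 1266, 1278, 1347, 1385, 1419, 1492, 1509, 1530, 1562],
   [913, 944, 1012, 1041, 1057, 1085, 1121, 1142, 1146, 1201, 1238, 1253, 1284, 1350, 1388, 1406, 1441, 1477, 1500, 1512, 1548],
   [893, 950, 951, 1000, 1049, 1064, 1114, 1171, 1228, 1243, 1293, 1350, 1407, 1412, 1413, 1462, 1463, 1519, 1520, 1576, 1577],
   [912, 946, 955, 1012, 1040, 1088, 1091, 1124, 1159, 1196, 1261, 1317, 1321, 1371, 1379, 1413, 1460, 1528, 1530, 1564, 1581],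
   [922, 948, 964, 991, 1052, 1078, 1138, 1152, 1169, 1191, 1253, 1266, 1289, 1325, 1395, 1413, 1472, 1507, 1540, 1557, 1575],
   [897, 973, 990, 995, 1044, 1410, 1413, 1417, 1421, 1484, 1487, 1491, 1495, 1505, 1508, 1512, 1516, 1562, 1565, 1569, 1573],
   [924, 954, 1009, 1026, 1044, 1073, 1097, 1126, 1151, 1226, 1270, 1276, 1326, 1346, 1383, 1413, 1461, 1495, 1512, 1531, 1562],
   [922, 972, 988, 1004, 1031, 1078, 1101, 1183, 1197, 1214, 1253, 1266, 1305, 1334, 1370, 1413, 1467, 1485, 1517, 1552, 1585],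
   [896, 963, 1012, 1030, 1034, 1062, 1124, 1181, 1202, 1239, 1301, 1358, 1379, 1411, 1413, 1473, 1475, 1530, 1532, 1551, 1553],
   [936, 951, 986, 1013, 1043, 1079, 1082, 1106, 1157, 1228, 1252, 1281, 1313, 1350, 1366, 1413, 1462, 1479, 1529, 1561, 1563],
   [928, 978, 996, 1007, 1012, 1146, 1161, 1176, 1182, 1235, 1253, 1264, 1269, 1320, 1335, 1350, 1356, 1497, 1512, 1527, 1533],
   [925, 951, 1014, 1022, 1046, 1074, 1103, 1127, 1146, 1231, 1255, 1266, 1282, 1344, 1382, 1400, 1416, 1489, 1515, 1530, 1562],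
   [916, 1019, 1039, 1044, 1055, 1058, 1078, 1083, 1094, 1100, 1118, 1124, 1139, 1146, 1164, 1170, 1185, 1189, 1207, 1213, 1228],
   [922, 941, 998, 1037, 1050, 1092, 1115, 1133, 1146, 1219, 1244, 1260, 1296, 1359, 1379, 1423, 1462, 1495, 1504, 1521, 1546],
   [901, 914, 918, 922, 923, 1098, 1107, 1120, 1124, 1128, 1129, 1328, 1341, 1345, 1349, 1350, 1549, 1562, 1566, 1570, 1571],
   [935, 943, 1001, 1036, 1044, 1065, 1107, 1132, 1156, 1221, 1253, 1259, 1294, 1361, 1365, 1425, 1462, 1478, 1503, 1530, 1578]]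

/-- Masks, part 0. -/
noncomputable def masks0 : List ℕ :=
  [0x0,
   0x4001000040000000480000000000000000200800000000000000040000000000000100800200000000010000000000000000040000000108010000000000000008100000080000000200000000000000400000000000000000000000000000000000000000000000000000000000000000000000000000000000000000000000000000000000000000000000000000000000000000000000000000000000000000000000000000000000000000000000000000000000000000000000000000000000,
   0x80000004000000000000000010004002000001000000000000000000004000010000800000040000000000400000004000100008000000040000000000020001000100010000000000000008000000400000000000000000000000000000000000000000000000000000000000000000000000000000000000000000000000000000000000000000000000000000000000000000000000000000000000000000000000000000000000000000000000000000000000000000000000000000000000000,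
   0x1000000000004040000000080000000000100000000000010000000000040400000000800000000008000000000000100000000000404000000008000000000404000000000100000000008080000002000000000001000000000000000000000000000000000000000000000000000000000000000000000000000000000000000000000000000000000000000000000000000000000000000000000000000000000000000000000000000000000000000000000000000000000000000000000000000000000,
   0x80000000000000001000000000000400880800000000001000000000000000408000000800000040000000000000000420400000000000000100000000000000400000000100000040000004100000000000000020000000000000000000000000000000000000000000000000000000000000000000000000000000000000000000000000000000000000000000000000000000000000000000000000000000000000000000000000000000000000000000000000000000000000000000000000000000000,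
   0x1184000000000000000000000000000000400000000000011840000000000000000000000000000020400118400000000000000000000000000000008000000000000000118400000000000000000000000000000800000000000000000000000000000000000000000000000000000000000000000000000000000000000000000000000000000000000000000000000000000000000000000000000000000000000000000000000000000000000000000000000000000000000000000000000000000000,
   0x80040001000000020000000010000000000000400020100000000800000000000100000000800010000000000000002000000000000200000010001000000040000000000000200400200000000400000000000000000000000000000000000000000000000000000000000000000000000000000000000000000000000000000000000000000000000000000000000000000000000000000000000000000000000000000000000000000000000000000000000000000000000000000000000000,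
   0x80040020040000008000000000000000000000000000100080040100000020000000000000000000000000000200100080400000080010000000000000000000000802008004000000008000000000000000000000000000000000000000000000000000000000000000000000000000000000000000000000000000000000000000000000000000000000000000000000000000000000000000000000000000000000000000000000000000000000000000000000000000000000,
   0x4000800000002000020000000400000000000400000000200000080000000000002000100080000000020000000000000000000010000200000002000400000000000200010008000000000010000000100000000000000000000000000000000000000000000000000000000000000000000000000000000000000000000000000000000000000000000000000000000000000000000000000000000000000000000000000000000000000000000000000000000000000000000000000000000000000,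
   0x400200801080040100080080040100100040102000400000000000000000000000000000000000000000000001000001001000000000040000000000008000000000000000000000000000000000000000000000000000000000000000000000000000000000000000000000000000000000000000000000000000000000000000000000000000000000000000000000000000000000000000000000000000000000000000000000000000000000000,
   0x400000000000400000000080000000000008000000002000000000002000000000400000000000040000000010000000080010000000102000000008000200000008400000000010000000110000000000004000000000000000000000000000000000000000000000000000000000000000000000000000000000000000000000000000000000000000000000000000000000000000000000000000000000000000000000000000000000000000000000000000000000000000000000000000000000000000,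
   0x400000000001000000000004020000001000000000000800000000002000000000008080000004001000000200000000000800000000002008000000400000000002000000000100000000008008000000004000000000000000000000000000000000000000000000000000000000000000000000000000000000000000000000000000000000000000000000000000000000000000000000000000000000000000000000000000000000000000000000000000000000000000000000000000000000,
   0x800000040400000000000000401040000000000002000000000000000200008000000000000020200000000000010800000000000000001008000001000000081000000000000001000080000000000000040000000000000000000000000000000000000000000000000000000000000000000000000000000000000000000000000000000000000000000000000000000000000000000000000000000000000000000000000000000000000000000000000000000000000000000000000000000000,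
   0x4000000000000400004000000000000100010000080002000000040000000000000000020100000000200000001000000000000200000100008000000008000000000002004002000000000400000000400000000000000000000000000000000000000000000000000000000000000000000000000000000000000000000000000000000000000000000000000000000000000000000000000000000000000000000000000000000000000000000000000000000000000000000000000000000000000,
   0x80010002402400000000020004000900800000000000000000000000000000000000000000001000200048040000000000000000000000000000000000000000000000000002000400090080000000000000000000000000000000000000000000000000000000000000000000000000000000000000000000000000000000000000000000000000000000000000000000000000000000000000000000000000000000000000000000000000000000000000000000000000000000,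
   0x108000000004000000010000000010000000020000000000000001000001000000002000000020010000000000008000000040000100020000000400000001001000000200000000000000800080000000000000000000000000000000000000000000000000000000000000000000000000000000000000000000000000000000000000000000000000000000000000000000000000000000000000000000000000000000000000000000000000000000000000000000000000000000000000000,
   0x4000000040000200010000000000000000008000000020000000008000000000000000040040008000002000000000000008000040004000002000000100000010000020100000000000000008000000080000000000000000000000000000000000000000000000000000000000000000000000000000000000000000000000000000000000000000000000000000000000000000000000000000000000000000000000000000000000000000000000000000000000000000000000000000000000000,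
   0x1000000001001000002000000002000000004000100000000040000000000000001000000020004000000002000000000000044000020000000020000002000200000010000000000000000100000002000000000000000000000000000000000000000000000000000000000000000000000000000000000000000000000000000000000000000000000000000000000000000000000000000000000000000000000000000000000000000000000000000000000000000000000000000000000000,
   0x30000000000000180000000000000c0000000000030800000000000004000000000000020000000000008001000000000000008000000000000040000000000010002000000000001000000000000c000000000000020000000000000000000000000000000000000000000000000000000000000000000000000000000000000000000000000000000000000000000000000000000000000000000000000000000000000000000000000000000000000000000000000000000000000000000000000000000,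
   0x200010000000050000000000000000100000000000200000000808000000000002200000000000002000000000000000100000000080000000100000000900000000000100000010000000000000080400000001000000000000000000000000000000000000000000000000000000000000000000000000000000000000000000000000000000000000000000000000000000000000000000000000000000000000000000000000000000000000000000000000000000000000000000000000000000000000,
   0x8000200010000000080000000100000000000000200008000000000000000020000000020000040020000000000000008000020001000400000000000000400000100000000000000080000010001000000400000000000000000000000000000000000000000000000000000000000000000000000000000000000000000000000000000000000000000000000000000000000000000000000000000000000000000000000000000000000000000000000000000000000000000000000000000000000000,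
   0x2224000000000011120088900000000000000022240000000000000000000000000000000000000000000000000000000000000000000000000000000000000000001000000000000840002000000000000000000200000000000000000000000000000000000000000000000000000000000000000000000000000000000000000000000000000000000000000000000000000000000000000000000000000000000000000000000000000000000000000000000000000000000000000000000000000000,
   0x4000000080001000080000000200000000000200000008000000004000040000000000010400000000004000000000000000000800000400000020000020000001000040002000000000000040000001000000000000000000000000000000000000000000000000000000000000000000000000000000000000000000000000000000000000000000000000000000000000000000000000000000000000000000000000000000000000000000000000000000000000000000000000000000000000000,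
   0x2000000010000000020000000200008000000000000200000000004000000004000000200000000040020000000004000200080000000000000000000200000400000000000800000100010001000000000000400000000000000000000000000000000000000000000000000000000000000000000000000000000000000000000000000000000000000000000000000000000000000000000000000000000000000000000000000000000000000000000000000000000000000000000000000000000000000,
   0x28000140000000000000a00000000000000280000000800004000000000000020000000000000008000000004000020000000000000100000000000000040000004400010000000000008000000000000000100000000000000000000000000000000000000000000000000000000000000000000000000000000000000000000000000000000000000000000000000000000000000000000000000000000000000000000000000000000000000000000000000000000000000000000000000000000,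
   0xa000000020000000000008000400000000000200000000000400040000000020000000200000010000010000000000000000020000000000004000004800000000800000020000004000000008001000000000000000000000000000000000000000000000000000000000000000000000000000000000000000000000000000000000000000000000000000000000000000000000000000000000000000000000000000000000000000000000000000000000000000000000000000000000000000000,
   0x208001000200000000000000000000000000000000001040008001000000000000210020000800000000000041000200040000000000000000000000000000000010801000040000000000010000000000000000000000000000000000000000000000000000000000000000000000000000000000000000000000000000000000000000000000000000000000000000000000000000000000000000000000000000000000000000000000000000000000000000000000000000000000000000,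
   0x4000000040008000002000000000000000001000100004000000001000000000000000400040080000080000000000000000000040000800000800000040000004000004040000000000000008000002000000000000000000000000000000000000000000000000000000000000000000000000000000000000000000000000000000000000000000000000000000000000000000000000000000000000000000000000000000000000000000000000000000000000000000000000000000000000000,
   0x10002080002200041000040800104000104008400004801080000800000000000000000000000010000000000000000000000000000000000000000000000000000000000000000000000000000000000000000000000000000000000000000000000000000000000000000000000000000000000000000000000000000000000000000000000000000000000000000000000000000000000000,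
   0x400000200010080000000400000000080000000000800008000000000000001000000001000100000080000000000000000040020000800001000000000040020000000004000000000000020000400000000000000000000000000000000000000000000000000000000000000000000000000000000000000000000000000000000000000000000000000000000000000000000000000000000000000000000000000000000000000000000000000000000000000000000000000000000000000,
   0xc44002000000000000000000000000000000000000000000000000062200100000000000000000000000000000000000000000000000003110008040000000000000000000000000000000000000000000c44002000000000000000000000000000000000000000000000000000000000000000000000000000000000000000000000000000000000000000000000000000000000000000000000000000000000000000000000000000000000000000000000000000000000000000000000000000000000,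
   0x40000000000040000008000004000400000000200000000000000220000000000000000400000000820000000200000000000000010000010000008000000000200001010000000020000000000000080800000000000000000000000000000000000000000000000000000000000000000000000000000000000000000000000000000000000000000000000000000000000000000000000000000000000000000000000000000000000000000000000000000000000000000000000000000000000000000]

/-- Neighbours, part 1. -/
noncomputable def nbs1 : List (List ℕ) :=
  [[930, 951, 989, 1015, 1045, 1078, 1107, 1140, 1168, 1190, 1224, 1240, 1306, 1353, 1379, 1387, 1427, 1434, 1454, 1512, 1583],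
   [911, 945, 1006, 1012, 1042, 1063, 1107, 1108, 1175, 1212, 1228, 1266, 1299, 1337, 1372, 1375, 1437, 1445, 1495, 1496, 1554],
   [908, 962, 982, 1044, 1056, 1069, 1135, 1150, 1153, 1217, 1266, 1280, 1285, 1350, 1355, 1379, 1435, 1449, 1470, 1537, 1541],
   [921, 953, 975, 1012, 1027, 1078, 1123, 1145, 1199, 1230, 1265, 1280, 1324, 1352, 1378, 1415, 1440, 1462, 1494, 1511, 1562],
   [933, 951, 983, 1017, 1047, 1067, 1124, 1177, 1206, 1211, 1253, 1258, 1280, 1339, 1343, 1401, 1426, 1455, 1495, 1523, 1542],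
   [898, 909, 922, 927, 932, 1194, 1205, 1218, 1223, 1228, 1274, 1280, 1291, 1304, 1309, 1314, 1501, 1512, 1525, 1530, 1535],
   [917, 956, 977, 1011, 1028, 1072, 1131, 1147, 1166, 1228, 1253, 1272, 1275, 1298, 1348, 1379, 1418, 1488, 1514, 1545, 1562],
   [894, 940, 942, 985, 1028, 1081, 1122, 1124, 1172, 1220, 1266, 1310, 1312, 1360, 1408, 1422, 1424, 1462, 1464, 1512, 1560],
   [929, 959, 965, 993, 1028, 1078, 1086, 1099, 1134, 1184, 1215, 1242, 1288, 1350, 1369, 1398, 1433, 1495, 1499, 1530, 1556],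
   [922, 951, 1012, 1028, 1044, 1077, 1090, 1104, 1174, 1203, 1237, 1286, 1319, 1336, 1354, 1386, 1430, 1459, 1476, 1498, 1580],
   [893, 944, 987, 1020, 1021, 1089, 1138, 1186, 1224, 1225, 1246, 1247, 1290, 1338, 1376, 1377, 1432, 1478, 1526, 1564, 1565],
   [900, 903, 911, 924, 937, 1098, 1106, 1109, 1117, 1130, 1143, 1327, 1330, 1338, 1351, 1364, 1548, 1551, 1559, 1572, 1585],
   [906, 949, 957, 1014, 1040, 1064, 1108, 1170, 1178, 1232, 1260, 1267, 1303, 1338, 1368, 1439, 1487, 1497, 1507, 1549, 1558],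
   [916, 979, 999, 1004, 1015, 1234, 1254, 1259, 1270, 1277, 1295, 1301, 1316, 1320, 1338, 1344, 1359, 1366, 1384, 1390, 1405],
   [900, 939, 947, 988, 1029, 1096, 1133, 1141, 1187, 1233, 1246, 1254, 1285, 1293, 1339, 1385, 1439, 1473, 1481, 1527, 1573],
   [926, 971, 979, 1009, 1050, 1096, 1143, 1152, 1186, 1232, 1236, 1268, 1313, 1324, 1356, 1402, 1446, 1492, 1502, 1535, 1581],
   [908, 949, 1010, 1043, 1057, 1084, 1096, 1127, 1158, 1189, 1258, 1311, 1325, 1330, 1384, 1414, 1457, 1460, 1526, 1531, 1582],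
   [909, 963, 987, 1046, 1051, 1096, 1100, 1173, 1178, 1201, 1256, 1279, 1295, 1357, 1370, 1415, 1431, 1490, 1505, 1572, 1576],
   [907, 961, 973, 987, 1054, 1065, 1079, 1143, 1153, 1213, 1265, 1278, 1349, 1371, 1384, 1439, 1466, 1518, 1533, 1543, 1552],
   [896, 943, 979, 981, 1022, 1092, 1137, 1178, 1180, 1226, 1246, 1250, 1289, 1330, 1332, 1378, 1435, 1477, 1518, 1520, 1566],
   [900, 950, 958, 1007, 1056, 1068, 1118, 1175, 1232, 1245, 1295, 1352, 1409, 1411, 1419, 1461, 1469, 1518, 1526, 1575, 1583],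
   [930, 949, 975, 1005, 1031, 1075, 1082, 1115, 1186, 1192, 1254, 1299, 1321, 1355, 1373, 1406, 1416, 1484, 1510, 1518, 1572],
   [895, 949, 980, 983, 1026, 1091, 1143, 1179, 1182, 1230, 1246, 1249, 1295, 1331, 1334, 1382, 1434, 1483, 1519, 1522, 1570],
   [900, 912, 925, 927, 935, 1151, 1163, 1176, 1178, 1186, 1372, 1384, 1397, 1399, 1407, 1450, 1458, 1470, 1483, 1485, 1493],
   [914, 962, 979, 1000, 1041, 1060, 1083, 1125, 1148, 1168, 1214, 1261, 1304, 1326, 1347, 1393, 1439, 1483, 1504, 1526, 1572],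
   [921, 972, 987, 1033, 1055, 1063, 1088, 1114, 1165, 1200, 1232, 1254, 1276, 1330, 1361, 1389, 1441, 1455, 1483, 1509, 1546],
   [931, 952, 964, 987, 1045, 1080, 1102, 1161, 1195, 1232, 1254, 1314, 1330, 1345, 1367, 1400, 1417, 1449, 1483, 1529, 1553],
   [928, 979, 997, 1008, 1013, 1410, 1428, 1439, 1444, 1453, 1468, 1483, 1489, 1496, 1511, 1526, 1532, 1542, 1557, 1572, 1578],
   [900, 967, 1016, 1030, 1038, 1059, 1067, 1121, 1129, 1178, 1186, 1199, 1207, 1244, 1306, 1363, 1384, 1421, 1483, 1540, 1561],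
   [897, 938, 941, 945, 949, 1093, 1132, 1135, 1139, 1143, 1246, 1251, 1284, 1287, 1291, 1295, 1436, 1472, 1475, 1479, 1483],
   [920, 949, 992, 1039, 1052, 1062, 1105, 1120, 1155, 1186, 1206, 1254, 1269, 1315, 1346, 1365, 1443, 1463, 1501, 1518, 1572],
   [900, 913, 915, 923, 936, 1196, 1209, 1211, 1219, 1232, 1274, 1282, 1295, 1297, 1305, 1318, 1503, 1516, 1518, 1526, 1539]]

/-- Masks, part 1. -/
noncomputable def masks1 : List ℕ :=
  [0x800000000000000001000000000000004000040800000000080800000200000000000400000000000000010001000000004000010000001000000008000000400000002000000080000020000000008000040000000000000000000000000000000000000000000000000000000000000000000000000000000000000000000000000000000000000000000000000000000000000000000000000000000000000000000000000000000000000000000000000000000000000000000000000000000000000000,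
   0x40000000000000180000000000020200000000000000090000000020000000008000000040000000010001000000000800000000000000018000000000080000400000010400000000000000200000000800000000000000000000000000000000000000000000000000000000000000000000000000000000000000000000000000000000000000000000000000000000000000000000000000000000000000000000000000000000000000000000000000000000000000000000000000000000000,
   0x22000000000000000040000200080000000000000800000840000000000000002100040000000000020000000000000002400080000000000000002001001000000000000000400004000000000000100000000000000000000000000000000000000000000000000000000000000000000000000000000000000000000000000000000000000000000000000000000000000000000000000000000000000000000000000000000000000000000000000000000000000000000000000000000000,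
   0x4000000000000800040000000400001000000800000000400000100000010000000000100020000000040000000800000000000020000080000000000400000000000080010000000008000020000000200000000000000000000000000000000000000000000000000000000000000000000000000000000000000000000000000000000000000000000000000000000000000000000000000000000000000000000000000000000000000000000000000000000000000000000000000000000000000,
   0x40000800000080000000008000000400000200000000000000880000000000000100000420000000000840000002000000000000100000000000000800008000000200000000800000008000200000000000000000000000000000000000000000000000000000000000000000000000000000000000000000000000000000000000000000000000000000000000000000000000000000000000000000000000000000000000000000000000000000000000000000000000000000000000000000,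
   0x842001002000000000000000000000000000000000000000000000042100080104000000000010840020040000000000000000000000000000000000000000000000000000000000000000108400200400000000000000000000000000000000000000000000000000000000000000000000000000000000000000000000000000000000000000000000000000000000000000000000000000000000000000000000000000000000000000000000000000000000000000000000000000000000,
   0x4000200000004000001000000000000000004000000000800000010000000000004000009000020000010000000000000004000080008000000000000010000000000100008000000020000100000000020000000000000000000000000000000000000000000000000000000000000000000000000000000000000000000000000000000000000000000000000000000000000000000000000000000000000000000000000000000000000000000000000000000000000000000000000000000000000,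
   0x1000000000001000000000001400000000140010000000000010000000000014000000000040000000000100000000000100000000000140000000002000000000000100000000002000000000050000000000040000000000000000000000000000000000000000000000000000000000000000000000000000000000000000000000000000000000000000000000000000000000000000000000000000000000000000000000000000000000000000000000000000000000000000000000000000000,
   0x100000040000000880000000000000020000000040000002000040000000000000010000000000040000008000000100000000000040000000080040400000000000100000000200000020800000020000000000000000000000000000000000000000000000000000000000000000000000000000000000000000000000000000000000000000000000000000000000000000000000000000000000000000000000000000000000000000000000000000000000000000000000000000000000000000,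
   0x100000000000000000000400001000080000004000000000040000000400010000800000004000000000002000000008000000400000000000000001000400200000001000100010000000000000008000000400000000000000000000000000000000000000000000000000000000000000000000000000000000000000000000000000000000000000000000000000000000000000000000000000000000000000000000000000000000000000000000000000000000000000000000000000000000000000,
   0x30000000004000000000004000000000010000000000000300000000040000000000040000000000c00003000000000400000000000400000000000200000000000000003000000008000000000100000000000020000000000000000000000000000000000000000000000000000000000000000000000000000000000000000000000000000000000000000000000000000000000000000000000000000000000000000000000000000000000000000000000000000000000000000000000000000000,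
   0x2001000809000000000000000000000000000000000000000000000100080040480000000000000000000000000000000000000000000008004002024040000000000000000000000000000000000000002001000809000000000000000000000000000000000000000000000000000000000000000000000000000000000000000000000000000000000000000000000000000000000000000000000000000000000000000000000000000000000000000000000000000000000000000000000000000000000,
   0x402000000000080200800000000000800000000000000001000000040000000080000000081000000100000000000004040000000000000010000000000100000100000040000000000000202000000000040000000000000000000000000000000000000000000000000000000000000000000000000000000000000000000000000000000000000000000000000000000000000000000000000000000000000000000000000000000000000000000000000000000000000000000000000000000000,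
   0x2000410000408001040001100020800020400840000400000000000000000000000000000000000000000000000000000080108000080000000000000010000000000000000000000000000000000000000000000000000000000000000000000000000000000000000000000000000000000000000000000000000000000000000000000000000000000000000000000000000000000000000000000000000000000000000000000000000000000000,
   0x2000000000008000000000020200000000800000000000020000000000080000000000202000000040400200000000000800000000002020000000010000000000000000200000000010000000000808000000001000000000000000000000000000000000000000000000000000000000000000000000000000000000000000000000000000000000000000000000000000000000000000000000000000000000000000000000000000000000000000000000000000000000000000000000000000000000,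
   0x200000000000800000004010000000000040000000000400000000001000000010020000000000100000001100000000000400000001008000000000010000000000040000000002000000080800000000004000000000000000000000000000000000000000000000000000000000000000000000000000000000000000000000000000000000000000000000000000000000000000000000000000000000000000000000000000000000000000000000000000000000000000000000000000000000000000,
   0x400000000000084000000000000000120000000000400000010000000000000420008000000000000400000000000000002000000040000000800000010010000002000800000004000000000000002000000000100000000000000000000000000000000000000000000000000000000000000000000000000000000000000000000000000000000000000000000000000000000000000000000000000000000000000000000000000000000000000000000000000000000000000000000000000000000000,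
   0x11000000000000000020004000000000000008000800000000004002000000000000000800080000100000000000002000004200000000000000000110000000000084000000000000008000008000000000000200000000000000000000000000000000000000000000000000000000000000000000000000000000000000000000000000000000000000000000000000000000000000000000000000000000000000000000000000000000000000000000000000000000000000000000000000000000000,
   0x10080200040000000000004000000800000000000010008000020000000000000000040020000000000002000000000000002008000000000000000800200400000000000000008002002000000000000080000000000000000000000000000000000000000000000000000000000000000000000000000000000000000000000000000000000000000000000000000000000000000000000000000000000000000000000000000000000000000000000000000000000000000000000000000000000,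
   0x40000000000140000000002000000000080000000000000400000000001400000000020000000004400004000000000014000000000200000000001000000000000000004000000000280000000080000000000100000000000000000000000000000000000000000000000000000000000000000000000000000000000000000000000000000000000000000000000000000000000000000000000000000000000000000000000000000000000000000000000000000000000000000000000000000000,
   0x8080000000000040400000000000202000000000080a0000000000000100000000000000800000000000200100000000000000800000000000004000000000001001000000000000800000000000404000000000001000000000000000000000000000000000000000000000000000000000000000000000000000000000000000000000000000000000000000000000000000000000000000000000000000000000000000000000000000000000000000000000000000000000000000000000000000000000,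
   0x1000000000000040400000100000000000000001004000000020000800000002000008000000000040000000000000010400000000000000000800000004080000000000800000200000008000002000040000000000000000000000000000000000000000000000000000000000000000000000000000000000000000000000000000000000000000000000000000000000000000000000000000000000000000000000000000000000000000000000000000000000000000000000000000000000000000,
   0x400000000000480000000080000000000040000000000004000000000004800000000800000000002400040000000000048000000008000000000000800000000000000040000000000900000002000000000000080000000000000000000000000000000000000000000000000000000000000000000000000000000000000000000000000000000000000000000000000000000000000000000000000000000000000000000000000000000000000000000000000000000000000000000000000000000,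
   0x202800400404000000000080a001001000000000000000000000000000000000000000000000040500080080000000000000000000000000000000000000000000000000000080a001001000000000000000000000000000000000000000000000000000000000000000000000000000000000000000000000000000000000000000000000000000000000000000000000000000000000000000000000000000000000000000000000000000000000000000000000000000000000,
   0x1000000000004000010000080000000000800000000002000000000008000040000100000000002000000000004000000000010000100000200000000008000010000200000000010000080004000000000004000000000000000000000000000000000000000000000000000000000000000000000000000000000000000000000000000000000000000000000000000000000000000000000000000000000000000000000000000000000000000000000000000000000000000000000000000000000000,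
   0x400000000200000080000008002000000000000200000020000000400000000000010000040000100000001000000002000000000000400000100000080800002000000000008001000000000000200000000000000000000000000000000000000000000000000000000000000000000000000000000000000000000000000000000000000000000000000000000000000000000000000000000000000000000000000000000000000000000000000000000000000000000000000000000000000,
   0x20000020000000000080000000200000002000100000000800002000400040000000000000040000100000000080000000200000000000000400001000000002000000000000008000010010000080000000000000000000000000000000000000000000000000000000000000000000000000000000000000000000000000000000000000000000000000000000000000000000000000000000000000000000000000000000000000000000000000000000000000000000000000000000000000000,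
   0x41000200040104000800102080010002010801000040000000000000000000000000000000000000000000000000000000000000000000000000000000000000000000000000021002000080000000000010000000000000000000000000000000000000000000000000000000000000000000000000000000000000000000000000000000000000000000000000000000000000000000000000000000000000000000000000000000000000000000000000000000000000000000000000000000000000000,
   0x2000010000000000000080000000000000020000000010000080000000000000400000000000000100000000080800404000000000002020000000000000808000040400100000000000080000000000000001000000000000000000000000000000000000000000000000000000000000000000000000000000000000000000000000000000000000000000000000000000000000000000000000000000000000000000000000000000000000000000000000000000000000000000000000000000000,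
   0x88900000000100000000000000000000000000000000000889000000008400000000000000000000000008890000000002000000000000000000000000000000000002224000000000200000000000000000000000000000000000000000000000000000000000000000000000000000000000000000000000000000000000000000000000000000000000000000000000000000000000000000000000000000000000000000000000000000000000000000000000000000000,
   0x1000000000000040002000000000800008000000000000000000200004000000080000000000200040000000000040000400000008000000010002000000000040100080000000000100000000002000000100000000000000000000000000000000000000000000000000000000000000000000000000000000000000000000000000000000000000000000000000000000000000000000000000000000000000000000000000000000000000000000000000000000000000000000000000000000000000,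
   0x8004050008000000000000000000000000000000000000000000000400202800404000000000100080a0010000000000000000000000000000000000000000000000000000000000000000100080a001000000000000000000000000000000000000000000000000000000000000000000000000000000000000000000000000000000000000000000000000000000000000000000000000000000000000000000000000000000000000000000000000000000000000000000000000000000000]

/-- Neighbours, part 2. -/
noncomputable def nbs2 : List (List ℕ) :=
  [[898, 946, 979, 984, 1025, 1094, 1140, 1178, 1183, 1229, 1246, 1252, 1292, 1330, 1335, 1381, 1437, 1480, 1518, 1523, 1569],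
   [933, 954, 987, 1037, 1042, 1071, 1103, 1143, 1169, 1194, 1239, 1273, 1302, 1353, 1384, 1388, 1439, 1452, 1513, 1518, 1577],
   [919, 955, 970, 987, 1036, 1096, 1126, 1157, 1178, 1191, 1212, 1241, 1264, 1295, 1341, 1401, 1423, 1454, 1537, 1547, 1572],
   [918, 949, 966, 996, 1049, 1096, 1111, 1145, 1167, 1197, 1218, 1240, 1296, 1330, 1358, 1384, 1425, 1445, 1491, 1526, 1544],
   [904, 979, 995, 1006, 1017, 1058, 1074, 1085, 1096, 1101, 1113, 1128, 1143, 1144, 1156, 1171, 1186, 1190, 1202, 1217, 1232],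
   [900, 948, 989, 1019, 1027, 1096, 1142, 1188, 1223, 1231, 1246, 1254, 1294, 1340, 1375, 1383, 1439, 1482, 1528, 1563, 1571],
   [902, 953, 979, 991, 1032, 1076, 1116, 1150, 1159, 1205, 1254, 1295, 1328, 1338, 1384, 1412, 1426, 1465, 1500, 1508, 1554],
   [932, 949, 1001, 1034, 1048, 1073, 1123, 1149, 1178, 1232, 1238, 1281, 1308, 1338, 1343, 1394, 1427, 1439, 1467, 1534, 1541],
   [900, 976, 990, 998, 1047, 1069, 1143, 1164, 1221, 1235, 1243, 1309, 1317, 1330, 1338, 1387, 1395, 1420, 1494, 1515, 1572],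
   [901, 978, 982, 986, 987, 1097, 1177, 1181, 1185, 1186, 1246, 1255, 1329, 1333, 1337, 1338, 1440, 1517, 1521, 1525, 1526],
   [925, 954, 999, 1010, 1024, 1062, 1086, 1141, 1161, 1179, 1210, 1247, 1279, 1303, 1327, 1403, 1446, 1453, 1520, 1560, 1575],
   [928, 939, 957, 968, 973, 1234, 1252, 1263, 1268, 1275, 1290, 1305, 1311, 1321, 1336, 1351, 1357, 1367, 1382, 1397, 1403],
   [926, 974, 1016, 1020, 1052, 1090, 1139, 1187, 1226, 1267, 1316, 1364, 1403, 1411, 1441, 1457, 1490, 1504, 1538, 1545, 1577],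
   [903, 1018, 1031, 1041, 1051, 1079, 1196, 1207, 1220, 1233, 1236, 1251, 1368, 1377, 1390, 1403, 1429, 1546, 1556, 1569, 1582],
   [907, 967, 985, 999, 1049, 1094, 1101, 1110, 1168, 1195, 1208, 1257, 1269, 1290, 1364, 1368, 1419, 1473, 1488, 1505, 1570],
   [903, 940, 955, 997, 1039, 1234, 1247, 1257, 1267, 1278, 1287, 1300, 1313, 1325, 1335, 1348, 1361, 1372, 1383, 1396, 1409],
   [913, 942, 957, 1009, 1045, 1092, 1129, 1148, 1160, 1191, 1257, 1273, 1298, 1316, 1327, 1377, 1416, 1460, 1522, 1563, 1584],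
   [894, 945, 988, 1020, 1022, 1070, 1072, 1115, 1163, 1200, 1202, 1257, 1303, 1351, 1388, 1390, 1442, 1491, 1539, 1576, 1578],
   [904, 1019, 1035, 1046, 1057, 1234, 1250, 1261, 1272, 1276, 1288, 1303, 1318, 1322, 1334, 1349, 1364, 1365, 1377, 1392, 1407],
   [919, 947, 996, 1035, 1050, 1065, 1088, 1120, 1180, 1209, 1247, 1316, 1326, 1351, 1368, 1448, 1464, 1485, 1498, 1519, 1568],
   [903, 957, 999, 1020, 1035, 1410, 1423, 1433, 1443, 1456, 1466, 1479, 1492, 1503, 1514, 1527, 1540, 1544, 1553, 1566, 1579],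
   [923, 943, 992, 1035, 1054, 1074, 1095, 1142, 1173, 1189, 1267, 1290, 1310, 1327, 1342, 1390, 1417, 1459, 1472, 1532, 1561],
   [912, 972, 1000, 1026, 1035, 1061, 1131, 1133, 1167, 1184, 1198, 1264, 1267, 1290, 1327, 1390, 1437, 1452, 1502, 1510, 1583],
   [903, 957, 999, 1020, 1035, 1058, 1071, 1081, 1091, 1104, 1114, 1127, 1140, 1151, 1162, 1175, 1188, 1192, 1201, 1214, 1227],
   [930, 958, 984, 1035, 1042, 1085, 1100, 1134, 1158, 1166, 1231, 1247, 1283, 1316, 1351, 1368, 1421, 1447, 1475, 1529, 1557],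
   [897, 964, 1013, 1030, 1035, 1234, 1237, 1241, 1245, 1296, 1299, 1303, 1307, 1353, 1356, 1360, 1364, 1374, 1377, 1381, 1385],
   [914, 965, 1007, 1020, 1043, 1059, 1080, 1105, 1126, 1152, 1174, 1193, 1213, 1257, 1303, 1351, 1390, 1434, 1480, 1528, 1567],
   [935, 957, 963, 993, 1025, 1063, 1118, 1155, 1171, 1197, 1222, 1257, 1316, 1327, 1354, 1377, 1428, 1436, 1451, 1533, 1573],
   [903, 959, 980, 995, 1037, 1234, 1247, 1257, 1267, 1282, 1293, 1306, 1319, 1323, 1332, 1345, 1358, 1370, 1380, 1393, 1406],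
   [929, 948, 999, 1005, 1033, 1066, 1103, 1132, 1157, 1219, 1257, 1290, 1364, 1368, 1399, 1430, 1438, 1477, 1496, 1531, 1581],
   [896, 903, 905, 918, 931, 1147, 1154, 1156, 1169, 1182, 1368, 1375, 1377, 1390, 1403, 1450, 1454, 1461, 1463, 1476, 1489],
   [895, 946, 989, 1020, 1023, 1082, 1128, 1176, 1212, 1215, 1267, 1316, 1364, 1400, 1403, 1422, 1425, 1468, 1516, 1552, 1555]]

/-- Masks, part 2. -/
noncomputable def masks2 : List ℕ :=
  [0x200000000000840000000010000000000200000000000002000000000008400000000100000000010400020000000000084000000001000000000004000000000000000020000000001080000000400000000000400000000000000000000000000000000000000000000000000000000000000000000000000000000000000000000000000000000000000000000000000000000000000000000000000000000000000000000000000000000000000000000000000000000000000000000000000000000,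
   0x20000000000000042000000000000001000800000000000110000000200000000000040000002000000008000000000040000020000008000000000800000008000000420000000000008000000040000200000000000000000000000000000000000000000000000000000000000000000000000000000000000000000000000000000000000000000000000000000000000000000000000000000000000000000000000000000000000000000000000000000000000000000000000000000000000000000,
   0x1000000802000000000000000000004000000080000200000000000000200000000000800000010000020000001000008004000020000000400000010000000000000010000000000008000400080000000080000000000000000000000000000000000000000000000000000000000000000000000000000000000000000000000000000000000000000000000000000000000000000000000000000000000000000000000000000000000000000000000000000000000000000000000000000000000000,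
   0x100004000000008000000000020000200000000010000004000000400000001000000000000010000040000200000008000020000000080010000000000020000000000001000000040002000000040000000000000000000000000000000000000000000000000000000000000000000000000000000000000000000000000000000000000000000000000000000000000000000000000000000000000000000000000000000000000000000000000000000000000000000000000000000000000,
   0x100020004004400080010018001000200210020040004000000000200400800080000000000000000010000000000000000000000000000000000000000000000000000000000000000000000000000000000000000000000000000000000000000000000000000000000000000000000000000000000000000000000000000000000000000000000000000000000000000000000000000000000,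
   0x808000000010000000000040000000000800000000000008080000000100000000000400000000040400080800000001000000000004000000000010000000000000000080800000020000000001000000000001000000000000000000000000000000000000000000000000000000000000000000000000000000000000000000000000000000000000000000000000000000000000000000000000000000000000000000000000000000000000000000000000000000000000000000000000000000000,
   0x40000000000101000000002000000000400100000010000000000040100000000800000000040000000000020000000000080400000001000000000100000000001000000000080080000020000000000004000000000000000000000000000000000000000000000000000000000000000000000000000000000000000000000000000000000000000000000000000000000000000000000000000000000000000000000000000000000000000000000000000000000000000000000000000000000,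
   0x20400000000000000008000000800800000004000000000000840000001000000200000000004100000000000004000000200000080000000000020000010004000000020000000000002000100000000000000000000000000000000000000000000000000000000000000000000000000000000000000000000000000000000000000000000000000000000000000000000000000000000000000000000000000000000000000000000000000000000000000000000000000000000000000000,
   0x1000000000000008000040000000000000000010000008080000000000040400202000000000000000080800200000000000001000008000000000000000002000008000000000004040010000000000000000001000000000000000000000000000000000000000000000000000000000000000000000000000000000000000000000000000000000000000000000000000000000000000000000000000000000000000000000000000000000000000000000000000000000000000000000000000000000,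
   0x622000000000000000000100000000000000000000000006220000000000000000008040000000000000062200000000000000000002000000000000000000000000000c440000000000000000002000000000000000000000000000000000000000000000000000000000000000000000000000000000000000000000000000000000000000000000000000000000000000000000000000000000000000000000000000000000000000000000000000000000000000000000000000000000,
   0x8001000000000100000000000000002040000000000800000000000000000080000080000080000000800000000400000008000200002000000000000040000040000000010004008000000000040000002000000000000000000000000000000000000000000000000000000000000000000000000000000000000000000000000000000000000000000000000000000000000000000000000000000000000000000000000000000000000000000000000000000000000000000000000000000000000000,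
   0x820004000802080010002008200040008108010000400000000000000000000000000000000000000000000000000000000000000002100200008010000000000000000000000000000000000000000000000000000000000000000000000000000000000000000000000000000000000000000000000000000000000000000000000000000000000000000000000000000000000000000000000000000000000000000000000000000000000000000,
   0x20000000204000000010004000000020002000000080800000000100000000000100000000000080000000004000000000800000000000800000000000400000000100000001100000000004000000000004000000000000000000000000000000000000000000000000000000000000000000000000000000000000000000000000000000000000000000000000000000000000000000000000000000000000000000000000000000000000000000000000000000000000000000000000000000000000000,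
   0x400200100400000000000000000000000000002000000800400201000000000000000000000000000008001200100080100000000000000000000000000000800000080200800400000000000000000000000000008000000000000000000000000000000000000000000000000000000000000000000000000000000000000000000000000000000000000000000000000000000000000000000000000000000000000000000000000000000000000000000000000000000000000000000000000000000000,
   0x400000000000000020001000200000000000008000000000001100000000000000000040000200200000000000100080000010000000000000040204000000000020000000000008002000080000000000000080000000000000000000000000000000000000000000000000000000000000000000000000000000000000000000000000000000000000000000000000000000000000000000000000000000000000000000000000000000000000000000000000000000000000000000000000000000000,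
   0x20010008010020010008020020010008040080200800400000000000000000000000000000000000000000000000080000000002000000000080010000000008000000000000000000000000000000000000000000000000000000000000000000000000000000000000000000000000000000000000000000000000000000000000000000000000000000000000000000000000000000000000000000000000000000000000000000000000000000000,
   0x1000008000000000400000000000000100000000001000000000200000000000080100004000002000200000000000000008000000100100002000000001000000000002000000002000000000000200040000002000000000000000000000000000000000000000000000000000000000000000000000000000000000000000000000000000000000000000000000000000000000000000000000000000000000000000000000000000000000000000000000000000000000000000000000000000000000000,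
   0x50000000008000000000008000000000004000000000000500000000080000000000080000000000200000000000005000000000800000000000800000000014000000000005000000010000000000200000000000040000000000000000000000000000000000000000000000000000000000000000000000000000000000000000000000000000000000000000000000000000000000000000000000000000000000000000000000000000000000000000000000000000000000000000000000000000000,
   0x8001000200300020004004400080010011002004000400000000000000000000000000000000000000000002004008000800000000000000000000000000010000000000000000000000000000000000000000000000000000000000000000000000000000000000000000000000000000000000000000000000000000000000000000000000000000000000000000000000000000000000000000000000000000000000000000000000000000000000,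
   0x100000000000080000400200001000100000000000000000001000080000040100000000000000000800000000200000010000000000000010000000100000200040008000000001000000000000800000080000000000000000000000000000000000000000000000000000000000000000000000000000000000000000000000000000000000000000000000000000000000000000000000000000000000000000000000000000000000000000000000000000000000000000000000000000000000000,
   0x80040020110008004008010008004010008020080040000000000000000000000000000000000000000000000000000000000000000000000000000000000000000000008001000008000000000200000000000008000000000000000000000000000000000000000000000000000000000000000000000000000000000000000000000000000000000000000000000000000000000000000000000000000000000000000000000000000000000000000000000000000000000000000000000000000000000,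
   0x2000000100000000000000100080000000002000000400000000000400080004000040000080000000000000000002000200000004000000000008000040000400008000000000100000000000080000800000000000000000000000000000000000000000000000000000000000000000000000000000000000000000000000000000000000000000000000000000000000000000000000000000000000000000000000000000000000000000000000000000000000000000000000000000000000000,
   0x800000000000000000404000000000001000200000000000400000000000000080000000040000090000000000000000400100008000000028000000000000000020000008040000010000001000000000000001000000000000000000000000000000000000000000000000000000000000000000000000000000000000000000000000000000000000000000000000000000000000000000000000000000000000000000000000000000000000000000000000000000000000000000000000000000000000,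
   0x8004002011000800400801000800401000802008004000008001000008000000000200000000000008000000000000000000000000000000000000000000000000000000000000000000000000000000000000000000000000000000000000000000000000000000000000000000000000000000000000000000000000000000000000000000000000000000000000000000000000000000000,
   0x200000020000000000000800000080000020000000000001000080000000100000000800000000800080000000000000004040000040000000100020000000000408000000000001000000400000040000000000000000000000000000000000000000000000000000000000000000000000000000000000000000000000000000000000000000000000000000000000000000000000000000000000000000000000000000000000000000000000000000000000000000000000000000000000000000,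
   0x22240111200000000000889000000000000222400000000000000000000000000000000000000000000000008400020000000000010000000000000000200000000000000000000000000000000000000000000000000000000000000000000000000000000000000000000000000000000000000000000000000000000000000000000000000000000000000000000000000000000000000000000000000000000000000000000000000000000,
   0x80000000010000000000010000000000040000000000400000000080000000000080000000000200000000002000020000400001000000400002000001000008000800001000800000000020000000000004000000000000000000000000000000000000000000000000000000000000000000000000000000000000000000000000000000000000000000000000000000000000000000000000000000000000000000000000000000000000000000000000000000000000000000000000000000000000,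
   0x2000000000200000000000000000000800101000000000000200000400000080100000000000000200000000400000200000080008000000004000000000000080000000020000000200000008200000800000000000000000000000000000000000000000000000000000000000000000000000000000000000000000000000000000000000000000000000000000000000000000000000000000000000000000000000000000000000000000000000000000000000000000000000000000000000000000,
   0x4002001004004002001008800400200400080200800400000000000000000000000000000000000000000000000020000000000800100000800000000000008000000000000000000000000000000000000000000000000000000000000000000000000000000000000000000000000000000000000000000000000000000000000000000000000000000000000000000000000000000000000000000000000000000000000000000000000000000000,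
   0x200000000000080000000100002000000000404000000080000001100000000000000000040000000200000000080000000000000020000010000000800000000400000002000000208000000000001000020000000000000000000000000000000000000000000000000000000000000000000000000000000000000000000000000000000000000000000000000000000000000000000000000000000000000000000000000000000000000000000000000000000000000000000000000000000000000000,
   0x2001000a04400000000000800400281000000000000000000000000000000000000000000000040020014080000000000000000000000000000000000000000000000000000080040028100000000000000000000000000000000000000000000000000000000000000000000000000000000000000000000000000000000000000000000000000000000000000000000000000000000000000000000000000000000000000000000000000000000000000000000000000000000,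
   0x90000000010000000000010000000000240000900000000100000000000100000000000080000000000009000000001000000000001000000000004000000000000009000000020000000000400000000000080000000000000000000000000000000000000000000000000000000000000000000000000000000000000000000000000000000000000000000000000000000000000000000000000000000000000000000000000000000000000000000000000000000000000000000000000000000]

/-- Neighbours, part 3. -/
noncomputable def nbs3 : List (List ℕ) :=
  [[899, 950, 957, 1006, 1055, 1234, 1239, 1240, 1244, 1284, 1289, 1290, 1294, 1341, 1346, 1347, 1351, 1398, 1403, 1404, 1408],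
   [936, 941, 999, 1002, 1036, 1083, 1119, 1121, 1183, 1190, 1247, 1286, 1303, 1327, 1371, 1403, 1418, 1445, 1484, 1509, 1571],
   [894, 961, 1010, 1030, 1032, 1068, 1130, 1187, 1208, 1236, 1238, 1298, 1300, 1355, 1357, 1376, 1378, 1417, 1479, 1536, 1557],
   [912, 965, 981, 1048, 1051, 1066, 1075, 1141, 1153, 1214, 1268, 1276, 1352, 1354, 1380, 1432, 1457, 1465, 1519, 1536, 1548],
   [926, 940, 972, 1014, 1056, 1091, 1137, 1185, 1233, 1235, 1265, 1279, 1311, 1326, 1359, 1373, 1407, 1442, 1488, 1536, 1584],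
   [916, 939, 959, 964, 975, 1410, 1430, 1435, 1446, 1451, 1469, 1475, 1490, 1497, 1515, 1521, 1536, 1543, 1561, 1567, 1582],
   [926, 939, 969, 1010, 1051, 1094, 1105, 1138, 1184, 1230, 1272, 1283, 1317, 1363, 1409, 1412, 1444, 1455, 1487, 1533, 1579],
   [913, 969, 1005, 1022, 1037, 1064, 1125, 1166, 1187, 1198, 1268, 1279, 1291, 1322, 1395, 1433, 1449, 1458, 1508, 1564, 1582],
   [907, 969, 1007, 1025, 1039, 1081, 1093, 1102, 1159, 1233, 1243, 1304, 1342, 1357, 1374, 1446, 1457, 1470, 1498, 1507, 1565],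
   [893, 969, 990, 991, 1040, 1067, 1141, 1162, 1219, 1236, 1237, 1310, 1311, 1331, 1332, 1388, 1389, 1416, 1490, 1511, 1568],
   [927, 938, 952, 962, 969, 1097, 1106, 1118, 1131, 1141, 1236, 1269, 1278, 1288, 1301, 1311, 1447, 1456, 1467, 1480, 1490],
   [924, 969, 986, 1004, 1034, 1061, 1115, 1134, 1165, 1199, 1233, 1249, 1273, 1282, 1357, 1392, 1446, 1457, 1477, 1514, 1542],
   [921, 969, 983, 1008, 1038, 1073, 1095, 1104, 1155, 1187, 1213, 1268, 1279, 1307, 1335, 1366, 1419, 1464, 1517, 1551, 1582],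
   [926, 939, 969, 1010, 1051, 1060, 1092, 1103, 1135, 1181, 1227, 1270, 1281, 1314, 1360, 1406, 1448, 1459, 1493, 1539, 1585],
   [898, 939, 944, 985, 1026, 1070, 1076, 1109, 1114, 1160, 1206, 1261, 1297, 1302, 1348, 1394, 1446, 1485, 1490, 1536, 1582],
   [897, 926, 929, 933, 937, 1193, 1222, 1225, 1229, 1233, 1274, 1279, 1308, 1311, 1315, 1319, 1500, 1529, 1532, 1536, 1540],
   [920, 942, 998, 1013, 1051, 1072, 1110, 1141, 1170, 1194, 1211, 1255, 1268, 1292, 1320, 1396, 1421, 1457, 1472, 1536, 1553],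
   [915, 978, 993, 1000, 1010, 1088, 1151, 1164, 1174, 1187, 1236, 1260, 1323, 1334, 1344, 1357, 1438, 1501, 1513, 1523, 1536],
   [893, 947, 980, 981, 1024, 1080, 1129, 1167, 1168, 1216, 1265, 1317, 1355, 1356, 1404, 1422, 1423, 1469, 1507, 1508, 1556],
   [914, 961, 1002, 1019, 1040, 1085, 1127, 1173, 1195, 1216, 1263, 1306, 1352, 1373, 1395, 1412, 1435, 1476, 1522, 1545, 1565],
   [919, 945, 968, 991, 1056, 1075, 1090, 1119, 1147, 1216, 1243, 1296, 1361, 1378, 1399, 1428, 1487, 1502, 1527, 1543, 1564],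
   [899, 975, 990, 997, 1046, 1058, 1063, 1064, 1068, 1132, 1137, 1138, 1142, 1153, 1158, 1159, 1163, 1210, 1215, 1216, 1220],
   [895, 910, 925, 928, 931, 1098, 1101, 1116, 1131, 1134, 1137, 1322, 1337, 1352, 1355, 1358, 1543, 1558, 1573, 1576, 1579],
   [910, 976, 1001, 1015, 1021, 1068, 1075, 1126, 1182, 1198, 1265, 1283, 1288, 1325, 1397, 1400, 1435, 1453, 1514, 1563, 1581],
   [910, 961, 975, 981, 1056, 1083, 1117, 1166, 1184, 1191, 1244, 1251, 1313, 1329, 1392, 1441, 1456, 1528, 1531, 1549, 1554],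
   [910, 963, 988, 995, 1049, 1061, 1121, 1139, 1153, 1221, 1224, 1272, 1277, 1347, 1373, 1378, 1433, 1447, 1469, 1534, 1546],
   [901, 902, 906, 910, 911, 1152, 1153, 1157, 1161, 1162, 1373, 1374, 1378, 1382, 1383, 1450, 1459, 1460, 1464, 1468, 1469],
   [910, 961, 975, 981, 1056, 1089, 1104, 1176, 1179, 1197, 1202, 1259, 1293, 1342, 1360, 1367, 1420, 1427, 1489, 1505, 1568],
   [910, 941, 1016, 1041, 1055, 1068, 1075, 1108, 1171, 1227, 1265, 1307, 1310, 1328, 1333, 1370, 1435, 1473, 1491, 1498, 1559],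
   [910, 948, 955, 1009, 1043, 1081, 1095, 1137, 1149, 1207, 1237, 1284, 1352, 1355, 1387, 1405, 1448, 1478, 1504, 1509, 1543],
   [905, 967, 975, 986, 1050, 1068, 1137, 1148, 1153, 1216, 1264, 1270, 1275, 1286, 1345, 1385, 1434, 1467, 1538, 1544, 1551],
   [904, 1018, 1034, 1045, 1056, 1059, 1075, 1086, 1097, 1189, 1201, 1216, 1231, 1366, 1378, 1393, 1408, 1543, 1555, 1570, 1585]]

/-- Masks, part 3. -/
noncomputable def masks3 : List ℕ :=
  [0x1184000000000008c200000000000461000000000118400000000000000000000000000000000000000000000800000000000400000000000204000000000000800000000000000000000000000000000000000000000000000000000000000000000000000000000000000000000000000000000000000000000000000000000000000000000000000000000000000000000000000000000000000000000000000000000000000000000000000000000,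
   0x800000000000000200000100000000020000004000800000008000000000080000080004000000000800000000000004080000000000000028000000008000000000010000000048000000000000021000000000000000000000000000000000000000000000000000000000000000000000000000000000000000000000000000000000000000000000000000000000000000000000000000000000000000000000000000000000000000000000000000000000000000000000000000000000000000000,
   0x200001000000000000008000000000000002000000000500002800000000000014000000000000005000000100000800000000000004000000000000001000000001400004000000000002000000000000000040000000000000000000000000000000000000000000000000000000000000000000000000000000000000000000000000000000000000000000000000000000000000000000000000000000000000000000000000000000000000000000000000000000000000000000000000000000,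
   0x1001000080000000000002020000010000000000001000000500000000000000000010100000000000004000000000000002002000000000000000080400090000000000000000200020000000000001000000000000000000000000000000000000000000000000000000000000000000000000000000000000000000000000000000000000000000000000000000000000000000000000000000000000000000000000000000000000000000000000000000000000000000000000000000000000,
   0x1000000000001000000000001000000000004000000008000000020008000000040008000000080020000000a00000000000200000000000200000000000800000001000000000040000000001000000010004000000000000000000000000000000000000000000000000000000000000000000000000000000000000000000000000000000000000000000000000000000000000000000000000000000000000000000000000000000000000000000000000000000000000000000000000000000000000000,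
   0x400082000081000208000204000820000840084000040000000000000000000000000000000000000000000000000000000000000000000000000000000000000000000000000000000000008010800008000010000000000000000000000000000000000000000000000000000000000000000000000000000000000000000000000000000000000000000000000000000000000000000000000000000000000000000000000000000000000000000000000000000000000000000000000000000000000000,
   0x80000000000200000000000800000008010000000120000000000080000000000200000000801000000000040000000000100000000000400000002004000000000080000000004000000000200000008004000000000000000000000000000000000000000000000000000000000000000000000000000000000000000000000000000000000000000000000000000000000000000000000000000000000000000000000000000000000000000000000000000000000000000000000000000000000000000,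
   0x400010000000000000100000000000040200020000000008000000000000000004000000080080100000000000000000400800004000000000200000000000000100000020004000200000000200000000000002000000000000000000000000000000000000000000000000000000000000000000000000000000000000000000000000000000000000000000000000000000000000000000000000000000000000000000000000000000000000000000000000000000000000000000000000000000000000,
   0x20000000000000080400000040020040000000000000000040002000400000000100000000000000080200000000000000000080000000000000402002000000000080020000800000000200000000000000080000000000000000000000000000000000000000000000000000000000000000000000000000000000000000000000000000000000000000000000000000000000000000000000000000000000000000000000000000000000000000000000000000000000000000000000000000000000,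
   0x10000000000000080000400000000000000000100000030000000000000180000c0000000000000000030000800000000000004000020000000000000000008000001000000000000c0000200000000000000000020000000000000000000000000000000000000000000000000000000000000000000000000000000000000000000000000000000000000000000000000000000000000000000000000000000000000000000000000000000000000000000000000000000000000000000000000000000,
   0x4010008010080000000000000000000000000000000008020010040200000001000000000000000000000002008004004020000000000000000000000000000000204010004008000000000000000000000000000000000000000000000000000000000000000000000000000000000000000000000000000000000000000000000000000000000000000000000000000000000000000000000000000000000000000000000000000000000000000000000000000000000000000,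
   0x40000004000000002000020040000000000001000000002000000000000000000402000002000200000000800000002000000040000800000000000020000004000000100004000200000000001000000000000000000000000000000000000000000000000000000000000000000000000000000000000000000000000000000000000000000000000000000000000000000000000000000000000000000000000000000000000000000000000000000000000000000000000000000000000000,
   0x400000008000000020000000000001000000000008000000000000400000008000000800000080100000000000002000000800000008000000000001008000020000000040000001000000800200000000000200000000000000000000000000000000000000000000000000000000000000000000000000000000000000000000000000000000000000000000000000000000000000000000000000000000000000000000000000000000000000000000000000000000000000000000000000000000000000,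
   0x2000000000008000000000020000000080100000000004000000000010000000000040000000200400000000008000000000020000000000080000000801000000010080000000004000000000200000008004000000000000000000000000000000000000000000000000000000000000000000000000000000000000000000000000000000000000000000000000000000000000000000000000000000000000000000000000000000000000000000000000000000000000000000000000000000000000000,
   0x400000000001000000000004200000000040000000000004000000000010000000000042000000002000000000000040000000000100000000000420000000104000000000040000000002000000000108000000000400000000000000000000000000000000000000000000000000000000000000000000000000000000000000000000000000000000000000000000000000000000000000000000000000000000000000000000000000000000000000000000000000000000000000000000000000000000,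
   0x11120000001000000000000000000000000000000000000000000000889000000084000000000222400000020000000000000000000000000000000000000000000000000000000000000002224000000200000000000000000000000000000000000000000000000000000000000000000000000000000000000000000000000000000000000000000000000000000000000000000000000000000000000000000000000000000000000000000000000000000000000000000000000000000000,
   0x20001000000000000000100020000000020000010000000000000000001000000100000100080000000000800040000040000002000000040000000010000080000000020004000000000000040000100000000000000000000000000000000000000000000000000000000000000000000000000000000000000000000000000000000000000000000000000000000000000000000000000000000000000000000000000000000000000000000000000000000000000000000000000000000000000,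
   0x1000802002000000000000000400000000000000000002001004008000000000000001000001000000000000800401000800000000000000100000000000000000004010200040000000000000008000000000000000000000000000000000000000000000000000000000000000000000000000000000000000000000000000000000000000000000000000000000000000000000000000000000000000000000000000000000000000000000000000000000000000000000000000000000000,
   0x1000000000001800000000200000000000c0001000000000001800000000200000000000020000000000010000000000018000000002000000000001000000000000010000000000300000000800000000000020000000000000000000000000000000000000000000000000000000000000000000000000000000000000000000000000000000000000000000000000000000000000000000000000000000000000000000000000000000000000000000000000000000000000000000000000000000,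
   0x20000200000400000000001000000000080000100008000020000100000000000400000000008000000000010000080000200000000000800000000020000000000100000800040000000002000000000004000000000000000000000000000000000000000000000000000000000000000000000000000000000000000000000000000000000000000000000000000000000000000000000000000000000000000000000000000000000000000000000000000000000000000000000000000000000000,
   0x10000080008000004000800000000000001000000080000400020000000000000001000000000000080000010000000000000000080000008000000400080001000000000000000080000100000200000080000000000000000000000000000000000000000000000000000000000000000000000000000000000000000000000000000000000000000000000000000000000000000000000000000000000000000000000000000000000000000000000000000000000000000000000000000000000000,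
   0x1184000000000008c2004610000000000000001184004000000000002040008000000000000000000800000000000000000000000000000000000000000000000000000000000000000000000000000000000000000000000000000000000000000000000000000000000000000000000000000000000000000000000000000000000000000000000000000000000000000000000000000000,
   0x92000400080000000000000000000000000000000000000000000004900020004000000000000000000000000000000000000000000000248001000240000000000000000000000000000000000000000092000400080000000000000000000000000000000000000000000000000000000000000000000000000000000000000000000000000000000000000000000000000000000000000000000000000000000000000000000000000000000000000000000000000000000000000000000000000000000,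
   0x200008000000000004000000000000002000080000000120000000000000000020000000010800020000000000000000400040000000000000400000000000081000000000002080020000010000000000000000400000000000000000000000000000000000000000000000000000000000000000000000000000000000000000000000000000000000000000000000000000000000000000000000000000000000000000000000000000000000000000000000000000000000000000000000000000000000,
   0x42000090000000000000000010002000000000001000000000000000200020000000000000008100000000000008100004000000000002000000008000001000000000000000000208002000000000000400000000000000000000000000000000000000000000000000000000000000000000000000000000000000000000000000000000000000000000000000000000000000000000000000000000000000000000000000000000000000000000000000000000000000000000000000000000000,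
   0x400400000000000000020000080020000000000000420000008000000000000000021000000000001200000000000000002000800020000000000000020020000000000000810000008000000000000400000000000000000000000000000000000000000000000000000000000000000000000000000000000000000000000000000000000000000000000000000000000000000000000000000000000000000000000000000000000000000000000000000000000000000000000000000000000,
   0x3118040000000000000000c460000000000000000000000000000000000000000000000000000623000000000000000000000000000000000000000000000000000000000000c46000000000000000000000000000000000000000000000000000000000000000000000000000000000000000000000000000000000000000000000000000000000000000000000000000000000000000000000000000000000000000000000000000000000000000000000000000000000,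
   0x100000000000000020002000000000000000810000000000000810000400000000000200000000800000000000004200009000000000000000001000200000001000000000000000000208002000000000000400000000000000000000000000000000000000000000000000000000000000000000000000000000000000000000000000000000000000000000000000000000000000000000000000000000000000000000000000000000000000000000000000000000000000000000000000000000000,
   0x800000000000000408000200000000080000000000000004000000002100004800000000020000000008000000000000080000000000000010000000081000800200000100000000000000000020000000400000000000000000000000000000000000000000000000000000000000000000000000000000000000000000000000000000000000000000000000000000000000000000000000000000000000000000000000000000000000000000000000000000000000000000000000000000000000,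
   0x80000000210000004000000100000000002000080000000900000000000000001000000000002000000080000000000000200200000000008002000000000800000002000000000000081000000000400000000000000000000000000000000000000000000000000000000000000000000000000000000000000000000000000000000000000000000000000000000000000000000000000000000000000000000000000000000000000000000000000000000000000000000000000000000000,
   0x8104000000000000000008000000040000000000020000000002000000000000004008410000000000010000000000000002100200000000000000001000040000000000000004008080000000000000020000000000000000000000000000000000000000000000000000000000000000000000000000000000000000000000000000000000000000000000000000000000000000000000000000000000000000000000000000000000000000000000000000000000000000000000000000000000,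
   0x2000400080080000000000000000000000000000000010002000400400000000000000000000000000000000080010002002000000000000000000000020040080009002004000400000000000000000000000000010000000000000000000000000000000000000000000000000000000000000000000000000000000000000000000000000000000000000000000000000000000000000000000000000000000000000000000000000000000000000000000000000000000000000000000000000000000000]

/-- Neighbours, part 4. -/
noncomputable def nbs4 : List (List ℕ) :=
  [[935, 961, 996, 1004, 1023, 1073, 1106, 1133, 1181, 1200, 1216, 1241, 1287, 1352, 1373, 1398, 1429, 1435, 1492, 1496, 1560],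
   [924, 974, 981, 1033, 1057, 1074, 1100, 1154, 1188, 1216, 1265, 1281, 1301, 1336, 1355, 1372, 1418, 1436, 1469, 1517, 1578],
   [905, 962, 988, 1048, 1054, 1090, 1102, 1109, 1171, 1209, 1263, 1271, 1291, 1358, 1365, 1376, 1418, 1493, 1500, 1505, 1566],
   [899, 938, 943, 944, 948, 1086, 1120, 1125, 1126, 1130, 1271, 1308, 1313, 1314, 1318, 1422, 1429, 1460, 1465, 1466, 1470],
   [923, 955, 974, 983, 1032, 1065, 1119, 1152, 1165, 1225, 1250, 1271, 1275, 1363, 1394, 1443, 1476, 1511, 1531, 1548, 1563],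
   [937, 963, 992, 1008, 1024, 1076, 1101, 1180, 1199, 1220, 1238, 1271, 1293, 1331, 1349, 1398, 1432, 1455, 1491, 1503, 1555],
   [937, 944, 1003, 1032, 1048, 1080, 1113, 1148, 1184, 1196, 1252, 1285, 1306, 1322, 1401, 1414, 1447, 1484, 1514, 1552, 1570],
   [896, 950, 954, 1003, 1052, 1059, 1061, 1109, 1111, 1166, 1168, 1223, 1225, 1238, 1288, 1345, 1402, 1415, 1465, 1522, 1579],
   [935, 945, 997, 1003, 1033, 1076, 1084, 1131, 1144, 1226, 1239, 1283, 1308, 1339, 1376, 1392, 1433, 1463, 1537, 1548, 1575],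
   [909, 966, 971, 1003, 1027, 1063, 1079, 1130, 1134, 1183, 1198, 1272, 1287, 1321, 1394, 1399, 1432, 1456, 1500, 1516, 1578],
   [914, 967, 980, 1003, 1045, 1081, 1130, 1169, 1217, 1258, 1307, 1346, 1394, 1411, 1432, 1459, 1481, 1500, 1520, 1547, 1568],
   [936, 946, 973, 1003, 1031, 1076, 1129, 1145, 1195, 1227, 1237, 1308, 1340, 1342, 1376, 1393, 1431, 1434, 1464, 1535, 1548],
   [908, 970, 1003, 1017, 1029, 1082, 1104, 1109, 1163, 1225, 1238, 1305, 1310, 1361, 1371, 1374, 1436, 1448, 1465, 1496, 1569],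
   [937, 944, 1003, 1032, 1048, 1062, 1095, 1132, 1162, 1200, 1218, 1256, 1289, 1324, 1360, 1372, 1428, 1461, 1482, 1498, 1577],
   [937, 952, 968, 984, 1043, 1076, 1135, 1154, 1175, 1191, 1238, 1271, 1286, 1304, 1353, 1383, 1432, 1458, 1510, 1545, 1581],
   [927, 1018, 1032, 1042, 1049, 1060, 1093, 1192, 1202, 1215, 1225, 1271, 1370, 1381, 1394, 1404, 1449, 1548, 1560, 1573, 1583],
   [930, 944, 995, 1002, 1038, 1071, 1130, 1147, 1197, 1230, 1245, 1271, 1308, 1336, 1389, 1437, 1465, 1473, 1538, 1542, 1576],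
   [921, 958, 1009, 1023, 1048, 1067, 1109, 1140, 1157, 1210, 1249, 1271, 1299, 1325, 1376, 1408, 1444, 1452, 1500, 1528, 1556],
   [925, 942, 966, 991, 1054, 1064, 1120, 1182, 1208, 1223, 1250, 1317, 1324, 1348, 1367, 1431, 1442, 1468, 1486, 1503, 1565],
   [894, 970, 990, 992, 1041, 1065, 1139, 1160, 1217, 1244, 1318, 1339, 1396, 1412, 1414, 1486, 1488, 1507, 1509, 1564, 1566],
   [931, 958, 985, 1017, 1040, 1072, 1084, 1138, 1176, 1192, 1243, 1285, 1300, 1353, 1382, 1437, 1453, 1486, 1508, 1547, 1584],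
   [893, 940, 941, 984, 1027, 1070, 1071, 1110, 1111, 1159, 1207, 1256, 1298, 1299, 1347, 1395, 1441, 1486, 1487, 1535, 1583],
   [893, 908, 923, 928, 929, 1144, 1159, 1174, 1179, 1180, 1365, 1380, 1395, 1400, 1401, 1450, 1451, 1466, 1481, 1486, 1487],
   [909, 943, 959, 1016, 1040, 1083, 1138, 1145, 1193, 1209, 1243, 1284, 1349, 1354, 1402, 1438, 1443, 1482, 1486, 1508, 1546],
   [895, 971, 990, 993, 1042, 1066, 1140, 1161, 1218, 1245, 1319, 1340, 1397, 1412, 1415, 1486, 1489, 1507, 1510, 1564, 1567],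
   [930, 965, 991, 1029, 1055, 1064, 1113, 1121, 1175, 1222, 1251, 1258, 1317, 1323, 1381, 1430, 1452, 1486, 1504, 1537, 1565],
   [901, 938, 942, 946, 947, 1070, 1079, 1108, 1112, 1116, 1117, 1264, 1296, 1300, 1304, 1305, 1449, 1484, 1488, 1492, 1493],
   [902, 940, 954, 996, 1038, 1072, 1112, 1160, 1208, 1249, 1289, 1337, 1385, 1411, 1423, 1455, 1463, 1502, 1511, 1549, 1559],
   [911, 962, 985, 1046, 1052, 1085, 1093, 1112, 1188, 1189, 1239, 1298, 1314, 1328, 1329, 1396, 1442, 1458, 1461, 1520, 1558],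
   [894, 904, 906, 921, 936, 1098, 1100, 1110, 1112, 1127, 1142, 1321, 1331, 1333, 1348, 1363, 1542, 1552, 1554, 1569, 1584],
   [894, 950, 952, 1001, 1050, 1060, 1062, 1110, 1112, 1167, 1169, 1224, 1226, 1241, 1291, 1348, 1405, 1420, 1470, 1527, 1584],
   [919, 976, 985, 1008, 1031, 1067, 1112, 1133, 1165, 1230, 1252, 1277, 1298, 1356, 1371, 1396, 1427, 1442, 1478, 1516, 1544]]

/-- Masks, part 4. -/
noncomputable def masks4 : List ℕ :=
  [0x1000000000000000110000000000000082000000040000020000100000000000000008000000000020000010001000020000000000020000004000000020000000000008000101000000002000000800000000000000000000000000000000000000000000000000000000000000000000000000000000000000000000000000000000000000000000000000000000000000000000000000000000000000000000000000000000000000000000000000000000000000000000000000000000000000000,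
   0x40000000000000020000000000020000000100004000000000010000800010000000020000200020000000000010000001000000004000000000000100000040002000002000000000000204000000000001000000000000000000000000000000000000000000000000000000000000000000000000000000000000000000000000000000000000000000000000000000000000000000000000000000000000000000000000000000000000000000000000000000000000000000000000000000000000000,
   0x40000000000000021020000000000000000004000000000100204000000000000000080000808000000000000200000000080000000000000020400400000000410000000000000010000004000000000000020000000000000000000000000000000000000000000000000000000000000000000000000000000000000000000000000000000000000000000000000000000000000000000000000000000000000000000000000000000000000000000000000000000000000000000000000000000000,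
   0x46100000002040000000000000000000000000461000000000800000000000000000000000000000000004610000000040000000000000000000000000000000001184000000000800000000000000000000000000000000000000000000000000000000000000000000000000000000000000000000000000000000000000000000000000000000000000000000000000000000000000000000000000000000000000000000000000000000000000000000000000000000,
   0x8001000080000800000001000000008000000000004000000080000000000000000000008800004000002000000000000002001000000008000000000000200000001000000000000804000080000000800000000000000000000000000000000000000000000000000000000000000000000000000000000000000000000000000000000000000000000000000000000000000000000000000000000000000000000000000000000000000000000000000000000000000000000000000000000000000,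
   0x80000000000008008000000008000010000000040000000000020000800000000200000800000004000100000800010000000000000000000200000100000000000010001000100000008000002000000000000000000000000000000000000000000000000000000000000000000000000000000000000000000000000000000000000000000000000000000000000000000000000000000000000000000000000000000000000000000000000000000000000000000000000000000000000000000,
   0x400010000000004000000100000000080000000400200000000000000000004000400002000000010000000000000100100000000100000000200000001000000010001000000080000000000000102000000000000000000000000000000000000000000000000000000000000000000000000000000000000000000000000000000000000000000000000000000000000000000000000000000000000000000000000000000000000000000000000000000000000000000000000000000000000000000,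
   0x800000000000004000000000000020000000000008004000000000000020000000000000100000000000040028000000000000140000000000000a0000000000028100000000000080000000000044000000000000100000000000000000000000000000000000000000000000000000000000000000000000000000000000000000000000000000000000000000000000000000000000000000000000000000000000000000000000000000000000000000000000000000000000000000000000000000000,
   0x8000001002000000000000000000800000020000000001000100000000080000001000000800000000008004000000000000000000010008000000000010100000000002000000082000000000000200800000000000000000000000000000000000000000000000000000000000000000000000000000000000000000000000000000000000000000000000000000000000000000000000000000000000000000000000000000000000000000000000000000000000000000000000000000000000000000,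
   0x40000000000000010001000000000010000010000000084000000000000000002000000008001000000000000000000400080000000000044000000000000800080000000080000080000000840000000000000200000000000000000000000000000000000000000000000000000000000000000000000000000000000000000000000000000000000000000000000000000000000000000000000000000000000000000000000000000000000000000000000000000000000000000000000000000000000,
   0x100000800000100001000020000080000010000080004000000000004000000000800000000000400000000020000000000020000000004000000000002000000002000000000080000100080000000000004000000000000000000000000000000000000000000000000000000000000000000000000000000000000000000000000000000000000000000000000000000000000000000000000000000000000000000000000000000000000000000000000000000000000000000000000000000000000,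
   0x1000800000000000000001000000048000000002000100000000500000001000000000000000002008000000080000000000020002000000000000100000000000800000080000002000000401000000000000000000000000000000000000000000000000000000000000000000000000000000000000000000000000000000000000000000000000000000000000000000000000000000000000000000000000000000000000000000000000000000000000000000000000000000000000000000,
   0x200000000000000000100000002000100100000000000000048020000000000004200000000000000004002000000000000000800000000000021000004000000000000200200080000000400000000000000100000000000000000000000000000000000000000000000000000000000000000000000000000000000000000000000000000000000000000000000000000000000000000000000000000000000000000000000000000000000000000000000000000000000000000000000000000000000,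
   0x20000000000000000000400040000200000001000000000000010010000000010000000020000000100000000040001000000000400000010000000008000000040010001000000080000000000000102000000000000000000000000000000000000000000000000000000000000000000000000000000000000000000000000000000000000000000000000000000000000000000000000000000000000000000000000000000000000000000000000000000000000000000000000000000000000000000,
   0x200000000200000000400000000000040000010000000000008000000200000000000100004000800000004000000000008000800004000080000000000000100000000800000000000001000100010002000000000000000000000000000000000000000000000000000000000000000000000000000000000000000000000000000000000000000000000000000000000000000000000000000000000000000000000000000000000000000000000000000000000000000000000000000000000000000000,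
   0x802001001000000000000000000000000200000000001004002004000000000000000000000000800000000002008004010000000000000000000000002000000010020401000400000000000000000000008000000000000000000000000000000000000000000000000000000000000000000000000000000000000000000000000000000000000000000000000000000000000000000000000000000000000000000000000000000000000000000000000000000000000000000000000000000000000000,
   0x10000000044000000000000000202000000200000000000200000000000010000001000000000800000200040000000200000000000080004000000000000008000000040000000040800000000000100040000000000000000000000000000000000000000000000000000000000000000000000000000000000000000000000000000000000000000000000000000000000000000000000000000000000000000000000000000000000000000000000000000000000000000000000000000000000000000,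
   0x100000010000001000000000001010000000010000000100000000000020000008000000800002000000000400000000000020001000000020000000000800010000008002000000000000400000000200000000000000000000000000000000000000000000000000000000000000000000000000000000000000000000000000000000000000000000000000000000000000000000000000000000000000000000000000000000000000000000000000000000000000000000000000000000000000,
   0x20000000000000008000400010000004008000000000000000800010000010200000000000000004000000800100000040000000000000010000000000000100400000000000000080000040000040002000000000000000000000000000000000000000000000000000000000000000000000000000000000000000000000000000000000000000000000000000000000000000000000000000000000000000000000000000000000000000000000000000000000000000000000000000000000000000,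
   0x50000000000000280001400000000000000000500010000000000000080000400000000000000000100000020000000000000100000800000000000000000200000200000000000140000400000000000000000040000000000000000000000000000000000000000000000000000000000000000000000000000000000000000000000000000000000000000000000000000000000000000000000000000000000000000000000000000000000000000000000000000000000000000000000000000000,
   0x1000000000800000000100000400000002000200000000000004000000200000000000010002000000000080000000000010001000000000400000000000010010000000100000200000002000000400000080000000000000000000000000000000000000000000000000000000000000000000000000000000000000000000000000000000000000000000000000000000000000000000000000000000000000000000000000000000000000000000000000000000000000000000000000000000000000000,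
   0x800000000000800000000000c0000000000200000000000800000000000800000000000c0000000001000000000000800000000000800000000000c000000000c000000000080000000001000000000030000000000020000000000000000000000000000000000000000000000000000000000000000000000000000000000000000000000000000000000000000000000000000000000000000000000000000000000000000000000000000000000000000000000000000000000000000000000000000000,
   0xc20004000c00000000000308001000200000000000000000000000000000000000000000000018400080010000000000000000000000000000000000000000000000000000030800100020000000000000000000000000000000000000000000000000000000000000000000000000000000000000000000000000000000000000000000000000000000000000000000000000000000000000000000000000000000000000000000000000000000000000000000000000000000,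
   0x400000000100000440000000008400000000400000000000420000000000000001000000000080000000200020000000000020400000000000008000000000100000100000000000000800080000000200000000000000000000000000000000000000000000000000000000000000000000000000000000000000000000000000000000000000000000000000000000000000000000000000000000000000000000000000000000000000000000000000000000000000000000000000000000000,
   0x90000000000000480002400000000000000000900020000000000000100000800000000000000000200000040000000000000200001000000000000000000400000400000000000240000800000000000000000080000000000000000000000000000000000000000000000000000000000000000000000000000000000000000000000000000000000000000000000000000000000000000000000000000000000000000000000000000000000000000000000000000000000000000000000000000000,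
   0x20000002000000010000400000001000004000000000002000000000000008200000000000000408000000400000000000800000000000020200000000000100800000200000000080000020000000040000000000000000000000000000000000000000000000000000000000000000000000000000000000000000000000000000000000000000000000000000000000000000000000000000000000000000000000000000000000000000000000000000000000000000000000000000000000000000,
   0x31100000000200000000000000000000000000000000000311000000010000000000000000000000000000000000003110000000804000000000000000000000000000000c44000000002000000000000000000000000000000000000000000000000000000000000000000000000000000000000000000000000000000000000000000000000000000000000000000000000000000000000000000000000000000000000000000000000000000000000000000000000000000000,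
   0x802000000000804000000000808000000080080000020000000000020000000000020000000002000000000100000000000100000000000100000000010000000040000000001000000000040010000000004000000000000000000000000000000000000000000000000000000000000000000000000000000000000000000000000000000000000000000000000000000000000000000000000000000000000000000000000000000000000000000000000000000000000000000000000000000000,
   0x400000000100000000000000240004000000000010000000000000000300040004000000000000008000000000003000000000000000000100002020000000104000000000000002000004000000000000800000000000000000000000000000000000000000000000000000000000000000000000000000000000000000000000000000000000000000000000000000000000000000000000000000000000000000000000000000000000000000000000000000000000000000000000000000000000,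
   0x1000200050040000000000000000000000000000000000000000000080010002802000000000000000000000000000000000000000000004000800140140000000000000000000000000000000000000001000200050040000000000000000000000000000000000000000000000000000000000000000000000000000000000000000000000000000000000000000000000000000000000000000000000000000000000000000000000000000000000000000000000000000000000000000000000000000000,
   0x1000000000000008000000000000040000000000010002000000000000010000000000000080000000000020005000000000000028000000000000140000000000050040000000000020000000000014000000000000040000000000000000000000000000000000000000000000000000000000000000000000000000000000000000000000000000000000000000000000000000000000000000000000000000000000000000000000000000000000000000000000000000000000000000000000000000000,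
   0x100000010000000004000000004000800000010000008001000000000000004000020000010000040000000000000002000000020000100000000000800000000800001000002010000000000000080000000000000000000000000000000000000000000000000000000000000000000000000000000000000000000000000000000000000000000000000000000000000000000000000000000000000000000000000000000000000000000000000000000000000000000000000000000000000]

/-- Neighbours, part 5. -/
noncomputable def nbs5 : List (List ℕ) :=
  [[927, 940, 973, 1015, 1057, 1058, 1072, 1082, 1089, 1102, 1112, 1125, 1135, 1149, 1160, 1173, 1183, 1196, 1208, 1221, 1231],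
   [896, 942, 983, 1019, 1021, 1070, 1074, 1112, 1158, 1199, 1201, 1259, 1300, 1346, 1387, 1389, 1444, 1488, 1534, 1575, 1577],
   [899, 902, 907, 908, 912, 1098, 1105, 1108, 1113, 1114, 1118, 1326, 1329, 1334, 1335, 1339, 1547, 1550, 1555, 1556, 1560],
   [911, 966, 972, 1002, 1025, 1090, 1116, 1151, 1154, 1213, 1261, 1269, 1275, 1333, 1409, 1415, 1482, 1519, 1535, 1549, 1550],
   [905, 970, 1007, 1015, 1026, 1088, 1094, 1119, 1144, 1155, 1214, 1258, 1278, 1285, 1336, 1407, 1420, 1478, 1534, 1545, 1550],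
   [909, 976, 1000, 1023, 1039, 1086, 1091, 1111, 1149, 1220, 1224, 1259, 1276, 1324, 1340, 1404, 1419, 1480, 1485, 1533, 1550],
   [906, 974, 1000, 1029, 1037, 1084, 1091, 1117, 1147, 1217, 1263, 1276, 1286, 1328, 1337, 1401, 1416, 1477, 1485, 1539, 1550],
   [901, 1018, 1022, 1026, 1027, 1088, 1210, 1214, 1218, 1219, 1273, 1398, 1402, 1406, 1407, 1422, 1431, 1550, 1554, 1558, 1559],
   [913, 972, 1001, 1017, 1024, 1089, 1103, 1115, 1151, 1215, 1261, 1277, 1332, 1387, 1408, 1414, 1429, 1481, 1519, 1537, 1550],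
   [912, 968, 971, 1005, 1021, 1092, 1114, 1145, 1221, 1223, 1256, 1282, 1326, 1334, 1388, 1405, 1418, 1427, 1476, 1538, 1550],
   [901, 968, 1017, 1030, 1039, 1410, 1414, 1418, 1419, 1472, 1476, 1480, 1481, 1529, 1533, 1537, 1538, 1550, 1554, 1558, 1559],
   [906, 964, 971, 1007, 1024, 1094, 1117, 1145, 1155, 1215, 1223, 1256, 1278, 1328, 1337, 1408, 1421, 1429, 1479, 1532, 1550],
   [897, 1018, 1021, 1025, 1029, 1084, 1210, 1213, 1217, 1221, 1269, 1398, 1401, 1405, 1409, 1422, 1427, 1550, 1553, 1557, 1561],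
   [907, 974, 1001, 1013, 1027, 1089, 1105, 1118, 1147, 1218, 1263, 1277, 1286, 1335, 1387, 1402, 1417, 1431, 1475, 1540, 1550],
   [911, 970, 1005, 1013, 1023, 1086, 1092, 1116, 1144, 1220, 1258, 1282, 1285, 1333, 1388, 1404, 1417, 1475, 1540, 1549, 1550],
   [897, 902, 905, 909, 913, 1098, 1103, 1108, 1111, 1115, 1119, 1324, 1329, 1332, 1336, 1340, 1545, 1550, 1553, 1557, 1561],
   [908, 964, 976, 1002, 1022, 1090, 1113, 1149, 1154, 1219, 1224, 1259, 1273, 1275, 1339, 1406, 1421, 1479, 1532, 1547, 1550],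
   [899, 966, 1015, 1030, 1037, 1410, 1415, 1416, 1420, 1472, 1477, 1478, 1482, 1529, 1534, 1535, 1539, 1550, 1555, 1556, 1560],
   [896, 906, 919, 927, 929, 1098, 1102, 1112, 1125, 1133, 1135, 1323, 1333, 1346, 1354, 1356, 1544, 1554, 1567, 1575, 1577],
   [911, 965, 973, 983, 1050, 1082, 1112, 1167, 1183, 1196, 1199, 1241, 1319, 1328, 1329, 1389, 1438, 1444, 1451, 1527, 1558],
   [902, 952, 993, 1019, 1031, 1060, 1074, 1112, 1158, 1193, 1201, 1252, 1291, 1337, 1371, 1380, 1430, 1470, 1516, 1549, 1559],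
   [901, 950, 959, 1008, 1057, 1058, 1062, 1066, 1067, 1108, 1112, 1116, 1117, 1165, 1169, 1173, 1174, 1222, 1226, 1230, 1231],
   [936, 959, 962, 996, 1021, 1066, 1093, 1112, 1174, 1222, 1259, 1314, 1321, 1385, 1387, 1423, 1458, 1502, 1534, 1552, 1569],
   [921, 947, 993, 1015, 1052, 1089, 1112, 1149, 1193, 1221, 1239, 1264, 1296, 1331, 1363, 1380, 1430, 1461, 1492, 1520, 1542],
   [904, 938, 954, 965, 976, 1100, 1112, 1127, 1142, 1277, 1289, 1304, 1319, 1411, 1427, 1438, 1449, 1451, 1463, 1478, 1493],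
   [929, 946, 1001, 1038, 1046, 1079, 1085, 1112, 1188, 1189, 1224, 1249, 1305, 1323, 1354, 1405, 1420, 1455, 1484, 1511, 1567],
   [895, 940, 943, 986, 1029, 1070, 1073, 1110, 1113, 1161, 1209, 1258, 1298, 1301, 1349, 1397, 1443, 1486, 1489, 1537, 1585],
   [923, 971, 985, 1034, 1055, 1072, 1106, 1121, 1180, 1218, 1251, 1270, 1300, 1340, 1365, 1415, 1466, 1486, 1504, 1517, 1584],
   [894, 909, 924, 928, 930, 1145, 1160, 1175, 1179, 1181, 1366, 1381, 1396, 1400, 1402, 1450, 1452, 1467, 1482, 1486, 1488],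
   [908, 942, 1004, 1016, 1042, 1083, 1097, 1140, 1144, 1208, 1245, 1281, 1284, 1348, 1401, 1442, 1481, 1486, 1510, 1546, 1551],
   [931, 965, 992, 1004, 1027, 1065, 1097, 1111, 1176, 1222, 1256, 1281, 1318, 1323, 1382, 1430, 1453, 1486, 1535, 1551, 1566],
   [924, 941, 993, 1017, 1054, 1066, 1084, 1120, 1181, 1207, 1250, 1285, 1319, 1347, 1366, 1441, 1467, 1486, 1503, 1547, 1567]]

/-- Masks, part 5. -/
noncomputable def masks5 : List ℕ :=
  [0x80200100100080200100200080200100400204010006000000000080000000002000000010008000000000000000000000000000000000000000000000000000000000000000000000000000000000000000000000000000000000000000000000000000000000000000000000000000000000000000000000000000000000000000000000000000000000000000000000000000000000000000,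
   0x28000000000400000000001000000000010000000000000280000000004000000000010000000000800000000000002800000000040000000000100000000044000000000002800000000800000000040000000000100000000000000000000000000000000000000000000000000000000000000000000000000000000000000000000000000000000000000000000000000000000000000000000000000000000000000000000000000000000000000000000000000000000000000000000000000000000,
   0x118480000000000000000000000000000000000000000000000000008c240000000000000000000000000000000000000000000000000004612040000000000000000000000000000000000000000000001184800000000000000000000000000000000000000000000000000000000000000000000000000000000000000000000000000000000000000000000000000000000000000000000000000000000000000000000000000000000000000000000000000000000000000000000000000000000,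
   0x6000800080000000040000000000000000820000000000000000002000000000000008202000000000002000000000000004800000001000000400000000000000020000040000001040000000000000800000000000000000000000000000000000000000000000000000000000000000000000000000000000000000000000000000000000000000000000000000000000000000000000000000000000000000000000000000000000000000000000000000000000000000000000000000000000,
   0x4200400000000000004000000000000010008000000000000000010000000000002040000400000000004000000000000008010000008000004100000000000000040080800000000400000000000000020000000000000000000000000000000000000000000000000000000000000000000000000000000000000000000000000000000000000000000000000000000000000000000000000000000000000000000000000000000000000000000000000000000000000000000000000000000000,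
   0x4000200000000000210000000000000008001000000000000000100010000000000010000800000001100000000000000000200000000080000840000000000080008000010000010000000000000000200000000000000000000000000000000000000000000000000000000000000000000000000000000000000000000000000000000000000000000000000000000000000000000000000000000000000000000000000000000000000000000000000000000000000000000000000000000000,
   0x4008000000000000202000000000000001000200000000000000020100000000004010008000000000020000000000000000080000002000000810000000000020200000010000004000000000000000040000000000000000000000000000000000000000000000000000000000000000000000000000000000000000000000000000000000000000000000000000000000000000000000000000000000000000000000000000000000000000000000000000000000000000000000000000000000,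
   0xc4400000000000000000000000000000804000c4400000000000000000000000000000020000000000000c44000000000000000000000000000001000000000000000c4400000000000000000000000000002000000000000000000000000000000000000000000000000000000000000000000000000000000000000000000000000000000000000000000000000000000000000000000000000000000000000000000000000000000000000000000000000000000000000000000000000000000000,
   0x4002000080000000020000000000002000410000080000000000001000000000000020002000000000008000000000000000800000000800800200000000000000010200020000001000000000000002000000000000000000000000000000000000000000000000000000000000000000000000000000000000000000000000000000000000000000000000000000000000000000000000000000000000000000000000000000000000000000000000000000000000000000000000000000000000,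
   0x4004000000000000001000000000000804002000100000000000004040000000000400000100000000a00000000000000000020000000400001000000000000000002000200000000900000000000001000000000000000000000000000000000000000000000000000000000000000000000000000000000000000000000000000000000000000000000000000000000000000000000000000000000000000000000000000000000000000000000000000000000000000000000000000000000000,
   0xc4400622000000000003110000000000000c440000000000000000000000000000000000000000000000000000000000000000000000000000000000000000000080400200000000000100000000000000002000000000000000000000000000000000000000000000000000000000000000000000000000000000000000000000000000000000000000000000000000000000000000000000000000000000000000000000000000000000000000000000000000000000000000000000000000000000,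
   0x4000100000000000008000000000002020010000000000000000020100000000000040000100000000808000000000000008020000002000004000000000000000010000800000000810000000000000040000000000000000000000000000000000000000000000000000000000000000000000000000000000000000000000000000000000000000000000000000000000000000000000000000000000000000000000000000000000000000000000000000000000000000000000000000000000,
   0x2224000000000000000000000000000000840022240000000000000000000000000000000200000000000222400000000000000000000000000000010000000000000222400000000000000000000000000000200000000000000000000000000000000000000000000000000000000000000000000000000000000000000000000000000000000000000000000000000000000000000000000000000000000000000000000000000000000000000000000000000000000000000000000000000000000,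
   0x4010000000000000000800000000008002000400080000000000008000000000004020008000000000040000000000000000080000004002000200000000000000080020020000004000000000000000080000000000000000000000000000000000000000000000000000000000000000000000000000000000000000000000000000000000000000000000000000000000000000000000000000000000000000000000000000000000000000000000000000000000000000000000000000000000,
   0x6010000000000000000800000000000002001000100000000000002000000000002400000400000000100000000000000000010000001000001040000000000000008020200000000400000000000000800000000000000000000000000000000000000000000000000000000000000000000000000000000000000000000000000000000000000000000000000000000000000000000000000000000000000000000000000000000000000000000000000000000000000000000000000000000000,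
   0x2224200000000000000000000000000000000000000000000000000111210000000000000000000000000000000000000000000000000008890840000000000000000000000000000000000000000000002224200000000000000000000000000000000000000000000000000000000000000000000000000000000000000000000000000000000000000000000000000000000000000000000000000000000000000000000000000000000000000000000000000000000000000000000000000000000,
   0x480010000000000000800000000000002000400000000000000008000000000000000a000800000001080000000000000004200000000200000400000000000000004000040000010010000000000000100000000000000000000000000000000000000000000000000000000000000000000000000000000000000000000000000000000000000000000000000000000000000000000000000000000000000000000000000000000000000000000000000000000000000000000000000000000000,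
   0x1184008c20000000000046100000000000011840000000000000000000000000000000000000000000000000000000000000000000000000000000000000000000020400080000000000040000000000000000800000000000000000000000000000000000000000000000000000000000000000000000000000000000000000000000000000000000000000000000000000000000000000000000000000000000000000000000000000000000000000000000000000000000000000000000000000000,
   0x280800401000000000000000000000000000000000000000000000014040020080000000000000000000000000000000000000000000000a0200100440000000000000000000000000000000000000000028080040100000000000000000000000000000000000000000000000000000000000000000000000000000000000000000000000000000000000000000000000000000000000000000000000000000000000000000000000000000000000000000000000000000000000000000000000000000000,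
   0x400000008000000000000000000810400000000000200000000000000300800000000000000000020000000000900080008000000000000100000004000000040000000000000000802020000000000000800000000000000000000000000000000000000000000000000000000000000000000000000000000000000000000000000000000000000000000000000000000000000000000000000000000000000000000000000000000000000000000000000000000000000000000000000000000000,
   0x802000000010000000000040000000004000000000001008000000020000000000080000000010000000000002020000000040000000000100000000040010000000800800000200000000010000000000004000000000000000000000000000000000000000000000000000000000000000000000000000000000000000000000000000000000000000000000000000000000000000000000000000000000000000000000000000000000000000000000000000000000000000000000000000000000,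
   0xc4400000000000622000000000003110000000000c46000000000001000000000000804000000000002000000000000000000000000000000000000000000000000000000000000000000000000000000000000000000000000000000000000000000000000000000000000000000000000000000000000000000000000000000000000000000000000000000000000000000000000000000000,
   0x2000100004000000040000000000400000000800000000a0000000000000002040000000000000800000000400000000000400000000000000100002000000400000000002000001000000004800001000000000000000000000000000000000000000000000000000000000000000000000000000000000000000000000000000000000000000000000000000000000000000000000000000000000000000000000000000000000000000000000000000000000000000000000000000000000000000000,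
   0x40000100000010000000200000004000000000001000080000000800000001000000010000008000200000020000000000200000000100000200000000100000000080000200000000000800000200000000000000000000000000000000000000000000000000000000000000000000000000000000000000000000000000000000000000000000000000000000000000000000000000000000000000000000000000000000000000000000000000000000000000000000000000000000000000,
   0x20004000800a00400800080000000000000000000000800100020020000000000000000000000000000000004000800100100000000000000000000000000000010020040004000000010000000000000000000000000000000000000000000000000000000000000000000000000000000000000000000000000000000000000000000000000000000000000000000000000000000000000000000000000000000000000000000000000000000000000000000000000000000000,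
   0x80000000000000800000100000008000000010002000000000000400000008000200000000000002000001000000003000000000000000000100000020800000004040000000020000000000000400020000000000000000000000000000000000000000000000000000000000000000000000000000000000000000000000000000000000000000000000000000000000000000000000000000000000000000000000000000000000000000000000000000000000000000000000000000000000000000,
   0x2000000000002000000000002400000000008000000000020000000000020000000000024000000000400000000000200000000000200000000000240000000024000000000200000000004000000000090000000000080000000000000000000000000000000000000000000000000000000000000000000000000000000000000000000000000000000000000000000000000000000000000000000000000000000000000000000000000000000000000000000000000000000000000000000000000000000,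
   0x1000000000000000020010000400004000000000000800000000000200000100000000010000000400008000000040000000010000000000000020004000000010000800004000000000002000800000000000800000000000000000000000000000000000000000000000000000000000000000000000000000000000000000000000000000000000000000000000000000000000000000000000000000000000000000000000000000000000000000000000000000000000000000000000000000000000000,
   0x1440008001400000000000510002000400000000000000000000000000000000000000000000028800100020000000000000000000000000000000000000000000000000000051000200040000000000000000000000000000000000000000000000000000000000000000000000000000000000000000000000000000000000000000000000000000000000000000000000000000000000000000000000000000000000000000000000000000000000000000000000000000000,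
   0x8400000000400000420000000004000000000200000000000010000000000000001200000000200000000100000000000000011000000000020008000000000400000100100000000000000040000000100000000000000000000000000000000000000000000000000000000000000000000000000000000000000000000000000000000000000000000000000000000000000000000000000000000000000000000000000000000000000000000000000000000000000000000000000000000000,
   0x40008000800000000000400000002000004000000000004000000000000008400000000200000100000000400000000001000000000000000080020000000200000000080000100100000020000000080000000000000000000000000000000000000000000000000000000000000000000000000000000000000000000000000000000000000000000000000000000000000000000000000000000000000000000000000000000000000000000000000000000000000000000000000000000000000000,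
   0x80000800000000008000400008000002000000000000000000400008000000800000002000000004000000000080000020000000000000010000000010000400400000000200000200000000000020001000000000000000000000000000000000000000000000000000000000000000000000000000000000000000000000000000000000000000000000000000000000000000000000000000000000000000000000000000000000000000000000000000000000000000000000000000000000000000]

/-- Neighbours, part 6. -/
noncomputable def nbs6 : List (List ℕ) :=
  [[925, 959, 970, 984, 1034, 1071, 1106, 1182, 1193, 1217, 1270, 1299, 1339, 1354, 1367, 1414, 1438, 1468, 1486, 1517, 1583],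
   [929, 958, 966, 986, 1041, 1073, 1139, 1174, 1192, 1223, 1244, 1301, 1324, 1353, 1380, 1431, 1437, 1451, 1486, 1509, 1585],
   [927, 978, 992, 1002, 1009, 1060, 1093, 1147, 1157, 1170, 1180, 1271, 1325, 1336, 1349, 1359, 1449, 1503, 1515, 1528, 1538],
   [923, 952, 995, 1014, 1023, 1065, 1135, 1164, 1197, 1210, 1250, 1271, 1304, 1320, 1408, 1443, 1458, 1473, 1521, 1556, 1576],
   [921, 943, 968, 998, 1049, 1067, 1120, 1154, 1185, 1202, 1249, 1271, 1286, 1318, 1344, 1370, 1444, 1466, 1497, 1545, 1573],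
   [916, 1018, 1038, 1043, 1054, 1191, 1209, 1215, 1230, 1235, 1255, 1260, 1271, 1365, 1383, 1389, 1404, 1542, 1560, 1566, 1581],
   [908, 970, 1003, 1017, 1029, 1062, 1129, 1134, 1185, 1195, 1198, 1260, 1272, 1289, 1320, 1393, 1434, 1456, 1461, 1515, 1577],
   [914, 967, 980, 1003, 1045, 1082, 1131, 1170, 1218, 1235, 1256, 1283, 1305, 1324, 1344, 1371, 1392, 1433, 1482, 1521, 1569],
   [936, 946, 973, 1003, 1031, 1061, 1132, 1164, 1166, 1200, 1217, 1255, 1258, 1288, 1359, 1372, 1428, 1481, 1497, 1547, 1579],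
   [916, 978, 998, 1003, 1014, 1145, 1163, 1169, 1184, 1322, 1340, 1346, 1361, 1411, 1431, 1436, 1447, 1496, 1514, 1520, 1535],
   [916, 978, 998, 1003, 1014, 1059, 1079, 1084, 1095, 1144, 1162, 1168, 1183, 1321, 1339, 1345, 1360, 1498, 1516, 1522, 1537],
   [909, 966, 971, 1003, 1027, 1080, 1104, 1148, 1164, 1226, 1239, 1255, 1306, 1310, 1359, 1374, 1448, 1463, 1497, 1570, 1575],
   [896, 950, 954, 1003, 1052, 1063, 1113, 1170, 1227, 1235, 1237, 1285, 1287, 1342, 1344, 1399, 1401, 1414, 1464, 1521, 1578],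
   [935, 945, 997, 1003, 1033, 1081, 1111, 1185, 1196, 1223, 1252, 1260, 1307, 1320, 1402, 1415, 1459, 1484, 1515, 1552, 1568],
   [916, 938, 958, 963, 974, 1101, 1119, 1125, 1140, 1235, 1255, 1260, 1271, 1275, 1293, 1299, 1314, 1452, 1470, 1476, 1491],
   [930, 955, 962, 998, 1024, 1071, 1102, 1152, 1185, 1220, 1245, 1271, 1291, 1344, 1398, 1437, 1493, 1497, 1531, 1555, 1563],
   [905, 948, 1008, 1014, 1042, 1090, 1126, 1164, 1192, 1199, 1263, 1271, 1313, 1320, 1331, 1381, 1418, 1455, 1460, 1521, 1583],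
   [899, 978, 983, 984, 988, 1086, 1165, 1170, 1171, 1175, 1271, 1353, 1358, 1359, 1363, 1422, 1429, 1505, 1510, 1511, 1515],
   [898, 974, 990, 996, 1045, 1059, 1064, 1133, 1138, 1154, 1159, 1211, 1216, 1241, 1315, 1336, 1393, 1418, 1492, 1513, 1570],
   [933, 967, 991, 1023, 1057, 1074, 1100, 1148, 1188, 1216, 1243, 1292, 1297, 1345, 1398, 1429, 1434, 1487, 1501, 1560, 1564],
   [915, 1018, 1033, 1040, 1050, 1086, 1194, 1206, 1216, 1229, 1264, 1372, 1385, 1395, 1408, 1412, 1436, 1544, 1555, 1565, 1578],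
   [893, 904, 905, 920, 935, 1189, 1200, 1201, 1216, 1231, 1274, 1275, 1286, 1287, 1302, 1317, 1496, 1507, 1508, 1523, 1538],
   [910, 948, 955, 1009, 1043, 1061, 1108, 1176, 1179, 1211, 1229, 1272, 1302, 1328, 1333, 1367, 1433, 1447, 1489, 1501, 1559],
   [898, 910, 915, 920, 933, 1149, 1161, 1166, 1171, 1184, 1370, 1382, 1387, 1392, 1405, 1450, 1456, 1468, 1473, 1478, 1491],
   [901, 902, 906, 910, 911, 1197, 1198, 1202, 1206, 1207, 1274, 1283, 1284, 1288, 1292, 1293, 1504, 1505, 1509, 1513, 1514],
   [910, 941, 1016, 1041, 1055, 1089, 1131, 1134, 1152, 1157, 1194, 1259, 1297, 1315, 1322, 1383, 1420, 1427, 1460, 1523, 1579],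
   [910, 963, 988, 995, 1049, 1081, 1095, 1117, 1182, 1194, 1237, 1297, 1315, 1329, 1397, 1400, 1448, 1453, 1523, 1549, 1554],
   [895, 910, 925, 928, 931, 1191, 1206, 1221, 1224, 1227, 1274, 1277, 1292, 1307, 1310, 1313, 1498, 1513, 1528, 1531, 1534],
   [898, 910, 915, 920, 933, 1098, 1104, 1116, 1121, 1126, 1139, 1325, 1337, 1342, 1347, 1360, 1546, 1558, 1563, 1568, 1581],
   [910, 976, 1001, 1015, 1021, 1083, 1101, 1162, 1211, 1229, 1244, 1251, 1302, 1358, 1374, 1441, 1459, 1464, 1501, 1573, 1576],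
   [899, 914, 919, 920, 924, 1195, 1210, 1215, 1216, 1220, 1274, 1281, 1296, 1301, 1302, 1306, 1502, 1517, 1522, 1523, 1527],
   [915, 968, 980, 1004, 1046, 1058, 1073, 1080, 1090, 1106, 1119, 1129, 1142, 1147, 1158, 1168, 1181, 1194, 1206, 1216, 1229]]

/-- Masks, part 6. -/
noncomputable def masks6 : List ℕ :=
  [0x800000000000000020000000400010000000400000400000000000800400080000000008000000400000000000020000020040000000000000000004000000008000000004000000000001000400800000002000000000000000000000000000000000000000000000000000000000000000000000000000000000000000000000000000000000000000000000000000000000000000000000000000000000000000000000000000000000000000000000000000000000000000000000000000000000000000,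
   0x2000000000000000000200000400000000800208000000000001000000200000010000020000000000000100000800000010000400000000800000000000000020000000200000000000004000040400000020000000000000000000000000000000000000000000000000000000000000000000000000000000000000000000000000000000000000000000000000000000000000000000000000000000000000000000000000000000000000000000000000000000000000000000000000000000000000000,
   0x4010008008000000000000200000000000000000000008020010020000000000000800000000000000000000010040020080000000000002000000010000000000002040100040000000000008000000000000000000000000000000000000000000000000000000000000000000000000000000000000000000000000000000000000000000000000000000000000000000000000000000000000000000000000000000000000000000000000000000000000000000000000000000000000000,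
   0x10000100000000200000000000200040008000000010000000000000000000001000100000000800004000000000400200000001000000080000000000000000200000000008040000800000000010000000800000000000000000000000000000000000000000000000000000000000000000000000000000000000000000000000000000000000000000000000000000000000000000000000000000000000000000000000000000000000000000000000000000000000000000000000000000000000000,
   0x2000000200000000000200000004000010000000000000000004000001000000400000004000800002000000000004000200000004000000010000000000000800020000000000004000000100000080000200000000000000000000000000000000000000000000000000000000000000000000000000000000000000000000000000000000000000000000000000000000000000000000000000000000000000000000000000000000000000000000000000000000000000000000000000000000000000,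
   0x200041000040000000000000000000000000000000001000208000200000000000000000000000801080000840008200008000000000000000000000000000000000400840000400000000000000000000000010000000000000000000000000000000000000000000000000000000000000000000000000000000000000000000000000000000000000000000000000000000000000000000000000000000000000000000000000000000000000000000000000000000000000000000000000000000000000,
   0x20000000000000008000000000000210000040000000002000000000000000001000000020001001000000000000000480200000000000042000000000000000040000000200200080000000400000000000000100000000000000000000000000000000000000000000000000000000000000000000000000000000000000000000000000000000000000000000000000000000000000000000000000000000000000000000000000000000000000000000000000000000000000000000000000000000000,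
   0x200000000000200000000040000000000020000000001000008000001000010000200000800000100000800040000000000040000000008000000000004000000002000000000080000100080000000000004000000000000000000000000000000000000000000000000000000000000000000000000000000000000000000000000000000000000000000000000000000000000000000000000000000000000000000000000000000000000000000000000000000000000000000000000000000000000,
   0x80000000800000000000200020000000000001000000000000010008000000000000000010000000480000000020001000000005000000010000000000000000020000000800000080000002000000401000000000000000000000000000000000000000000000000000000000000000000000000000000000000000000000000000000000000000000000000000000000000000000000000000000000000000000000000000000000000000000000000000000000000000000000000000000000000000000,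
   0x800104000100000000000080108000080000000000020004100004000000000000000000000000000000000100020800020000000000000000000000000000000040084000040000000000000010000000000000000000000000000000000000000000000000000000000000000000000000000000000000000000000000000000000000000000000000000000000000000000000000000000000000000000000000000000000000000000000000000000000000000000000000000000000000,
   0x2000410000400000000000000000000000000000000010002080002000000000000000000000000000000000080010400010000000000008010800008000000000040084000040000000000000010000000000000000000000000000000000000000000000000000000000000000000000000000000000000000000000000000000000000000000000000000000000000000000000000000000000000000000000000000000000000000000000000000000000000000000000000000000000000,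
   0x8400000000000000000200000000800100000000000000000040008000000000004400000000000080008004000000000000001000100000000001000001000000000000080000080000000840000000000000200000000000000000000000000000000000000000000000000000000000000000000000000000000000000000000000000000000000000000000000000000000000000000000000000000000000000000000000000000000000000000000000000000000000000000000000000000000000,
   0x4000000000000020000000000000100000000000040028000000000000140000000000000a000000000002808000000000000040000000000000200000000000080100000000000080000000000044000000000000100000000000000000000000000000000000000000000000000000000000000000000000000000000000000000000000000000000000000000000000000000000000000000000000000000000000000000000000000000000000000000000000000000000000000000000000000000000,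
   0x100010000000008000000100000080000000000800400000000000000000001000800000000001010000000800000100200000000000000000080000002000000000002000000082000000000000200800000000000000000000000000000000000000000000000000000000000000000000000000000000000000000000000000000000000000000000000000000000000000000000000000000000000000000000000000000000000000000000000000000000000000000000000000000000000000000,
   0x8001040001000000000000000000000000000000000040008200008801080000800000000000000000000001000208000200000000000000000000000000000004008400004000010000000000000000000000000000000000000000000000000000000000000000000000000000000000000000000000000000000000000000000000000000000000000000000000000000000000000000000000000000000000000000000000000000000000000000000000000000000000000,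
   0x8080000080000000220000000000000200000000040000000000001000000000000080000800000200000100000000200000001000000000000400000008000000000010000004000000004080000040000000000000000000000000000000000000000000000000000000000000000000000000000000000000000000000000000000000000000000000000000000000000000000000000000000000000000000000000000000000000000000000000000000000000000000000000000000000000000,
   0x800000000000000200000000000000108000000004000000002000000000000801020000000000808000000000000000810000001000000000400000000400000000000400000041000000000000001000000000020000000000000000000000000000000000000000000000000000000000000000000000000000000000000000000000000000000000000000000000000000000000000000000000000000000000000000000000000000000000000000000000000000000000000000000000000000000000,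
   0x8c2000000000000000000204000000000000008c2000000000000000000008000000000000000000000008c2000000000000000000040000000000000000000000011840000000000000000000800000000000000000000000000000000000000000000000000000000000000000000000000000000000000000000000000000000000000000000000000000000000000000000000000000000000000000000000000000000000000000000000000000000000000000000000000000000,
   0x400000000000002000010000000000000000004000002000000000000010000080000000000000000020000010800000000000084000420000000000000000108002000000000001040004000000000000000000400000000000000000000000000000000000000000000000000000000000000000000000000000000000000000000000000000000000000000000000000000000000000000000000000000000000000000000000000000000000000000000000000000000000000000000000000000000,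
   0x11000000000000002000800000000000042000000040000000000002000000000002100000000000080000010000001000000000100000000000100000040002000000008000000080000080000000200000000000000000000000000000000000000000000000000000000000000000000000000000000000000000000000000000000000000000000000000000000000000000000000000000000000000000000000000000000000000000000000000000000000000000000000000000000000000000,
   0x40020080100000000000000000000000000100000110008020010000000000000000000000000010000000020010040040000000000000000000000000040000000040102000400000000000000000000000008000000000000000000000000000000000000000000000000000000000000000000000000000000000000000000000000000000000000000000000000000000000000000000000000000000000000000000000000000000000000000000000000000000000000000000000000000000000000,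
   0x400080018010000000000000000000000000000000000000000000020004000c00c000000000080010003002000000000000000000000000000000000000000000000000000000000000000800100030020000000000000000000000000000000000000000000000000000000000000000000000000000000000000000000000000000000000000000000000000000000000000000000000000000000000000000000000000000000000000000000000000000000000000000000000000000000,
   0x800000000000002002000000000080020000000000000000800000002100000040000001000000000020000800000009000000000000000010000000000020000800000002000000000000081000000000400000000000000000000000000000000000000000000000000000000000000000000000000000000000000000000000000000000000000000000000000000000000000000000000000000000000000000000000000000000000000000000000000000000000000000000000000000000000,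
   0x8004210010400000000002001084004000000000000000000000000000000000000000000000100084200200000000000000000000000000000000000000000000000000000200108400400000000000000000000000000000000000000000000000000000000000000000000000000000000000000000000000000000000000000000000000000000000000000000000000000000000000000000000000000000000000000000000000000000000000000000000000000000000,
   0x62300000000000000000000000000000000000000000000000000003118040000000000000000c4600000000000000000000000000000000000000000000000000000000000000000000000c46000000000000000000000000000000000000000000000000000000000000000000000000000000000000000000000000000000000000000000000000000000000000000000000000000000000000000000000000000000000000000000000000000000000000000000000000000000000,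
   0x80000000000000800000000000000100000000810000000008000000000000004080002000000000800000000000000040000000021000048000000000200000000800200000100000000000000000020000000400000000000000000000000000000000000000000000000000000000000000000000000000000000000000000000000000000000000000000000000000000000000000000000000000000000000000000000000000000000000000000000000000000000000000000000000000000000000,
   0x42000000800000000000000002100000000000120000000000000000200080002000000000000002000000000040040000000000000002000008002000000020000000000000810000008000000000000400000000000000000000000000000000000000000000000000000000000000000000000000000000000000000000000000000000000000000000000000000000000000000000000000000000000000000000000000000000000000000000000000000000000000000000000000000000000,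
   0x490002000400000000000000000000000000000000000000000000024800100024000000000009200040008000000000000000000000000000000000000000000000000000000000000000092000400080000000000000000000000000000000000000000000000000000000000000000000000000000000000000000000000000000000000000000000000000000000000000000000000000000000000000000000000000000000000000000000000000000000000000000000000000000000,
   0x200108400400000000000000000000000000000000000000000000010008420020000000000000000000000000000000000000000000000800421001040000000000000000000000000000000000000000200108400400000000000000000000000000000000000000000000000000000000000000000000000000000000000000000000000000000000000000000000000000000000000000000000000000000000000000000000000000000000000000000000000000000000000000000000000000000000,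
   0x12000000000000000002000000001080002000000000000000040004000000000000040000000000008100020000800000000000400000000000000200008000000000000002080020000010000000000000000400000000000000000000000000000000000000000000000000000000000000000000000000000000000000000000000000000000000000000000000000000000000000000000000000000000000000000000000000000000000000000000000000000000000000000000000000000000000,
   0x8c20004000000000000000000000000000000000000000000000000461000204000000000000118400080000000000000000000000000000000000000000000000000000000000000000001184000800000000000000000000000000000000000000000000000000000000000000000000000000000000000000000000000000000000000000000000000000000000000000000000000000000000000000000000000000000000000000000000000000000000000000000000000000000000,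
   0x20010040040020010040084002008004000401020004004000000000100000100100000000000008000000000000000000000000000000000000000000000000000000000000000000000000000000000000000000000000000000000000000000000000000000000000000000000000000000000000000000000000000000000000000000000000000000000000000000000000000000000000]

/-- Neighbours, part 7. -/
noncomputable def nbs7 : List (List ℕ) :=
  [[933, 947, 997, 1002, 1034, 1063, 1097, 1132, 1163, 1167, 1216, 1263, 1292, 1297, 1356, 1366, 1423, 1476, 1501, 1545, 1585],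
   [898, 945, 986, 1019, 1024, 1085, 1127, 1173, 1211, 1216, 1270, 1315, 1361, 1399, 1404, 1422, 1428, 1467, 1513, 1551, 1556],
   [937, 942, 975, 1000, 1036, 1072, 1088, 1110, 1128, 1151, 1225, 1240, 1308, 1334, 1375, 1396, 1435, 1469, 1500, 1536, 1543],
   [918, 944, 993, 1013, 1056, 1076, 1109, 1137, 1174, 1190, 1212, 1265, 1294, 1323, 1373, 1394, 1421, 1438, 1472, 1536, 1553],
   [897, 978, 981, 985, 989, 1070, 1075, 1153, 1156, 1160, 1164, 1260, 1341, 1344, 1348, 1352, 1445, 1529, 1532, 1536, 1540],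
   [929, 961, 998, 1006, 1026, 1068, 1114, 1170, 1193, 1222, 1255, 1261, 1319, 1320, 1355, 1378, 1425, 1454, 1485, 1536, 1571],
   [893, 969, 990, 991, 1040, 1060, 1061, 1134, 1135, 1155, 1156, 1212, 1213, 1240, 1314, 1335, 1392, 1419, 1493, 1514, 1571],
   [921, 969, 983, 1008, 1038, 1092, 1103, 1131, 1159, 1190, 1243, 1288, 1341, 1375, 1406, 1425, 1447, 1456, 1507, 1539, 1565],
   [918, 969, 989, 1006, 1036, 1064, 1118, 1165, 1199, 1227, 1249, 1269, 1278, 1360, 1395, 1448, 1459, 1480, 1508, 1542, 1564],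
   [927, 938, 952, 962, 969, 1095, 1104, 1115, 1128, 1138, 1273, 1282, 1294, 1307, 1317, 1412, 1445, 1454, 1464, 1477, 1487],
   [907, 969, 1007, 1025, 1039, 1067, 1128, 1166, 1181, 1198, 1270, 1281, 1294, 1322, 1331, 1389, 1433, 1445, 1454, 1511, 1585],
   [918, 969, 989, 1006, 1036, 1073, 1093, 1102, 1184, 1219, 1272, 1283, 1304, 1332, 1366, 1388, 1416, 1470, 1517, 1551, 1579],
   [924, 969, 986, 1004, 1034, 1094, 1105, 1125, 1162, 1190, 1237, 1291, 1310, 1341, 1375, 1409, 1425, 1449, 1458, 1533, 1568],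
   [913, 969, 1005, 1022, 1037, 1081, 1097, 1106, 1156, 1212, 1230, 1240, 1301, 1342, 1363, 1374, 1444, 1455, 1467, 1498, 1571],
   [915, 940, 964, 1006, 1048, 1410, 1425, 1432, 1442, 1454, 1465, 1475, 1488, 1501, 1513, 1523, 1536, 1548, 1561, 1571, 1584],
   [920, 959, 972, 989, 1032, 1091, 1130, 1156, 1194, 1211, 1238, 1292, 1326, 1341, 1376, 1407, 1430, 1445, 1451, 1536, 1567],
   [894, 912, 916, 918, 933, 1190, 1208, 1212, 1214, 1229, 1274, 1276, 1294, 1298, 1300, 1315, 1497, 1515, 1519, 1521, 1536],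
   [898, 965, 1014, 1030, 1036, 1066, 1128, 1185, 1206, 1235, 1240, 1297, 1302, 1354, 1359, 1375, 1380, 1417, 1479, 1536, 1557],
   [895, 950, 953, 1002, 1051, 1069, 1119, 1176, 1233, 1236, 1239, 1286, 1289, 1343, 1346, 1400, 1403, 1418, 1468, 1525, 1582],
   [899, 926, 931, 932, 936, 1150, 1177, 1182, 1183, 1187, 1371, 1398, 1403, 1404, 1408, 1450, 1457, 1484, 1489, 1490, 1494],
   [896, 939, 941, 982, 1023, 1083, 1121, 1123, 1169, 1215, 1268, 1309, 1311, 1357, 1403, 1422, 1426, 1461, 1463, 1509, 1555],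
   [905, 946, 1010, 1047, 1055, 1082, 1141, 1147, 1154, 1205, 1244, 1279, 1284, 1347, 1403, 1440, 1446, 1476, 1516, 1541, 1552],
   [894, 948, 980, 982, 1025, 1070, 1072, 1118, 1155, 1157, 1205, 1257, 1306, 1343, 1345, 1393, 1442, 1494, 1531, 1533, 1581],
   [932, 942, 995, 1007, 1033, 1069, 1105, 1132, 1160, 1213, 1257, 1293, 1298, 1358, 1370, 1399, 1426, 1440, 1480, 1496, 1584],
   [914, 940, 963, 1005, 1047, 1059, 1080, 1103, 1123, 1150, 1171, 1197, 1219, 1257, 1300, 1348, 1396, 1434, 1477, 1525, 1573],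
   [935, 953, 985, 1037, 1043, 1063, 1110, 1126, 1152, 1177, 1208, 1257, 1282, 1309, 1332, 1406, 1428, 1436, 1488, 1528, 1541],
   [923, 943, 992, 1035, 1054, 1091, 1114, 1134, 1151, 1166, 1214, 1241, 1283, 1296, 1356, 1385, 1426, 1447, 1494, 1525, 1541],
   [912, 972, 1000, 1026, 1035, 1085, 1100, 1150, 1158, 1231, 1237, 1307, 1309, 1343, 1360, 1374, 1440, 1443, 1466, 1503, 1566],
   [897, 964, 1013, 1030, 1035, 1058, 1061, 1065, 1069, 1120, 1123, 1127, 1131, 1177, 1180, 1184, 1188, 1198, 1201, 1205, 1209],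
   [932, 953, 982, 1035, 1047, 1081, 1104, 1133, 1162, 1167, 1227, 1250, 1264, 1318, 1349, 1365, 1421, 1475, 1502, 1529, 1557],
   [932, 953, 982, 1035, 1047, 1074, 1088, 1142, 1173, 1189, 1245, 1299, 1326, 1353, 1381, 1433, 1456, 1485, 1514, 1519, 1579],
   [930, 958, 984, 1035, 1042, 1069, 1095, 1123, 1177, 1205, 1261, 1276, 1310, 1334, 1342, 1407, 1423, 1459, 1492, 1527, 1544]]

/-- Masks, part 7. -/
noncomputable def masks7 : List ℕ :=
  [0x2000000000200000000002000001000000000000080000000000000401000000000000002100000008000000000010000000000008800000010000000020000000080000004000000042000000000000800200000000000000000000000000000000000000000000000000000000000000000000000000000000000000000000000000000000000000000000000000000000000000000000000000000000000000000000000000000000000000000000000000000000000000000000000000000000000000000,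
   0x108000000002000000000008000000001040001080000000020000000000080000000000400000000000010800000000200000000000800000000020000000000000010800000004000000000200000000000400000000000000000000000000000000000000000000000000000000000000000000000000000000000000000000000000000000000000000000000000000000000000000000000000000000000000000000000000000000000000000000000000000000000000000000000000000000,
   0x81000000001000000020000000080000000010000080000000004000001000000000000000010002000000000000000000800001000040000100010000000010000000010000008000000042000000000000000000000000000000000000000000000000000000000000000000000000000000000000000000000000000000000000000000000000000000000000000000000000000000000000000000000000000000000000000000000000000000000000000000000000000000000000000000,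
   0x20001000000000000000100000000400020000004000020000000000008000000400000020000000000001000004000400000000200000020000000100001000000000020000200000000000100000040000000000000000000000000000000000000000000000000000000000000000000000000000000000000000000000000000000000000000000000000000000000000000000000000000000000000000000000000000000000000000000000000000000000000000000000000000000000000,
   0x11120000000000000000000020000000000000000000000111200000000000000000001000000000000000000000001112000000000000000000084000000000000000000022240000000000000000000200000000000000000000000000000000000000000000000000000000000000000000000000000000000000000000000000000000000000000000000000000000000000000000000000000000000000000000000000000000000000000000000000000000000000000000000000000000,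
   0x800000001000000000000200000004000000200000000000400000800000001800000000000002080000000400000020000040000000000000400000000001000000000040000404000000002000000020000000000000000000000000000000000000000000000000000000000000000000000000000000000000000000000000000000000000000000000000000000000000000000000000000000000000000000000000000000000000000000000000000000000000000000000000000000000000000,
   0x8000000000000040000200000000000000000080000010000000000000080000400000000000000000100000030000000000000180000c00000000000000000300001000000000000c0000200000000000000000020000000000000000000000000000000000000000000000000000000000000000000000000000000000000000000000000000000000000000000000000000000000000000000000000000000000000000000000000000000000000000000000000000000000000000000000000000000,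
   0x20000008000000080000000000010080000200004000000080000000200000000000010000000000080000000000004000000080000008000000801000000000000040000001000000800200000000000200000000000000000000000000000000000000000000000000000000000000000000000000000000000000000000000000000000000000000000000000000000000000000000000000000000000000000000000000000000000000000000000000000000000000000000000000000000000000,
   0x10000040000000100000010000080100000000000008000000010000000000000000000040200002000008000000800000002000000000004000000000000100000010000000400020000200000000000040000000000000000000000000000000000000000000000000000000000000000000000000000000000000000000000000000000000000000000000000000000000000000000000000000000000000000000000000000000000000000000000000000000000000000000000000000000000000,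
   0x802001004020000000100000000000000000000000200800400402000000000000000000000000000000000401000801008000000000000000000000000000000204010004008000000000000000000000000000000000000000000000000000000000000000000000000000000000000000000000000000000000000000000000000000000000000000000000000000000000000000000000000000000000000000000000000000000000000000000000000000000000000000,
   0x2000000000000000000800000000000004020020000000000200000000000000804000000400200400000000000000000400020004000000001000000000000000800000080020000800000000200000000000000080000000000000000000000000000000000000000000000000000000000000000000000000000000000000000000000000000000000000000000000000000000000000000000000000000000000000000000000000000000000000000000000000000000000000000000000000000000000,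
   0x80000008000000020000000000040000000000001000000100000400000001000000100000801000000000000080000000100000000000000000000402000020000000010000000400020000200000000000040000000000000000000000000000000000000000000000000000000000000000000000000000000000000000000000000000000000000000000000000000000000000000000000000000000000000000000000000000000000000000000000000000000000000000000000000000000000000,
   0x100000000200000000000000000040200000200020000000080000000200000004000080000000000002000000000004000000400000000200002004000000000000004000000100004000200000000001000000000000000000000000000000000000000000000000000000000000000000000000000000000000000000000000000000000000000000000000000000000000000000000000000000000000000000000000000000000000000000000000000000000000000000000000000000000000000,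
   0x800000000000000000400000008008010000000000000000040080000400000000020000000000000010040001000000000000010000000000004020002000000000020004000200000000200000000000002000000000000000000000000000000000000000000000000000000000000000000000000000000000000000000000000000000000000000000000000000000000000000000000000000000000000000000000000000000000000000000000000000000000000000000000000000000000000,
   0x1000802001001000802002001000802004004010200040000000000000000000000000000000000000000000000000000000000000000000000000000000000000000010000000000400000000010000010000008000000000000000000000000000000000000000000000000000000000000000000000000000000000000000000000000000000000000000000000000000000000000000000000000000000000000000000000000000000000000000000000000000000000000000000000000000000000000,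
   0x80000001000000000000000000000820004000008000000100000000200040000000100000000000004000000800040000000010000004000000000800000000000001000000000020001000800000000100000000000000000000000000000000000000000000000000000000000000000000000000000000000000000000000000000000000000000000000000000000000000000000000000000000000000000000000000000000000000000000000000000000000000000000000000000000000000,
   0x1000288000200000000000000000000000000000000000000000000080014400014000000000020005100004000000000000000000000000000000000000000000000000000000000000000200051000040000000000000000000000000000000000000000000000000000000000000000000000000000000000000000000000000000000000000000000000000000000000000000000000000000000000000000000000000000000000000000000000000000000000000000000000000000000,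
   0x200001000000000000008000000000000002000000001080008400000000000042000000000000010800000040000200000000000001000000000000000400000010400040000000000020000000000000000400000000000000000000000000000000000000000000000000000000000000000000000000000000000000000000000000000000000000000000000000000000000000000000000000000000000000000000000000000000000000000000000000000000000000000000000000000000,
   0x400000000000002000000000000010000000000004000900000000000004800000000000024000000000009200000000000001000000000000008000000000002000080000000000040000000000024000000000000080000000000000000000000000000000000000000000000000000000000000000000000000000000000000000000000000000000000000000000000000000000000000000000000000000000000000000000000000000000000000000000000000000000000000000000000000000000,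
   0x461000000204000000000118400000080000000000000000000000000000000000000000000008c2000000400000000000000000000000000000000000000000000000000001184000000800000000000000000000000000000000000000000000000000000000000000000000000000000000000000000000000000000000000000000000000000000000000000000000000000000000000000000000000000000000000000000000000000000000000000000000000000000000,
   0x80000000000200000000000a0000000044000080000000000200000000000a0000000001000000000000080000000000200000000000a0000000008000000000000008000000000400000000028000000000100000000000000000000000000000000000000000000000000000000000000000000000000000000000000000000000000000000000000000000000000000000000000000000000000000000000000000000000000000000000000000000000000000000000000000000000000000000,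
   0x10020000010000000001000000041000000000800000000000008000000000000001080000000100000000020000000000004082000000000000004000000808000000004000000000000000400000000020000000000000000000000000000000000000000000000000000000000000000000000000000000000000000000000000000000000000000000000000000000000000000000000000000000000000000000000000000000000000000000000000000000000000000000000000000000000,
   0x200000000000280000000040000000000004000000000002000000000002800000000400000000000200000000000020000000000028000000004000000000014000000000020000000000500000001000000000000040000000000000000000000000000000000000000000000000000000000000000000000000000000000000000000000000000000000000000000000000000000000000000000000000000000000000000000000000000000000000000000000000000000000000000000000000000000,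
   0x1000000000000000000000100010000000001000400000080000004004000000000000004200000000200000000002000000000000100000010000002000000002000000002000000800800000000000040100000000000000000000000000000000000000000000000000000000000000000000000000000000000000000000000000000000000000000000000000000000000000000000000000000000000000000000000000000000000000000000000000000000000000000000000000000000000000000,
   0x2000000000002000000000002000000000040000000010000000000010000000000010000000000200000000080000200000080000400000080000800001000008008000000000200000000008000010000004000000000000000000000000000000000000000000000000000000000000000000000000000000000000000000000000000000000000000000000000000000000000000000000000000000000000000000000000000000000000000000000000000000000000000000000000000000000000,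
   0x20010000000001000000000000101000004000000000000000001000002000000400000200000000000100000002000001000000400040000000000080000820000000000002000000020000800000000000000000000000000000000000000000000000000000000000000000000000000000000000000000000000000000000000000000000000000000000000000000000000000000000000000000000000000000000000000000000000000000000000000000000000000000000000000000,
   0x20002000000040000000000080000400000000020000001000000000000001000800000000020000004000000000004000800040000400000800000000400008000000000100000000000080000800000000000000000000000000000000000000000000000000000000000000000000000000000000000000000000000000000000000000000000000000000000000000000000000000000000000000000000000000000000000000000000000000000000000000000000000000000000000000,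
   0x40000000000000008000000004000009000000000000000040010000800000002800000000000000002080000000000000000040400000000000100020000000000008040000010000001000000000000001000000000000000000000000000000000000000000000000000000000000000000000000000000000000000000000000000000000000000000000000000000000000000000000000000000000000000000000000000000000000000000000000000000000000000000000000000000000000,
   0x222401112000000000008890000000000002224000008400020000000000010000000000000000200000000000000000000000000000000000000000000000000000000000000000000000000000000000000000000000000000000000000000000000000000000000000000000000000000000000000000000000000000000000000000000000000000000000000000000000000000000,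
   0x200000020000004000000800000000000020000000000000200020000000400000000000010004000008000000000000008400000020000001000002000000008008000000000000400000020000100000000000000000000000000000000000000000000000000000000000000000000000000000000000000000000000000000000000000000000000000000000000000000000000000000000000000000000000000000000000000000000000000000000000000000000000000000000000000000,
   0x80000000000000084000000200000010000020000000000002000000200000040000008000000000000200000000000002000200000004000000000000100040000008008000000000000400000020000100000000000000000000000000000000000000000000000000000000000000000000000000000000000000000000000000000000000000000000000000000000000000000000000000000000000000000000000000000000000000000000000000000000000000000000000000000000000000000,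
   0x100008000000010000000080000000080008000000000000000404000004000000010002000000000000020000002000000000000080000008000002000000408000000000001000000400000040000000000000000000000000000000000000000000000000000000000000000000000000000000000000000000000000000000000000000000000000000000000000000000000000000000000000000000000000000000000000000000000000000000000000000000000000000000000000000]

/-- Neighbours, part 8. -/
noncomputable def nbs8 : List (List ℕ) :=
  [[919, 947, 996, 1035, 1050, 1071, 1140, 1150, 1175, 1192, 1272, 1288, 1309, 1322, 1343, 1392, 1417, 1440, 1472, 1532, 1561],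
   [904, 1019, 1035, 1046, 1057, 1410, 1426, 1437, 1448, 1452, 1464, 1479, 1494, 1498, 1510, 1525, 1540, 1541, 1553, 1568, 1583],
   [929, 953, 988, 1039, 1045, 1066, 1129, 1148, 1177, 1202, 1257, 1278, 1309, 1335, 1409, 1430, 1438, 1491, 1522, 1541, 1576],
   [907, 945, 959, 1009, 1047, 1094, 1123, 1150, 1163, 1191, 1200, 1257, 1269, 1319, 1323, 1380, 1419, 1460, 1525, 1563, 1578],
   [932, 955, 967, 993, 1022, 1069, 1115, 1168, 1195, 1222, 1257, 1313, 1325, 1354, 1383, 1388, 1426, 1440, 1451, 1539, 1570],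
   [913, 965, 982, 997, 1049, 1092, 1101, 1174, 1193, 1205, 1257, 1273, 1287, 1343, 1361, 1372, 1416, 1473, 1494, 1505, 1567],
   [928, 1018, 1036, 1047, 1052, 1190, 1205, 1220, 1226, 1367, 1382, 1397, 1403, 1411, 1429, 1440, 1445, 1541, 1556, 1571, 1577],
   [925, 974, 982, 1006, 1031, 1079, 1090, 1123, 1161, 1179, 1196, 1240, 1294, 1309, 1341, 1403, 1426, 1453, 1538, 1545, 1569],
   [932, 954, 968, 989, 1041, 1062, 1128, 1150, 1177, 1207, 1212, 1251, 1263, 1275, 1336, 1403, 1425, 1494, 1520, 1546, 1575],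
   [918, 953, 973, 1016, 1024, 1069, 1086, 1139, 1156, 1210, 1252, 1305, 1321, 1343, 1375, 1403, 1441, 1454, 1504, 1525, 1560],
   [901, 977, 990, 999, 1048, 1234, 1238, 1242, 1243, 1308, 1312, 1316, 1317, 1329, 1333, 1337, 1338, 1386, 1390, 1394, 1395],
   [917, 957, 976, 986, 1032, 1076, 1097, 1099, 1122, 1181, 1221, 1267, 1303, 1338, 1368, 1387, 1420, 1465, 1500, 1517, 1580],
   [903, 978, 991, 1001, 1011, 1077, 1149, 1159, 1172, 1185, 1255, 1327, 1338, 1351, 1364, 1412, 1427, 1499, 1508, 1521, 1534],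
   [902, 956, 998, 1020, 1034, 1073, 1116, 1164, 1203, 1235, 1247, 1281, 1290, 1328, 1338, 1369, 1377, 1424, 1467, 1515, 1554],
   [917, 948, 996, 1017, 1051, 1077, 1096, 1113, 1144, 1167, 1217, 1242, 1279, 1296, 1357, 1383, 1424, 1490, 1528, 1544, 1563],
   [919, 956, 995, 1010, 1027, 1096, 1101, 1122, 1171, 1202, 1223, 1241, 1264, 1311, 1340, 1386, 1423, 1457, 1482, 1499, 1582],
   [926, 970, 1011, 1019, 1049, 1096, 1142, 1188, 1197, 1231, 1236, 1268, 1312, 1358, 1369, 1401, 1446, 1491, 1537, 1547, 1580],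
   [904, 939, 955, 966, 977, 1058, 1074, 1085, 1096, 1099, 1111, 1126, 1141, 1145, 1157, 1172, 1187, 1191, 1203, 1218, 1233],
   [923, 954, 975, 1011, 1025, 1075, 1094, 1099, 1169, 1209, 1239, 1318, 1335, 1355, 1373, 1386, 1424, 1480, 1503, 1518, 1577],
   [917, 946, 992, 1037, 1056, 1068, 1103, 1120, 1183, 1203, 1252, 1273, 1312, 1352, 1365, 1388, 1443, 1469, 1499, 1518, 1569],
   [936, 956, 981, 1039, 1042, 1071, 1105, 1137, 1155, 1172, 1196, 1242, 1269, 1305, 1353, 1378, 1435, 1452, 1516, 1518, 1580],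
   [913, 961, 977, 984, 1052, 1062, 1077, 1122, 1140, 1153, 1219, 1265, 1282, 1346, 1369, 1381, 1437, 1463, 1518, 1539, 1543],
   [928, 938, 956, 967, 972, 1059, 1077, 1088, 1093, 1099, 1114, 1129, 1135, 1276, 1291, 1306, 1312, 1453, 1468, 1483, 1489],
   [931, 945, 977, 1000, 1038, 1067, 1132, 1161, 1199, 1214, 1261, 1287, 1326, 1363, 1367, 1400, 1424, 1436, 1483, 1499, 1580],
   [912, 941, 1008, 1011, 1045, 1080, 1122, 1139, 1151, 1195, 1203, 1242, 1251, 1284, 1345, 1407, 1444, 1483, 1485, 1511, 1542],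
   [917, 952, 997, 1016, 1026, 1091, 1102, 1121, 1172, 1207, 1244, 1314, 1334, 1369, 1386, 1428, 1449, 1483, 1496, 1519, 1578],
   [897, 914, 917, 921, 925, 1148, 1165, 1168, 1172, 1176, 1369, 1386, 1389, 1393, 1397, 1450, 1455, 1472, 1475, 1479, 1483],
   [895, 962, 1011, 1030, 1033, 1060, 1063, 1122, 1125, 1179, 1182, 1200, 1203, 1242, 1304, 1361, 1382, 1421, 1483, 1540, 1561],
   [927, 977, 980, 1013, 1055, 1410, 1424, 1434, 1441, 1458, 1470, 1483, 1493, 1499, 1509, 1522, 1532, 1546, 1557, 1570, 1580],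
   [935, 956, 964, 983, 1041, 1077, 1083, 1099, 1163, 1230, 1249, 1312, 1331, 1347, 1372, 1399, 1417, 1483, 1504, 1529, 1553],
   [933, 943, 977, 1007, 1031, 1077, 1082, 1118, 1122, 1180, 1194, 1250, 1302, 1321, 1369, 1409, 1419, 1484, 1513, 1518, 1566],
   [898, 950, 956, 1005, 1054, 1065, 1115, 1172, 1229, 1242, 1292, 1349, 1406, 1411, 1416, 1461, 1466, 1518, 1523, 1575, 1580]]

/-- Masks, part 8. -/
noncomputable def masks8 : List ℕ :=
  [0x2000000100000000000000100000001000002000001000000000000800004002000010001000000000000000000010000800000401000000000000000008000040008000000001000000000000800000080000000000000000000000000000000000000000000000000000000000000000000000000000000000000000000000000000000000000000000000000000000000000000000000000000000000000000000000000000000000000000000000000000000000000000000000000000000000000,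
   0x800100020030002000400440008001001100200400040000000000000000000000000000000000000000000000000000000000000000000000000000000000000002004008000800000000000000000000000000010000000000000000000000000000000000000000000000000000000000000000000000000000000000000000000000000000000000000000000000000000000000000000000000000000000000000000000000000000000000000000000000000000000000000000000000000000000000,
   0x10000000020000400000008000000000000404000020000000000000000008000002000000040000200000000000004000002000000100002000000000000000400002080000000000010000000020000020000000000000000000000000000000000000000000000000000000000000000000000000000000000000000000000000000000000000000000000000000000000000000000000000000000000000000000000000000000000000000000000000000000000000000000000000000000000000000,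
   0x40008000000002000000000000000100000000008000000001000000000000008800000000000200200000000000001008000000800400000080000004000000000008000000002000000000000800200000000080000000000000000000000000000000000000000000000000000000000000000000000000000000000000000000000000000000000000000000000000000000000000000000000000000000000000000000000000000000000000000000000000000000000000000000000000000000000,
   0x400000008000000000000000000000801000400000000108000000400000020020000000000000200000000400000080000010000000000000800000000002000000000004000000200000080080000100000000000000000000000000000000000000000000000000000000000000000000000000000000000000000000000000000000000000000000000000000000000000000000000000000000000000000000000000000000000000000000000000000000000000000000000000000000000000000,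
   0x80000000000000020040000200000000000001000000000010020000800000000000008002000200000000000020020000400000000000000000201000000000020000000000002000400020000000000002000000000000000000000000000000000000000000000000000000000000000000000000000000000000000000000000000000000000000000000000000000000000000000000000000000000000000000000000000000000000000000000000000000000000000000000000000000000000,
   0x20800100020000000000000000000000021002000080820004000800000000000000000000000000000000004100020004000000000000000000000000000000000108010000400000000000000000000010000000000000000000000000000000000000000000000000000000000000000000000000000000000000000000000000000000000000000000000000000000000000000000000000000000000000000000000000000000000000000000000000000000000000000000000000000000000000000,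
   0x200000204000000000000000000002000000400000800000000000000200000002000400000000000010000000000100008000200000000080000000400800000000000800000400000404000000000002000000000000000000000000000000000000000000000000000000000000000000000000000000000000000000000000000000000000000000000000000000000000000000000000000000000000000000000000000000000000000000000000000000000000000000000000000000000000000,
   0x8000000400000100000040000000000000000200000800000000000000010000000000000008008008000000001080000002000000400001000000000000000040000200000000000020000100040000100000000000000000000000000000000000000000000000000000000000000000000000000000000000000000000000000000000000000000000000000000000000000000000000000000000000000000000000000000000000000000000000000000000000000000000000000000000000000000,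
   0x1000000002000010000000000004002000000000800000080000000800002000200000000000010000000000400000000000010000800000000000040002000000000010100000000002000020000000040000000000000000000000000000000000000000000000000000000000000000000000000000000000000000000000000000000000000000000000000000000000000000000000000000000000000000000000000000000000000000000000000000000000000000000000000000000000000,
   0xc4400000000000622003110000000000000000c4400000000000000000000000000000000000000000000010000000000008040020000000000000000002000000000000000000000000000000000000000000000000000000000000000000000000000000000000000000000000000000000000000000000000000000000000000000000000000000000000000000000000000000000000000000000000000000000000000000000000000000000,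
   0x1000000000000000200010000000020000000000100000000800010000000400000000800000000800000000002000000000200000000000000400000a0000100000000001000000000004010000200000000020000000000000000000000000000000000000000000000000000000000000000000000000000000000000000000000000000000000000000000000000000000000000000000000000000000000000000000000000000000000000000000000000000000000000000000000000000000000000,
   0x400200100800000000000000000800100000000000100080040080000000000000000080000000000000000200100080200000000000000000200000000000000008020080040000000000000000008000000000000000000000000000000000000000000000000000000000000000000000000000000000000000000000000000000000000000000000000000000000000000000000000000000000000000000000000000000000000000000000000000000000000000000000000000000000,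
   0x40000000008000000000008000000000100000000000202000000040100000000040200000000800800000008000000001000000000001000000000020000000004001000004000000000100000000000004000000000000000000000000000000000000000000000000000000000000000000000000000000000000000000000000000000000000000000000000000000000000000000000000000000000000000000000000000000000000000000000000000000000000000000000000000000000,
   0x8000100010000000004000000000000000100000000008000002000000000000001000080000000040000020000000000008000010000000200010000200000080000000200001000000000001000000020000000000000000000000000000000000000000000000000000000000000000000000000000000000000000000000000000000000000000000000000000000000000000000000000000000000000000000000000000000000000000000000000000000000000000000000000000000000000,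
   0x400000000000000000000800040000020000000080000000040000000000100000008000000000010000020000800004000000080000000000040000210000000000000000080004000800000000100000000080000000000000000000000000000000000000000000000000000000000000000000000000000000000000000000000000000000000000000000000000000000000000000000000000000000000000000000000000000000000000000000000000000000000000000000000000000000000000,
   0x100000000802000000000008000000000040000000000200000002004000000000010000000000100000001080000000201000000000004000000000010000000000020000000808000000000400000000004000000000000000000000000000000000000000000000000000000000000000000000000000000000000000000000000000000000000000000000000000000000000000000000000000000000000000000000000000000000000000000000000000000000000000000000000000000000000000,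
   0x200040008008800100020022000400080090020040004000000000000000000020040080008000000010000000000000000000000000000000000000000000000000000000000000000000000000000000000000000000000000000000000000000000000000000000000000000000000000000000000000000000000000000000000000000000000000000000000000000000000000000000000,
   0x20000000000000040008000010000000000000100000000040020000800008000400000000000000000008000000200000000020000000000000000084000080000000000020008000000008000040000000800000000000000000000000000000000000000000000000000000000000000000000000000000000000000000000000000000000000000000000000000000000000000000000000000000000000000000000000000000000000000000000000000000000000000000000000000000000000000,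
   0x200000000000040000800000020000008000000000000100000200100000000010000000002000010000000000008000080000000000000010000800000001001000020000000000100000000000400000020000000000000000000000000000000000000000000000000000000000000000000000000000000000000000000000000000000000000000000000000000000000000000000000000000000000000000000000000000000000000000000000000000000000000000000000000000000000000,
   0x100000000000000050000000000000001000080000000000000400000200000000000200000000200000040000000000100000100008000200000002000000008000000480000000000000200000100001000000000000000000000000000000000000000000000000000000000000000000000000000000000000000000000000000000000000000000000000000000000000000000000000000000000000000000000000000000000000000000000000000000000000000000000000000000000000000000,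
   0x88000040000000000000800000200000000000002002000004000000000000000400020000000000080000000000000002001000040000000000200040100000000000000001020002000000000002000000000000000000000000000000000000000000000000000000000000000000000000000000000000000000000000000000000000000000000000000000000000000000000000000000000000000000000000000000000000000000000000000000000000000000000000000000000000,
   0x2080010002000000000000000000000000000000000010400080010000000000000000000000000000000000082000400082100200008000000000000000000001080100004010000000000000000000000000000000000000000000000000000000000000000000000000000000000000000000000000000000000000000000000000000000000000000000000000000000000000000000000000000000000000000000000000000000000000000000000000000000000000000,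
   0x100000000000000000000800080000000000100100000100000000880000000040000000008000002000000000004000800000000200000010000000000000000800000040000000010000020000000200080000000000000000000000000000000000000000000000000000000000000000000000000000000000000000000000000000000000000000000000000000000000000000000000000000000000000000000000000000000000000000000000000000000000000000000000000000000000000000,
   0x40000000800000280000000010000000008000000000000002000000000000001000000008040000000008080000000000800800040000000001000000002000000009000000000000000020000001000000000000000000000000000000000000000000000000000000000000000000000000000000000000000000000000000000000000000000000000000000000000000000000000000000000000000000000000000000000000000000000000000000000000000000000000000000000000,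
   0x40000000000000080000100080000000200001000000000040002000000004000040000000000000000100000000080000000100000000000020000400800000000000000040100002000000000010000000020000000000000000000000000000000000000000000000000000000000000000000000000000000000000000000000000000000000000000000000000000000000000000000000000000000000000000000000000000000000000000000000000000000000000000000000000000000000000,
   0x88900008400000000000022240002000000000000000000000000000000000000000000000001112000100000000000000000000000000000000000000000000000000000002224000200000000000000000000000000000000000000000000000000000000000000000000000000000000000000000000000000000000000000000000000000000000000000000000000000000000000000000000000000000000000000000000000000000000000000000000000000000000,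
   0x2000010000000000000080000000000000020000000004000020000000000000100000000000000040000000009000048000000000000240000000000000090000002400008000000000004000000000000000080000000000000000000000000000000000000000000000000000000000000000000000000000000000000000000000000000000000000000000000000000000000000000000000000000000000000000000000000000000000000000000000000000000000000000000000000000000,
   0x100400200400100400200820080040040002040100040000000000000000000000000000000000000000000000000000000000000000000000000000000000000000800000000020000000120000000000008000000000000000000000000000000000000000000000000000000000000000000000000000000000000000000000000000000000000000000000000000000000000000000000000000000000000000000000000000000000000000000000000000000000000000000000000000000000000000,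
   0x20000020000010000080000000000000002000080000010000008000800010000000000000002000040000000000000000800000000000000080008200000000200000000000000800010100000800000000000000000000000000000000000000000000000000000000000000000000000000000000000000000000000000000000000000000000000000000000000000000000000000000000000000000000000000000000000000000000000000000000000000000000000000000000000000000,
   0x40000000000042000000100000000000000008020000000002000000000002000040000000000004000000000000040010000000000000044000000004200000000000800000800000020000000080200000000000000000000000000000000000000000000000000000000000000000000000000000000000000000000000000000000000000000000000000000000000000000000000000000000000000000000000000000000000000000000000000000000000000000000000000000000000000000,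
   0x108000000000000840000000000004200000000001084000000000000020000000000000100000000000040020000000000000100000000000000800000000000200400000000000200000000000104000000000000400000000000000000000000000000000000000000000000000000000000000000000000000000000000000000000000000000000000000000000000000000000000000000000000000000000000000000000000000000000000000000000000000000000000000000000000000000000]

/-- Neighbours, part 9. -/
noncomputable def nbs9 : List (List ℕ) :=
  [[896, 907, 915, 917, 930, 1192, 1203, 1211, 1213, 1226, 1274, 1278, 1289, 1297, 1299, 1312, 1499, 1510, 1518, 1520, 1533],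
   [920, 958, 973, 1011, 1022, 1079, 1092, 1099, 1175, 1206, 1245, 1315, 1332, 1371, 1386, 1424, 1477, 1501, 1518, 1552, 1583],
   [908, 963, 977, 989, 1050, 1084, 1096, 1099, 1172, 1203, 1258, 1294, 1356, 1370, 1375, 1414, 1492, 1502, 1505, 1571, 1576],
   [909, 947, 1006, 1011, 1043, 1096, 1128, 1133, 1156, 1190, 1256, 1312, 1325, 1369, 1385, 1415, 1431, 1460, 1527, 1531, 1580],
   [918, 956, 1009, 1029, 1046, 1096, 1100, 1122, 1152, 1173, 1201, 1240, 1285, 1313, 1339, 1386, 1425, 1445, 1481, 1499, 1581],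
   [917, 971, 988, 1036, 1057, 1077, 1096, 1127, 1158, 1189, 1212, 1242, 1293, 1324, 1341, 1402, 1424, 1454, 1473, 1535, 1573],
   [937, 956, 982, 1015, 1040, 1064, 1109, 1130, 1177, 1203, 1259, 1277, 1338, 1369, 1405, 1424, 1440, 1487, 1507, 1525, 1548],
   [906, 944, 1004, 1011, 1047, 1069, 1077, 1108, 1172, 1225, 1270, 1301, 1309, 1338, 1366, 1376, 1432, 1494, 1499, 1549, 1558],
   [893, 911, 916, 917, 932, 1098, 1099, 1117, 1122, 1123, 1138, 1320, 1338, 1343, 1344, 1359, 1541, 1559, 1564, 1565, 1580],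
   [924, 953, 977, 1014, 1021, 1089, 1106, 1150, 1170, 1205, 1224, 1242, 1260, 1312, 1338, 1386, 1426, 1478, 1497, 1551, 1585],
   [894, 940, 942, 985, 1028, 1090, 1134, 1136, 1184, 1232, 1246, 1248, 1286, 1288, 1336, 1384, 1433, 1474, 1476, 1524, 1572],
   [934, 960, 994, 1028, 1053, 1072, 1086, 1104, 1186, 1215, 1237, 1295, 1298, 1330, 1348, 1398, 1439, 1459, 1488, 1498, 1556],
   [900, 949, 979, 987, 1028, 1087, 1131, 1166, 1174, 1220, 1272, 1319, 1354, 1362, 1408, 1422, 1430, 1471, 1506, 1514, 1560],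
   [929, 959, 965, 993, 1028, 1081, 1143, 1147, 1178, 1204, 1254, 1262, 1275, 1310, 1360, 1391, 1418, 1464, 1526, 1545, 1574],
   [927, 975, 1017, 1020, 1053, 1234, 1248, 1258, 1265, 1280, 1291, 1304, 1314, 1327, 1339, 1352, 1362, 1368, 1378, 1391, 1401],
   [909, 960, 983, 999, 1056, 1067, 1136, 1153, 1218, 1223, 1262, 1267, 1280, 1351, 1355, 1377, 1435, 1455, 1471, 1535, 1542],
   [898, 903, 908, 921, 934, 1194, 1199, 1204, 1217, 1230, 1274, 1280, 1285, 1290, 1303, 1316, 1501, 1506, 1511, 1524, 1537],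
   [933, 957, 962, 994, 1027, 1087, 1135, 1145, 1206, 1211, 1247, 1280, 1324, 1364, 1390, 1415, 1449, 1470, 1474, 1523, 1574],
   [911, 943, 1010, 1045, 1053, 1065, 1107, 1108, 1168, 1233, 1262, 1268, 1306, 1337, 1365, 1434, 1474, 1490, 1503, 1506, 1554],
   [923, 945, 994, 1015, 1051, 1063, 1107, 1120, 1187, 1204, 1224, 1248, 1311, 1349, 1372, 1387, 1427, 1446, 1471, 1496, 1566],
   [914, 939, 960, 1001, 1042, 1087, 1107, 1129, 1175, 1221, 1236, 1259, 1279, 1299, 1345, 1391, 1437, 1457, 1478, 1524, 1570],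
   [901, 926, 930, 934, 935, 1098, 1107, 1132, 1136, 1140, 1141, 1328, 1353, 1357, 1361, 1362, 1549, 1574, 1578, 1582, 1583],
   [925, 944, 994, 1039, 1050, 1094, 1118, 1133, 1146, 1213, 1238, 1262, 1296, 1362, 1382, 1400, 1423, 1489, 1500, 1524, 1548],
   [928, 1019, 1037, 1048, 1053, 1058, 1076, 1087, 1092, 1100, 1115, 1130, 1136, 1146, 1161, 1176, 1182, 1189, 1204, 1219, 1225],
   [934, 941, 1007, 1032, 1046, 1074, 1109, 1127, 1146, 1231, 1244, 1269, 1308, 1335, 1391, 1432, 1471, 1474, 1504, 1533, 1546],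
   [937, 960, 996, 1022, 1055, 1083, 1103, 1139, 1146, 1207, 1248, 1264, 1282, 1356, 1376, 1394, 1416, 1465, 1506, 1527, 1574],
   [896, 972, 990, 994, 1043, 1062, 1136, 1157, 1214, 1239, 1313, 1334, 1391, 1411, 1413, 1485, 1487, 1506, 1508, 1563, 1565],
   [936, 963, 991, 1026, 1053, 1079, 1082, 1138, 1151, 1202, 1252, 1276, 1326, 1358, 1395, 1413, 1471, 1473, 1507, 1524, 1574],
   [934, 954, 988, 1013, 1040, 1087, 1101, 1159, 1197, 1226, 1248, 1262, 1317, 1346, 1370, 1413, 1461, 1479, 1529, 1561, 1564],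
   [893, 960, 1009, 1030, 1031, 1064, 1126, 1183, 1204, 1243, 1305, 1362, 1383, 1412, 1413, 1474, 1475, 1531, 1532, 1552, 1553],
   [912, 960, 986, 995, 1052, 1088, 1091, 1106, 1169, 1204, 1261, 1281, 1289, 1362, 1366, 1413, 1474, 1491, 1505, 1573, 1575],
   [934, 948, 973, 1000, 1034, 1087, 1114, 1152, 1181, 1191, 1248, 1262, 1301, 1325, 1407, 1413, 1484, 1516, 1519, 1551, 1569]]

/-- Masks, part 9. -/
noncomputable def masks9 : List ℕ :=
  [0x20014040080000000000000000000000000000000000000000000001000a020044000000000004002808010000000000000000000000000000000000000000000000000000000000000000040028080100000000000000000000000000000000000000000000000000000000000000000000000000000000000000000000000000000000000000000000000000000000000000000000000000000000000000000000000000000000000000000000000000000000000000000000000000000000,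
   0x800000010000000040002000002000000000000100000000040008000000001000080000000000000000200000000040000000800000000000000000081000800000000000004008000000002000400000000100000000000000000000000000000000000000000000000000000000000000000000000000000000000000000000000000000000000000000000000000000000000000000000000000000000000000000000000000000000000000000000000000000000000000000000000000000000000000,
   0x10800000000000000024010000000000000000000400000000084001000000000000000400000000400000000000008000000100000000000000000090010000000040000000000000020020008000000000000100000000000000000000000000000000000000000000000000000000000000000000000000000000000000000000000000000000000000000000000000000000000000000000000000000000000000000000000000000000000000000000000000000000000000000000000000000000000,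
   0x100000000000088000000000000000100000008000800000020002000000000020010000000000000100000000000000004000000010000021000000010000000000000800000008400000000000000800000000200000000000000000000000000000000000000000000000000000000000000000000000000000000000000000000000000000000000000000000000000000000000000000000000000000000000000000000000000000000000000000000000000000000000000000000000000000000000,
   0x200000000000000000000800020000000020000200000000040000000000080000020000002000000000010000000002000000200001000000040000110000000000004000200002000000000000100000000040000000000000000000000000000000000000000000000000000000000000000000000000000000000000000000000000000000000000000000000000000000000000000000000000000000000000000000000000000000000000000000000000000000000000000000000000000000000000,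
   0x2000000000800000000000000200004000000100000400000000000000200010000000200000000000040000001000002000000040000000800000010000200002000010000000000010000800000000000020000000000000000000000000000000000000000000000000000000000000000000000000000000000000000000000000000000000000000000000000000000000000000000000000000000000000000000000000000000000000000000000000000000000000000000000000000000000000,
   0x1000002000080000800000000001000100002000000002000000040000000000000020000800000000000008000002000000000004000020000000000100000100000080000000400000100002000000000000000000000000000000000000000000000000000000000000000000000000000000000000000000000000000000000000000000000000000000000000000000000000000000000000000000000000000000000000000000000000000000000000000000000000000000000000000000,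
   0x402000000000000840000000000000010000000000000100400000040000002020000000400000000002000000000000100000000000000010000000202000008000000008100000000000000100000000040000000000000000000000000000000000000000000000000000000000000000000000000000000000000000000000000000000000000000000000000000000000000000000000000000000000000000000000000000000000000000000000000000000000000000000000000000000000,
   0x1000308000200000000000000000000000000000000000000000000080018400010000000000000000000000000000000000000000000004000c20000c0000000000000000000000000000000000000000100030800020000000000000000000000000000000000000000000000000000000000000000000000000000000000000000000000000000000000000000000000000000000000000000000000000000000000000000000000000000000000000000000000000000000000000000000000000000000,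
   0x2000000008000000000000200004000000000000400000000040000000000040000010000000000001000040001000020000000040000400000000004000200000000000000002040000000020000020000001000000000000000000000000000000000000000000000000000000000000000000000000000000000000000000000000000000000000000000000000000000000000000000000000000000000000000000000000000000000000000000000000000000000000000000000000000000000000000,
   0x1000000000001000000000001400000000020000000000010000000000010000000000014000000001400100000000000100000000000140000000000400000000000000100000000002000000000050000000000040000000000000000000000000000000000000000000000000000000000000000000000000000000000000000000000000000000000000000000000000000000000000000000000000000000000000000000000000000000000000000000000000000000000000000000000000000000,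
   0x100000000000000401000000080000800000000040000000000010000400000004800000000000002000008000000400000000000000000001000040010000200000100000000400000001000000400000000000000000000000000000000000000000000000000000000000000000000000000000000000000000000000000000000000000000000000000000000000000000000000000000000000000000000000000000000000000000000000000000000000000000000000000000000000000000,
   0x1000000000004040000000080000000004040010000000000040400000000800000000001000000000000100000000000404000000008000000000080000000000000100000000008080000002000000000001000000000000000000000000000000000000000000000000000000000000000000000000000000000000000000000000000000000000000000000000000000000000000000000000000000000000000000000000000000000000000000000000000000000000000000000000000000000,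
   0x4000000200004000000000000001000000000004000000800000010000000000004000000008004040000000000010000004000000088000000000000002000000000000100000000200000020800000020000000000000000000000000000000000000000000000000000000000000000000000000000000000000000000000000000000000000000000000000000000000000000000000000000000000000000000000000000000000000000000000000000000000000000000000000000000000000000,
   0x200800401040100080080040100080100020401000400000000000000000000000000000000000000000000200000001200000000008000000000008000000000000000000000000000000000000000000000000000000000000000000000000000000000000000000000000000000000000000000000000000000000000000000000000000000000000000000000000000000000000000000000000000000000000000000000000000000000000000,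
   0x40800000000000000080008000080000000000000200000880000000000000000100084000000000840000000000000002000100000000000000000801000000000000008000800001000000000000200000000000000000000000000000000000000000000000000000000000000000000000000000000000000000000000000000000000000000000000000000000000000000000000000000000000000000000000000000000000000000000000000000000000000000000000000000000000,
   0x2001000842000000000000000000000000000000000000000000000100080042104000000000040020010840000000000000000000000000000000000000000000000000000000000000000400200108400000000000000000000000000000000000000000000000000000000000000000000000000000000000000000000000000000000000000000000000000000000000000000000000000000000000000000000000000000000000000000000000000000000000000000000000000000000,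
   0x4000000000000800000000000440000200000000800000400000100000000010000000000100000000800000000840000000000000020080000000000080000000000000080000000400000004200000200000000000000000000000000000000000000000000000000000000000000000000000000000000000000000000000000000000000000000000000000000000000000000000000000000000000000000000000000000000000000000000000000000000000000000000000000000000000000000,
   0x40000000000048004000400000000040000000000000000200000020000000400000000104000000200000000000000010000000000000018000000000200202000000004000000000000000080000000800000000000000000000000000000000000000000000000000000000000000000000000000000000000000000000000000000000000000000000000000000000000000000000000000000000000000000000000000000000000000000000000000000000000000000000000000000000000,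
   0x40000000000000000100000080000040000800000000080010000020000000008000000000000001000001000010000800000000000000010008000000000080080000000080000400000000000200000800000000000000000000000000000000000000000000000000000000000000000000000000000000000000000000000000000000000000000000000000000000000000000000000000000000000000000000000000000000000000000000000000000000000000000000000000000000000000,
   0x400000000001000000000004000020000200000000000800000000002000000000008000080000800001000200000000000800000000002000008000080000000000400000000020000000001000008000004000000000000000000000000000000000000000000000000000000000000000000000000000000000000000000000000000000000000000000000000000000000000000000000000000000000000000000000000000000000000000000000000000000000000000000000000000000000000,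
   0xc44000002000000000000000000000000000000000000000000000062200000100000000000000000000000000000000000000000000003110000008040000000000000000000000000000000000000000c44000002000000000000000000000000000000000000000000000000000000000000000000000000000000000000000000000000000000000000000000000000000000000000000000000000000000000000000000000000000000000000000000000000000000000000000000000000000000000,
   0x1000001000001002000000000000000080000100004000040000000000000001000000004000004000002000000000000000040020004000004000000000040080000000000400000000000100002000000000000000000000000000000000000000000000000000000000000000000000000000000000000000000000000000000000000000000000000000000000000000000000000000000000000000000000000000000000000000000000000000000000000000000000000000000000000000,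
   0x2080010002041000200040104000800101080100004210020000800000000000000000000010000000000000000000000000000000000000000000000000000000000000000000000000000000000000000000000000000000000000000000000000000000000000000000000000000000000000000000000000000000000000000000000000000000000000000000000000000000000000000,
   0x400200000010000000480000000010000000000800000000000008000001000000000200000100080000000000000000000040000800020000000040000004001000000800000000000000020400000000000000000000000000000000000000000000000000000000000000000000000000000000000000000000000000000000000000000000000000000000000000000000000000000000000000000000000000000000000000000000000000000000000000000000000000000000000000000,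
   0x4000000000008000040000000002000000000001000004000100001000000000000000000400010001000000000080000000000000040800000000800008000000800000004000001000000001000002000000000000000000000000000000000000000000000000000000000000000000000000000000000000000000000000000000000000000000000000000000000000000000000000000000000000000000000000000000000000000000000000000000000000000000000000000000000000000000,
   0x28000000000000140000a00000000000000000280000800000000000004000020000000000000000008000004000000000000020000100000000000000000040000800000000000440001000000000000000000100000000000000000000000000000000000000000000000000000000000000000000000000000000000000000000000000000000000000000000000000000000000000000000000000000000000000000000000000000000000000000000000000000000000000000000000000000000,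
   0x4000000000001000080000000280000000000000200008000000004000000040000000000010000010000000000004000000000000800400000000000004800000200000040000000080000008000001000000000000000000000000000000000000000000000000000000000000000000000000000000000000000000000000000000000000000000000000000000000000000000000000000000000000000000000000000000000000000000000000000000000000000000000000000000000000000000,
   0x12000000020000000000008000200000000000200000000004000004000000200000000000004001000004000000200000000080000000000000200080000000000100000020000010000000040000400000000000000000000000000000000000000000000000000000000000000000000000000000000000000000000000000000000000000000000000000000000000000000000000000000000000000000000000000000000000000000000000000000000000000000000000000000000000000000,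
   0x30000180000000000000c00000000000000300000008000040000000000000200000000000000080000000010000080000000000000400000000000000100000000c00002000000000001000000000000000020000000000000000000000000000000000000000000000000000000000000000000000000000000000000000000000000000000000000000000000000000000000000000000000000000000000000000000000000000000000000000000000000000000000000000000000000000000,
   0xa000000000000000020008000400000000000000200000000000440000000000000000020200002000000000000010000000020000000000000004000900000000100000000000000804000001000000000001000000000000000000000000000000000000000000000000000000000000000000000000000000000000000000000000000000000000000000000000000000000000000000000000000000000000000000000000000000000000000000000000000000000000000000000000000000000000,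
   0x200008000000090000000100000000000000000208000000000000000000020000020000000004001000000000000008020000001000000000400000080000000000004000000010000002000001000400000000000000000000000000000000000000000000000000000000000000000000000000000000000000000000000000000000000000000000000000000000000000000000000000000000000000000000000000000000000000000000000000000000000000000000000000000000000000000]

/-- Neighbours, part 10. -/
noncomputable def nbs10 : List (List ℕ) :=
  [[897, 950, 955, 1004, 1053, 1410, 1413, 1417, 1421, 1460, 1463, 1467, 1471, 1517, 1520, 1524, 1528, 1574, 1577, 1581, 1585],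
   [924, 946, 964, 994, 1049, 1073, 1097, 1136, 1171, 1196, 1270, 1293, 1321, 1371, 1391, 1413, 1472, 1506, 1540, 1557, 1576],
   [931, 960, 998, 1025, 1057, 1085, 1105, 1142, 1146, 1179, 1201, 1248, 1260, 1278, 1359, 1397, 1419, 1468, 1506, 1521, 1574],
   [895, 913, 916, 919, 934, 1146, 1164, 1167, 1170, 1185, 1367, 1385, 1388, 1391, 1406, 1450, 1453, 1471, 1474, 1477, 1492],
   [907, 947, 1014, 1041, 1053, 1087, 1121, 1136, 1146, 1155, 1204, 1241, 1255, 1284, 1344, 1409, 1441, 1480, 1502, 1515, 1544],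
   [904, 978, 994, 1005, 1016, 1146, 1158, 1173, 1188, 1235, 1251, 1262, 1273, 1320, 1332, 1347, 1362, 1497, 1509, 1524, 1539],
   [934, 967, 992, 1006, 1021, 1080, 1107, 1136, 1149, 1209, 1212, 1250, 1277, 1362, 1375, 1393, 1420, 1445, 1466, 1522, 1574],
   [906, 960, 989, 997, 1054, 1087, 1107, 1116, 1180, 1190, 1200, 1240, 1318, 1329, 1391, 1399, 1436, 1443, 1454, 1524, 1559],
   [902, 958, 980, 994, 1036, 1059, 1071, 1107, 1117, 1148, 1156, 1195, 1204, 1248, 1294, 1333, 1381, 1425, 1471, 1510, 1558],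
   [918, 976, 984, 1033, 1053, 1089, 1107, 1128, 1163, 1192, 1245, 1262, 1287, 1341, 1405, 1428, 1452, 1474, 1506, 1534, 1571],
   [932, 961, 994, 1008, 1029, 1075, 1087, 1137, 1144, 1205, 1249, 1280, 1309, 1363, 1389, 1414, 1469, 1474, 1525, 1547, 1574],
   [934, 952, 966, 981, 1047, 1068, 1093, 1125, 1177, 1204, 1256, 1280, 1340, 1343, 1373, 1402, 1426, 1493, 1506, 1524, 1543],
   [915, 938, 953, 960, 970, 1060, 1084, 1102, 1113, 1123, 1136, 1262, 1280, 1292, 1302, 1315, 1440, 1458, 1471, 1481, 1494],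
   [920, 971, 982, 1038, 1053, 1069, 1111, 1150, 1165, 1229, 1248, 1280, 1297, 1331, 1362, 1391, 1431, 1444, 1482, 1513, 1541],
   [899, 1018, 1023, 1024, 1028, 1070, 1077, 1198, 1203, 1204, 1208, 1262, 1386, 1391, 1392, 1396, 1447, 1574, 1579, 1580, 1584],
   [905, 968, 974, 1002, 1028, 1087, 1095, 1099, 1110, 1160, 1227, 1242, 1300, 1362, 1369, 1374, 1442, 1471, 1499, 1506, 1568],
   [934, 960, 994, 1028, 1053, 1061, 1119, 1122, 1154, 1172, 1222, 1263, 1283, 1312, 1322, 1380, 1424, 1438, 1456, 1538, 1567],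
   [917, 956, 977, 1011, 1028, 1066, 1136, 1162, 1193, 1210, 1248, 1307, 1323, 1342, 1404, 1429, 1448, 1451, 1474, 1524, 1555],
   [907, 947, 1014, 1041, 1053, 1089, 1128, 1150, 1163, 1192, 1263, 1297, 1312, 1322, 1331, 1380, 1417, 1431, 1460, 1520, 1585],
   [924, 953, 977, 1014, 1021, 1066, 1084, 1136, 1162, 1210, 1250, 1302, 1321, 1375, 1409, 1441, 1458, 1502, 1522, 1557, 1576],
   [918, 953, 973, 1016, 1024, 1089, 1102, 1152, 1173, 1208, 1245, 1262, 1315, 1332, 1386, 1428, 1481, 1497, 1519, 1551, 1579],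
   [912, 968, 971, 1005, 1021, 1080, 1106, 1150, 1158, 1212, 1229, 1242, 1251, 1300, 1362, 1374, 1444, 1466, 1497, 1573, 1575],
   [917, 971, 988, 1036, 1057, 1066, 1117, 1148, 1165, 1226, 1248, 1278, 1297, 1359, 1397, 1429, 1448, 1479, 1510, 1541, 1564],
   [893, 960, 1009, 1030, 1031, 1060, 1061, 1122, 1123, 1179, 1180, 1200, 1201, 1240, 1302, 1359, 1380, 1419, 1481, 1538, 1559],
   [916, 938, 958, 963, 974, 1059, 1079, 1084, 1095, 1099, 1117, 1123, 1138, 1276, 1294, 1300, 1315, 1453, 1471, 1477, 1492],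
   [916, 1018, 1038, 1043, 1054, 1190, 1208, 1214, 1229, 1367, 1385, 1391, 1406, 1411, 1431, 1436, 1447, 1541, 1559, 1565, 1580],
   [920, 958, 973, 1011, 1022, 1069, 1139, 1156, 1195, 1210, 1248, 1301, 1325, 1342, 1376, 1407, 1431, 1444, 1451, 1527, 1558],
   [906, 960, 989, 997, 1054, 1084, 1091, 1102, 1172, 1207, 1263, 1283, 1292, 1356, 1366, 1376, 1416, 1494, 1505, 1567, 1575],
   [915, 968, 980, 1004, 1046, 1410, 1425, 1432, 1442, 1458, 1471, 1481, 1494, 1499, 1510, 1520, 1533, 1546, 1558, 1568, 1581],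
   [906, 964, 971, 1007, 1024, 1069, 1077, 1127, 1180, 1198, 1270, 1293, 1321, 1331, 1391, 1399, 1432, 1454, 1504, 1513, 1584],
   [920, 971, 982, 1038, 1053, 1079, 1092, 1130, 1161, 1189, 1245, 1287, 1326, 1341, 1405, 1424, 1456, 1473, 1507, 1538, 1567],
   [928, 938, 956, 967, 972, 1100, 1115, 1130, 1136, 1277, 1292, 1307, 1313, 1411, 1429, 1440, 1445, 1451, 1466, 1481, 1487]]

/-- Masks, part 10. -/
noncomputable def masks10 : List ℕ :=
  [0x2224000000000011120000000000088900000000022240000000000000000000000000000000000000000000000000000000000000000000000000000000000000000200000000000100000000000084000000000000200000000000000000000000000000000000000000000000000000000000000000000000000000000000000000000000000000000000000000000000000000000000000000000000000000000000000000000000000000000000000000000000000000000000000000000000000000000,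
   0x10000200010000000040000000100000000000000200000800008000000000002000000200000400000000000000000100000080000000100000000020000020000020000000000000400000010000400001000000000000000000000000000000000000000000000000000000000000000000000000000000000000000000000000000000000000000000000000000000000000000000000000000000000000000000000000000000000000000000000000000000000000000000000000000000000000000,
   0x4000000000000200040000000010000000000008000020000000008000000000000000000040001001000000000002000008000000044000000002000020000002000000020000004000000001000000080000000000000000000000000000000000000000000000000000000000000000000000000000000000000000000000000000000000000000000000000000000000000000000000000000000000000000000000000000000000000000000000000000000000000000000000000000000000000000,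
   0x10002480002400000000004000920000800000000000000000000000000000000000000000000200049000040000000000000000000000000000000000000000000000000000400092000080000000000000000000000000000000000000000000000000000000000000000000000000000000000000000000000000000000000000000000000000000000000000000000000000000000000000000000000000000000000000000000000000000000000000000000000000000000,
   0x100000008004000010000000002000000020000000000000001000000000000001000000080020000000010000000000008040100020000000080000000200200000040000000000000000800000000080000000000000000000000000000000000000000000000000000000000000000000000000000000000000000000000000000000000000000000000000000000000000000000000000000000000000000000000000000000000000000000000000000000000000000000000000000000000,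
   0x8001000200200000000000000000000000000000000040008001001000000000002004008000800000000001000200040040000000000000000000000000000000100200400040000000000000000010000000000000000000000000000000000000000000000000000000000000000000000000000000000000000000000000000000000000000000000000000000000000000000000000000000000000000000000000000000000000000000000000000000000000000000000000000000000,
   0x4000000000000400000000000004000020000010000002000080040000000000000000000020000004000000001200000000000000200100000008000001000000000000002000400100000080000000400000000000000000000000000000000000000000000000000000000000000000000000000000000000000000000000000000000000000000000000000000000000000000000000000000000000000000000000000000000000000000000000000000000000000000000000000000000000000000,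
   0x800000001000000000000000004008100000000080800000000000000200400000000000000000010000000001004010000000000000001008000080000000400000000000002020000001000000000000040000000000000000000000000000000000000000000000000000000000000000000000000000000000000000000000000000000000000000000000000000000000000000000000000000000000000000000000000000000000000000000000000000000000000000000000000000000000,
   0x400000000000400000000080000000000200000000002000000000002000000000400000000001000000000010080000000010100000002008000000008008000010000000000400100000400000000000004000000000000000000000000000000000000000000000000000000000000000000000000000000000000000000000000000000000000000000000000000000000000000000000000000000000000000000000000000000000000000000000000000000000000000000000000000000000,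
   0x800000000400000040000000400001000001000002000000000000000200000000000008000004000200000000000010000000800000001000008000200000000200002000000000001010000000000000040000000000000000000000000000000000000000000000000000000000000000000000000000000000000000000000000000000000000000000000000000000000000000000000000000000000000000000000000000000000000000000000000000000000000000000000000000000000000,
   0x4000000800002000000000000420000000000000400000200000080000000000002000000100000002000000000020000000000000010200000000000080080000000000200001000400000002000000100000000000000000000000000000000000000000000000000000000000000000000000000000000000000000000000000000000000000000000000000000000000000000000000000000000000000000000000000000000000000000000000000000000000000000000000000000000000000000,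
   0x80001000040020000000000000000400000400000020000000900000000000000100000100000000000010000002000000000000200000002000001000008000000000000000200040010000400000000000000000000000000000000000000000000000000000000000000000000000000000000000000000000000000000000000000000000000000000000000000000000000000000000000000000000000000000000000000000000000000000000000000000000000000000000000000000,
   0x40020080040001000000000000000000000000000000080040100100004000000000000000000000000000000100080200400010000010000000000000000000000401020004000008000000000000000000000000000000000000000000000000000000000000000000000000000000000000000000000000000000000000000000000000000000000000000000000000000000000000000000000000000000000000000000000000000000000000000000000000000000000000,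
   0x20000002000000040000000010008000000000800000040000000800000002000100000001000020000000000000002000400000000080000000002000200040000000000000400800000000000100000000000000000000000000000000000000000000000000000000000000000000000000000000000000000000000000000000000000000000000000000000000000000000000000000000000000000000000000000000000000000000000000000000000000000000000000000000000000,
   0x1184000000000000000000000000000000080000000000011840000000000000000000000000000004000000000000118400000000000000000000000000000204000000000118400000000000000000000000000000800000000000000000000000000000000000000000000000000000000000000000000000000000000000000000000000000000000000000000000000000000000000000000000000000000000000000000000000000000000000000000000000000000000000000000000000000000000,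
   0x100000000000000040800000080000004000000000000000042040000000000000010000000000000040008000000000000000100000000000040088080000000000000100000040000004100000000000000020000000000000000000000000000000000000000000000000000000000000000000000000000000000000000000000000000000000000000000000000000000000000000000000000000000000000000000000000000000000000000000000000000000000000000000000000000000000,
   0x80000004000000000000000000010000400100000000001000000000000004010000000800008000000000400000000000100004000000048000000000000020200000100000000400000001000000400000000000000000000000000000000000000000000000000000000000000000000000000000000000000000000000000000000000000000000000000000000000000000000000000000000000000000000000000000000000000000000000000000000000000000000000000000000000000000,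
   0x80000001000000000000400000900002000001000000000000000400008000800000000000001000000000400020000000400000100000000000000000400000000100008000000020000100000000020000000000000000000000000000000000000000000000000000000000000000000000000000000000000000000000000000000000000000000000000000000000000000000000000000000000000000000000000000000000000000000000000000000000000000000000000000000000000,
   0x2000000000000000100000000000000100000008002000000001000000000000804010002000000008000000000000000010000000800400001000000000200000000200200000040000000000000000800000000080000000000000000000000000000000000000000000000000000000000000000000000000000000000000000000000000000000000000000000000000000000000000000000000000000000000000000000000000000000000000000000000000000000000000000000000000000000000,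
   0x10000200000000400004000000000040002000000020000000080000000000002000040000000000004000000000400000000000400000100000000000010000400000000002040000000020000020000001000000000000000000000000000000000000000000000000000000000000000000000000000000000000000000000000000000000000000000000000000000000000000000000000000000000000000000000000000000000000000000000000000000000000000000000000000000000000000,
   0x80000008000000080000200020000000000001000000000040000000000001000080000000000004000200000000100000000200001000000000000400200000000000000010100000000002000020000000040000000000000000000000000000000000000000000000000000000000000000000000000000000000000000000000000000000000000000000000000000000000000000000000000000000000000000000000000000000000000000000000000000000000000000000000000000000000000,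
   0xa000000000000000000200000004000010000000000000000040040000000000000010000000000008040020001000000000000040400000000004000001000000000000002000200000000900000000000001000000000000000000000000000000000000000000000000000000000000000000000000000000000000000000000000000000000000000000000000000000000000000000000000000000000000000000000000000000000000000000000000000000000000000000000000000000000000,
   0x10000020000000400000008000000100002000000020000000008000000000000002000040000001000004000000000000002000100000002000000000000402000010000000000010000800000000000020000000000000000000000000000000000000000000000000000000000000000000000000000000000000000000000000000000000000000000000000000000000000000000000000000000000000000000000000000000000000000000000000000000000000000000000000000000000000,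
   0x8000040000000000000200000000000000080000000010000080000000000000400000000000000100000000030000180000000000000c0000000000000030000000c00002000000000001000000000000000020000000000000000000000000000000000000000000000000000000000000000000000000000000000000000000000000000000000000000000000000000000000000000000000000000000000000000000000000000000000000000000000000000000000000000000000000000000,
   0x10002080002000000000000000000000000000000000080010400010000000000000000000000000000000000400082000088010800008000000000000000000004008400004000010000000000000000000000000000000000000000000000000000000000000000000000000000000000000000000000000000000000000000000000000000000000000000000000000000000000000000000000000000000000000000000000000000000000000000000000000000000000000,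
   0x100020800020000000000000000000000080108000084000820000800000000000000000000000000000000020004100004000000000000000000000000000000000400840000400000000000000000000000010000000000000000000000000000000000000000000000000000000000000000000000000000000000000000000000000000000000000000000000000000000000000000000000000000000000000000000000000000000000000000000000000000000000000000000000000000000000000,
   0x400000008000000000000000000810008000008000000100000000400020000020000000000001000000000400080000000010000800000000000000002000000000004008000000002000400000000100000000000000000000000000000000000000000000000000000000000000000000000000000000000000000000000000000000000000000000000000000000000000000000000000000000000000000000000000000000000000000000000000000000000000000000000000000000000000,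
   0x8080000000000000020040000000000000000001000000000100401000000000000000100800008000000000000080000000100000000000000000400810000000400000000000002020000001000000000000040000000000000000000000000000000000000000000000000000000000000000000000000000000000000000000000000000000000000000000000000000000000000000000000000000000000000000000000000000000000000000000000000000000000000000000000000000000000,
   0x200100400400200100400840020080040004010200040000000000000000000000000000000000000000000000000000000000000000000000000000000000000000004000000000100000100100000000000008000000000000000000000000000000000000000000000000000000000000000000000000000000000000000000000000000000000000000000000000000000000000000000000000000000000000000000000000000000000000000000000000000000000000000000000000000000000000,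
   0x1000000000000000002010000000000004000010000000080800000000000000802000000200000400000000000000000400010000000000000800000000000202000000000010000800000000810000000000000040000000000000000000000000000000000000000000000000000000000000000000000000000000000000000000000000000000000000000000000000000000000000000000000000000000000000000000000000000000000000000000000000000000000000000000000000000000000,
   0x80000004000000080000000200010000000100002000000000000000200040000000008000000000200000000000002000000200000004000000001000800000200040000000000000400800000000000100000000000000000000000000000000000000000000000000000000000000000000000000000000000000000000000000000000000000000000000000000000000000000000000000000000000000000000000000000000000000000000000000000000000000000000000000000000000000,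
   0x820004000821002000080000000000000000000000020800100020000000000000000000000000000000000104000800100000000000000000000000000000001080100004010000000000000000000000000000000000000000000000000000000000000000000000000000000000000000000000000000000000000000000000000000000000000000000000000000000000000000000000000000000000000000000000000000000000000000000000000000000000000000]

/-- Neighbours, part 11. -/
noncomputable def nbs11 : List (List ℕ) :=
  [[915, 1018, 1033, 1040, 1050, 1060, 1084, 1192, 1203, 1213, 1226, 1262, 1370, 1382, 1392, 1405, 1440, 1548, 1561, 1571, 1584],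
   [925, 974, 982, 1006, 1031, 1064, 1118, 1133, 1165, 1227, 1250, 1277, 1362, 1369, 1393, 1431, 1442, 1475, 1513, 1531, 1548],
   [913, 961, 977, 984, 1052, 1089, 1106, 1170, 1193, 1205, 1261, 1287, 1342, 1363, 1367, 1414, 1429, 1474, 1492, 1505, 1571],
   [934, 967, 992, 1006, 1021, 1068, 1093, 1114, 1170, 1222, 1256, 1283, 1312, 1325, 1385, 1388, 1426, 1453, 1538, 1551, 1569],
   [924, 974, 981, 1033, 1057, 1089, 1105, 1125, 1160, 1179, 1196, 1242, 1260, 1293, 1341, 1402, 1426, 1452, 1506, 1540, 1568],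
   [897, 1018, 1021, 1025, 1029, 1070, 1075, 1198, 1201, 1205, 1209, 1260, 1386, 1389, 1393, 1397, 1445, 1574, 1577, 1581, 1585],
   [932, 961, 994, 1008, 1029, 1062, 1117, 1122, 1173, 1195, 1222, 1251, 1263, 1313, 1320, 1381, 1425, 1456, 1485, 1539, 1565],
   [917, 952, 997, 1016, 1026, 1068, 1138, 1158, 1193, 1210, 1252, 1273, 1307, 1320, 1343, 1402, 1443, 1454, 1473, 1524, 1559],
   [893, 947, 980, 981, 1024, 1070, 1071, 1117, 1155, 1156, 1204, 1256, 1305, 1343, 1344, 1392, 1441, 1493, 1531, 1532, 1580],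
   [932, 954, 968, 989, 1041, 1075, 1087, 1099, 1160, 1227, 1249, 1318, 1344, 1370, 1399, 1414, 1480, 1502, 1529, 1559, 1564],
   [925, 944, 994, 1039, 1050, 1071, 1137, 1148, 1172, 1196, 1270, 1294, 1309, 1322, 1389, 1414, 1438, 1472, 1538, 1558, 1576],
   [906, 944, 1004, 1011, 1047, 1094, 1125, 1133, 1162, 1190, 1200, 1256, 1318, 1323, 1373, 1382, 1421, 1429, 1460, 1524, 1577],
   [928, 1018, 1036, 1047, 1052, 1059, 1077, 1088, 1093, 1189, 1204, 1219, 1225, 1366, 1381, 1396, 1402, 1543, 1558, 1573, 1579],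
   [906, 974, 1000, 1029, 1037, 1087, 1100, 1110, 1152, 1161, 1225, 1240, 1301, 1309, 1363, 1374, 1436, 1443, 1469, 1499, 1569],
   [918, 956, 1009, 1029, 1046, 1064, 1109, 1137, 1163, 1210, 1249, 1269, 1305, 1323, 1405, 1448, 1452, 1474, 1504, 1525, 1553],
   [934, 954, 988, 1013, 1040, 1061, 1109, 1127, 1177, 1209, 1212, 1263, 1277, 1335, 1373, 1402, 1424, 1438, 1493, 1522, 1546],
   [937, 952, 968, 984, 1043, 1062, 1095, 1110, 1128, 1177, 1207, 1256, 1282, 1334, 1369, 1405, 1428, 1487, 1506, 1527, 1543],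
   [937, 963, 992, 1008, 1024, 1080, 1103, 1139, 1151, 1203, 1252, 1277, 1356, 1375, 1396, 1414, 1447, 1469, 1507, 1525, 1574],
   [915, 938, 953, 960, 970, 1088, 1106, 1119, 1129, 1142, 1236, 1260, 1278, 1289, 1299, 1312, 1438, 1456, 1468, 1478, 1491],
   [931, 945, 977, 1000, 1038, 1085, 1111, 1150, 1187, 1191, 1224, 1248, 1260, 1307, 1323, 1404, 1419, 1484, 1513, 1551, 1566],
   [899, 914, 919, 920, 924, 1150, 1165, 1170, 1171, 1175, 1371, 1386, 1391, 1392, 1396, 1450, 1457, 1472, 1477, 1478, 1482],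
   [895, 950, 953, 1002, 1051, 1060, 1063, 1110, 1113, 1167, 1170, 1224, 1227, 1242, 1292, 1349, 1406, 1421, 1471, 1528, 1585],
   [896, 907, 915, 917, 930, 1098, 1102, 1113, 1121, 1123, 1136, 1323, 1334, 1342, 1344, 1357, 1544, 1555, 1563, 1565, 1578],
   [911, 943, 1010, 1045, 1053, 1082, 1122, 1138, 1151, 1154, 1202, 1241, 1283, 1284, 1344, 1409, 1438, 1444, 1482, 1513, 1541],
   [893, 904, 905, 920, 935, 1098, 1099, 1110, 1111, 1126, 1141, 1320, 1331, 1332, 1347, 1362, 1541, 1552, 1553, 1568, 1583],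
   [911, 970, 1005, 1013, 1023, 1065, 1123, 1188, 1197, 1198, 1262, 1268, 1292, 1320, 1396, 1434, 1458, 1461, 1509, 1564, 1580],
   [926, 970, 1011, 1019, 1049, 1060, 1092, 1136, 1182, 1193, 1225, 1270, 1315, 1361, 1371, 1404, 1448, 1494, 1540, 1549, 1583],
   [897, 950, 955, 1004, 1053, 1058, 1061, 1065, 1069, 1108, 1111, 1115, 1119, 1165, 1168, 1172, 1176, 1222, 1225, 1229, 1233],
   [930, 944, 995, 1002, 1038, 1069, 1095, 1132, 1160, 1213, 1261, 1289, 1297, 1362, 1366, 1400, 1423, 1482, 1499, 1549, 1582],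
   [899, 938, 943, 944, 948, 1070, 1077, 1108, 1113, 1114, 1118, 1262, 1296, 1301, 1302, 1306, 1447, 1484, 1489, 1490, 1494],
   [937, 960, 996, 1022, 1055, 1064, 1113, 1154, 1175, 1222, 1259, 1279, 1315, 1322, 1383, 1424, 1440, 1458, 1532, 1552, 1570],
   [937, 956, 982, 1015, 1040, 1083, 1101, 1162, 1193, 1229, 1248, 1264, 1311, 1331, 1349, 1372, 1416, 1461, 1482, 1529, 1555]]

/-- Masks, part 11. -/
noncomputable def masks11 : List ℕ :=
  [0x1000802001000000000000000000000000001000000002001004004000000000000000000000000004000000004002008010000000000000000000000000010000010040102000400000000000000000000000008000000000000000000000000000000000000000000000000000000000000000000000000000000000000000000000000000000000000000000000000000000000000000000000000000000000000000000000000000000000000000000000000000000000000000000000000000000000000,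
   0x1000080002000000000800000004008000000002000002040000000000000000000020000004000008000000000000002000000020004000000000000100000000800000400000404000000000002000000000000000000000000000000000000000000000000000000000000000000000000000000000000000000000000000000000000000000000000000000000000000000000000000000000000000000000000000000000000000000000000000000000000000000000000000000000000000,
   0x800000000000000020010000400000000002000400000000000880000400000000000008000002000000000000020020000040000000000000004000200000000100000000000000001020002000000000002000000000000000000000000000000000000000000000000000000000000000000000000000000000000000000000000000000000000000000000000000000000000000000000000000000000000000000000000000000000000000000000000000000000000000000000000000000000000,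
   0x200008004000000000000000000002000000400000000120000000000000020010000000800000100000000400000000000040000000000000400002000001000000000002000400100000080000000400000000000000000000000000000000000000000000000000000000000000000000000000000000000000000000000000000000000000000000000000000000000000000000000000000000000000000000000000000000000000000000000000000000000000000000000000000000000000000,
   0x100000010000000040000000000001000000400000400000000000000200000000000200000001000040000000000100008000100000000200002000200000002000002000000000000204000000000001000000000000000000000000000000000000000000000000000000000000000000000000000000000000000000000000000000000000000000000000000000000000000000000000000000000000000000000000000000000000000000000000000000000000000000000000000000000000000,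
   0x2224000000000000000000000000000000020000000000022240000000000000000000000000000001000000000000222400000000000000000000000000000084000000000222400000000000000000000000000000200000000000000000000000000000000000000000000000000000000000000000000000000000000000000000000000000000000000000000000000000000000000000000000000000000000000000000000000000000000000000000000000000000000000000000000000000000000,
   0x20000008000000000000200000010000000200000000002000000000000001020000000000008008000000400000080000200000000000042000000000000040000000200001000400000002000000100000000000000000000000000000000000000000000000000000000000000000000000000000000000000000000000000000000000000000000000000000000000000000000000000000000000000000000000000000000000000000000000000000000000000000000000000000000000000000,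
   0x800000001000000000000200004008000000000400000000000000800001000800000002000010000000000400020000000040000400000000000000001000000000040100002000000000010000000020000000000000000000000000000000000000000000000000000000000000000000000000000000000000000000000000000000000000000000000000000000000000000000000000000000000000000000000000000000000000000000000000000000000000000000000000000000000000,
   0x10000000000018000000002000000000000200000000000100000000000180000000020000000000010000000000001000000000001800000000200000000000c000000000010000000000300000000800000000000020000000000000000000000000000000000000000000000000000000000000000000000000000000000000000000000000000000000000000000000000000000000000000000000000000000000000000000000000000000000000000000000000000000000000000000000000000000,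
   0x10800000020000004000010000000000000000400080000004000001000000400000000000000002000008000000000000000100000000000000080080080000000200000000000020000100040000100000000000000000000000000000000000000000000000000000000000000000000000000000000000000000000000000000000000000000000000000000000000000000000000000000000000000000000000000000000000000000000000000000000000000000000000000000000000000000,
   0x10000400004000000000000000100000000400000400000200000000000000004002000400000400000000000000000100000100000100200000000000000008000040080000000000400000000000100002000000000000000000000000000000000000000000000000000000000000000000000000000000000000000000000000000000000000000000000000000000000000000000000000000000000000000000000000000000000000000000000000000000000000000000000000000000000000000,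
   0x20000000000001000000000000000100000002020000000004020000000000008400000000000000100000000000001004000000400000020200000004000000000008000000008100000000000000100000000040000000000000000000000000000000000000000000000000000000000000000000000000000000000000000000000000000000000000000000000000000000000000000000000000000000000000000000000000000000000000000000000000000000000000000000000000000000000,
   0x82000400080000000000000000000000000000000000410002000400000000000000000000000000000000002080010002000000000000000000000002100200008108010000400000000000000000000010000000000000000000000000000000000000000000000000000000000000000000000000000000000000000000000000000000000000000000000000000000000000000000000000000000000000000000000000000000000000000000000000000000000000000000000000000000000000000,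
   0x200000000000000000800000020000008100000000000000040080000000000002020000000000000010002000000000000000201000000000040100080000000000020200000010000004000000000000000040000000000000000000000000000000000000000000000000000000000000000000000000000000000000000000000000000000000000000000000000000000000000000000000000000000000000000000000000000000000000000000000000000000000000000000000000000000000,
   0x20000002000010000000400001100000000002000000000000000000008000200000000200002000000000400000000000800000200000020000000000100004000200002000000000000100000000040000000000000000000000000000000000000000000000000000000000000000000000000000000000000000000000000000000000000000000000000000000000000000000000000000000000000000000000000000000000000000000000000000000000000000000000000000000000000,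
   0x400000400000020000000000000400100000400000020000000008000000000000020008000000000001200000002000000000000800020000000000020000100000020000010000000040000400000000000000000000000000000000000000000000000000000000000000000000000000000000000000000000000000000000000000000000000000000000000000000000000000000000000000000000000000000000000000000000000000000000000000000000000000000000000000000,
   0x80008000040000800000000000001000002000000002000000004000000000000400000100000000000080000002000000000001000040008000000040000800000000000001000100010002000000000000000000000000000000000000000000000000000000000000000000000000000000000000000000000000000000000000000000000000000000000000000000000000000000000000000000000000000000000000000000000000000000000000000000000000000000000000000000,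
   0x4000000000002000080000000020000080000000400010000080001000000000000000000020000010000000000008000000000000800800000000800001000000000000010001000100000008000002000000000000000000000000000000000000000000000000000000000000000000000000000000000000000000000000000000000000000000000000000000000000000000000000000000000000000000000000000000000000000000000000000000000000000000000000000000000000000000,
   0x8004010010000400000000000000000000000000000010008020040001000001000000000000000000000004002008004000100000000000000000000000000000401020004000008000000000000000000000000000000000000000000000000000000000000000000000000000000000000000000000000000000000000000000000000000000000000000000000000000000000000000000000000000000000000000000000000000000000000000000000000000000000000,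
   0x40008000000002000000100000000000000008001000000000000000000008000800000000001001000001000000008800000000400000000080000020000000000040000000010000020000000200080000000000000000000000000000000000000000000000000000000000000000000000000000000000000000000000000000000000000000000000000000000000000000000000000000000000000000000000000000000000000000000000000000000000000000000000000000000000000000,
   0x461000204000000000000118400080000000000000000000000000000000000000000000000008c2000400000000000000000000000000000000000000000000000000000001184000800000000000000000000000000000000000000000000000000000000000000000000000000000000000000000000000000000000000000000000000000000000000000000000000000000000000000000000000000000000000000000000000000000000000000000000000000000000,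
   0x2000000000000010000000000000080000000000020004000000000000020000000000000100000000000040009000000000000048000000000000240000000000090080000000000040000000000024000000000000080000000000000000000000000000000000000000000000000000000000000000000000000000000000000000000000000000000000000000000000000000000000000000000000000000000000000000000000000000000000000000000000000000000000000000000000000000000,
   0x400280801000000000000000000000000000000000000000000000020014040080000000000000000000000000000000000000000000001000a0200440000000000000000000000000000000000000000040028080100000000000000000000000000000000000000000000000000000000000000000000000000000000000000000000000000000000000000000000000000000000000000000000000000000000000000000000000000000000000000000000000000000000000000000000000000000000,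
   0x20000002000000040000000010400000020000000000000001000000000000001800000000020000000004000000000004800400040000000004000000202000000004000000000000000080000000800000000000000000000000000000000000000000000000000000000000000000000000000000000000000000000000000000000000000000000000000000000000000000000000000000000000000000000000000000000000000000000000000000000000000000000000000000000000,
   0x8001000300200000000000000000000000000000000000000000000400080018010000000000000000000000000000000000000000000020004000c00c0000000000000000000000000000000000000000800100030020000000000000000000000000000000000000000000000000000000000000000000000000000000000000000000000000000000000000000000000000000000000000000000000000000000000000000000000000000000000000000000000000000000000000000000000000000000,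
   0x100010000000000000200000000000240000040000000010000000000000000001000000100000104000000000000000601000000000000000080000000000000200000000008020200000000400000000000000800000000000000000000000000000000000000000000000000000000000000000000000000000000000000000000000000000000000000000000000000000000000000000000000000000000000000000000000000000000000000000000000000000000000000000000000000000000000,
   0x800000002010000000000040000000000100000000001000000008020000000000080000000000400000000002000000020040000000000100000000001000000010020000000808000000000400000000004000000000000000000000000000000000000000000000000000000000000000000000000000000000000000000000000000000000000000000000000000000000000000000000000000000000000000000000000000000000000000000000000000000000000000000000000000000000000000,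
   0x222400000000001112000000000008890000000002224200000000000100000000000084000000000000200000000000000000000000000000000000000000000000000000000000000000000000000000000000000000000000000000000000000000000000000000000000000000000000000000000000000000000000000000000000000000000000000000000000000000000000000000000,
   0x400000002000000000000800040000000000000080000100000000440000000000000002020000002000000000002000000000000100000010000000008000002000000040000000040800000000000100040000000000000000000000000000000000000000000000000000000000000000000000000000000000000000000000000000000000000000000000000000000000000000000000000000000000000000000000000000000000000000000000000000000000000000000000000000000000000000,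
   0x46100000000080000000000000000000000000000000000461000000004000000000000000000000000000000000004610000000204000000000000000000000000000001184000000000800000000000000000000000000000000000000000000000000000000000000000000000000000000000000000000000000000000000000000000000000000000000000000000000000000000000000000000000000000000000000000000000000000000000000000000000000000000,
   0x400010000100000000000000000040001000100000000008000000000000004080000000080000800000000400000000000800004000000000200000000000100800000004000001000000001000002000000000000000000000000000000000000000000000000000000000000000000000000000000000000000000000000000000000000000000000000000000000000000000000000000000000000000000000000000000000000000000000000000000000000000000000000000000000000000000,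
   0x80000020000000000040000200000000001000000000010000020000800008000000000010001000020000000020000000400000000000000200008000000000100000080000000400000100002000000000000000000000000000000000000000000000000000000000000000000000000000000000000000000000000000000000000000000000000000000000000000000000000000000000000000000000000000000000000000000000000000000000000000000000000000000000000000000]

/-- Neighbours, part 12. -/
noncomputable def nbs12 : List (List ℕ) :=
  [[896, 939, 941, 982, 1023, 1070, 1074, 1109, 1111, 1157, 1203, 1259, 1297, 1299, 1345, 1391, 1444, 1485, 1487, 1533, 1579],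
   [905, 970, 1007, 1015, 1026, 1082, 1102, 1109, 1160, 1231, 1244, 1302, 1358, 1369, 1374, 1440, 1446, 1471, 1496, 1507, 1566],
   [904, 939, 955, 966, 977, 1410, 1426, 1437, 1448, 1451, 1463, 1478, 1493, 1497, 1509, 1524, 1539, 1543, 1555, 1570, 1585],
   [924, 946, 964, 994, 1049, 1061, 1120, 1154, 1188, 1205, 1224, 1249, 1273, 1312, 1347, 1372, 1446, 1469, 1497, 1547, 1567],
   [905, 948, 1008, 1014, 1042, 1087, 1095, 1137, 1144, 1155, 1205, 1242, 1279, 1284, 1345, 1407, 1442, 1478, 1516, 1544, 1551],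
   [923, 952, 995, 1014, 1023, 1091, 1106, 1121, 1169, 1204, 1224, 1241, 1311, 1340, 1373, 1386, 1426, 1447, 1480, 1496, 1584],
   [895, 913, 916, 919, 934, 1098, 1101, 1119, 1122, 1125, 1140, 1322, 1340, 1343, 1346, 1361, 1543, 1561, 1564, 1567, 1582],
   [893, 911, 916, 917, 932, 1144, 1162, 1167, 1168, 1183, 1365, 1383, 1388, 1389, 1404, 1450, 1451, 1469, 1474, 1475, 1490],
   [899, 926, 931, 932, 936, 1098, 1105, 1132, 1137, 1138, 1142, 1326, 1353, 1358, 1359, 1363, 1547, 1574, 1579, 1580, 1584],
   [911, 966, 972, 1002, 1025, 1085, 1093, 1099, 1157, 1233, 1239, 1306, 1343, 1359, 1373, 1374, 1442, 1468, 1503, 1506, 1565],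
   [934, 952, 966, 981, 1047, 1074, 1141, 1154, 1172, 1191, 1244, 1269, 1301, 1353, 1380, 1432, 1456, 1516, 1519, 1549, 1578],
   [912, 941, 1008, 1011, 1045, 1066, 1075, 1108, 1169, 1231, 1268, 1307, 1309, 1335, 1366, 1432, 1474, 1491, 1503, 1547, 1555],
   [935, 961, 996, 1004, 1023, 1077, 1083, 1140, 1144, 1208, 1249, 1282, 1309, 1357, 1376, 1392, 1417, 1463, 1528, 1549, 1574],
   [905, 946, 1010, 1047, 1055, 1068, 1103, 1108, 1171, 1227, 1264, 1270, 1300, 1340, 1365, 1376, 1434, 1493, 1499, 1506, 1557],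
   [936, 956, 981, 1039, 1042, 1066, 1093, 1129, 1177, 1202, 1259, 1276, 1340, 1342, 1404, 1423, 1457, 1489, 1507, 1524, 1548],
   [923, 945, 994, 1015, 1051, 1075, 1094, 1119, 1144, 1214, 1239, 1283, 1296, 1363, 1380, 1400, 1424, 1487, 1525, 1548, 1563],
   [914, 961, 1002, 1019, 1040, 1087, 1130, 1176, 1197, 1219, 1236, 1259, 1300, 1346, 1369, 1389, 1437, 1479, 1525, 1547, 1568],
   [899, 966, 1015, 1030, 1037, 1058, 1063, 1064, 1068, 1120, 1125, 1126, 1130, 1177, 1182, 1183, 1187, 1198, 1203, 1204, 1208],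
   [902, 958, 980, 994, 1036, 1073, 1119, 1158, 1206, 1235, 1247, 1283, 1293, 1324, 1332, 1371, 1380, 1424, 1470, 1509, 1557],
   [898, 950, 956, 1005, 1054, 1066, 1116, 1173, 1230, 1235, 1240, 1285, 1290, 1342, 1347, 1399, 1404, 1417, 1467, 1524, 1581],
   [899, 902, 907, 908, 912, 1195, 1198, 1203, 1204, 1208, 1274, 1281, 1284, 1289, 1290, 1294, 1502, 1505, 1510, 1511, 1515],
   [933, 947, 997, 1002, 1034, 1087, 1116, 1121, 1180, 1190, 1247, 1300, 1325, 1369, 1409, 1415, 1449, 1484, 1515, 1519, 1568],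
   [895, 962, 1011, 1030, 1033, 1066, 1128, 1185, 1206, 1245, 1307, 1364, 1385, 1412, 1415, 1474, 1477, 1531, 1534, 1552, 1555],
   [898, 903, 908, 921, 934, 1149, 1154, 1159, 1172, 1185, 1370, 1375, 1380, 1393, 1406, 1450, 1456, 1461, 1466, 1479, 1492],
   [896, 903, 905, 918, 931, 1192, 1199, 1201, 1214, 1227, 1274, 1278, 1285, 1287, 1300, 1313, 1499, 1506, 1508, 1521, 1534],
   [933, 967, 991, 1023, 1057, 1077, 1082, 1135, 1149, 1208, 1212, 1250, 1276, 1324, 1364, 1392, 1419, 1468, 1473, 1521, 1574],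
   [917, 957, 976, 986, 1032, 1091, 1127, 1162, 1192, 1211, 1244, 1289, 1324, 1341, 1404, 1428, 1449, 1451, 1474, 1533, 1573],
   [934, 941, 1007, 1032, 1046, 1080, 1119, 1122, 1152, 1181, 1194, 1250, 1285, 1303, 1322, 1407, 1420, 1445, 1484, 1511, 1567],
   [908, 964, 976, 1002, 1022, 1083, 1097, 1099, 1163, 1230, 1245, 1303, 1356, 1371, 1374, 1442, 1465, 1501, 1506, 1571, 1576],
   [899, 950, 957, 1006, 1055, 1410, 1415, 1416, 1420, 1460, 1465, 1466, 1470, 1517, 1522, 1523, 1527, 1574, 1579, 1580, 1584],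
   [896, 972, 990, 994, 1043, 1059, 1061, 1133, 1135, 1154, 1156, 1211, 1213, 1238, 1312, 1333, 1390, 1415, 1489, 1510, 1567],
   [908, 963, 977, 989, 1050, 1082, 1118, 1180, 1194, 1199, 1238, 1316, 1326, 1329, 1395, 1400, 1436, 1448, 1451, 1524, 1555]]

/-- Masks, part 12. -/
noncomputable def masks12 : List ℕ :=
  [0x80000000000200000000000a0000000001000000000000080000000000200000000000a0000000008000000000000080000000000200000000000a0000000044000000000008000000000400000000028000000000100000000000000000000000000000000000000000000000000000000000000000000000000000000000000000000000000000000000000000000000000000000000000000000000000000000000000000000000000000000000000000000000000000000000000000000000000000000,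
   0x40000000000000080100000080000041000000000000000042004000000000000040000000000000100080000000000000000100000000000020400004000000000000040080800000000400000000000000020000000000000000000000000000000000000000000000000000000000000000000000000000000000000000000000000000000000000000000000000000000000000000000000000000000000000000000000000000000000000000000000000000000000000000000000000000000000,
   0x2000400080088001000200220004000800900200400040000000000000000000000000000000000000000000000000000000000000000000000000000000000000000000000000000000000020040080008000000010000000000000000000000000000000000000000000000000000000000000000000000000000000000000000000000000000000000000000000000000000000000000000000000000000000000000000000000000000000000000000000000000000000000000000000000000000000000,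
   0x80000800000000000200000020000040000000000000000010000008000000010000000002000002000001000020001000000004000000010000000000000020020000000000000400000010000400001000000000000000000000000000000000000000000000000000000000000000000000000000000000000000000000000000000000000000000000000000000000000000000000000000000000000000000000000000000000000000000000000000000000000000000000000000000000000000,
   0x8100000010000000004000000004000000008000000000000002000000000000001080000000040000000020000000000008010200000000008080000000000400000041000000000000001000000000020000000000000000000000000000000000000000000000000000000000000000000000000000000000000000000000000000000000000000000000000000000000000000000000000000000000000000000000000000000000000000000000000000000000000000000000000000000000,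
   0x1000000000000000000000100010000000080000400000000040020000000100000008000000000000000020001000010000000020000000000020004000800000000000000008040000800000000010000000800000000000000000000000000000000000000000000000000000000000000000000000000000000000000000000000000000000000000000000000000000000000000000000000000000000000000000000000000000000000000000000000000000000000000000000000000000000000000,
   0x400092000080000000000000000000000000000000000000000000020004900004000000000000000000000000000000000000000000001000248000240000000000000000000000000000000000000000400092000080000000000000000000000000000000000000000000000000000000000000000000000000000000000000000000000000000000000000000000000000000000000000000000000000000000000000000000000000000000000000000000000000000000000000000000000000000000,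
   0x4000c20000c00000000001000308000200000000000000000000000000000000000000000000080018400010000000000000000000000000000000000000000000000000000100030800020000000000000000000000000000000000000000000000000000000000000000000000000000000000000000000000000000000000000000000000000000000000000000000000000000000000000000000000000000000000000000000000000000000000000000000000000000000,
   0x118400000080000000000000000000000000000000000000000000008c200000040000000000000000000000000000000000000000000004610000002040000000000000000000000000000000000000001184000000800000000000000000000000000000000000000000000000000000000000000000000000000000000000000000000000000000000000000000000000000000000000000000000000000000000000000000000000000000000000000000000000000000000000000000000000000000000,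
   0x20000000000000048000000010000004000000000000000060008000800000000400000000000000008200000000000000000020000000000000082020000000000000020000040000001040000000000000800000000000000000000000000000000000000000000000000000000000000000000000000000000000000000000000000000000000000000000000000000000000000000000000000000000000000000000000000000000000000000000000000000000000000000000000000000000000,
   0x40000002000000090000000000000010000010000000000001000000200000000000020000000200000100000000000008000100004002000000000000000040000008000000000000000200040010000400000000000000000000000000000000000000000000000000000000000000000000000000000000000000000000000000000000000000000000000000000000000000000000000000000000000000000000000000000000000000000000000000000000000000000000000000000000000000000,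
   0x80800000000008008000400000000010000000000000000400000008000002800000000100000000080000000000000020000000000000010000000080400002000000009000000000000000020000001000000000000000000000000000000000000000000000000000000000000000000000000000000000000000000000000000000000000000000000000000000000000000000000000000000000000000000000000000000000000000000000000000000000000000000000000000000000000,
   0x4000002000010000000000000000800000000002000001000100002000000000002000000400000002000000000100000000000000011000000000000008200000000000008000101000000002000000800000000000000000000000000000000000000000000000000000000000000000000000000000000000000000000000000000000000000000000000000000000000000000000000000000000000000000000000000000000000000000000000000000000000000000000000000000000000000000,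
   0x200000000000040820000000000000040000000000000100200000100000000010000000410000000008000000000000080000000000000010800000001000808000000004000000000000000400000000020000000000000000000000000000000000000000000000000000000000000000000000000000000000000000000000000000000000000000000000000000000000000000000000000000000000000000000000000000000000000000000000000000000000000000000000000000000000,
   0x1000001000080002000000020000000080001000000000000000500000000000000010000800000000000004000002000000000002000000002000000400000480000000000000200000100001000000000000000000000000000000000000000000000000000000000000000000000000000000000000000000000000000000000000000000000000000000000000000000000000000000000000000000000000000000000000000000000000000000000000000000000000000000000000000000,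
   0x8001000002000000000800000000000000100000100001000080000000000000001000800000000008000004000000000000000010000008000004000080000080000000080000400000000000200000800000000000000000000000000000000000000000000000000000000000000000000000000000000000000000000000000000000000000000000000000000000000000000000000000000000000000000000000000000000000000000000000000000000000000000000000000000000000000,
   0x100000800002000000000008000000000200000000000200002000004000000000010000000000800001000080000200001000000000004000000000080000000000100000800040000000002000000000004000000000000000000000000000000000000000000000000000000000000000000000000000000000000000000000000000000000000000000000000000000000000000000000000000000000000000000000000000000000000000000000000000000000000000000000000000000000000,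
   0x1184008c2000000000004610000000000001184000020400080000000000040000000000000000800000000000000000000000000000000000000000000000000000000000000000000000000000000000000000000000000000000000000000000000000000000000000000000000000000000000000000000000000000000000000000000000000000000000000000000000000000000,
   0x200000000000200000000040000000000100000000001008000000001010000000200800000000800800000040000000000040000000008000000000020000000010000000000400100000400000000000004000000000000000000000000000000000000000000000000000000000000000000000000000000000000000000000000000000000000000000000000000000000000000000000000000000000000000000000000000000000000000000000000000000000000000000000000000000000,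
   0x200000000000001000000000000008000000000002001080000000000008400000000000042000000000010840000000000000200000000000001000000000000400400000000000200000000000104000000000000400000000000000000000000000000000000000000000000000000000000000000000000000000000000000000000000000000000000000000000000000000000000000000000000000000000000000000000000000000000000000000000000000000000000000000000000000000000,
   0x8c24000000000000000000000000000000000000000000000000000461204000000000000000118480000000000000000000000000000000000000000000000000000000000000000000001184800000000000000000000000000000000000000000000000000000000000000000000000000000000000000000000000000000000000000000000000000000000000000000000000000000000000000000000000000000000000000000000000000000000000000000000000000000000,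
   0x100000000000088000000100000000200000000820000000002000000000020000010000000000000800000000000004010000000000000021000000080000000000004000000042000000000000800200000000000000000000000000000000000000000000000000000000000000000000000000000000000000000000000000000000000000000000000000000000000000000000000000000000000000000000000000000000000000000000000000000000000000000000000000000000000000000,
   0x90000480000000000002400000000000000900000020000100000000000000800000000000000200000000040000200000000000001000000000000000400000002400008000000000004000000000000000080000000000000000000000000000000000000000000000000000000000000000000000000000000000000000000000000000000000000000000000000000000000000000000000000000000000000000000000000000000000000000000000000000000000000000000000000000000,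
   0x10008004210400000000004002001084000000000000000000000000000000000000000000000200100084200000000000000000000000000000000000000000000000000000400200108400000000000000000000000000000000000000000000000000000000000000000000000000000000000000000000000000000000000000000000000000000000000000000000000000000000000000000000000000000000000000000000000000000000000000000000000000000000,
   0x40020014080000000000000000000000000000000000000000000002001000a044000000000008004002810000000000000000000000000000000000000000000000000000000000000000080040028100000000000000000000000000000000000000000000000000000000000000000000000000000000000000000000000000000000000000000000000000000000000000000000000000000000000000000000000000000000000000000000000000000000000000000000000000000000,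
   0x4000000000000200000000000210000000000008000001000000100000000010000000000010000004000000001100000000000000200080000000000004200002000000008000000080000080000000200000000000000000000000000000000000000000000000000000000000000000000000000000000000000000000000000000000000000000000000000000000000000000000000000000000000000000000000000000000000000000000000000000000000000000000000000000000000000000,
   0x2000000000200000000000000400000a00001000001000000000000000200010000000020000000000100000000800010000000400000000800000000800000000000001000000000004010000200000000020000000000000000000000000000000000000000000000000000000000000000000000000000000000000000000000000000000000000000000000000000000000000000000000000000000000000000000000000000000000000000000000000000000000000000000000000000000000000,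
   0x80000000000000800000100000000020000010008000000000000000000004000080002000000004000000000000040020000001000000048000000001000000004001000000800000000000000020400000000000000000000000000000000000000000000000000000000000000000000000000000000000000000000000000000000000000000000000000000000000000000000000000000000000000000000000000000000000000000000000000000000000000000000000000000000000000000,
   0x108000000000000000420000000020000040000000000000000480010000000000000800000000000002000400000000000000008000000000000000a0008000000000000004000040000010010000000000000100000000000000000000000000000000000000000000000000000000000000000000000000000000000000000000000000000000000000000000000000000000000000000000000000000000000000000000000000000000000000000000000000000000000000000000000000000000000,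
   0x1184000000000008c20000000000046100000000011840000000000000000000000000000000000000000000000000000000000000000000000000000000000000000800000000000400000000000204000000000000800000000000000000000000000000000000000000000000000000000000000000000000000000000000000000000000000000000000000000000000000000000000000000000000000000000000000000000000000000000000000000000000000000000000000000000000000000000,
   0x800000000000004000020000000000000000008000004000000000000020000100000000000000000040000028000000000000140000a0000000000000000028000800000000000440001000000000000000000100000000000000000000000000000000000000000000000000000000000000000000000000000000000000000000000000000000000000000000000000000000000000000000000000000000000000000000000000000000000000000000000000000000000000000000000000000000,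
   0x80000001000000000000000000900100000000108000000000000000240100000000000000000004000000000840010000000000000004000000004000000040000000000000020020008000000000000100000000000000000000000000000000000000000000000000000000000000000000000000000000000000000000000000000000000000000000000000000000000000000000000000000000000000000000000000000000000000000000000000000000000000000000000000000000000]

/-- Neighbours, part 13. -/
noncomputable def nbs13 : List (List ℕ) :=
  [[921, 958, 1009, 1023, 1048, 1092, 1100, 1148, 1176, 1204, 1243, 1285, 1316, 1333, 1386, 1425, 1447, 1475, 1501, 1552, 1584],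
   [905, 962, 988, 1048, 1054, 1087, 1095, 1115, 1182, 1189, 1200, 1242, 1317, 1324, 1329, 1390, 1442, 1454, 1461, 1523, 1561],
   [902, 956, 998, 1020, 1034, 1059, 1071, 1105, 1114, 1152, 1162, 1193, 1201, 1248, 1291, 1339, 1378, 1425, 1468, 1516, 1555],
   [931, 960, 998, 1025, 1057, 1067, 1116, 1154, 1169, 1222, 1261, 1281, 1318, 1322, 1355, 1377, 1424, 1436, 1454, 1535, 1573],
   [897, 902, 905, 909, 913, 1148, 1153, 1156, 1160, 1164, 1369, 1374, 1377, 1381, 1385, 1450, 1455, 1460, 1463, 1467, 1471],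
   [895, 946, 989, 1020, 1023, 1070, 1073, 1116, 1164, 1200, 1203, 1258, 1304, 1352, 1388, 1391, 1443, 1492, 1540, 1576, 1579],
   [936, 963, 991, 1026, 1053, 1061, 1119, 1121, 1155, 1172, 1222, 1255, 1258, 1314, 1327, 1378, 1428, 1452, 1502, 1534, 1571],
   [909, 947, 1006, 1011, 1043, 1080, 1136, 1149, 1193, 1209, 1239, 1255, 1284, 1351, 1355, 1404, 1448, 1480, 1485, 1508, 1542],
   [899, 978, 983, 984, 988, 1070, 1077, 1153, 1158, 1159, 1163, 1262, 1341, 1346, 1347, 1351, 1447, 1529, 1534, 1535, 1539],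
   [927, 978, 992, 1002, 1009, 1095, 1149, 1160, 1173, 1183, 1273, 1327, 1339, 1352, 1362, 1412, 1445, 1499, 1509, 1522, 1532],
   [918, 976, 984, 1033, 1053, 1076, 1100, 1122, 1154, 1182, 1219, 1265, 1283, 1304, 1339, 1368, 1421, 1438, 1463, 1517, 1581],
   [917, 946, 992, 1037, 1056, 1076, 1097, 1136, 1176, 1189, 1212, 1267, 1293, 1323, 1342, 1393, 1420, 1455, 1472, 1535, 1555],
   [909, 976, 1000, 1023, 1039, 1067, 1128, 1133, 1181, 1198, 1262, 1267, 1287, 1325, 1396, 1400, 1435, 1452, 1500, 1516, 1580],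
   [905, 967, 975, 986, 1050, 1088, 1094, 1099, 1110, 1169, 1209, 1258, 1291, 1362, 1368, 1375, 1420, 1489, 1500, 1505, 1568],
   [927, 977, 980, 1013, 1055, 1234, 1248, 1258, 1265, 1282, 1294, 1307, 1317, 1323, 1333, 1346, 1356, 1370, 1381, 1394, 1404],
   [909, 960, 983, 999, 1056, 1083, 1103, 1119, 1183, 1190, 1243, 1312, 1329, 1394, 1399, 1438, 1443, 1456, 1527, 1531, 1553],
   [936, 941, 999, 1002, 1036, 1071, 1110, 1127, 1151, 1195, 1227, 1242, 1269, 1308, 1333, 1395, 1435, 1471, 1473, 1535, 1542],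
   [899, 975, 990, 997, 1046, 1234, 1239, 1240, 1244, 1308, 1313, 1314, 1318, 1329, 1334, 1335, 1339, 1386, 1391, 1392, 1396],
   [934, 948, 973, 1000, 1034, 1061, 1132, 1164, 1167, 1199, 1217, 1263, 1290, 1328, 1357, 1367, 1424, 1438, 1477, 1501, 1583],
   [919, 956, 995, 1010, 1027, 1065, 1088, 1135, 1164, 1210, 1247, 1281, 1306, 1323, 1406, 1448, 1453, 1474, 1523, 1554, 1575],
   [930, 955, 962, 998, 1024, 1085, 1141, 1145, 1179, 1203, 1211, 1247, 1278, 1328, 1361, 1396, 1421, 1447, 1467, 1520, 1574],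
   [921, 943, 968, 998, 1049, 1073, 1095, 1110, 1142, 1168, 1194, 1268, 1290, 1321, 1369, 1397, 1419, 1472, 1506, 1537, 1554],
   [903, 978, 991, 1001, 1011, 1079, 1151, 1162, 1175, 1188, 1236, 1251, 1323, 1332, 1345, 1358, 1429, 1501, 1511, 1524, 1537],
   [904, 978, 994, 1005, 1016, 1145, 1157, 1172, 1187, 1322, 1334, 1349, 1364, 1411, 1427, 1438, 1449, 1496, 1508, 1523, 1538],
   [907, 974, 1001, 1013, 1027, 1087, 1101, 1110, 1159, 1211, 1226, 1241, 1255, 1299, 1364, 1374, 1441, 1457, 1470, 1499, 1570],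
   [903, 1018, 1031, 1041, 1051, 1077, 1194, 1204, 1217, 1230, 1255, 1372, 1383, 1396, 1409, 1412, 1427, 1544, 1553, 1566, 1579],
   [897, 914, 917, 921, 925, 1193, 1210, 1213, 1217, 1221, 1274, 1279, 1296, 1299, 1303, 1307, 1500, 1517, 1520, 1524, 1528],
   [933, 957, 962, 994, 1027, 1063, 1097, 1118, 1122, 1171, 1222, 1263, 1311, 1321, 1382, 1387, 1423, 1456, 1500, 1540, 1566],
   [928, 939, 957, 968, 973, 1058, 1076, 1087, 1092, 1099, 1114, 1129, 1135, 1145, 1160, 1175, 1181, 1191, 1206, 1221, 1227],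
   [898, 945, 986, 1019, 1024, 1070, 1076, 1115, 1161, 1199, 1204, 1261, 1303, 1349, 1387, 1392, 1446, 1491, 1537, 1575, 1580],
   [901, 926, 930, 934, 935, 1197, 1222, 1226, 1230, 1231, 1274, 1283, 1308, 1312, 1316, 1317, 1504, 1529, 1533, 1537, 1538],
   [933, 943, 977, 1007, 1031, 1074, 1126, 1145, 1193, 1233, 1243, 1308, 1337, 1342, 1390, 1429, 1434, 1470, 1474, 1532, 1546]]

/-- Masks, part 13. -/
noncomputable def masks13 : List ℕ :=
  [0x1000000010000000000002000000800000080000200000000040000000000002000100000002000000000080000000010000001000000100000000000101000000000010000008002000000000000400000000200000000000000000000000000000000000000000000000000000000000000000000000000000000000000000000000000000000000000000000000000000000000000000000000000000000000000000000000000000000000000000000000000000000000000000000000000000000000000,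
   0x2000000000800000000000000204004000000000000400000000000000210200000000000000000040000000001002040000000000000000800008080000000410000000000000010000004000000000000020000000000000000000000000000000000000000000000000000000000000000000000000000000000000000000000000000000000000000000000000000000000000000000000000000000000000000000000000000000000000000000000000000000000000000000000000000000000,
   0x80000000010000000000010000000000200000000000400000000080000000000080000000001000000000002020000000401000000000402000000008008000004001000004000000000100000000000004000000000000000000000000000000000000000000000000000000000000000000000000000000000000000000000000000000000000000000000000000000000000000000000000000000000000000000000000000000000000000000000000000000000000000000000000000000000,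
   0x2000000000800000000000000000004000100100000000000200000800000004400000000200002000000000400000000000020004000000001000000000000802000000020000004000000001000000080000000000000000000000000000000000000000000000000000000000000000000000000000000000000000000000000000000000000000000000000000000000000000000000000000000000000000000000000000000000000000000000000000000000000000000000000000000000000000,
   0x88908400000000000000022242000000000000000000000000000000000000000000000000001112100000000000000000000000000000000000000000000000000000000002224200000000000000000000000000000000000000000000000000000000000000000000000000000000000000000000000000000000000000000000000000000000000000000000000000000000000000000000000000000000000000000000000000000000000000000000000000000000,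
   0x90000000010000000000010000000000008000000000000900000000100000000000100000000000400000000000009000000001000000000001000000000024000000000009000000020000000000400000000000080000000000000000000000000000000000000000000000000000000000000000000000000000000000000000000000000000000000000000000000000000000000000000000000000000000000000000000000000000000000000000000000000000000000000000000000000000000,
   0x800000000400000004000000000001000001000000000000400000000000080040000000000000480000000400000000000100008000000028000000000000020200000040000000080000008000001000000000000000000000000000000000000000000000000000000000000000000000000000000000000000000000000000000000000000000000000000000000000000000000000000000000000000000000000000000000000000000000000000000000000000000000000000000000000000000,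
   0x40000000100000210000000100000000001000000000000880000000000000001000000080008000000200020000000000200100000000000001000000000800000008400000000000000800000000200000000000000000000000000000000000000000000000000000000000000000000000000000000000000000000000000000000000000000000000000000000000000000000000000000000000000000000000000000000000000000000000000000000000000000000000000000000000,
   0x8c2000000000000000000008000000000000000000000008c2000000000000000000040000000000000000000000008c2000000000000000000204000000000000000000011840000000000000000000800000000000000000000000000000000000000000000000000000000000000000000000000000000000000000000000000000000000000000000000000000000000000000000000000000000000000000000000000000000000000000000000000000000000000000000000000000000,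
   0x100400200800000000000020000000100000000000040100080080000000000002000000000000000000000080200100200000000000008000000000000000000002040100040000000000008000000000000000000000000000000000000000000000000000000000000000000000000000000000000000000000000000000000000000000000000000000000000000000000000000000000000000000000000000000000000000000000000000000000000000000000000000000000000000,
   0x200000000000000020000000000000800000400020000000000001000000080000000100000800020000000000080000000040000004000000040000100000100000200002000000000001010000000000000040000000000000000000000000000000000000000000000000000000000000000000000000000000000000000000000000000000000000000000000000000000000000000000000000000000000000000000000000000000000000000000000000000000000000000000000000000000000000,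
   0x80000800000000000000100008000000010000002000000000000400008000000200000080000000000001000002001000000000100000000020000100001000020000000000100000000000400000020000000000000000000000000000000000000000000000000000000000000000000000000000000000000000000000000000000000000000000000000000000000000000000000000000000000000000000000000000000000000000000000000000000000000000000000000000000000000,
   0x100000000000000010001000000000001000080000000110000000000000000020000000008000084000000000000000400020000000000021000000000000000800000080008000010000010000000000000000200000000000000000000000000000000000000000000000000000000000000000000000000000000000000000000000000000000000000000000000000000000000000000000000000000000000000000000000000000000000000000000000000000000000000000000000000000000000,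
   0x100000000000000021002000000000000000010000000000081040000000000000000080000000400000000000200000000020000000000000040084100000000040000000000000004008080000000000000020000000000000000000000000000000000000000000000000000000000000000000000000000000000000000000000000000000000000000000000000000000000000000000000000000000000000000000000000000000000000000000000000000000000000000000000000000000000,
   0x1004002004001004002008200800400400020401000400000000000000000000000000000000000000000000800000000020000000120000000000008000000000000000000000000000000000000000000000000000000000000000000000000000000000000000000000000000000000000000000000000000000000000000000000000000000000000000000000000000000000000000000000000000000000000000000000000000000000000000,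
   0x20000088000000000000000010008400000000084000000000000000200010000000000000000080000000000004080000000000000008000800008000001000000000000008000800001000000000000200000000000000000000000000000000000000000000000000000000000000000000000000000000000000000000000000000000000000000000000000000000000000000000000000000000000000000000000000000000000000000000000000000000000000000000000000000000000,
   0x40800000000000000280000000080000000008000000000000002000001000000000200000040008000000080000000000800000800040000000008000000010000000048000000000000021000000000000000000000000000000000000000000000000000000000000000000000000000000000000000000000000000000000000000000000000000000000000000000000000000000000000000000000000000000000000000000000000000000000000000000000000000000000000000000,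
   0x1184000000000008c200461000000000000000118400000000000000000000000000000000000000000000004000000000002040008000000000000000000800000000000000000000000000000000000000000000000000000000000000000000000000000000000000000000000000000000000000000000000000000000000000000000000000000000000000000000000000000000000000000000000000000000000000000000000000000000,
   0x800000000000000000002000002000000000400100000000000000802000000100000000040000008000000000020000800000009000000010000000000000000020000004000000010000002000001000400000000000000000000000000000000000000000000000000000000000000000000000000000000000000000000000000000000000000000000000000000000000000000000000000000000000000000000000000000000000000000000000000000000000000000000000000000000000000000,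
   0x8000040000000800000000000400002100000000004000000000000000000008000400000200000000800000000400000000001000000080000000000100000200000000080004000800000000100000000080000000000000000000000000000000000000000000000000000000000000000000000000000000000000000000000000000000000000000000000000000000000000000000000000000000000000000000000000000000000000000000000000000000000000000000000000000000000000,
   0x4000000000000100000000000008000080000020000010000000020000000100000000000040000000800000000808000008000000022000000000000020000000000000010000004000000004080000040000000000000000000000000000000000000000000000000000000000000000000000000000000000000000000000000000000000000000000000000000000000000000000000000000000000000000000000000000000000000000000000000000000000000000000000000000000000000000,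
   0x40002000000040000000100000000000008000020000002000000000002000000040000100000000000000000040000010000004000000040008000020000020000000000004000000100000080000200000000000000000000000000000000000000000000000000000000000000000000000000000000000000000000000000000000000000000000000000000000000000000000000000000000000000000000000000000000000000000000000000000000000000000000000000000000000000,
   0x2001000802000000000000000002000000000000000004002001008000000000000000008001000000000001000800400800000000000000000800000000000000008020080040000000000000000008000000000000000000000000000000000000000000000000000000000000000000000000000000000000000000000000000000000000000000000000000000000000000000000000000000000000000000000000000000000000000000000000000000000000000000000000000000000,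
   0x4000800100100000000000200400800080000000000100020004004000000000000000000000000000000000800100020020000000000000000000000000000000100200400040000000000000000010000000000000000000000000000000000000000000000000000000000000000000000000000000000000000000000000000000000000000000000000000000000000000000000000000000000000000000000000000000000000000000000000000000000000000000000000000000000,
   0x400000000000000000800000040020002000000000000000040100000000000000008000000000080020004000800000000000080000000000040200080000000000000080020020000004000000000000000080000000000000000000000000000000000000000000000000000000000000000000000000000000000000000000000000000000000000000000000000000000000000000000000000000000000000000000000000000000000000000000000000000000000000000000000000000000000,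
   0x80040020100000000000000000000000000000800120010008010000000000000000000000000000080000040020010040000000000000000000000000000200000080200800400000000000000000000000000008000000000000000000000000000000000000000000000000000000000000000000000000000000000000000000000000000000000000000000000000000000000000000000000000000000000000000000000000000000000000000000000000000000000000000000000000000000000,
   0x11120001000000000000000000000000000000000000000000000000889000084000000000000222400020000000000000000000000000000000000000000000000000000000000000000002224000200000000000000000000000000000000000000000000000000000000000000000000000000000000000000000000000000000000000000000000000000000000000000000000000000000000000000000000000000000000000000000000000000000000000000000000000000000000,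
   0x40000010000000001000000000010000000080000000084000000000000002008000000000008000000000400000000000080000000000044000020000000080000000080000000400000004200000200000000000000000000000000000000000000000000000000000000000000000000000000000000000000000000000000000000000000000000000000000000000000000000000000000000000000000000000000000000000000000000000000000000000000000000000000000000000000000,
   0x8200040008020800100020082000400081080100004000000000000000000002100200008010000000000000000000000000000000000000000000000000000000000000000000000000000000000000000000000000000000000000000000000000000000000000000000000000000000000000000000000000000000000000000000000000000000000000000000000000000000000000000,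
   0x108000000002000000000008000000000040000000000001080000000020000000000080000000002000000000000010800000000200000000000800000000104000000000010800000004000000000200000000000400000000000000000000000000000000000000000000000000000000000000000000000000000000000000000000000000000000000000000000000000000000000000000000000000000000000000000000000000000000000000000000000000000000000000000000000000000000,
   0x62200000100000000000000000000000000000000000000000000003110000008040000000000c4400000200000000000000000000000000000000000000000000000000000000000000000c44000002000000000000000000000000000000000000000000000000000000000000000000000000000000000000000000000000000000000000000000000000000000000000000000000000000000000000000000000000000000000000000000000000000000000000000000000000000000000,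
   0x400100000000000000440000000042000000000400000000000420000001000000000000000080200000000020000000000020000400000000000040000000000800000800000020000000080200000000000000000000000000000000000000000000000000000000000000000000000000000000000000000000000000000000000000000000000000000000000000000000000000000000000000000000000000000000000000000000000000000000000000000000000000000000000000000]

/-- Neighbours, part 14. -/
noncomputable def nbs14 : List (List ℕ) :=
  [[901, 1018, 1022, 1026, 1027, 1070, 1079, 1198, 1202, 1206, 1207, 1264, 1386, 1390, 1394, 1395, 1449, 1574, 1578, 1582, 1583],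
   [898, 974, 990, 996, 1045, 1065, 1139, 1160, 1217, 1242, 1316, 1337, 1394, 1411, 1416, 1485, 1490, 1506, 1511, 1563, 1568],
   [935, 956, 964, 983, 1041, 1073, 1136, 1155, 1171, 1196, 1223, 1241, 1307, 1328, 1353, 1377, 1429, 1435, 1451, 1515, 1582],
   [927, 975, 1017, 1020, 1053, 1410, 1424, 1434, 1441, 1456, 1467, 1480, 1490, 1503, 1515, 1528, 1538, 1544, 1554, 1567, 1577],
   [926, 974, 1016, 1020, 1052, 1091, 1140, 1188, 1227, 1235, 1265, 1281, 1314, 1328, 1362, 1369, 1401, 1442, 1491, 1539, 1578],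
   [904, 1018, 1034, 1045, 1056, 1191, 1203, 1218, 1233, 1235, 1251, 1262, 1273, 1365, 1377, 1392, 1407, 1542, 1554, 1569, 1584],
   [914, 939, 960, 1001, 1042, 1085, 1105, 1126, 1172, 1218, 1263, 1283, 1305, 1351, 1397, 1412, 1435, 1455, 1475, 1521, 1567],
   [923, 954, 975, 1011, 1025, 1063, 1142, 1159, 1179, 1197, 1210, 1248, 1304, 1327, 1342, 1401, 1427, 1446, 1451, 1521, 1561],
   [913, 972, 1001, 1017, 1024, 1062, 1077, 1129, 1167, 1185, 1198, 1265, 1279, 1291, 1327, 1391, 1437, 1453, 1508, 1563, 1584],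
   [919, 945, 968, 991, 1056, 1067, 1120, 1185, 1202, 1223, 1252, 1311, 1326, 1351, 1367, 1388, 1427, 1442, 1471, 1499, 1568],
   [912, 960, 986, 995, 1052, 1061, 1122, 1139, 1153, 1221, 1223, 1264, 1267, 1282, 1345, 1380, 1437, 1457, 1465, 1538, 1542],
   [917, 948, 996, 1017, 1051, 1066, 1103, 1120, 1181, 1207, 1248, 1314, 1352, 1368, 1387, 1429, 1448, 1465, 1496, 1519, 1569],
   [927, 1018, 1032, 1042, 1049, 1097, 1196, 1208, 1221, 1231, 1236, 1269, 1368, 1378, 1391, 1401, 1447, 1546, 1557, 1570, 1580],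
   [923, 955, 974, 983, 1032, 1074, 1095, 1099, 1187, 1218, 1267, 1300, 1335, 1355, 1372, 1387, 1417, 1471, 1504, 1517, 1577],
   [901, 977, 990, 999, 1048, 1058, 1062, 1066, 1067, 1132, 1136, 1140, 1141, 1153, 1157, 1161, 1162, 1210, 1214, 1218, 1219],
   [928, 1019, 1037, 1048, 1053, 1234, 1252, 1263, 1268, 1276, 1291, 1306, 1312, 1322, 1337, 1352, 1358, 1365, 1380, 1395, 1401],
   [901, 968, 1017, 1030, 1039, 1234, 1238, 1242, 1243, 1296, 1300, 1304, 1305, 1353, 1357, 1361, 1362, 1374, 1378, 1382, 1383],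
   [925, 954, 999, 1010, 1024, 1094, 1101, 1168, 1208, 1223, 1238, 1262, 1317, 1337, 1355, 1386, 1423, 1455, 1479, 1503, 1579],
   [919, 955, 970, 987, 1036, 1071, 1102, 1185, 1195, 1220, 1272, 1302, 1333, 1354, 1367, 1388, 1417, 1440, 1471, 1517, 1577],
   [913, 965, 982, 997, 1049, 1081, 1097, 1111, 1167, 1185, 1196, 1240, 1297, 1318, 1329, 1391, 1444, 1453, 1526, 1545, 1557],
   [894, 948, 980, 982, 1025, 1090, 1142, 1179, 1181, 1229, 1246, 1248, 1294, 1331, 1333, 1381, 1433, 1482, 1519, 1521, 1569],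
   [912, 960, 986, 995, 1052, 1085, 1105, 1113, 1186, 1190, 1237, 1298, 1315, 1329, 1397, 1399, 1440, 1443, 1458, 1521, 1556],
   [904, 938, 954, 965, 976, 1101, 1113, 1128, 1143, 1235, 1251, 1262, 1273, 1275, 1287, 1302, 1317, 1452, 1464, 1479, 1494],
   [900, 967, 1016, 1030, 1038, 1069, 1131, 1188, 1209, 1235, 1243, 1297, 1305, 1354, 1362, 1375, 1383, 1420, 1482, 1539, 1560],
   [918, 976, 984, 1033, 1053, 1069, 1086, 1111, 1165, 1229, 1252, 1276, 1298, 1330, 1358, 1395, 1441, 1459, 1480, 1515, 1544],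
   [894, 970, 990, 992, 1041, 1060, 1062, 1134, 1136, 1155, 1157, 1212, 1214, 1241, 1315, 1336, 1393, 1420, 1494, 1515, 1572],
   [925, 959, 970, 984, 1034, 1094, 1123, 1163, 1178, 1191, 1238, 1262, 1292, 1310, 1341, 1407, 1423, 1458, 1534, 1545, 1569],
   [920, 949, 992, 1039, 1052, 1091, 1111, 1149, 1166, 1220, 1238, 1281, 1296, 1331, 1362, 1382, 1430, 1445, 1491, 1522, 1541],
   [928, 1019, 1037, 1048, 1053, 1410, 1428, 1439, 1444, 1452, 1467, 1482, 1488, 1498, 1513, 1528, 1534, 1541, 1556, 1571, 1577],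
   [915, 940, 964, 1006, 1048, 1058, 1073, 1080, 1090, 1102, 1113, 1123, 1136, 1149, 1161, 1171, 1184, 1196, 1209, 1219, 1232],
   [902, 953, 979, 991, 1032, 1060, 1074, 1113, 1148, 1156, 1202, 1252, 1292, 1326, 1335, 1381, 1430, 1471, 1504, 1514, 1560],
   [920, 959, 972, 989, 1032, 1062, 1116, 1150, 1165, 1200, 1231, 1254, 1269, 1275, 1360, 1391, 1443, 1482, 1508, 1546, 1563]]

/-- Masks, part 14. -/
noncomputable def masks14 : List ℕ :=
  [0xc4400000000000000000000000000000020000000000000c4400000000000000000000000000000100000000000000c44000000000000000000000000000008040000000000c4400000000000000000000000000002000000000000000000000000000000000000000000000000000000000000000000000000000000000000000000000000000000000000000000000000000000000000000000000000000000000000000000000000000000000000000000000000000000000000000000000000000000000,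
   0x108000000000000840004200000000000000001080004000000000000020000100000000000000000040000020000000000000100000800000000000000000200002000000000001040004000000000000000000400000000000000000000000000000000000000000000000000000000000000000000000000000000000000000000000000000000000000000000000000000000000000000000000000000000000000000000000000000000000000000000000000000000000000000000000000000000,
   0x400000000000000008000000000000000800082000000000000200000200000100000800000000000000020000800000100000080008000100000000000000020000000200000000000000800010100000800000000000000000000000000000000000000000000000000000000000000000000000000000000000000000000000000000000000000000000000000000000000000000000000000000000000000000000000000000000000000000000000000000000000000000000000000000000000000000,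
   0x20080040104010008008004010008010002040100040000000000000000000000000000000000000000000000000000000000000000000000000000000000000000200000001200000000008000000000008000000000000000000000000000000000000000000000000000000000000000000000000000000000000000000000000000000000000000000000000000000000000000000000000000000000000000000000000000000000000000000000000000000000000000000000000000000000000000,
   0x40000000008000000000008000000000004000000000200000002040000000100040000000200020000000808000000001000000000001000000000000800000000100000001100000000004000000000004000000000000000000000000000000000000000000000000000000000000000000000000000000000000000000000000000000000000000000000000000000000000000000000000000000000000000000000000000000000000000000000000000000000000000000000000000000000000000,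
   0x1000200040040000000000000000000000000000000008001000200200000000000000000000002004008000a00040008008000000000000000000000000000000001002004000400000000000000000000000000010000000000000000000000000000000000000000000000000000000000000000000000000000000000000000000000000000000000000000000000000000000000000000000000000000000000000000000000000000000000000000000000000000000000000000000000000000000000,
   0x80000000000200000000000800008000080000100020000000000080000000000200000800008000000000040000000000100000000000400002000020000000000400000000020000000001000008000004000000000000000000000000000000000000000000000000000000000000000000000000000000000000000000000000000000000000000000000000000000000000000000000000000000000000000000000000000000000000000000000000000000000000000000000000000000000000,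
   0x2000000000200000000000000000840000800000200000000000000400080000100000000000001000000000400200008000080004000000000000000000080000000020008000000008000040000000800000000000000000000000000000000000000000000000000000000000000000000000000000000000000000000000000000000000000000000000000000000000000000000000000000000000000000000000000000000000000000000000000000000000000000000000000000000000000,
   0x1000008000000000000100000000000002000200000000000800000000000000080000000080080020000000000000000400200008000000002000000000000200040000000010200020000001000000000000002000000000000000000000000000000000000000000000000000000000000000000000000000000000000000000000000000000000000000000000000000000000000000000000000000000000000000000000000000000000000000000000000000000000000000000000000000000000000,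
   0x100000000000000000800000080000004000800000000100000800080000040008000000000000010000000800004000200000000000000010000000000000801000000000000000080000100000200000080000000000000000000000000000000000000000000000000000000000000000000000000000000000000000000000000000000000000000000000000000000000000000000000000000000000000000000000000000000000000000000000000000000000000000000000000000000000000,
   0x44000000000000000002020000200000000000001000000002000000000000000400090000000000a00000000000000002000800040000000000000020100000000000000804000001000000000001000000000000000000000000000000000000000000000000000000000000000000000000000000000000000000000000000000000000000000000000000000000000000000000000000000000000000000000000000000000000000000000000000000000000000000000000000000000000,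
   0x200000000000080000100000002000100002000000000080001000100000000040000000000000001000000000080000020000000000000010000800000000400080000000200001000000000001000000020000000000000000000000000000000000000000000000000000000000000000000000000000000000000000000000000000000000000000000000000000000000000000000000000000000000000000000000000000000000000000000000000000000000000000000000000000000000000,
   0x100400200400000000000000000000000080000000000200800401000000000000000000000000200000001080200100100000000000000000000000020000000000020401000400000000000000000000008000000000000000000000000000000000000000000000000000000000000000000000000000000000000000000000000000000000000000000000000000000000000000000000000000000000000000000000000000000000000000000000000000000000000000000000000000000000000000,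
   0x20000000000000020010000000080000000000002000000080010000800008000000010000000080000000000040000000800000000000000000000088000040000000001000000000000804000080000000800000000000000000000000000000000000000000000000000000000000000000000000000000000000000000000000000000000000000000000000000000000000000000000000000000000000000000000000000000000000000000000000000000000000000000000000000000000000000,
   0xc4400000000000622003110000000000000000c44010000000000008040020000000000000000002000000000000000000000000000000000000000000000000000000000000000000000000000000000000000000000000000000000000000000000000000000000000000000000000000000000000000000000000000000000000000000000000000000000000000000000000000000000,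
   0x208001000204100020004010400080010108010000400000000000000000000000000000000000000000000210020000800000000000000000000010000000000000000000000000000000000000000000000000000000000000000000000000000000000000000000000000000000000000000000000000000000000000000000000000000000000000000000000000000000000000000000000000000000000000000000000000000000000000000,
   0xc4400622000000000003110000000000000c4400000000000000000000000000000000000000000000000080400200000000000100000000000000002000000000000000000000000000000000000000000000000000000000000000000000000000000000000000000000000000000000000000000000000000000000000000000000000000000000000000000000000000000000000000000000000000000000000000000000000000000000,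
   0x80000000000000000008000008000008000000080000000040000000800020000200000000000004000004000800100000000010000000000000000204000000000000000010004008000000000040000002000000000000000000000000000000000000000000000000000000000000000000000000000000000000000000000000000000000000000000000000000000000000000000000000000000000000000000000000000000000000000000000000000000000000000000000000000000000000000,
   0x20000000000000020000000000080000001000002000000100000800400002000000040000001000000000000100000080200000000000000000000400000008000000010000000000008000400080000000080000000000000000000000000000000000000000000000000000000000000000000000000000000000000000000000000000000000000000000000000000000000000000000000000000000000000000000000000000000000000000000000000000000000000000000000000000000000000,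
   0x200200004000000000000000002010000000000000800000000000000200400002000000000000010000000000100200008000000000000080020002000000020000000000002000400020000000000002000000000000000000000000000000000000000000000000000000000000000000000000000000000000000000000000000000000000000000000000000000000000000000000000000000000000000000000000000000000000000000000000000000000000000000000000000000000000,
   0x200000000000280000000040000000000020000000000002000000000002800000000400000000001400020000000000028000000004000000000000400000000000000020000000000500000001000000000000040000000000000000000000000000000000000000000000000000000000000000000000000000000000000000000000000000000000000000000000000000000000000000000000000000000000000000000000000000000000000000000000000000000000000000000000000000000,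
   0x1000000002000000000000000400090000000000a0000000000000000200080004000000000000002000000000004400000000000000000202000020000000100000000000000804000001000000000001000000000000000000000000000000000000000000000000000000000000000000000000000000000000000000000000000000000000000000000000000000000000000000000000000000000000000000000000000000000000000000000000000000000000000000000000000000000000,
   0x4000800100100000000000000000000000000000000020004000800a004008000800000000000000000000008001000200200000000000000000000000000000010020040004000000010000000000000000000000000000000000000000000000000000000000000000000000000000000000000000000000000000000000000000000000000000000000000000000000000000000000000000000000000000000000000000000000000000000000000000000000000000000000,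
   0x1000008000000000000040000000000000010000000008080040400000000000202000000000000080800000200001000000000000008000000000000002000000040400100000000000080000000000000001000000000000000000000000000000000000000000000000000000000000000000000000000000000000000000000000000000000000000000000000000000000000000000000000000000000000000000000000000000000000000000000000000000000000000000000000000000000,
   0x100000008000000010000080002000000000008000000004000000400000004000010000010000020000000000000002000000000000080000040002000200002000000000001010000000000000040000000000000000000000000000000000000000000000000000000000000000000000000000000000000000000000000000000000000000000000000000000000000000000000000000000000000000000000000000000000000000000000000000000000000000000000000000000000000,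
   0x1000000000000008000040000000000000000010000002000000000000010000080000000000000000020000005000000000000028000140000000000000000050000200000000000140000400000000000000000040000000000000000000000000000000000000000000000000000000000000000000000000000000000000000000000000000000000000000000000000000000000000000000000000000000000000000000000000000000000000000000000000000000000000000000000000000000,
   0x200000200400000000000000000040000000080008000000000000000200000004000100000004000004000000000008004000800000000080000004000000000000004000000000001000400800000002000000000000000000000000000000000000000000000000000000000000000000000000000000000000000000000000000000000000000000000000000000000000000000000000000000000000000000000000000000000000000000000000000000000000000000000000000000000000000,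
   0x20000400000008000000000020004000000000004000040000000800000001000200000000004000100000000000004000200000000080000800000000100080000000000100000000002000000100000000000000000000000000000000000000000000000000000000000000000000000000000000000000000000000000000000000000000000000000000000000000000000000000000000000000000000000000000000000000000000000000000000000000000000000000000000000000,
   0x20800100020410002000401040008001010801000040000000000000000000000000000000000000000000000000000000000000000000000000000000000000000210020000800000000000000000000010000000000000000000000000000000000000000000000000000000000000000000000000000000000000000000000000000000000000000000000000000000000000000000000000000000000000000000000000000000000000000000000000000000000000000000000000000000000000000,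
   0x100080200100100080200200100080200400401020004010000000000400000000010000010000008000000000000000000000000000000000000000000000000000000000000000000000000000000000000000000000000000000000000000000000000000000000000000000000000000000000000000000000000000000000000000000000000000000000000000000000000000000000000,
   0x1000000000004010000000080000000004000000000002000000000008040000000100000000010000000000004000000000010100000000200000000040010000001000000000080080000020000000000004000000000000000000000000000000000000000000000000000000000000000000000000000000000000000000000000000000000000000000000000000000000000000000000000000000000000000000000000000000000000000000000000000000000000000000000000000000000,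
   0x8000400000000100000040000000008000000000000800000010000000000000000000008200040000080000001000000002000400000001000000000000040000001000000000020001000800000000100000000000000000000000000000000000000000000000000000000000000000000000000000000000000000000000000000000000000000000000000000000000000000000000000000000000000000000000000000000000000000000000000000000000000000000000000000000000000]

/-- Neighbours, part 15. -/
noncomputable def nbs15 : List (List ℕ) :=
  [[902, 940, 954, 996, 1038, 1059, 1071, 1103, 1111, 1150, 1159, 1197, 1207, 1248, 1288, 1336, 1384, 1425, 1465, 1513, 1561],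
   [915, 938, 953, 960, 970, 1086, 1104, 1116, 1126, 1139, 1264, 1282, 1295, 1305, 1318, 1412, 1436, 1454, 1465, 1475, 1488],
   [929, 958, 966, 986, 1041, 1068, 1125, 1148, 1177, 1204, 1255, 1261, 1275, 1310, 1333, 1409, 1425, 1491, 1526, 1544, 1575],
   [907, 961, 973, 987, 1054, 1087, 1114, 1166, 1181, 1191, 1200, 1241, 1255, 1319, 1329, 1389, 1441, 1454, 1525, 1547, 1560],
   [904, 978, 994, 1005, 1016, 1059, 1075, 1086, 1097, 1144, 1156, 1171, 1186, 1321, 1333, 1348, 1363, 1498, 1510, 1525, 1540],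
   [897, 978, 981, 985, 989, 1093, 1177, 1180, 1184, 1188, 1246, 1251, 1329, 1332, 1336, 1340, 1436, 1517, 1520, 1524, 1528],
   [900, 976, 990, 998, 1047, 1068, 1142, 1163, 1220, 1245, 1319, 1340, 1397, 1411, 1419, 1485, 1493, 1506, 1514, 1563, 1571],
   [929, 961, 998, 1006, 1026, 1079, 1085, 1143, 1144, 1179, 1202, 1249, 1278, 1309, 1360, 1395, 1420, 1466, 1522, 1545, 1574],
   [919, 976, 985, 1008, 1031, 1075, 1090, 1126, 1164, 1192, 1243, 1288, 1309, 1341, 1406, 1428, 1453, 1474, 1532, 1547, 1572],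
   [934, 952, 966, 981, 1047, 1080, 1104, 1164, 1167, 1197, 1226, 1250, 1317, 1330, 1348, 1367, 1420, 1445, 1477, 1529, 1556],
   [918, 949, 966, 996, 1049, 1073, 1093, 1139, 1174, 1192, 1272, 1287, 1321, 1343, 1373, 1394, 1416, 1472, 1506, 1534, 1560],
   [932, 955, 967, 993, 1022, 1081, 1137, 1149, 1178, 1207, 1212, 1250, 1264, 1275, 1363, 1394, 1421, 1467, 1520, 1547, 1574],
   [932, 942, 995, 1007, 1033, 1074, 1088, 1128, 1144, 1232, 1245, 1281, 1308, 1336, 1389, 1433, 1469, 1474, 1534, 1546, 1575],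
   [934, 948, 973, 1000, 1034, 1072, 1086, 1125, 1149, 1231, 1237, 1308, 1340, 1343, 1375, 1393, 1439, 1466, 1504, 1533, 1543],
   [902, 952, 993, 1019, 1031, 1076, 1115, 1161, 1195, 1204, 1254, 1294, 1340, 1373, 1383, 1412, 1426, 1464, 1510, 1545, 1553],
   [928, 979, 997, 1008, 1013, 1058, 1076, 1087, 1092, 1101, 1116, 1131, 1137, 1144, 1159, 1174, 1180, 1190, 1205, 1220, 1226],
   [902, 958, 980, 994, 1036, 1072, 1118, 1157, 1205, 1249, 1295, 1334, 1382, 1411, 1423, 1459, 1469, 1500, 1508, 1547, 1556],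
   [925, 942, 966, 991, 1054, 1079, 1090, 1116, 1134, 1151, 1213, 1240, 1296, 1358, 1384, 1399, 1426, 1493, 1500, 1524, 1543],
   [901, 978, 982, 986, 987, 1088, 1165, 1169, 1173, 1174, 1273, 1353, 1357, 1361, 1362, 1422, 1431, 1505, 1509, 1513, 1514],
   [915, 978, 993, 1000, 1010, 1060, 1084, 1147, 1158, 1168, 1181, 1262, 1325, 1337, 1347, 1360, 1440, 1503, 1516, 1526, 1539],
   [901, 938, 942, 946, 947, 1097, 1132, 1136, 1140, 1141, 1246, 1255, 1284, 1288, 1292, 1293, 1440, 1472, 1476, 1480, 1481],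
   [920, 971, 982, 1038, 1053, 1072, 1104, 1121, 1155, 1186, 1215, 1255, 1268, 1306, 1337, 1365, 1421, 1463, 1502, 1517, 1581],
   [895, 971, 990, 993, 1042, 1069, 1143, 1164, 1221, 1236, 1239, 1310, 1313, 1331, 1334, 1388, 1391, 1418, 1492, 1513, 1570],
   [900, 913, 915, 923, 936, 1151, 1164, 1166, 1174, 1187, 1372, 1385, 1387, 1395, 1408, 1450, 1458, 1471, 1473, 1481, 1494],
   [931, 960, 998, 1025, 1057, 1072, 1084, 1102, 1183, 1221, 1243, 1292, 1330, 1345, 1398, 1437, 1457, 1494, 1498, 1531, 1553],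
   [920, 942, 998, 1013, 1051, 1069, 1105, 1120, 1184, 1201, 1248, 1286, 1317, 1346, 1370, 1387, 1431, 1444, 1468, 1496, 1572],
   [929, 946, 1001, 1038, 1046, 1073, 1129, 1147, 1178, 1229, 1244, 1279, 1308, 1335, 1391, 1431, 1437, 1464, 1540, 1541, 1576],
   [897, 938, 941, 945, 949, 1084, 1120, 1123, 1127, 1131, 1269, 1308, 1311, 1315, 1319, 1422, 1427, 1460, 1463, 1467, 1471],
   [914, 939, 960, 1001, 1042, 1060, 1083, 1103, 1123, 1169, 1215, 1261, 1281, 1302, 1348, 1394, 1439, 1459, 1481, 1527, 1573],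
   [923, 971, 985, 1034, 1055, 1063, 1114, 1134, 1152, 1165, 1232, 1248, 1282, 1297, 1356, 1394, 1427, 1446, 1476, 1516, 1541],
   [926, 971, 979, 1009, 1050, 1094, 1140, 1150, 1183, 1229, 1272, 1319, 1328, 1362, 1408, 1412, 1444, 1489, 1500, 1532, 1578],
   [929, 953, 988, 1039, 1045, 1081, 1102, 1133, 1159, 1233, 1254, 1262, 1315, 1346, 1365, 1400, 1418, 1481, 1500, 1529, 1554]]

/-- Masks, part 15. -/
noncomputable def masks15 : List ℕ :=
  [0x2000000000002000000000002000000000200000000010000000000010000000000010000000001000000000080200000000080400000000080800000008008000040000000001000000000040010000000004000000000000000000000000000000000000000000000000000000000000000000000000000000000000000000000000000000000000000000000000000000000000000000000000000000000000000000000000000000000000000000000000000000000000000000000000000000000,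
   0x1000802004000100000100000000000000000000000400200800400010000000000000000000000000000000800401001000040000000000000000000000000000401020004000008000000000000000000000000000000000000000000000000000000000000000000000000000000000000000000000000000000000000000000000000000000000000000000000000000000000000000000000000000000000000000000000000000000000000000000000000000000000000,
   0x8000000100004000000008000000000000000200020000000000000000002000004000000008002080000000000010000002000000100000200000000000001000000200000000000004000040400000020000000000000000000000000000000000000000000000000000000000000000000000000000000000000000000000000000000000000000000000000000000000000000000000000000000000000000000000000000000000000000000000000000000000000000000000000000000000000000,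
   0x1000800002000000000000000004002000000000000200000000000000200800000000000000080020000000001008020004000000000000400000080000000400000000000000008002002000000000000080000000000000000000000000000000000000000000000000000000000000000000000000000000000000000000000000000000000000000000000000000000000000000000000000000000000000000000000000000000000000000000000000000000000000000000000000000000000,
   0x10002000400400000000000000000000000000000000080010002002000000000000000000000000000000000400080010010000000000020040080008000000000100200400040000000000000000010000000000000000000000000000000000000000000000000000000000000000000000000000000000000000000000000000000000000000000000000000000000000000000000000000000000000000000000000000000000000000000000000000000000000000000000000000000000,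
   0x11120000000000000000000100000000000000000000000111200000000000000000008400000000000001112000000000000000000002000000000000000000000000022240000000000000000000200000000000000000000000000000000000000000000000000000000000000000000000000000000000000000000000000000000000000000000000000000000000000000000000000000000000000000000000000000000000000000000000000000000000000000000000000000000,
   0x808000000000004040020200000000000000008080020000000000000100000800000000000000000200000100000000000000800004000000000000000001000008000000000004040010000000000000000001000000000000000000000000000000000000000000000000000000000000000000000000000000000000000000000000000000000000000000000000000000000000000000000000000000000000000000000000000000000000000000000000000000000000000000000000000000000,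
   0x4000000200000400000000000004000000000010000008000000010000000000002000000040000002000000000004000008000000018000000000000020800000000000040000404000000002000000020000000000000000000000000000000000000000000000000000000000000000000000000000000000000000000000000000000000000000000000000000000000000000000000000000000000000000000000000000000000000000000000000000000000000000000000000000000000000000,
   0x1000000800100000000000000400002000001000004000000000000000200000002000010000000000080000000000010000001000000000400000000400080000000000800001000002010000000000000080000000000000000000000000000000000000000000000000000000000000000000000000000000000000000000000000000000000000000000000000000000000000000000000000000000000000000000000000000000000000000000000000000000000000000000000000000000000000,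
   0x100000020000000000002000000020000010000000000000800010000400200000000000000004000004000000200000009000000000000001000001000000008000000000000000200040010000400000000000000000000000000000000000000000000000000000000000000000000000000000000000000000000000000000000000000000000000000000000000000000000000000000000000000000000000000000000000000000000000000000000000000000000000000000000000000000,
   0x1000000400000040000000100000000000001000004000020000000800002000000008001000000000000000000010000400000000800000000002000020000020000000000001000000040002000000040000000000000000000000000000000000000000000000000000000000000000000000000000000000000000000000000000000000000000000000000000000000000000000000000000000000000000000000000000000000000000000000000000000000000000000000000000000000000,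
   0x4000000800000100000000000008000000000020000004000000080000000000000000000008010004000000001080000004000000200200000000000002000000000000004000000200000080080000100000000000000000000000000000000000000000000000000000000000000000000000000000000000000000000000000000000000000000000000000000000000000000000000000000000000000000000000000000000000000000000000000000000000000000000000000000000000000000,
   0x8000000400400000000000000420000000020000000000200000000000010000001000000200000000200100000000000000000000010001000000000100040000000002000000800800000000000040100000000000000000000000000000000000000000000000000000000000000000000000000000000000000000000000000000000000000000000000000000000000000000000000000000000000000000000000000000000000000000000000000000000000000000000000000000000000000000,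
   0x80200000010000000004000000800000000002000080000000900000001000000000000000002080000000000000000000200000200000000040010000000004000000010000002000001000400000000000000000000000000000000000000000000000000000000000000000000000000000000000000000000000000000000000000000000000000000000000000000000000000000000000000000000000000000000000000000000000000000000000000000000000000000000000000000,
   0x20200000000400000000001000000000400100000008020000000100000000000400000000040000000000010080000000200000000000800000000100000000000800800000200000000010000000000004000000000000000000000000000000000000000000000000000000000000000000000000000000000000000000000000000000000000000000000000000000000000000000000000000000000000000000000000000000000000000000000000000000000000000000000000000000000,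
   0x4100020004010400080010208001000201080100004000000000021002000080000000000010000000000000000000000000000000000000000000000000000000000000000000000000000000000000000000000000000000000000000000000000000000000000000000000000000000000000000000000000000000000000000000000000000000000000000000000000000000000000000,
   0x100800000000101000000020080000000080080000004000000000004000000000800000000002000000000020000000000020000000004000000000010000000010000000000400100000400000000000004000000000000000000000000000000000000000000000000000000000000000000000000000000000000000000000000000000000000000000000000000000000000000000000000000000000000000000000000000000000000000000000000000000000000000000000000000000000,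
   0x80001000001020000000000000000400000080010000004000000000000001000000000000010000002000000000000000800040001000000400800000400000000000000080000040000040002000000000000000000000000000000000000000000000000000000000000000000000000000000000000000000000000000000000000000000000000000000000000000000000000000000000000000000000000000000000000000000000000000000000000000000000000000000000000000,
   0x622000000000000000000804000000000000006220000000000000000000200000000000000000000000062200000000000000000010000000000000000000000000c440000000000000000002000000000000000000000000000000000000000000000000000000000000000000000000000000000000000000000000000000000000000000000000000000000000000000000000000000000000000000000000000000000000000000000000000000000000000000000000000000000,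
   0x8004010008000000000000001000000000000000000010008020020000000000000004000000000000000000020010040080000000000000010000010000000000004010200040000000000000008000000000000000000000000000000000000000000000000000000000000000000000000000000000000000000000000000000000000000000000000000000000000000000000000000000000000000000000000000000000000000000000000000000000000000000000000000000000000,
   0x31100000001000000000000000000000000000000000000311000000080400000000000000000000000003110000000020000000000000000000000000000000000000c44000000002000000000000000000000000000000000000000000000000000000000000000000000000000000000000000000000000000000000000000000000000000000000000000000000000000000000000000000000000000000000000000000000000000000000000000000000000000000000,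
   0x200000000000000020004000000000800000000020000000000000200000020000000400000000100080000000008000000400000008000000020001000000010000200040000000000000400800000000000100000000000000000000000000000000000000000000000000000000000000000000000000000000000000000000000000000000000000000000000000000000000000000000000000000000000000000000000000000000000000000000000000000000000000000000000000000000000000,
   0x400000000000002000010000000000000000004000000900000000000004800024000000000000000009000200000000000001000008000000000000000002000000400000000000240000800000000000000000080000000000000000000000000000000000000000000000000000000000000000000000000000000000000000000000000000000000000000000000000000000000000000000000000000000000000000000000000000000000000000000000000000000000000000000000000000000,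
   0x400202800404000000000100080a001000000000000000000000000000000000000000000000080040500080000000000000000000000000000000000000000000000000000100080a001000000000000000000000000000000000000000000000000000000000000000000000000000000000000000000000000000000000000000000000000000000000000000000000000000000000000000000000000000000000000000000000000000000000000000000000000000000000,
   0x20000080000000440000000020000200000000040000000000002000400000000100000000000080000200000000080000000000000000000400010010002000000020000004000000001000000080000000000000000000000000000000000000000000000000000000000000000000000000000000000000000000000000000000000000000000000000000000000000000000000000000000000000000000000000000000000000000000000000000000000000000000000000000000000000000,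
   0x1000000000000000000100000010000010008000000000080004000004000000200000004000000001000000000002000100000000000000010002000000002000080000000020004000000000000040000100000000000000000000000000000000000000000000000000000000000000000000000000000000000000000000000000000000000000000000000000000000000000000000000000000000000000000000000000000000000000000000000000000000000000000000000000000000000000,
   0x10000000030000000000000000001000000208000000000800000000000008000001000000080000000100020000000000004000000080002000000000000020000004040000000020000000000000400020000000000000000000000000000000000000000000000000000000000000000000000000000000000000000000000000000000000000000000000000000000000000000000000000000000000000000000000000000000000000000000000000000000000000000000000000000000000000000,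
   0x88900000000840000000000000000000000000889000000000200000000000000000000000000000000008890000000010000000000000000000000000000000002224000000000200000000000000000000000000000000000000000000000000000000000000000000000000000000000000000000000000000000000000000000000000000000000000000000000000000000000000000000000000000000000000000000000000000000000000000000000000000000,
   0x2000000000008000000000020000080000800000000004000000000010000000000040000200002000000000008000000000020000000000080000800008000010000400000000020000000001000008000004000000000000000000000000000000000000000000000000000000000000000000000000000000000000000000000000000000000000000000000000000000000000000000000000000000000000000000000000000000000000000000000000000000000000000000000000000000000000,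
   0x20000010000000001000000040000800000004000000001000000000000002000400000001000100000000000000002001000040000400000000000080800004000000000002000800000000000800000000000000000000000000000000000000000000000000000000000000000000000000000000000000000000000000000000000000000000000000000000000000000000000000000000000000000000000000000000000000000000000000000000000000000000000000000000000000,
   0x40000000000100000001002000000000010000000110000000000040000000100800000000001000000000020000000000080000000401000000000004000000000040000000002000000080800000000004000000000000000000000000000000000000000000000000000000000000000000000000000000000000000000000000000000000000000000000000000000000000000000000000000000000000000000000000000000000000000000000000000000000000000000000000000000000000000,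
   0x40000020000001000020000000000000004000100000000200004000000080000000000004040000200000000000000000080000020000000400002000000002080000000000010000000020000020000000000000000000000000000000000000000000000000000000000000000000000000000000000000000000000000000000000000000000000000000000000000000000000000000000000000000000000000000000000000000000000000000000000000000000000000000000000000000]

/-- Neighbours, part 16. -/
noncomputable def nbs16 : List (List ℕ) :=
  [[935, 953, 985, 1037, 1043, 1076, 1084, 1136, 1176, 1189, 1239, 1286, 1302, 1328, 1353, 1384, 1433, 1458, 1485, 1508, 1582],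
   [936, 963, 991, 1026, 1053, 1076, 1100, 1150, 1182, 1219, 1237, 1295, 1297, 1331, 1348, 1398, 1431, 1434, 1490, 1503, 1554],
   [901, 950, 959, 1008, 1057, 1410, 1414, 1418, 1419, 1460, 1464, 1468, 1469, 1517, 1521, 1525, 1526, 1574, 1578, 1582, 1583],
   [931, 952, 964, 987, 1045, 1065, 1097, 1131, 1177, 1201, 1256, 1278, 1337, 1371, 1408, 1430, 1490, 1506, 1521, 1543, 1576],
   [901, 926, 930, 934, 935, 1152, 1177, 1181, 1185, 1186, 1373, 1398, 1402, 1406, 1407, 1450, 1459, 1484, 1488, 1492, 1493],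
   [895, 940, 943, 986, 1029, 1091, 1134, 1137, 1185, 1233, 1246, 1249, 1286, 1289, 1337, 1385, 1434, 1474, 1477, 1525, 1573],
   [900, 939, 947, 988, 1029, 1087, 1121, 1129, 1175, 1221, 1272, 1309, 1317, 1363, 1409, 1422, 1430, 1461, 1469, 1515, 1561],
   [907, 945, 959, 1009, 1047, 1081, 1093, 1143, 1147, 1204, 1243, 1284, 1349, 1387, 1402, 1446, 1475, 1502, 1515, 1543, 1552],
   [914, 940, 963, 1005, 1047, 1082, 1125, 1173, 1221, 1235, 1256, 1279, 1299, 1326, 1347, 1373, 1395, 1433, 1476, 1524, 1572],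
   [896, 972, 990, 994, 1043, 1063, 1137, 1158, 1215, 1235, 1237, 1309, 1311, 1330, 1332, 1387, 1389, 1414, 1488, 1509, 1566],
   [932, 949, 1001, 1034, 1048, 1075, 1087, 1115, 1182, 1189, 1249, 1299, 1325, 1354, 1408, 1414, 1457, 1484, 1514, 1519, 1570],
   [912, 965, 981, 1048, 1051, 1092, 1100, 1176, 1178, 1204, 1256, 1281, 1289, 1343, 1360, 1372, 1418, 1427, 1493, 1505, 1566],
   [894, 950, 952, 1001, 1050, 1068, 1118, 1175, 1232, 1236, 1238, 1286, 1288, 1343, 1345, 1400, 1402, 1417, 1467, 1524, 1581],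
   [932, 961, 994, 1008, 1029, 1073, 1104, 1133, 1187, 1213, 1238, 1293, 1298, 1349, 1371, 1398, 1427, 1439, 1489, 1496, 1557],
   [930, 965, 991, 1029, 1055, 1075, 1082, 1141, 1147, 1205, 1254, 1276, 1310, 1328, 1361, 1389, 1416, 1465, 1473, 1527, 1574],
   [896, 943, 979, 981, 1022, 1083, 1125, 1166, 1168, 1214, 1268, 1313, 1354, 1356, 1402, 1422, 1426, 1465, 1506, 1508, 1554],
   [934, 941, 1007, 1032, 1046, 1068, 1093, 1132, 1159, 1215, 1256, 1295, 1298, 1328, 1357, 1370, 1426, 1461, 1479, 1498, 1583],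
   [894, 961, 1010, 1030, 1032, 1065, 1127, 1184, 1205, 1244, 1306, 1363, 1384, 1412, 1414, 1474, 1476, 1531, 1533, 1552, 1554],
   [898, 946, 979, 984, 1025, 1085, 1128, 1166, 1171, 1217, 1270, 1316, 1354, 1359, 1405, 1422, 1428, 1468, 1506, 1511, 1557],
   [931, 965, 992, 1004, 1027, 1080, 1105, 1142, 1147, 1206, 1254, 1277, 1310, 1359, 1375, 1390, 1417, 1449, 1463, 1528, 1574],
   [894, 912, 916, 918, 933, 1145, 1163, 1167, 1169, 1184, 1366, 1384, 1388, 1390, 1405, 1450, 1452, 1470, 1474, 1476, 1491],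
   [895, 913, 916, 919, 934, 1191, 1209, 1212, 1215, 1230, 1274, 1277, 1295, 1298, 1301, 1316, 1498, 1516, 1519, 1522, 1537],
   [898, 965, 1014, 1030, 1036, 1059, 1064, 1121, 1126, 1178, 1183, 1199, 1204, 1241, 1303, 1360, 1381, 1418, 1480, 1537, 1558],
   [906, 949, 957, 1014, 1040, 1087, 1135, 1145, 1155, 1197, 1206, 1240, 1284, 1346, 1354, 1408, 1436, 1443, 1479, 1514, 1544],
   [933, 957, 962, 994, 1027, 1071, 1104, 1148, 1188, 1214, 1239, 1273, 1294, 1298, 1347, 1398, 1439, 1487, 1497, 1558, 1563],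
   [894, 904, 906, 921, 936, 1190, 1200, 1202, 1217, 1232, 1274, 1276, 1286, 1288, 1303, 1318, 1497, 1507, 1509, 1524, 1539],
   [903, 959, 980, 995, 1037, 1058, 1071, 1081, 1091, 1106, 1117, 1130, 1143, 1147, 1156, 1169, 1182, 1194, 1204, 1217, 1230],
   [900, 948, 989, 1019, 1027, 1087, 1130, 1176, 1211, 1219, 1272, 1318, 1364, 1399, 1407, 1422, 1430, 1470, 1516, 1551, 1559],
   [924, 946, 964, 994, 1049, 1094, 1117, 1145, 1195, 1215, 1237, 1296, 1330, 1364, 1381, 1400, 1425, 1449, 1488, 1523, 1548],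
   [903, 940, 955, 997, 1039, 1410, 1423, 1433, 1443, 1454, 1463, 1476, 1489, 1501, 1511, 1524, 1537, 1548, 1559, 1572, 1585],
   [921, 972, 987, 1033, 1055, 1089, 1103, 1131, 1157, 1194, 1239, 1264, 1290, 1341, 1376, 1408, 1430, 1452, 1506, 1537, 1565],
   [936, 959, 962, 996, 1021, 1083, 1138, 1145, 1209, 1211, 1247, 1282, 1326, 1358, 1376, 1393, 1418, 1445, 1464, 1526, 1574]]

/-- Masks, part 16. -/
noncomputable def masks16 : List ℕ :=
  [0x400000000000000000100000200000040000020000000000010000000200000100000040004000000000008000000000002001000000000100000000000010100000000820000000000002000000020000800000000000000000000000000000000000000000000000000000000000000000000000000000000000000000000000000000000000000000000000000000000000000000000000000000000000000000000000000000000000000000000000000000000000000000000000000000000000000000,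
   0x40000000000008004000000000000048000000040000000000010000800000002800000000000002000080000000040000000400000000000100000100000200000040000000080000008000001000000000000000000000000000000000000000000000000000000000000000000000000000000000000000000000000000000000000000000000000000000000000000000000000000000000000000000000000000000000000000000000000000000000000000000000000000000000000000000,
   0xc4400000000000622000000000003110000000000c440000000000000000000000000000000000000000000000000000000000000000000000000000000000000002000000000001000000000000804000000000002000000000000000000000000000000000000000000000000000000000000000000000000000000000000000000000000000000000000000000000000000000000000000000000000000000000000000000000000000000000000000000000000000000000000000000000000000000000,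
   0x10000000080000200040004000000000000004000010000000008000000020000000000000040000100000000000002000002000000000008000000020000000200002000000000000008000010010000080000000000000000000000000000000000000000000000000000000000000000000000000000000000000000000000000000000000000000000000000000000000000000000000000000000000000000000000000000000000000000000000000000000000000000000000000000000000000000,
   0x3110000008040000000000c440000020000000000000000000000000000000000000000000000622000001000000000000000000000000000000000000000000000000000000c44000002000000000000000000000000000000000000000000000000000000000000000000000000000000000000000000000000000000000000000000000000000000000000000000000000000000000000000000000000000000000000000000000000000000000000000000000000000000000,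
   0x2000000000002000000000002400000000040000000000020000000000020000000000024000000002400200000000000200000000000240000000000800000000000000200000000004000000000090000000000080000000000000000000000000000000000000000000000000000000000000000000000000000000000000000000000000000000000000000000000000000000000000000000000000000000000000000000000000000000000000000000000000000000000000000000000000000000,
   0x2000000000008000000000020200000004040020000000000080000000000202000000001000000000000200000000000800000000002020000000080000000000000200000000010000000000808000000001000000000000000000000000000000000000000000000000000000000000000000000000000000000000000000000000000000000000000000000000000000000000000000000000000000000000000000000000000000000000000000000000000000000000000000000000000000000,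
   0x10080000008004000000800000040000000000400080000000020000000000000001000000000080000000010000000000000088000000000002002000000008000000002000000000000800200000000080000000000000000000000000000000000000000000000000000000000000000000000000000000000000000000000000000000000000000000000000000000000000000000000000000000000000000000000000000000000000000000000000000000000000000000000000000000000,
   0x1000000000001000000000001000000000020000000008000020000008000040000008000080000100000800200000000000200000000000200000000004000000008000000000200000000008000010000004000000000000000000000000000000000000000000000000000000000000000000000000000000000000000000000000000000000000000000000000000000000000000000000000000000000000000000000000000000000000000000000000000000000000000000000000000000000000,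
   0x4000000000000020000100000000000000000040000028000000000000140000a000000000000000002800008000000000000040000200000000000000000080000800000000000440001000000000000000000100000000000000000000000000000000000000000000000000000000000000000000000000000000000000000000000000000000000000000000000000000000000000000000000000000000000000000000000000000000000000000000000000000000000000000000000000000000,
   0x400000000000084000000100000020000000000410000000000000400000020000008000000000002000000000000002040000000000000000800000080080000010004000000020000000000002000100000000000000000000000000000000000000000000000000000000000000000000000000000000000000000000000000000000000000000000000000000000000000000000000000000000000000000000000000000000000000000000000000000000000000000000000000000000000000000,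
   0x40000000000000020020000000000000000804000000000010010000800000000000020200000100000000000010000005000000000000000000101000000000090000000000000000200020000000000001000000000000000000000000000000000000000000000000000000000000000000000000000000000000000000000000000000000000000000000000000000000000000000000000000000000000000000000000000000000000000000000000000000000000000000000000000000000000,
   0x200000000000001000000000000008000000000002000500000000000002800000000000014000000000005100000000000000800000000000004000000000001000040000000000020000000000014000000000000040000000000000000000000000000000000000000000000000000000000000000000000000000000000000000000000000000000000000000000000000000000000000000000000000000000000000000000000000000000000000000000000000000000000000000000000000000000,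
   0x200000000000000102000000000000800800000040000008000020000000000004200000000000004000002000000800000000000020000001000000020000000000200001000400000002000000100000000000000000000000000000000000000000000000000000000000000000000000000000000000000000000000000000000000000000000000000000000000000000000000000000000000000000000000000000000000000000000000000000000000000000000000000000000000000000,
   0x4000000000008000000000000202000000000001000000200000020000000100004000000010000040000000000020000000000000082000000000000004080000800000200000000080000020000000040000000000000000000000000000000000000000000000000000000000000000000000000000000000000000000000000000000000000000000000000000000000000000000000000000000000000000000000000000000000000000000000000000000000000000000000000000000000000000,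
   0x40000000000140000000002000000000440000400000000001400000000020000000000100000000000004000000000014000000000200000000008000000000000004000000000280000000080000000000100000000000000000000000000000000000000000000000000000000000000000000000000000000000000000000000000000000000000000000000000000000000000000000000000000000000000000000000000000000000000000000000000000000000000000000000000000000,
   0x800000000000000000000400008000200000000400000000000004002000000100000004800000000100000000008000000000000080000010000000002000001000004001000000800000000000000020400000000000000000000000000000000000000000000000000000000000000000000000000000000000000000000000000000000000000000000000000000000000000000000000000000000000000000000000000000000000000000000000000000000000000000000000000000000000000000,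
   0x50000280000000000001400000000000000500000010000080000000000000400000000000000100000000020000100000000000000800000000000000200000001400004000000000002000000000000000040000000000000000000000000000000000000000000000000000000000000000000000000000000000000000000000000000000000000000000000000000000000000000000000000000000000000000000000000000000000000000000000000000000000000000000000000000000,
   0x200000000000840000000010000000001040002000000000008400000000100000000000400000000000020000000000084000000001000000000020000000000000020000000001080000000400000000000400000000000000000000000000000000000000000000000000000000000000000000000000000000000000000000000000000000000000000000000000000000000000000000000000000000000000000000000000000000000000000000000000000000000000000000000000000000,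
   0x4000000000010000000000000000800200000002000000400080008000000000004000000020000040000000000040000000000000084000000002000001000000000000080000100100000020000000080000000000000000000000000000000000000000000000000000000000000000000000000000000000000000000000000000000000000000000000000000000000000000000000000000000000000000000000000000000000000000000000000000000000000000000000000000000000000000,
   0x8001440001400000000002000510000400000000000000000000000000000000000000000000100028800020000000000000000000000000000000000000000000000000000200051000040000000000000000000000000000000000000000000000000000000000000000000000000000000000000000000000000000000000000000000000000000000000000000000000000000000000000000000000000000000000000000000000000000000000000000000000000000000,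
   0x2000490000400000000000000000000000000000000000000000000100024800024000000000040009200008000000000000000000000000000000000000000000000000000000000000000400092000080000000000000000000000000000000000000000000000000000000000000000000000000000000000000000000000000000000000000000000000000000000000000000000000000000000000000000000000000000000000000000000000000000000000000000000000000000000,
   0x400002000000000000010000000000000004000000002000010000000000000080000000000000020000000010800084000000000000420000000000000108000010400040000000000020000000000000000400000000000000000000000000000000000000000000000000000000000000000000000000000000000000000000000000000000000000000000000000000000000000000000000000000000000000000000000000000000000000000000000000000000000000000000000000000000,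
   0x100000004000000008000000008100000010000000000000404000000000000001000000000010000000040200000000008020080000000000080000000000100000040000000000000202000000000040000000000000000000000000000000000000000000000000000000000000000000000000000000000000000000000000000000000000000000000000000000000000000000000000000000000000000000000000000000000000000000000000000000000000000000000000000000000,
   0x8400000000000000200800000000000800000000040000000000008000000000004400002000000008000004000001000000000100000000001000000008000000000080000000400000004200000200000000000000000000000000000000000000000000000000000000000000000000000000000000000000000000000000000000000000000000000000000000000000000000000000000000000000000000000000000000000000000000000000000000000000000000000000000000000000000,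
   0x8001000280200000000000000000000000000000000000000000000400080014014000000000100020005004000000000000000000000000000000000000000000000000000000000000001000200050040000000000000000000000000000000000000000000000000000000000000000000000000000000000000000000000000000000000000000000000000000000000000000000000000000000000000000000000000000000000000000000000000000000000000000000000000000000,
   0x40020010040040020010088004002004000802008004000020000000000800100000800000000000008000000000000000000000000000000000000000000000000000000000000000000000000000000000000000000000000000000000000000000000000000000000000000000000000000000000000000000000000000000000000000000000000000000000000000000000000000000000,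
   0x808000000010000000000040000000004040008080000000100000000000400000000001000000000000080800000001000000000004000000000080000000000000080800000020000000001000000000001000000000000000000000000000000000000000000000000000000000000000000000000000000000000000000000000000000000000000000000000000000000000000000000000000000000000000000000000000000000000000000000000000000000000000000000000000000000,
   0x1000000800000001000000000200000200000100002000100000000400000001000000000000002000008000080000000000020000002000004000000000020000000000000400000010000400001000000000000000000000000000000000000000000000000000000000000000000000000000000000000000000000000000000000000000000000000000000000000000000000000000000000000000000000000000000000000000000000000000000000000000000000000000000000000000,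
   0x2001000801002001000802002001000804008020080040000000000000000000000000000000000000000000000000000000000000000000000000000000000000000000080000000002000000000080010000000008000000000000000000000000000000000000000000000000000000000000000000000000000000000000000000000000000000000000000000000000000000000000000000000000000000000000000000000000000000000000000000000000000000000000000000000000000000000,
   0x20000002000000040000000000001000004000010000000100000000200000000000040000010000008000000000040000000020000008000000800200000000800002000000000008001000000000000200000000000000000000000000000000000000000000000000000000000000000000000000000000000000000000000000000000000000000000000000000000000000000000000000000000000000000000000000000000000000000000000000000000000000000000000000000000000000,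
   0x4000000000004000000000000001000020000004000002000100004000000040000000000400000000800000000a00000000000000020400000000000008000000000000002000001000000004800001000000000000000000000000000000000000000000000000000000000000000000000000000000000000000000000000000000000000000000000000000000000000000000000000000000000000000000000000000000000000000000000000000000000000000000000000000000000000000000]

/-- Neighbours, part 17. -/
noncomputable def nbs17 : List (List ℕ) :=
  [[893, 940, 941, 984, 1027, 1089, 1134, 1135, 1183, 1231, 1246, 1247, 1286, 1287, 1335, 1383, 1432, 1474, 1475, 1523, 1571],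
   [934, 967, 992, 1006, 1021, 1074, 1101, 1186, 1199, 1217, 1244, 1269, 1290, 1346, 1398, 1432, 1459, 1488, 1501, 1561, 1564],
   [929, 948, 999, 1005, 1033, 1081, 1114, 1188, 1192, 1223, 1254, 1262, 1301, 1320, 1355, 1405, 1418, 1455, 1484, 1509, 1571],
   [904, 979, 995, 1006, 1017, 1234, 1250, 1261, 1272, 1277, 1289, 1304, 1319, 1320, 1332, 1347, 1362, 1366, 1378, 1393, 1408],
   [897, 950, 955, 1004, 1053, 1234, 1237, 1241, 1245, 1284, 1287, 1291, 1295, 1341, 1344, 1348, 1352, 1398, 1401, 1405, 1409],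
   [907, 967, 985, 999, 1049, 1067, 1121, 1136, 1153, 1218, 1270, 1277, 1286, 1344, 1371, 1384, 1433, 1445, 1466, 1540, 1544],
   [895, 949, 980, 983, 1026, 1082, 1131, 1167, 1170, 1218, 1267, 1319, 1355, 1358, 1406, 1422, 1425, 1471, 1507, 1510, 1558],
   [896, 906, 919, 927, 929, 1147, 1157, 1170, 1178, 1180, 1368, 1378, 1391, 1399, 1401, 1450, 1454, 1464, 1477, 1485, 1487],
   [931, 958, 985, 1017, 1040, 1085, 1101, 1134, 1156, 1195, 1232, 1248, 1260, 1314, 1352, 1368, 1419, 1461, 1476, 1529, 1558],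
   [906, 960, 989, 997, 1054, 1064, 1142, 1153, 1215, 1223, 1260, 1267, 1278, 1348, 1383, 1439, 1459, 1468, 1532, 1542, 1552],
   [900, 950, 958, 1007, 1056, 1059, 1067, 1109, 1117, 1166, 1174, 1223, 1231, 1244, 1294, 1351, 1408, 1421, 1471, 1528, 1585],
   [924, 941, 993, 1017, 1054, 1074, 1109, 1143, 1171, 1190, 1265, 1291, 1310, 1327, 1371, 1391, 1418, 1436, 1472, 1533, 1559],
   [937, 942, 975, 1000, 1036, 1083, 1117, 1148, 1184, 1191, 1248, 1264, 1286, 1304, 1327, 1401, 1416, 1484, 1510, 1551, 1572],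
   [937, 960, 996, 1022, 1055, 1072, 1088, 1106, 1180, 1200, 1218, 1240, 1289, 1330, 1351, 1398, 1435, 1455, 1491, 1498, 1559],
   [918, 944, 993, 1013, 1056, 1089, 1118, 1147, 1197, 1218, 1245, 1262, 1296, 1360, 1377, 1428, 1461, 1489, 1526, 1542, 1564],
   [893, 944, 987, 1020, 1021, 1080, 1126, 1174, 1212, 1213, 1265, 1314, 1362, 1400, 1401, 1422, 1423, 1466, 1514, 1552, 1553],
   [927, 975, 1017, 1020, 1053, 1058, 1072, 1082, 1089, 1104, 1115, 1128, 1138, 1151, 1163, 1176, 1186, 1192, 1202, 1215, 1225],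
   [896, 942, 983, 1019, 1021, 1092, 1136, 1182, 1223, 1225, 1246, 1250, 1288, 1334, 1375, 1377, 1435, 1476, 1522, 1563, 1565],
   [914, 962, 979, 1000, 1041, 1087, 1131, 1152, 1174, 1220, 1236, 1259, 1301, 1324, 1344, 1390, 1437, 1480, 1502, 1523, 1569],
   [921, 947, 993, 1015, 1052, 1063, 1088, 1120, 1155, 1187, 1204, 1254, 1285, 1316, 1344, 1366, 1441, 1464, 1501, 1545, 1573],
   [908, 942, 1004, 1016, 1042, 1090, 1129, 1134, 1158, 1194, 1199, 1259, 1273, 1316, 1320, 1384, 1421, 1457, 1460, 1524, 1577],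
   [923, 945, 994, 1015, 1051, 1072, 1135, 1173, 1196, 1211, 1251, 1270, 1295, 1320, 1390, 1415, 1459, 1472, 1539, 1556, 1576],
   [935, 957, 963, 993, 1025, 1081, 1140, 1151, 1178, 1201, 1252, 1260, 1275, 1357, 1397, 1415, 1470, 1507, 1523, 1549, 1574],
   [908, 949, 1010, 1043, 1057, 1062, 1105, 1108, 1174, 1179, 1230, 1260, 1272, 1303, 1334, 1365, 1434, 1487, 1501, 1506, 1560],
   [934, 954, 988, 1013, 1040, 1072, 1086, 1141, 1170, 1194, 1237, 1285, 1303, 1353, 1385, 1388, 1439, 1453, 1511, 1549, 1578],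
   [913, 942, 957, 1009, 1045, 1064, 1108, 1170, 1211, 1232, 1268, 1305, 1324, 1336, 1367, 1433, 1449, 1474, 1492, 1503, 1553],
   [897, 926, 929, 933, 937, 1098, 1103, 1132, 1135, 1139, 1143, 1324, 1353, 1356, 1360, 1364, 1545, 1574, 1577, 1581, 1585],
   [900, 903, 911, 924, 937, 1196, 1199, 1207, 1220, 1233, 1274, 1282, 1285, 1293, 1306, 1319, 1503, 1506, 1514, 1527, 1540],
   [898, 903, 908, 921, 934, 1098, 1104, 1109, 1114, 1127, 1140, 1325, 1330, 1335, 1348, 1361, 1546, 1551, 1556, 1569, 1582],
   [911, 962, 985, 1046, 1052, 1090, 1106, 1109, 1168, 1206, 1261, 1269, 1288, 1364, 1365, 1415, 1474, 1490, 1504, 1505, 1572],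
   [933, 954, 987, 1037, 1042, 1087, 1100, 1161, 1166, 1225, 1247, 1279, 1319, 1345, 1370, 1415, 1449, 1478, 1529, 1560, 1564],
   [893, 908, 923, 928, 929, 1189, 1204, 1219, 1224, 1225, 1274, 1275, 1290, 1305, 1310, 1311, 1496, 1511, 1526, 1531, 1532]]

/-- Masks, part 17. -/
noncomputable def masks17 : List ℕ :=
  [0x800000000000800000000000c0000000001000000000000800000000000800000000000c000000000c000800000000000800000000000c0000000000200000000000000080000000001000000000030000000000020000000000000000000000000000000000000000000000000000000000000000000000000000000000000000000000000000000000000000000000000000000000000000000000000000000000000000000000000000000000000000000000000000000000000000000000000000000,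
   0x12000000000000002001000000080000010000000040000000000004000000000000040000200000100000020000800400000000000000000000200000040000000000002000400100000080000000400000000000000000000000000000000000000000000000000000000000000000000000000000000000000000000000000000000000000000000000000000000000000000000000000000000000000000000000000000000000000000000000000000000000000000000000000000000000000000,
   0x800000000000000200000100000008000000004002000000000000800000001000020000000004040000000800000011000000000000000000400000002000000000002000000208000000000001000020000000000000000000000000000000000000000000000000000000000000000000000000000000000000000000000000000000000000000000000000000000000000000000000000000000000000000000000000000000000000000000000000000000000000000000000000000000000000000,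
   0x10002000400440008001001800100020021002004000400000000000000000000000000000000000000000000000000000200400800080000000000000000010000000000000000000000000000000000000000000000000000000000000000000000000000000000000000000000000000000000000000000000000000000000000000000000000000000000000000000000000000000000000000000000000000000000000000000000000000000000,
   0x22240000000000111200000000000889000000000222400000000000000000000000000000000000000000000200000000000100000000000084000000000000200000000000000000000000000000000000000000000000000000000000000000000000000000000000000000000000000000000000000000000000000000000000000000000000000000000000000000000000000000000000000000000000000000000000000000000000000000000,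
   0x110000000000000000004000020020000000000010008000001000000000000004020400000000000040000000000000002000100020000000000000800020000000000008002000080000000000000080000000000000000000000000000000000000000000000000000000000000000000000000000000000000000000000000000000000000000000000000000000000000000000000000000000000000000000000000000000000000000000000000000000000000000000000000000000000,
   0x400000000000480000000080000000000240004000000000004800000000800000000000080000000000040000000000048000000008000000000004000000000000040000000000900000002000000000000080000000000000000000000000000000000000000000000000000000000000000000000000000000000000000000000000000000000000000000000000000000000000000000000000000000000000000000000000000000000000000000000000000000000000000000000000000000,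
   0xa02001004400000000000280800401000000000000000000000000000000000000000000000014040020080000000000000000000000000000000000000000000000000000028080040100000000000000000000000000000000000000000000000000000000000000000000000000000000000000000000000000000000000000000000000000000000000000000000000000000000000000000000000000000000000000000000000000000000000000000000000000000000,
   0x400000020000000000001000200000000008000000000001000100000000040000000000001001000100000000080000000010000040000000200020000000000100000200000002000000400000080000000000000000000000000000000000000000000000000000000000000000000000000000000000000000000000000000000000000000000000000000000000000000000000000000000000000000000000000000000000000000000000000000000000000000000000000000000000000000,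
   0x10040100000000000000010080000800000000000008000000010000000000000000040081000000000808000000000000002004000000000000000000100400000000000002020000001000000000000040000000000000000000000000000000000000000000000000000000000000000000000000000000000000000000000000000000000000000000000000000000000000000000000000000000000000000000000000000000000000000000000000000000000000000000000000000000000,
   0x2000000000000010000000000000080000000000020010000000000000080000000000000400000000000100080800000000000404000000000002020000000000809000000000000800000000000404000000000001000000000000000000000000000000000000000000000000000000000000000000000000000000000000000000000000000000000000000000000000000000000000000000000000000000000000000000000000000000000000000000000000000000000000000000000000000000000,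
   0x800000200000000000000100000000100004000000800008000000000080004000080000020000000000000000004000080000008000000020000000040000400000000200000200000000000020001000000000000000000000000000000000000000000000000000000000000000000000000000000000000000000000000000000000000000000000000000000000000000000000000000000000000000000000000000000000000000000000000000000000000000000000000000000000000000,
   0x1000008000000000400000100000000000000001000200000000000000000080000100004000010001000000000000008100000000100000002000000008000000000010000000010000008000000042000000000000000000000000000000000000000000000000000000000000000000000000000000000000000000000000000000000000000000000000000000000000000000000000000000000000000000000000000000000000000000000000000000000000000000000000000000000000000000,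
   0x800000000000000408000000008000080000000040000000000080000400000000020000000000010000040001000010000000000000000004000100010000800000004000001000000001000002000000000000000000000000000000000000000000000000000000000000000000000000000000000000000000000000000000000000000000000000000000000000000000000000000000000000000000000000000000000000000000000000000000000000000000000000000000000000000000,
   0x10000040004000000002000000200000001000000000000200010000000000000001000000004000200000040000200000000000080000004000000200000001000000000020000200000000000100000040000000000000000000000000000000000000000000000000000000000000000000000000000000000000000000000000000000000000000000000000000000000000000000000000000000000000000000000000000000000000000000000000000000000000000000000000000000000000,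
   0x300000000040000000000040000000000c0000300000000040000000000040000000000020000000000003000000000400000000000400000000001000000000000003000000008000000000100000000000020000000000000000000000000000000000000000000000000000000000000000000000000000000000000000000000000000000000000000000000000000000000000000000000000000000000000000000000000000000000000000000000000000000000000000000000000000000,
   0x2008004010401000800800401000801000204010004200000001200000000008000000000008000000000000000000000000000000000000000000000000000000000000000000000000000000000000000000000000000000000000000000000000000000000000000000000000000000000000000000000000000000000000000000000000000000000000000000000000000000000000000,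
   0x28000000000400000000001000000000080000000000000280000000004000000000010000000004400002800000000040000000000100000000001000000000000000002800000000800000000040000000000100000000000000000000000000000000000000000000000000000000000000000000000000000000000000000000000000000000000000000000000000000000000000000000000000000000000000000000000000000000000000000000000000000000000000000000000000000000,
   0x200000000000800004000010000000000200000000000400000000001000010000020000000000800001000100000000000400001000008000000000080000000000200000000010000080004000000000004000000000000000000000000000000000000000000000000000000000000000000000000000000000000000000000000000000000000000000000000000000000000000000000000000000000000000000000000000000000000000000000000000000000000000000000000000000000000,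
   0x2000000200000000002000000001000002000000000000000000400001000000100000002000000040000000000010000800000008000000010000000100000080100000000080000200000000000800000200000000000000000000000000000000000000000000000000000000000000000000000000000000000000000000000000000000000000000000000000000000000000000000000000000000000000000000000000000000000000000000000000000000000000000000000000000000000000,
   0x20000000000001000000000000000120000000020000000010000000000000001100000000002000800000000000000840000000040000042000000000400000000000400000100100000000000000040000000100000000000000000000000000000000000000000000000000000000000000000000000000000000000000000000000000000000000000000000000000000000000000000000000000000000000000000000000000000000000000000000000000000000000000000000000000000000000,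
   0x10000100008000000000000000100080000000000800000400000000000000001000000800000400008000000000800100000200000000080000000000000010000080000000080000400000000000200000800000000000000000000000000000000000000000000000000000000000000000000000000000000000000000000000000000000000000000000000000000000000000000000000000000000000000000000000000000000000000000000000000000000000000000000000000000000000000,
   0x4000002000000800080000000040000000000000800020000000002000000000000000000008001010000000000002000004000000801000000000000002000000000000020000000200000008200000800000000000000000000000000000000000000000000000000000000000000000000000000000000000000000000000000000000000000000000000000000000000000000000000000000000000000000000000000000000000000000000000000000000000000000000000000000000000000000,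
   0x1000000000000042000800000000000040000000000000000200000004000000080000001001000000040000000000008400000000000000012000000000042000800000004000000000000002000000000100000000000000000000000000000000000000000000000000000000000000000000000000000000000000000000000000000000000000000000000000000000000000000000000000000000000000000000000000000000000000000000000000000000000000000000000000000000000,
   0x40000002000000000800000000000002000800000000000120000000200000000000080002000000000002000000000040000040000002000000000000040010000000100000020000010000000040000400000000000000000000000000000000000000000000000000000000000000000000000000000000000000000000000000000000000000000000000000000000000000000000000000000000000000000000000000000000000000000000000000000000000000000000000000000000000000000,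
   0x20000000000008010000400000200020000000000000000800000010010000200000000100000000100000800000000040000000000000010000000000100002000000002000000000000200040000002000000000000000000000000000000000000000000000000000000000000000000000000000000000000000000000000000000000000000000000000000000000000000000000000000000000000000000000000000000000000000000000000000000000000000000000000000000000000,
   0x2224000000200000000000000000000000000000000000000000000111200000010000000000000000000000000000000000000000000008890000000840000000000000000000000000000000000000002224000000200000000000000000000000000000000000000000000000000000000000000000000000000000000000000000000000000000000000000000000000000000000000000000000000000000000000000000000000000000000000000000000000000000000000000000000000000000000,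
   0x10008004048000000000000000000000000000000000000000000000800400202404000000000200100080900000000000000000000000000000000000000000000000000000000000000002001000809000000000000000000000000000000000000000000000000000000000000000000000000000000000000000000000000000000000000000000000000000000000000000000000000000000000000000000000000000000000000000000000000000000000000000000000000000000000,
   0x400200108400000000000000000000000000000000000000000000020010008420000000000000000000000000000000000000000000001000800421040000000000000000000000000000000000000000400200108400000000000000000000000000000000000000000000000000000000000000000000000000000000000000000000000000000000000000000000000000000000000000000000000000000000000000000000000000000000000000000000000000000000000000000000000000000000,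
   0x1000000000000000030004000400000000000000800000000000300000000000000000010000202000000000000040000000010000000000000024000400000000104000000000000002000004000000000000800000000000000000000000000000000000000000000000000000000000000000000000000000000000000000000000000000000000000000000000000000000000000000000000000000000000000000000000000000000000000000000000000000000000000000000000000000000000,
   0x11000000020000000000004000000200000000800000000004000002000000800000000080000000800002000000000000004200000000000000100080000000000420000000000008000000040000200000000000000000000000000000000000000000000000000000000000000000000000000000000000000000000000000000000000000000000000000000000000000000000000000000000000000000000000000000000000000000000000000000000000000000000000000000000000000000,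
   0x18400080010000000000000000000000000000000000000000000000c20004000c000000000003080010002000000000000000000000000000000000000000000000000000000000000000030800100020000000000000000000000000000000000000000000000000000000000000000000000000000000000000000000000000000000000000000000000000000000000000000000000000000000000000000000000000000000000000000000000000000000000000000000000000000000]

/-- Neighbours, part 18. -/
noncomputable def nbs18 : List (List ℕ) :=
  [[898, 939, 944, 985, 1026, 1094, 1133, 1138, 1184, 1230, 1246, 1252, 1285, 1290, 1336, 1382, 1437, 1473, 1478, 1524, 1570],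
   [925, 944, 994, 1039, 1050, 1062, 1086, 1120, 1186, 1206, 1224, 1247, 1313, 1324, 1348, 1372, 1446, 1470, 1485, 1498, 1565],
   [916, 939, 959, 964, 975, 1234, 1254, 1259, 1270, 1275, 1293, 1299, 1314, 1321, 1339, 1345, 1360, 1367, 1385, 1391, 1406],
   [916, 979, 999, 1004, 1015, 1410, 1430, 1435, 1446, 1453, 1471, 1477, 1492, 1496, 1514, 1520, 1535, 1542, 1560, 1566, 1581],
   [909, 960, 983, 999, 1056, 1086, 1091, 1104, 1175, 1179, 1201, 1259, 1279, 1295, 1359, 1366, 1419, 1488, 1505, 1570, 1575],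
   [927, 940, 973, 1015, 1057, 1234, 1248, 1258, 1265, 1278, 1288, 1301, 1311, 1325, 1336, 1349, 1359, 1372, 1384, 1397, 1407],
   [930, 949, 975, 1005, 1031, 1064, 1132, 1158, 1166, 1220, 1251, 1258, 1291, 1362, 1368, 1430, 1475, 1497, 1531, 1549, 1582],
   [909, 943, 959, 1016, 1040, 1067, 1108, 1173, 1178, 1226, 1262, 1267, 1306, 1310, 1332, 1370, 1435, 1490, 1497, 1545, 1561],
   [926, 940, 972, 1014, 1056, 1090, 1136, 1184, 1232, 1267, 1313, 1361, 1409, 1411, 1441, 1455, 1487, 1502, 1535, 1549, 1583],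
   [907, 947, 1014, 1041, 1053, 1065, 1079, 1108, 1168, 1233, 1265, 1304, 1326, 1339, 1368, 1439, 1473, 1488, 1498, 1507, 1556],
   [900, 912, 925, 927, 935, 1098, 1106, 1118, 1131, 1133, 1141, 1327, 1339, 1352, 1354, 1362, 1548, 1560, 1573, 1575, 1583],
   [911, 965, 973, 983, 1050, 1065, 1143, 1152, 1153, 1213, 1262, 1268, 1275, 1351, 1382, 1434, 1464, 1519, 1535, 1548, 1551],
   [894, 909, 924, 928, 930, 1098, 1100, 1115, 1130, 1134, 1136, 1321, 1336, 1351, 1355, 1357, 1542, 1557, 1572, 1576, 1578],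
   [911, 943, 1010, 1045, 1053, 1086, 1092, 1130, 1161, 1189, 1258, 1298, 1314, 1327, 1330, 1378, 1417, 1459, 1460, 1520, 1585],
   [914, 965, 1007, 1020, 1043, 1081, 1127, 1175, 1214, 1258, 1304, 1352, 1391, 1411, 1432, 1457, 1478, 1504, 1526, 1545, 1565],
   [909, 963, 987, 1046, 1051, 1063, 1079, 1138, 1153, 1220, 1224, 1272, 1276, 1349, 1354, 1377, 1432, 1455, 1471, 1533, 1546],
   [893, 960, 1009, 1030, 1031, 1067, 1129, 1186, 1207, 1236, 1237, 1298, 1299, 1355, 1356, 1376, 1377, 1416, 1478, 1535, 1556],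
   [894, 945, 988, 1020, 1022, 1090, 1139, 1187, 1224, 1226, 1246, 1248, 1291, 1339, 1376, 1378, 1433, 1479, 1527, 1564, 1566],
   [925, 951, 1014, 1022, 1046, 1079, 1090, 1106, 1168, 1206, 1224, 1240, 1313, 1339, 1354, 1386, 1426, 1455, 1479, 1498, 1583],
   [898, 965, 1014, 1030, 1036, 1065, 1127, 1184, 1205, 1242, 1304, 1361, 1382, 1411, 1416, 1473, 1478, 1530, 1535, 1551, 1556],
   [894, 909, 924, 928, 930, 1190, 1205, 1220, 1224, 1226, 1274, 1276, 1291, 1306, 1310, 1312, 1497, 1512, 1527, 1531, 1533],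
   [933, 943, 977, 1007, 1031, 1067, 1132, 1161, 1166, 1214, 1253, 1258, 1294, 1298, 1356, 1370, 1426, 1478, 1497, 1545, 1585],
   [911, 965, 973, 983, 1050, 1086, 1092, 1099, 1175, 1206, 1258, 1288, 1343, 1359, 1372, 1375, 1417, 1495, 1504, 1505, 1565],
   [898, 909, 922, 927, 932, 1098, 1104, 1115, 1128, 1133, 1138, 1325, 1336, 1349, 1354, 1359, 1546, 1557, 1570, 1575, 1580],
   [893, 911, 916, 917, 932, 1189, 1207, 1212, 1213, 1228, 1274, 1275, 1293, 1298, 1299, 1314, 1496, 1514, 1519, 1520, 1535],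
   [894, 912, 916, 918, 933, 1098, 1100, 1118, 1122, 1124, 1139, 1321, 1339, 1343, 1345, 1360, 1542, 1560, 1564, 1566, 1581],
   [907, 945, 959, 1009, 1047, 1067, 1108, 1173, 1211, 1226, 1270, 1299, 1326, 1339, 1367, 1376, 1433, 1445, 1495, 1499, 1556],
   [922, 972, 988, 1004, 1031, 1077, 1090, 1129, 1158, 1194, 1237, 1291, 1309, 1341, 1376, 1409, 1430, 1453, 1535, 1549, 1566],
   [909, 947, 1006, 1011, 1043, 1063, 1079, 1108, 1175, 1179, 1228, 1272, 1304, 1309, 1332, 1366, 1432, 1488, 1501, 1545, 1561],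
   [914, 940, 963, 1005, 1047, 1081, 1124, 1172, 1220, 1258, 1301, 1349, 1397, 1411, 1432, 1455, 1475, 1502, 1523, 1549, 1571],
   [930, 951, 989, 1015, 1045, 1064, 1130, 1177, 1203, 1211, 1251, 1258, 1278, 1336, 1407, 1430, 1459, 1492, 1520, 1542, 1576],
   [909, 943, 959, 1016, 1040, 1086, 1091, 1130, 1134, 1156, 1194, 1259, 1314, 1321, 1369, 1385, 1419, 1460, 1525, 1530, 1578]]

/-- Masks, part 18. -/
noncomputable def masks18 : List ℕ :=
  [0x400000000001000000000004200000000200000000000004000000000010000000000042000000010400040000000000100000000000420000000004000000000000000040000000002000000000108000000000400000000000000000000000000000000000000000000000000000000000000000000000000000000000000000000000000000000000000000000000000000000000000000000000000000000000000000000000000000000000000000000000000000000000000000000000000000000,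
   0x20000000000000000400200040000040000000000000000010000010000010020000000000000000800001000040000400000000000000010000000040000040040080000000000400000000000100002000000000000000000000000000000000000000000000000000000000000000000000000000000000000000000000000000000000000000000000000000000000000000000000000000000000000000000000000000000000000000000000000000000000000000000000000000000000000000,
   0x4000820000810002080002040008200008400840000400000000000000000000000000000000000000000000000000000000000000008010800008000010000000000000000000000000000000000000000000000000000000000000000000000000000000000000000000000000000000000000000000000000000000000000000000000000000000000000000000000000000000000000000000000000000000000000000000000000000000000000,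
   0x200041000040800104000110002080002040084000040000000000000000000000000000000000000000000000000000000000000000000000000000000000000000000000000080108000080000000000000010000000000000000000000000000000000000000000000000000000000000000000000000000000000000000000000000000000000000000000000000000000000000000000000000000000000000000000000000000000000000000000000000000000000000000000000000000000000000,
   0x8400000000000000020001000000000000000008000000000000408000000000000000800080000800000000000002000008800000000000000001000840000001000000000000008000800001000000000000200000000000000000000000000000000000000000000000000000000000000000000000000000000000000000000000000000000000000000000000000000000000000000000000000000000000000000000000000000000000000000000000000000000000000000000000000000000000,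
   0x8020010010008020010020008020010040020401000400000000000000000000000000000000000000000002000000000080000000002000000010008000000000000000000000000000000000000000000000000000000000000000000000000000000000000000000000000000000000000000000000000000000000000000000000000000000000000000000000000000000000000000000000000000000000000000000000000000000000000000,
   0x400000002000080000000200000800000000004000000000000001040000000000000000080000000408000000100000000000004040000010000000000000000100000000800000200000008000002000040000000000000000000000000000000000000000000000000000000000000000000000000000000000000000000000000000000000000000000000000000000000000000000000000000000000000000000000000000000000000000000000000000000000000000000000000000000000000000,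
   0x2000200000000000204000000000000080000000000000004000000001000004400000000084000000004000000000004200000000000000010000000000800000100000100000000000000800080000000200000000000000000000000000000000000000000000000000000000000000000000000000000000000000000000000000000000000000000000000000000000000000000000000000000000000000000000000000000000000000000000000000000000000000000000000000000000000,
   0x8000000020008000000040008000000080020000000a0000000000020000000000020000000000080000000100000000000100000000000100000000000400000001000000000040000000001000000010004000000000000000000000000000000000000000000000000000000000000000000000000000000000000000000000000000000000000000000000000000000000000000000000000000000000000000000000000000000000000000000000000000000000000000000000000000000000000000,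
   0x100000000000080401000200000000800000000000000001000000080040000100000000020000000200000000000000010000000000000010000000800200200200000040000000000000000800000000080000000000000000000000000000000000000000000000000000000000000000000000000000000000000000000000000000000000000000000000000000000000000000000000000000000000000000000000000000000000000000000000000000000000000000000000000000000000,
   0x80a00100100000000000000000000000000000000000000000000004050008008000000000000000000000000000000000000000000000202800400404000000000000000000000000000000000000000080a001001000000000000000000000000000000000000000000000000000000000000000000000000000000000000000000000000000000000000000000000000000000000000000000000000000000000000000000000000000000000000000000000000000000000000000000000000000000000,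
   0x9000800080000000000001000000040000000000004000000080000000000000000008104000000000002000000000000003008000000000000000000200040000000000000000802020000000000000800000000000000000000000000000000000000000000000000000000000000000000000000000000000000000000000000000000000000000000000000000000000000000000000000000000000000000000000000000000000000000000000000000000000000000000000000000000000,
   0x51000200040000000000000000000000000000000000000000000002880010002000000000000000000000000000000000000000000000144000800140000000000000000000000000000000000000000051000200040000000000000000000000000000000000000000000000000000000000000000000000000000000000000000000000000000000000000000000000000000000000000000000000000000000000000000000000000000000000000000000000000000000000000000000000000000000,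
   0x2000000000000000100000000000000180000000002000000000400000000000480040004000000000400000000000000002000000200000004000000001040000000202000000004000000000000000080000000800000000000000000000000000000000000000000000000000000000000000000000000000000000000000000000000000000000000000000000000000000000000000000000000000000000000000000000000000000000000000000000000000000000000000000000000000000000000,
   0x20000200004000010000004000020000010000080000800000000100000000000100000000000400000000004000000000800000000000800000000002000000000800001000800000000020000000000004000000000000000000000000000000000000000000000000000000000000000000000000000000000000000000000000000000000000000000000000000000000000000000000000000000000000000000000000000000000000000000000000000000000000000000000000000000000000,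
   0x400200000000000000080008000010000000000000200000420000000000000000011000000000001100000000000000002000400000000000000800080084000000000000008000008000000000000200000000000000000000000000000000000000000000000000000000000000000000000000000000000000000000000000000000000000000000000000000000000000000000000000000000000000000000000000000000000000000000000000000000000000000000000000000000000,
   0x10000080000000000000400000000000000100000000030000180000000000000c000000000000003000000080000400000000000002000000000000000800000000c00002000000000001000000000000000020000000000000000000000000000000000000000000000000000000000000000000000000000000000000000000000000000000000000000000000000000000000000000000000000000000000000000000000000000000000000000000000000000000000000000000000000000000,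
   0x50000000008000000000008000000000020000000000000500000000080000000000080000000001400005000000000800000000000800000000000400000000000000005000000010000000000200000000000040000000000000000000000000000000000000000000000000000000000000000000000000000000000000000000000000000000000000000000000000000000000000000000000000000000000000000000000000000000000000000000000000000000000000000000000000000000,
   0x800000000000000000000400008000008000000400000000040000000400080000020000000000000000010001000040000000010000000000000004000400800000004000004040000000000000008000002000000000000000000000000000000000000000000000000000000000000000000000000000000000000000000000000000000000000000000000000000000000000000000000000000000000000000000000000000000000000000000000000000000000000000000000000000000000000000,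
   0x108000840000000000004200000000000001080000004000020000000000000100000000000000040000000020000100000000000000800000000000000200000010400040000000000020000000000000000400000000000000000000000000000000000000000000000000000000000000000000000000000000000000000000000000000000000000000000000000000000000000000000000000000000000000000000000000000000000000000000000000000000000000000000000000000000,
   0x288001000200000000000000000000000000000000000000000000014400080014000000000005100020004000000000000000000000000000000000000000000000000000000000000000051000200040000000000000000000000000000000000000000000000000000000000000000000000000000000000000000000000000000000000000000000000000000000000000000000000000000000000000000000000000000000000000000000000000000000000000000000000000000000,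
   0x2000000000200000000000200004000000000000400000000000004001000000000000004400000000420000000004000000000004200000010000000000000000800000000800000800000020000000080200000000000000000000000000000000000000000000000000000000000000000000000000000000000000000000000000000000000000000000000000000000000000000000000000000000000000000000000000000000000000000000000000000000000000000000000000000000000000000,
   0x20000000000000030080000000000000000002000000000090008000800000000000010000000400000000000040000000800000000000000000081040000000040000000000000000802020000000000000800000000000000000000000000000000000000000000000000000000000000000000000000000000000000000000000000000000000000000000000000000000000000000000000000000000000000000000000000000000000000000000000000000000000000000000000000000000000,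
   0x108400200400000000000000000000000000000000000000000000008420010020000000000000000000000000000000000000000000000421000801040000000000000000000000000000000000000000108400200400000000000000000000000000000000000000000000000000000000000000000000000000000000000000000000000000000000000000000000000000000000000000000000000000000000000000000000000000000000000000000000000000000000000000000000000000000000,
   0x80018400010000000000000000000000000000000000000000000004000c20000c000000000010003080002000000000000000000000000000000000000000000000000000000000000000100030800020000000000000000000000000000000000000000000000000000000000000000000000000000000000000000000000000000000000000000000000000000000000000000000000000000000000000000000000000000000000000000000000000000000000000000000000000000000,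
   0x200051000040000000000000000000000000000000000000000000010002880002000000000000000000000000000000000000000000000800144000140000000000000000000000000000000000000000200051000040000000000000000000000000000000000000000000000000000000000000000000000000000000000000000000000000000000000000000000000000000000000000000000000000000000000000000000000000000000000000000000000000000000000000000000000000000000,
   0x100000000000000880000000000020020000000000000100800000080040000008000000400000000004000800000000200000000000000010000000000800008000000002000000000000800200000000080000000000000000000000000000000000000000000000000000000000000000000000000000000000000000000000000000000000000000000000000000000000000000000000000000000000000000000000000000000000000000000000000000000000000000000000000000000000,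
   0x40002000800000000000000000002000004000020000000100000000200000002000080000000000002000000000040000000040000002000000000400200000000000800000100010001000000000000400000000000000000000000000000000000000000000000000000000000000000000000000000000000000000000000000000000000000000000000000000000000000000000000000000000000000000000000000000000000000000000000000000000000000000000000000000000000000,
   0x2000200000000002001000000000000010000000000000000400000001000002100000001000000000010000000000008800000000000000010000000800080000800000008400000000000000800000000200000000000000000000000000000000000000000000000000000000000000000000000000000000000000000000000000000000000000000000000000000000000000000000000000000000000000000000000000000000000000000000000000000000000000000000000000000000000,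
   0x800002000000800004000000800008000010000080020000000000020000000000020000000000400000000100000000000100000000000100000000002000000008000000000200000000008000010000004000000000000000000000000000000000000000000000000000000000000000000000000000000000000000000000000000000000000000000000000000000000000000000000000000000000000000000000000000000000000000000000000000000000000000000000000000000000000,
   0x10000000040000100000010000000080000004000008000000000000000010000000000000040000408000000000808000002000000000004000000000000000100002000000080000020000000008000040000000000000000000000000000000000000000000000000000000000000000000000000000000000000000000000000000000000000000000000000000000000000000000000000000000000000000000000000000000000000000000000000000000000000000000000000000000000000000,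
   0x40000000000042000000000000000100000000008000000020002000000000002040000000000000800000000000000040000000010000044000000000840000000000100000100000000000000800080000000200000000000000000000000000000000000000000000000000000000000000000000000000000000000000000000000000000000000000000000000000000000000000000000000000000000000000000000000000000000000000000000000000000000000000000000000000000000000]

/-- Neighbours, part 19. -/
noncomputable def nbs19 : List (List ℕ) :=
  [[927, 940, 973, 1015, 1057, 1410, 1424, 1434, 1441, 1454, 1464, 1477, 1487, 1501, 1512, 1525, 1535, 1548, 1560, 1573, 1583],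
   [935, 956, 964, 983, 1041, 1065, 1131, 1152, 1177, 1201, 1253, 1259, 1275, 1339, 1406, 1425, 1488, 1507, 1523, 1548, 1575],
   [929, 953, 988, 1039, 1045, 1078, 1086, 1139, 1170, 1189, 1224, 1242, 1305, 1324, 1353, 1378, 1433, 1454, 1485, 1511, 1585],
   [924, 954, 1009, 1026, 1044, 1094, 1100, 1150, 1170, 1207, 1237, 1285, 1319, 1336, 1355, 1386, 1425, 1449, 1478, 1503, 1578],
   [908, 963, 977, 989, 1050, 1062, 1140, 1150, 1153, 1219, 1224, 1260, 1272, 1275, 1348, 1379, 1434, 1470, 1532, 1546, 1551],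
   [935, 953, 985, 1037, 1043, 1081, 1106, 1133, 1156, 1230, 1252, 1260, 1312, 1352, 1365, 1415, 1462, 1478, 1504, 1529, 1560],
   [911, 945, 1006, 1012, 1042, 1090, 1123, 1161, 1196, 1199, 1261, 1269, 1319, 1320, 1378, 1415, 1459, 1460, 1527, 1564, 1580],
   [893, 908, 923, 928, 929, 1098, 1099, 1114, 1129, 1134, 1135, 1320, 1335, 1350, 1355, 1356, 1541, 1556, 1571, 1576, 1577],
   [911, 962, 985, 1046, 1052, 1063, 1122, 1138, 1152, 1153, 1220, 1266, 1282, 1285, 1344, 1382, 1437, 1445, 1464, 1540, 1541],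
   [897, 914, 917, 921, 925, 1098, 1103, 1120, 1123, 1127, 1131, 1324, 1341, 1344, 1348, 1352, 1545, 1562, 1565, 1569, 1573],
   [913, 944, 1012, 1041, 1057, 1062, 1077, 1108, 1174, 1212, 1230, 1265, 1301, 1324, 1336, 1372, 1437, 1473, 1494, 1498, 1553],
   [918, 944, 993, 1013, 1056, 1069, 1086, 1120, 1184, 1201, 1252, 1285, 1313, 1350, 1366, 1388, 1441, 1470, 1499, 1549, 1570],
   [908, 942, 1004, 1016, 1042, 1069, 1105, 1108, 1172, 1225, 1266, 1305, 1310, 1334, 1370, 1375, 1435, 1449, 1492, 1496, 1560],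
   [923, 954, 975, 1011, 1025, 1072, 1128, 1151, 1166, 1225, 1251, 1270, 1275, 1345, 1385, 1415, 1494, 1511, 1531, 1549, 1562],
   [921, 947, 993, 1015, 1052, 1078, 1109, 1140, 1168, 1190, 1265, 1288, 1325, 1369, 1397, 1415, 1440, 1472, 1507, 1539, 1556],
   [908, 962, 982, 1044, 1056, 1090, 1104, 1109, 1174, 1179, 1203, 1259, 1273, 1294, 1361, 1365, 1421, 1487, 1502, 1505, 1569],
   [937, 956, 982, 1015, 1040, 1072, 1088, 1135, 1155, 1173, 1196, 1240, 1285, 1306, 1353, 1379, 1435, 1453, 1514, 1545, 1581],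
   [937, 942, 975, 1000, 1036, 1064, 1132, 1158, 1199, 1220, 1259, 1293, 1324, 1360, 1367, 1424, 1440, 1462, 1480, 1503, 1577],
   [922, 958, 997, 1010, 1021, 1092, 1101, 1174, 1205, 1223, 1244, 1260, 1314, 1334, 1386, 1423, 1459, 1476, 1501, 1552, 1585],
   [924, 941, 993, 1017, 1054, 1089, 1115, 1134, 1151, 1195, 1215, 1242, 1260, 1296, 1357, 1383, 1426, 1461, 1495, 1523, 1542],
   [896, 942, 983, 1019, 1021, 1083, 1124, 1170, 1211, 1213, 1268, 1312, 1358, 1399, 1401, 1422, 1426, 1464, 1510, 1551, 1553],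
   [927, 977, 980, 1013, 1055, 1058, 1072, 1082, 1089, 1106, 1118, 1131, 1141, 1147, 1157, 1170, 1180, 1194, 1205, 1218, 1228],
   [932, 955, 967, 993, 1022, 1074, 1088, 1099, 1187, 1218, 1245, 1291, 1344, 1371, 1398, 1433, 1489, 1501, 1530, 1559, 1564],
   [893, 950, 951, 1000, 1049, 1067, 1117, 1174, 1231, 1236, 1237, 1286, 1287, 1343, 1344, 1400, 1401, 1416, 1466, 1523, 1580],
   [917, 948, 996, 1017, 1051, 1072, 1138, 1176, 1192, 1211, 1253, 1272, 1289, 1320, 1343, 1393, 1418, 1455, 1472, 1533, 1559],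
   [932, 942, 995, 1007, 1033, 1081, 1117, 1122, 1182, 1194, 1223, 1250, 1264, 1304, 1320, 1408, 1421, 1457, 1484, 1512, 1565],
   [896, 906, 919, 927, 929, 1192, 1202, 1215, 1223, 1225, 1274, 1278, 1288, 1301, 1309, 1311, 1499, 1509, 1522, 1530, 1532],
   [933, 951, 983, 1017, 1047, 1077, 1082, 1104, 1163, 1167, 1225, 1250, 1279, 1319, 1347, 1366, 1419, 1476, 1529, 1558, 1563],
   [906, 944, 1004, 1011, 1047, 1080, 1142, 1147, 1197, 1206, 1245, 1253, 1284, 1348, 1401, 1446, 1477, 1485, 1514, 1542, 1552],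
   [898, 939, 944, 985, 1026, 1085, 1121, 1126, 1172, 1218, 1270, 1309, 1314, 1360, 1406, 1422, 1428, 1461, 1466, 1512, 1558],
   [895, 904, 907, 922, 937, 1191, 1200, 1203, 1218, 1233, 1274, 1277, 1286, 1289, 1304, 1319, 1498, 1507, 1510, 1525, 1540],
   [897, 926, 929, 933, 937, 1148, 1177, 1180, 1184, 1188, 1369, 1398, 1401, 1405, 1409, 1450, 1455, 1484, 1487, 1491, 1495]]

/-- Masks, part 19. -/
noncomputable def masks19 : List ℕ :=
  [0x802001001000802001002000802001004002040100040000000000000000000000000000000000000000000000000000000000000000000000000000000000000002000000000080000000002000000010008000000000000000000000000000000000000000000000000000000000000000000000000000000000000000000000000000000000000000000000000000000000000000000000000000000000000000000000000000000000000000000000000000000000000000000000000000000000000000,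
   0x8000001000000800080001000000000000000200004000000000000000080000000000000008000820000000000002000002000001000008000000000000000200000200000000000000800010100000800000000000000000000000000000000000000000000000000000000000000000000000000000000000000000000000000000000000000000000000000000000000000000000000000000000000000000000000000000000000000000000000000000000000000000000000000000000000000000,
   0x2000000000000000000800000200000004000020000000000000400000200000010000200000000000000040001000000002000040000000800000000000040400000002080000000000010000000020000020000000000000000000000000000000000000000000000000000000000000000000000000000000000000000000000000000000000000000000000000000000000000000000000000000000000000000000000000000000000000000000000000000000000000000000000000000000000000000,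
   0x40000000000000000008000004000000200000200000000040000000800010000800000002000000000002000000080000000040000400000000000104000000000001000040002000000000000040000001000000000000000000000000000000000000000000000000000000000000000000000000000000000000000000000000000000000000000000000000000000000000000000000000000000000000000000000000000000000000000000000000000000000000000000000000000000000000000,
   0x8400100000000000000040000000040000000000000800000010000000000000000009001000000001080000000000000002401000000000000000000040040000000000000020020008000000000000100000000000000000000000000000000000000000000000000000000000000000000000000000000000000000000000000000000000000000000000000000000000000000000000000000000000000000000000000000000000000000000000000000000000000000000000000000000000,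
   0x1000000020000010000004000400000000000800000000000200100000000010000000000001010000040000000000000000010000020000004000002000000000820000000000002000000020000800000000000000000000000000000000000000000000000000000000000000000000000000000000000000000000000000000000000000000000000000000000000000000000000000000000000000000000000000000000000000000000000000000000000000000000000000000000000000000,
   0x100010000000008000000000000000180000000000800000000400000000000001800000000000202000000000000000900000000200000000080000000400000000000400000010400000000000000200000000800000000000000000000000000000000000000000000000000000000000000000000000000000000000000000000000000000000000000000000000000000000000000000000000000000000000000000000000000000000000000000000000000000000000000000000000000000000000,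
   0x308001000200000000000000000000000000000000000000000000018400080010000000000000000000000000000000000000000000000c20004000c0000000000000000000000000000000000000000030800100020000000000000000000000000000000000000000000000000000000000000000000000000000000000000000000000000000000000000000000000000000000000000000000000000000000000000000000000000000000000000000000000000000000000000000000000000000000,
   0x30000000000000000001000020200000000000004000000001000000000000002400040000000000100000000000000003000400040000000000000080104000000000000002000004000000000000800000000000000000000000000000000000000000000000000000000000000000000000000000000000000000000000000000000000000000000000000000000000000000000000000000000000000000000000000000000000000000000000000000000000000000000000000000000000,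
   0x2224000200000000000000000000000000000000000000000000000111200010000000000000000000000000000000000000000000000008890000840000000000000000000000000000000000000000002224000200000000000000000000000000000000000000000000000000000000000000000000000000000000000000000000000000000000000000000000000000000000000000000000000000000000000000000000000000000000000000000000000000000000000000000000000000000000,
   0x20000000000000440000200000000200000000000000010000000010010000020000000020000000040001000000000400000000000000010000000200042000200000010000000000000000100000002000000000000000000000000000000000000000000000000000000000000000000000000000000000000000000000000000000000000000000000000000000000000000000000000000000000000000000000000000000000000000000000000000000000000000000000000000000000000,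
   0x400002000000000000800000040000002000000000000100000400040000000020000002000000010000000000002000100000000000000010000000040002001000000000020000200000000000100000040000000000000000000000000000000000000000000000000000000000000000000000000000000000000000000000000000000000000000000000000000000000000000000000000000000000000000000000000000000000000000000000000000000000000000000000000000000000000,
   0x1000000000000000110000000000200080000000000000084000000004000004200000000040000000002000000000000100000000000000012000000002000000400000100100000000000000040000000100000000000000000000000000000000000000000000000000000000000000000000000000000000000000000000000000000000000000000000000000000000000000000000000000000000000000000000000000000000000000000000000000000000000000000000000000000000000,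
   0x4002000080000800040000000000000000000800000020000000002000000000000000008400008000002000000000000004000800001000000000000010000000000020008000000008000040000000800000000000000000000000000000000000000000000000000000000000000000000000000000000000000000000000000000000000000000000000000000000000000000000000000000000000000000000000000000000000000000000000000000000000000000000000000000000000000,
   0x100008000000080000000100000001000000800020000002000000000020000000010000020000000000000000004000010000001000000020000000400000100000000080000200000000000800000200000000000000000000000000000000000000000000000000000000000000000000000000000000000000000000000000000000000000000000000000000000000000000000000000000000000000000000000000000000000000000000000000000000000000000000000000000000000000,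
   0x200000000000000024000800000000000000020000000000000220000000000000000400002000800000000000008000008400000000000000021000400000001001000000000000000400004000000000000100000000000000000000000000000000000000000000000000000000000000000000000000000000000000000000000000000000000000000000000000000000000000000000000000000000000000000000000000000000000000000000000000000000000000000000000000000000000,
   0x200000000200000004000000000000002000080000000000000800000200000000000400002000000000010000000000100000200008000080000000000100010000000100000080000000400000100002000000000000000000000000000000000000000000000000000000000000000000000000000000000000000000000000000000000000000000000000000000000000000000000000000000000000000000000000000000000000000000000000000000000000000000000000000000000000000000,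
   0x20000000000000000008000010000400001000100000000000000810000000010000000200000000800000000100000800000000040000010000000000000000100000010000000010000008000000042000000000000000000000000000000000000000000000000000000000000000000000000000000000000000000000000000000000000000000000000000000000000000000000000000000000000000000000000000000000000000000000000000000000000000000000000000000000000000000,
   0x2000000010000000000002000001000080000000080000000040000000000004000040000000000001000100000800020000000400000000000000000201000000000000000002004002000000000400000000400000000000000000000000000000000000000000000000000000000000000000000000000000000000000000000000000000000000000000000000000000000000000000000000000000000000000000000000000000000000000000000000000000000000000000000000000000000000000,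
   0x40000800000080000000200000000400000000008000002000000000000001000000001000040000008000080000000000800040000800000200000000400000000200000200000000000020001000000000000000000000000000000000000000000000000000000000000000000000000000000000000000000000000000000000000000000000000000000000000000000000000000000000000000000000000000000000000000000000000000000000000000000000000000000000000000,
   0x28000000000400000000001000000000440000280000000004000000000010000000000100000000000002800000000040000000000100000000008000000000000002800000000800000000040000000000100000000000000000000000000000000000000000000000000000000000000000000000000000000000000000000000000000000000000000000000000000000000000000000000000000000000000000000000000000000000000000000000000000000000000000000000000000000,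
   0x10040020040010040020082008004004000204010004800000000020000000120000000000008000000000000000000000000000000000000000000000000000000000000000000000000000000000000000000000000000000000000000000000000000000000000000000000000000000000000000000000000000000000000000000000000000000000000000000000000000000000000000,
   0x10800000040000002002000000000000020000000040000008000001000000000000080000000000200000040000000800000000000000000000080100040000000000004000000200000080080000100000000000000000000000000000000000000000000000000000000000000000000000000000000000000000000000000000000000000000000000000000000000000000000000000000000000000000000000000000000000000000000000000000000000000000000000000000000000000000,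
   0x10000000000000080000000000000400000000000100030000000000000180000000000000c00000000000308000000000000040000000000000200000000000080002000000000001000000000000c000000000000020000000000000000000000000000000000000000000000000000000000000000000000000000000000000000000000000000000000000000000000000000000000000000000000000000000000000000000000000000000000000000000000000000000000000000000000000000000,
   0x800000200000000000000100008000000004000002000000000000800001000000020001000020000000000800010001000000000400000000000000010000080000000200001000000000001000000020000000000000000000000000000000000000000000000000000000000000000000000000000000000000000000000000000000000000000000000000000000000000000000000000000000000000000000000000000000000000000000000000000000000000000000000000000000000000,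
   0x20000000000001000000100000020000000020010000000000000000000001000100000000010004000000800000040040000000000000042000000002000000000002000000800800000000000040100000000000000000000000000000000000000000000000000000000000000000000000000000000000000000000000000000000000000000000000000000000000000000000000000000000000000000000000000000000000000000000000000000000000000000000000000000000000000000,
   0x14040020080000000000000000000000000000000000000000000000a020010044000000000002808004010000000000000000000000000000000000000000000000000000000000000000028080040100000000000000000000000000000000000000000000000000000000000000000000000000000000000000000000000000000000000000000000000000000000000000000000000000000000000000000000000000000000000000000000000000000000000000000000000000000000,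
   0x8400000020000000000001000000000000008000000000000400008000000800000000080000004000002000000000000008800000000000001000004200000008000000200000000800000008000200000000000000000000000000000000000000000000000000000000000000000000000000000000000000000000000000000000000000000000000000000000000000000000000000000000000000000000000000000000000000000000000000000000000000000000000000000000000000000,
   0x10040000004000000202000000040000000000200000000000010000000000000001000000020200000000040200000000000084000000000000001000000008000000008100000000000000100000000040000000000000000000000000000000000000000000000000000000000000000000000000000000000000000000000000000000000000000000000000000000000000000000000000000000000000000000000000000000000000000000000000000000000000000000000000000000000,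
   0x400000000001000000000004200000001040004000000000010000000000042000000000400000000000040000000000100000000000420000000020000000000000040000000002000000000108000000000400000000000000000000000000000000000000000000000000000000000000000000000000000000000000000000000000000000000000000000000000000000000000000000000000000000000000000000000000000000000000000000000000000000000000000000000000000000,
   0x10002000480400000000000000000000000000000000000000000000800100024024000000000200040009008000000000000000000000000000000000000000000000000000000000000002000400090080000000000000000000000000000000000000000000000000000000000000000000000000000000000000000000000000000000000000000000000000000000000000000000000000000000000000000000000000000000000000000000000000000000000000000000000000000000,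
   0x88900000008400000000022240000002000000000000000000000000000000000000000000001112000000100000000000000000000000000000000000000000000000000002224000000200000000000000000000000000000000000000000000000000000000000000000000000000000000000000000000000000000000000000000000000000000000000000000000000000000000000000000000000000000000000000000000000000000000000000000000000000000000]

/-- Neighbours, part 20. -/
noncomputable def nbs20 : List (List ℕ) :=
  [[931, 958, 985, 1017, 1040, 1067, 1109, 1124, 1177, 1206, 1261, 1277, 1310, 1332, 1371, 1408, 1424, 1436, 1490, 1528, 1544],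
   [898, 950, 956, 1005, 1054, 1059, 1064, 1109, 1114, 1166, 1171, 1223, 1228, 1241, 1291, 1348, 1405, 1418, 1468, 1525, 1582],
   [936, 959, 962, 996, 1021, 1071, 1106, 1150, 1182, 1200, 1217, 1242, 1269, 1288, 1350, 1398, 1435, 1490, 1497, 1561, 1563],
   [921, 953, 975, 1012, 1027, 1089, 1104, 1148, 1176, 1202, 1239, 1264, 1286, 1318, 1335, 1386, 1430, 1475, 1497, 1551, 1582],
   [924, 953, 977, 1014, 1021, 1074, 1126, 1145, 1199, 1233, 1265, 1282, 1326, 1346, 1381, 1400, 1418, 1436, 1488, 1514, 1562],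
   [926, 940, 972, 1014, 1056, 1059, 1089, 1103, 1135, 1150, 1183, 1197, 1231, 1266, 1312, 1360, 1408, 1443, 1489, 1537, 1585],
   [916, 1019, 1039, 1044, 1055, 1410, 1430, 1435, 1446, 1452, 1470, 1476, 1491, 1498, 1516, 1522, 1537, 1541, 1559, 1565, 1580],
   [916, 939, 959, 964, 975, 1058, 1078, 1083, 1094, 1099, 1117, 1123, 1138, 1145, 1163, 1169, 1184, 1191, 1209, 1215, 1230],
   [893, 940, 941, 984, 1027, 1080, 1122, 1123, 1171, 1219, 1265, 1310, 1311, 1359, 1407, 1422, 1423, 1462, 1463, 1511, 1559],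
   [917, 946, 992, 1037, 1056, 1091, 1117, 1147, 1166, 1217, 1244, 1279, 1296, 1359, 1379, 1428, 1449, 1488, 1528, 1541, 1564],
   [906, 967, 984, 1044, 1051, 1069, 1077, 1135, 1153, 1217, 1270, 1276, 1286, 1346, 1354, 1383, 1432, 1459, 1468, 1539, 1544],
   [931, 965, 992, 1004, 1027, 1078, 1101, 1134, 1183, 1199, 1214, 1241, 1273, 1287, 1352, 1398, 1432, 1457, 1494, 1499, 1558],
   [894, 904, 906, 921, 936, 1145, 1155, 1157, 1172, 1187, 1366, 1376, 1378, 1393, 1408, 1450, 1452, 1462, 1464, 1479, 1494],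
   [895, 962, 1011, 1030, 1033, 1069, 1131, 1188, 1209, 1236, 1239, 1298, 1301, 1355, 1358, 1376, 1379, 1418, 1480, 1537, 1558],
   [913, 965, 982, 997, 1049, 1064, 1121, 1142, 1153, 1215, 1268, 1277, 1350, 1369, 1381, 1433, 1449, 1463, 1519, 1537, 1548],
   [912, 946, 955, 1012, 1040, 1085, 1141, 1145, 1195, 1203, 1237, 1284, 1352, 1354, 1388, 1405, 1440, 1443, 1476, 1511, 1548],
   [919, 956, 995, 1010, 1027, 1071, 1105, 1130, 1147, 1230, 1272, 1277, 1298, 1347, 1378, 1399, 1417, 1440, 1487, 1516, 1562],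
   [894, 948, 980, 982, 1025, 1081, 1130, 1167, 1169, 1217, 1266, 1318, 1355, 1357, 1405, 1422, 1424, 1470, 1507, 1509, 1557],
   [896, 963, 1012, 1030, 1034, 1063, 1125, 1182, 1203, 1235, 1237, 1297, 1299, 1354, 1356, 1375, 1377, 1414, 1476, 1533, 1554],
   [914, 965, 1007, 1020, 1043, 1082, 1128, 1176, 1215, 1235, 1256, 1281, 1302, 1328, 1350, 1369, 1389, 1433, 1479, 1527, 1566],
   [894, 945, 988, 1020, 1022, 1081, 1127, 1175, 1212, 1214, 1266, 1315, 1363, 1400, 1402, 1422, 1424, 1467, 1515, 1552, 1554],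
   [918, 956, 1009, 1029, 1046, 1073, 1093, 1129, 1147, 1229, 1272, 1276, 1298, 1328, 1349, 1377, 1416, 1461, 1489, 1515, 1562],
   [930, 965, 991, 1029, 1055, 1078, 1100, 1134, 1152, 1185, 1213, 1240, 1289, 1297, 1351, 1398, 1427, 1434, 1493, 1499, 1557],
   [935, 943, 1001, 1036, 1044, 1077, 1083, 1118, 1185, 1189, 1249, 1286, 1302, 1327, 1354, 1402, 1417, 1459, 1484, 1508, 1573],
   [912, 941, 1008, 1011, 1045, 1092, 1131, 1133, 1159, 1190, 1256, 1298, 1315, 1327, 1371, 1379, 1418, 1427, 1460, 1521, 1583],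
   [894, 950, 952, 1001, 1050, 1065, 1115, 1172, 1229, 1244, 1294, 1351, 1408, 1412, 1414, 1462, 1464, 1519, 1521, 1576, 1578],
   [920, 959, 972, 989, 1032, 1078, 1093, 1099, 1184, 1215, 1267, 1306, 1332, 1370, 1387, 1414, 1468, 1502, 1517, 1552, 1583],
   [931, 947, 1005, 1032, 1044, 1065, 1097, 1132, 1156, 1221, 1256, 1292, 1326, 1363, 1368, 1430, 1461, 1476, 1498, 1531, 1580],
   [896, 907, 915, 917, 930, 1147, 1158, 1166, 1168, 1181, 1368, 1379, 1387, 1389, 1402, 1450, 1454, 1465, 1473, 1475, 1488],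
   [895, 940, 943, 986, 1029, 1082, 1122, 1125, 1173, 1221, 1267, 1310, 1313, 1361, 1409, 1422, 1425, 1462, 1465, 1513, 1561],
   [920, 952, 999, 1012, 1029, 1091, 1104, 1121, 1175, 1201, 1238, 1286, 1317, 1337, 1371, 1386, 1430, 1445, 1477, 1496, 1581],
   [901, 950, 959, 1008, 1057, 1234, 1238, 1242, 1243, 1284, 1288, 1292, 1293, 1341, 1345, 1349, 1350, 1398, 1402, 1406, 1407]]

/-- Masks, part 20. -/
noncomputable def masks20 : List ℕ :=
  [0x100010000000004000000000000100100010000000008000000001000004000000020002000000000000040000002000000000000100020000000000800000100000200000002000000400000080000000000000000000000000000000000000000000000000000000000000000000000000000000000000000000000000000000000000000000000000000000000000000000000000000000000000000000000000000000000000000000000000000000000000000000000000000000000000000,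
   0x400000000000002000000000000010000000000004002000000000000010000000000000080000000000020010800000000000084000000000000420000000000108400000000000200000000000104000000000000400000000000000000000000000000000000000000000000000000000000000000000000000000000000000000000000000000000000000000000000000000000000000000000000000000000000000000000000000000000000000000000000000000000000000000000000000000000,
   0xa000000000000000204000000000000080000000040000000000040000000000000010000200000040000020001000040000000400000000004000000008000000000002000001000000004800001000000000000000000000000000000000000000000000000000000000000000000000000000000000000000000000000000000000000000000000000000000000000000000000000000000000000000000000000000000000000000000000000000000000000000000000000000000000000000000,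
   0x400000008000000000000200000800000000004000000000040000000000008000400000004000010000008000000004000001000000100000000001000200000000000000080010000000008000020000000200000000000000000000000000000000000000000000000000000000000000000000000000000000000000000000000000000000000000000000000000000000000000000000000000000000000000000000000000000000000000000000000000000000000000000000000000000000000000,
   0x4000000000004000001000000000000100004000100002000000004000040000000000400020000000200000000800000000000020000400000000000040000000000002040000000020000020000001000000000000000000000000000000000000000000000000000000000000000000000000000000000000000000000000000000000000000000000000000000000000000000000000000000000000000000000000000000000000000000000000000000000000000000000000000000000000000,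
   0x2000000000002000000000002000000000008000000010000000000010000000000010000000000040000000080000000200080000000400080000000800200000009000000000040000000001000000010004000000000000000000000000000000000000000000000000000000000000000000000000000000000000000000000000000000000000000000000000000000000000000000000000000000000000000000000000000000000000000000000000000000000000000000000000000000000000000,
   0x100020800022000410000408001040001040084000040000000000000000000000000000000000000000000000000000000000000000000000000000000000000000801080000800000000000000000000000010000000000000000000000000000000000000000000000000000000000000000000000000000000000000000000000000000000000000000000000000000000000000000000000000000000000000000000000000000000000000000000000000000000000000000000000000000000000000,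
   0x40008200008100020800020400082000084008400004000000000000000000008010800008000010000000000000000000000000000000000000000000000000000000000000000000000000000000000000000000000000000000000000000000000000000000000000000000000000000000000000000000000000000000000000000000000000000000000000000000000000000000000000,
   0x800000000000800000000000c000000000c000800000000000800000000000c0000000000200000000000800000000000800000000000c0000000001000000000000080000000001000000000030000000000020000000000000000000000000000000000000000000000000000000000000000000000000000000000000000000000000000000000000000000000000000000000000000000000000000000000000000000000000000000000000000000000000000000000000000000000000000000,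
   0x10000020010000000001000000000200001000000000000800008000000000000001000080000000100000020000000000004000080000002000000800000001000020000000000100000000000400000020000000000000000000000000000000000000000000000000000000000000000000000000000000000000000000000000000000000000000000000000000000000000000000000000000000000000000000000000000000000000000000000000000000000000000000000000000000000000,
   0x108000000000000000010080000010000000000008000000404000000000000004010400000000000020000000000000002000080000000000000202000081000000000000001000080000000000000040000000000000000000000000000000000000000000000000000000000000000000000000000000000000000000000000000000000000000000000000000000000000000000000000000000000000000000000000000000000000000000000000000000000000000000000000000000000,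
   0x400000000000000840000000020000010000000040000000000100000000000000008002000000020000004000800080000000000040000000200000400000000000080000100100000020000000080000000000000000000000000000000000000000000000000000000000000000000000000000000000000000000000000000000000000000000000000000000000000000000000000000000000000000000000000000000000000000000000000000000000000000000000000000000000000000,
   0x40008001401400000000010002000500400000000000000000000000000000000000000000000800100028020000000000000000000000000000000000000000000000000001000200050040000000000000000000000000000000000000000000000000000000000000000000000000000000000000000000000000000000000000000000000000000000000000000000000000000000000000000000000000000000000000000000000000000000000000000000000000000000,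
   0x400002000000000000010000000000000004000000000900004800000000000024000000000000009000000200001000000000000008000000000000002000000002400008000000000004000000000000000080000000000000000000000000000000000000000000000000000000000000000000000000000000000000000000000000000000000000000000000000000000000000000000000000000000000000000000000000000000000000000000000000000000000000000000000000000000,
   0x1002000080000000000000800200020000000000002002000040000000000000000020100000000000008000000000000002004000020000000000000100020000000000002000400020000000000002000000000000000000000000000000000000000000000000000000000000000000000000000000000000000000000000000000000000000000000000000000000000000000000000000000000000000000000000000000000000000000000000000000000000000000000000000000000000,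
   0x1000000000800000001000000009000000002000100000000500000000000000001000000000002000000008080000000000022000000000000020000000000100000010000000000000080400000001000000000000000000000000000000000000000000000000000000000000000000000000000000000000000000000000000000000000000000000000000000000000000000000000000000000000000000000000000000000000000000000000000000000000000000000000000000000000,
   0x4000000000010000000800000000001000002000080000400000008000000000004000021000000000040000000000000000000080004000002000000008000000000080004000800000000100000000080000000000000000000000000000000000000000000000000000000000000000000000000000000000000000000000000000000000000000000000000000000000000000000000000000000000000000000000000000000000000000000000000000000000000000000000000000000000000,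
   0x200000000000280000000040000000000140002000000000002800000000400000000000040000000000020000000000028000000004000000000002000000000000020000000000500000001000000000000040000000000000000000000000000000000000000000000000000000000000000000000000000000000000000000000000000000000000000000000000000000000000000000000000000000000000000000000000000000000000000000000000000000000000000000000000000000,
   0x4000020000000000000100000000000000040000000028000140000000000000a000000000000002800000008000040000000000000200000000000000080000004400010000000000008000000000000000100000000000000000000000000000000000000000000000000000000000000000000000000000000000000000000000000000000000000000000000000000000000000000000000000000000000000000000000000000000000000000000000000000000000000000000000000000000,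
   0x40000000008000000000008000000000020000000000200002000040000100000040000200000100000800008000000001000000000001000000000004000000000800001000800000000020000000000004000000000000000000000000000000000000000000000000000000000000000000000000000000000000000000000000000000000000000000000000000000000000000000000000000000000000000000000000000000000000000000000000000000000000000000000000000000000000,
   0x50000000008000000000008000000000140000500000000080000000000080000000000040000000000005000000000800000000000800000000002000000000000005000000010000000000200000000000040000000000000000000000000000000000000000000000000000000000000000000000000000000000000000000000000000000000000000000000000000000000000000000000000000000000000000000000000000000000000000000000000000000000000000000000000000000,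
   0x4000000000008000002000000200000000001000000000200000020000100000004000011000000000020000000000000000000080002000000002000020000004000200002000000000000100000000040000000000000000000000000000000000000000000000000000000000000000000000000000000000000000000000000000000000000000000000000000000000000000000000000000000000000000000000000000000000000000000000000000000000000000000000000000000000000,
   0x200000000000000820000000000000040800000040000000000080000000000002020000000000010000002000000200000001000040000000100000400000800000200000000080000020000000040000000000000000000000000000000000000000000000000000000000000000000000000000000000000000000000000000000000000000000000000000000000000000000000000000000000000000000000000000000000000000000000000000000000000000000000000000000000000000,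
   0x2000000000000000100000100000080000000002000400000000000400000080000040004000000002000000000000002200000000000000004000000008200000001010000000020000000000000080800000000000000000000000000000000000000000000000000000000000000000000000000000000000000000000000000000000000000000000000000000000000000000000000000000000000000000000000000000000000000000000000000000000000000000000000000000000000000000,
   0x800000000000000200000000000000100000000804000000000808000000000080080004000000000100000000000000004000000080000028000000001000000000002000000009000000000000000020000001000000000000000000000000000000000000000000000000000000000000000000000000000000000000000000000000000000000000000000000000000000000000000000000000000000000000000000000000000000000000000000000000000000000000000000000000000000000000,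
   0x50000000000000280000000000001400000000000510000000000000080000000000000400000000000100020000000000000100000000000000800000000000200040000000000020000000000014000000000000040000000000000000000000000000000000000000000000000000000000000000000000000000000000000000000000000000000000000000000000000000000000000000000000000000000000000000000000000000000000000000000000000000000000000000000000000000000,
   0x800000010000000020004000000010000000000000400000080004000000001000000400000000080000000000008000000100000000000000000000082000400000000001000000000020001000800000000100000000000000000000000000000000000000000000000000000000000000000000000000000000000000000000000000000000000000000000000000000000000000000000000000000000000000000000000000000000000000000000000000000000000000000000000000000000000000,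
   0x100000000000080000000400001000200000004000000000000001080000000040000000100000000100000000200000000000000010000010000000020000000200001001000000200000000000000800080000000000000000000000000000000000000000000000000000000000000000000000000000000000000000000000000000000000000000000000000000000000000000000000000000000000000000000000000000000000000000000000000000000000000000000000000000000000000000,
   0x1000a02004400000000000400280801000000000000000000000000000000000000000000000020014040080000000000000000000000000000000000000000000000000000040028080100000000000000000000000000000000000000000000000000000000000000000000000000000000000000000000000000000000000000000000000000000000000000000000000000000000000000000000000000000000000000000000000000000000000000000000000000000000,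
   0x2000000000002000000000002400000000240020000000000020000000000024000000000080000000000200000000000200000000000240000000004000000000000200000000004000000000090000000000080000000000000000000000000000000000000000000000000000000000000000000000000000000000000000000000000000000000000000000000000000000000000000000000000000000000000000000000000000000000000000000000000000000000000000000000000000000,
   0x200000000000000000000100002000000020004000000000040008000000020000200000004000000000004000000002000000800000000000020001000800000000000000200010008000000000010000000100000000000000000000000000000000000000000000000000000000000000000000000000000000000000000000000000000000000000000000000000000000000000000000000000000000000000000000000000000000000000000000000000000000000000000000000000000000000000,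
   0xc4400000000000622000000000003110000000000c4400000000000000000000000000000000000000000002000000000001000000000000804000000000002000000000000000000000000000000000000000000000000000000000000000000000000000000000000000000000000000000000000000000000000000000000000000000000000000000000000000000000000000000000000000000000000000000000000000000000000000000000]

/-- Neighbours, part 21. -/
noncomputable def nbs21 : List (List ℕ) :=
  [[915, 940, 964, 1006, 1048, 1234, 1249, 1256, 1266, 1278, 1289, 1299, 1312, 1325, 1337, 1347, 1360, 1372, 1385, 1395, 1408],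
   [901, 977, 990, 999, 1048, 1410, 1414, 1418, 1419, 1484, 1488, 1492, 1493, 1505, 1509, 1513, 1514, 1562, 1566, 1570, 1571],
   [929, 961, 998, 1006, 1026, 1073, 1102, 1133, 1184, 1219, 1244, 1290, 1346, 1369, 1398, 1431, 1437, 1495, 1496, 1531, 1554],
   [922, 941, 998, 1037, 1050, 1068, 1084, 1120, 1183, 1203, 1247, 1286, 1319, 1328, 1345, 1370, 1444, 1467, 1485, 1498, 1571],
   [936, 956, 981, 1039, 1042, 1083, 1100, 1164, 1166, 1228, 1247, 1281, 1313, 1331, 1348, 1372, 1418, 1445, 1481, 1529, 1554],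
   [923, 971, 985, 1034, 1055, 1075, 1094, 1124, 1164, 1189, 1239, 1290, 1310, 1328, 1341, 1408, 1424, 1458, 1473, 1532, 1570],
   [903, 938, 951, 961, 971, 1077, 1104, 1114, 1127, 1140, 1255, 1282, 1293, 1306, 1319, 1412, 1427, 1454, 1463, 1476, 1489],
   [929, 946, 1001, 1038, 1046, 1068, 1103, 1132, 1159, 1215, 1255, 1261, 1288, 1364, 1365, 1400, 1425, 1481, 1499, 1530, 1581],
   [897, 978, 981, 985, 989, 1084, 1165, 1168, 1172, 1176, 1269, 1353, 1356, 1360, 1364, 1422, 1427, 1505, 1508, 1512, 1516],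
   [903, 978, 991, 1001, 1011, 1060, 1075, 1147, 1156, 1169, 1182, 1253, 1325, 1335, 1348, 1361, 1431, 1503, 1514, 1527, 1540],
   [936, 951, 986, 1013, 1043, 1076, 1105, 1137, 1174, 1190, 1237, 1286, 1303, 1353, 1385, 1387, 1431, 1434, 1458, 1509, 1580],
   [935, 957, 963, 993, 1025, 1076, 1084, 1099, 1181, 1221, 1239, 1294, 1331, 1347, 1373, 1398, 1433, 1492, 1503, 1530, 1553],
   [913, 942, 957, 1009, 1045, 1081, 1097, 1122, 1140, 1151, 1201, 1240, 1284, 1346, 1387, 1408, 1444, 1481, 1500, 1512, 1543],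
   [917, 971, 988, 1036, 1057, 1072, 1102, 1121, 1183, 1221, 1253, 1272, 1303, 1334, 1365, 1388, 1418, 1469, 1500, 1517, 1578],
   [895, 971, 990, 993, 1042, 1060, 1063, 1134, 1137, 1155, 1158, 1212, 1215, 1242, 1316, 1337, 1394, 1421, 1495, 1516, 1573],
   [901, 914, 918, 922, 923, 1152, 1165, 1169, 1173, 1174, 1373, 1386, 1390, 1394, 1395, 1450, 1459, 1472, 1476, 1480, 1481],
   [931, 945, 977, 1000, 1038, 1072, 1084, 1131, 1147, 1228, 1243, 1308, 1337, 1375, 1390, 1437, 1463, 1502, 1539, 1543, 1576],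
   [901, 938, 942, 946, 947, 1088, 1120, 1124, 1128, 1129, 1273, 1308, 1312, 1316, 1317, 1422, 1431, 1460, 1464, 1468, 1469],
   [915, 966, 1008, 1020, 1044, 1058, 1073, 1080, 1090, 1104, 1116, 1126, 1139, 1151, 1164, 1174, 1187, 1192, 1203, 1213, 1226],
   [902, 952, 993, 1019, 1031, 1078, 1118, 1164, 1197, 1207, 1236, 1250, 1288, 1334, 1369, 1377, 1428, 1467, 1513, 1547, 1556],
   [920, 942, 998, 1013, 1051, 1079, 1092, 1116, 1144, 1220, 1245, 1281, 1296, 1360, 1377, 1424, 1462, 1493, 1522, 1546, 1563],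
   [902, 956, 998, 1020, 1034, 1072, 1115, 1163, 1202, 1249, 1292, 1340, 1379, 1411, 1423, 1457, 1466, 1504, 1514, 1545, 1553],
   [915, 978, 993, 1000, 1010, 1086, 1149, 1161, 1171, 1184, 1264, 1327, 1340, 1350, 1363, 1412, 1436, 1499, 1510, 1520, 1533],
   [928, 978, 996, 1007, 1012, 1059, 1077, 1088, 1093, 1144, 1159, 1174, 1180, 1321, 1336, 1351, 1357, 1498, 1513, 1528, 1534],
   [920, 958, 973, 1011, 1022, 1072, 1125, 1149, 1166, 1200, 1231, 1255, 1268, 1275, 1351, 1382, 1421, 1491, 1508, 1547, 1562],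
   [925, 942, 966, 991, 1054, 1074, 1141, 1148, 1172, 1191, 1255, 1266, 1292, 1310, 1327, 1389, 1416, 1472, 1534, 1560, 1575],
   [929, 958, 966, 986, 1041, 1079, 1085, 1099, 1134, 1157, 1233, 1249, 1315, 1350, 1368, 1399, 1420, 1477, 1500, 1529, 1556],
   [926, 976, 980, 1012, 1054, 1090, 1142, 1181, 1229, 1267, 1319, 1358, 1406, 1411, 1441, 1459, 1493, 1500, 1532, 1547, 1580],
   [917, 952, 997, 1016, 1026, 1076, 1097, 1131, 1144, 1167, 1226, 1267, 1278, 1297, 1348, 1383, 1420, 1490, 1510, 1545, 1562],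
   [919, 976, 985, 1008, 1031, 1076, 1101, 1122, 1180, 1195, 1220, 1251, 1266, 1302, 1340, 1368, 1419, 1464, 1485, 1517, 1582],
   [897, 973, 990, 995, 1044, 1234, 1237, 1241, 1245, 1308, 1311, 1315, 1319, 1329, 1332, 1336, 1340, 1386, 1389, 1393, 1397],
   [929, 948, 999, 1005, 1033, 1078, 1086, 1125, 1144, 1179, 1229, 1242, 1279, 1308, 1333, 1395, 1433, 1466, 1540, 1544, 1575]]

/-- Masks, part 21. -/
noncomputable def masks21 : List ℕ :=
  [0x10008020010010008020020010008020040040102000400000000000000000000000000000000000000000000010000000000400000000010000010000008000000000000000000000000000000000000000000000000000000000000000000000000000000000000000000000000000000000000000000000000000000000000000000000000000000000000000000000000000000000000000000000000000000000000000000000000000000000000,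
   0xc4400000000000622003110000000000000000c440000000000000000000000000000000000000000000000000000000000000000000000000000000000000000010000000000008040020000000000000000002000000000000000000000000000000000000000000000000000000000000000000000000000000000000000000000000000000000000000000000000000000000000000000000000000000000000000000000000000000000000000000000000000000000000000000000000000000000,
   0x40000080000000180000000000000208000000040000002000004000000000000040000000000100000080000000100000000000020000000400000020000000000040000404000000002000000020000000000000000000000000000000000000000000000000000000000000000000000000000000000000000000000000000000000000000000000000000000000000000000000000000000000000000000000000000000000000000000000000000000000000000000000000000000000000000,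
   0x800000000000000000400200008000010000000000000000004000002000100800000004000000000800000000008000080000000000000010000000010001000040020000000004000000000000020000400000000000000000000000000000000000000000000000000000000000000000000000000000000000000000000000000000000000000000000000000000000000000000000000000000000000000000000000000000000000000000000000000000000000000000000000000000000000000,
   0x40000020000000000020000000020000004000000000010000010000800020000000200000000800010000000000000005000000000000000100008000000000480000000000000200000100001000000000000000000000000000000000000000000000000000000000000000000000000000000000000000000000000000000000000000000000000000000000000000000000000000000000000000000000000000000000000000000000000000000000000000000000000000000000000000000,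
   0x400000000100000000000000200040000000100010000000000000000200100004000040000000000008000000000002000001000000000100000004000080000800004000000000002000800000000000800000000000000000000000000000000000000000000000000000000000000000000000000000000000000000000000000000000000000000000000000000000000000000000000000000000000000000000000000000000000000000000000000000000000000000000000000000000000000,
   0x2001000804000000800100000000000000000000000800400200400000080000000000000000000000000001000800401000000200000000000000000000000000802008004000000008000000000000000000000000000000000000000000000000000000000000000000000000000000000000000000000000000000000000000000000000000000000000000000000000000000000000000000000000000000000000000000000000000000000000000000000000000000000,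
   0x200000000000040000000800020000000000000200000100000000300000000000000000010000002080000000008000000000000080000010000000800000001000004040000000020000000000000400020000000000000000000000000000000000000000000000000000000000000000000000000000000000000000000000000000000000000000000000000000000000000000000000000000000000000000000000000000000000000000000000000000000000000000000000000000000000000000,
   0x11120000000000000000000840000000000000111200000000000000000000200000000000000000000001112000000000000000000010000000000000000000000022240000000000000000000200000000000000000000000000000000000000000000000000000000000000000000000000000000000000000000000000000000000000000000000000000000000000000000000000000000000000000000000000000000000000000000000000000000000000000000000000000000,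
   0x10008004008000000000000000008000000000000000020010008020000000000000000020000000000000000040020010080000000000000000080010000000000008020080040000000000000000008000000000000000000000000000000000000000000000000000000000000000000000000000000000000000000000000000000000000000000000000000000000000000000000000000000000000000000000000000000000000000000000000000000000000000000000000000000000,
   0x1000000000000000002000000000000400000480000000000a0000000200000000000080004000000000002000000000004000400000000200000002000000100000000800000020000004000000008001000000000000000000000000000000000000000000000000000000000000000000000000000000000000000000000000000000000000000000000000000000000000000000000000000000000000000000000000000000000000000000000000000000000000000000000000000000000000000000,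
   0x20000040000008010000000000000020000000040000020000008000800000000400000000000008000200000000020000000000000000000080010100000000000020000000200000008200000800000000000000000000000000000000000000000000000000000000000000000000000000000000000000000000000000000000000000000000000000000000000000000000000000000000000000000000000000000000000000000000000000000000000000000000000000000000000000000,
   0x80000001001000020000000010000000010000080000000004000000000000001000000000010000000002000000000000801000040000020002000000002000000002000000000000200040000002000000000000000000000000000000000000000000000000000000000000000000000000000000000000000000000000000000000000000000000000000000000000000000000000000000000000000000000000000000000000000000000000000000000000000000000000000000000000,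
   0x40000000000000020001000000020000000000004000000100000200000004000000080000001000020000000200000000080000000000000020000400000010002000010000000000010000800000000000020000000000000000000000000000000000000000000000000000000000000000000000000000000000000000000000000000000000000000000000000000000000000000000000000000000000000000000000000000000000000000000000000000000000000000000000000000000000000,
   0x2000000000000010000080000000000000000020000004000000000000020000100000000000000000040000009000000000000048000240000000000000000090000400000000000240000800000000000000000080000000000000000000000000000000000000000000000000000000000000000000000000000000000000000000000000000000000000000000000000000000000000000000000000000000000000000000000000000000000000000000000000000000000000000000000000000000,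
   0x3110008040000000000000c440020000000000000000000000000000000000000000000000000622001000000000000000000000000000000000000000000000000000000000c44002000000000000000000000000000000000000000000000000000000000000000000000000000000000000000000000000000000000000000000000000000000000000000000000000000000000000000000000000000000000000000000000000000000000000000000000000000000000,
   0x10000000088000000004000000000800000200000000000400080000000020000001000000000000000080010000000000000000000080008000000000010010000000040000000010000020000000200080000000000000000000000000000000000000000000000000000000000000000000000000000000000000000000000000000000000000000000000000000000000000000000000000000000000000000000000000000000000000000000000000000000000000000000000000000000000000000,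
   0x31100000008040000000000000000000000000311000000002000000000000000000000000000000000003110000000100000000000000000000000000000000000c44000000002000000000000000000000000000000000000000000000000000000000000000000000000000000000000000000000000000000000000000000000000000000000000000000000000000000000000000000000000000000000000000000000000000000000000000000000000000000000,
   0x4002008010800401000800800401001000401020004001000001001000000000040000000000008000000000000000000000000000000000000000000000000000000000000000000000000000000000000000000000000000000000000000000000000000000000000000000000000000000000000000000000000000000000000000000000000000000000000000000000000000000000000,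
   0x100800000002000000000008000000001000000000000202000000004000000000010000000004001000000080200000001000000000004000000000400000000000800800000200000000010000000000004000000000000000000000000000000000000000000000000000000000000000000000000000000000000000000000000000000000000000000000000000000000000000000000000000000000000000000000000000000000000000000000000000000000000000000000000000000000,
   0x8000400000400000020000000400000000100000000000200010000000000000001000200000000200000100000000000000000010000001000001000800000080000000020004000000000000040000100000000000000000000000000000000000000000000000000000000000000000000000000000000000000000000000000000000000000000000000000000000000000000000000000000000000000000000000000000000000000000000000000000000000000000000000000000000000000,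
   0x20200000004010000000004020000000080080000000800000000100000000000100000000002000000000004000000000800000000000800000000010000000004001000004000000000100000000000004000000000000000000000000000000000000000000000000000000000000000000000000000000000000000000000000000000000000000000000000000000000000000000000000000000000000000000000000000000000000000000000000000000000000000000000000000000000,
   0x200100400800000000000000100000100000000000080040100080000000000000010000000000000000000100080200200000000000000040000000000000000004010200040000000000000008000000000000000000000000000000000000000000000000000000000000000000000000000000000000000000000000000000000000000000000000000000000000000000000000000000000000000000000000000000000000000000000000000000000000000000000000000000000000,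
   0x410002000400000000000000000000000000000000002080010002000000000000000000000000000000000010400080010000000000002100200008000000000010801000040000000000010000000000000000000000000000000000000000000000000000000000000000000000000000000000000000000000000000000000000000000000000000000000000000000000000000000000000000000000000000000000000000000000000000000000000000000000000000000000000000,
   0x4000800000000100008000000000000000020000000004000000080000000000000000008100080000080000001000000004000200000200000000000010000000000004008000000002000400000000100000000000000000000000000000000000000000000000000000000000000000000000000000000000000000000000000000000000000000000000000000000000000000000000000000000000000000000000000000000000000000000000000000000000000000000000000000000000000,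
   0x8001000000400000000000000100000000000001000000200000000000000080004000100000040080000000000000008000100000102000000000000000040000400000000000000080000040000040002000000000000000000000000000000000000000000000000000000000000000000000000000000000000000000000000000000000000000000000000000000000000000000000000000000000000000000000000000000000000000000000000000000000000000000000000000000000000000,
   0x100000020000001000002000000000000010000080000001000040000000080000000000000002000200000000000000000020000040000000080020800000000200000000000004000040400000020000000000000000000000000000000000000000000000000000000000000000000000000000000000000000000000000000000000000000000000000000000000000000000000000000000000000000000000000000000000000000000000000000000000000000000000000000000000000000,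
   0x100000000800100000001020000000080002000000084000000000004000000000800000000000080000000020000000000020000000004000000000000400000000400000000010000000110000000000004000000000000000000000000000000000000000000000000000000000000000000000000000000000000000000000000000000000000000000000000000000000000000000000000000000000000000000000000000000000000000000000000000000000000000000000000000000000000000,
   0x4000200000000400004000000000000000010000000008000000010000000000002000040080000000004000000000000008000010008000000020000100000000000040100002000000000010000000020000000000000000000000000000000000000000000000000000000000000000000000000000000000000000000000000000000000000000000000000000000000000000000000000000000000000000000000000000000000000000000000000000000000000000000000000000000000000,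
   0x400000000000000020000000200001000000000008000000000001000000100000000040000000040008000000100000080010000000000000040000200000100000000000800001000002010000000000000080000000000000000000000000000000000000000000000000000000000000000000000000000000000000000000000000000000000000000000000000000000000000000000000000000000000000000000000000000000000000000000000000000000000000000000000000000000000000,
   0x22240000000000111200889000000000000000222400000000000000000000000000000000000000000000001000000000000840002000000000000000000200000000000000000000000000000000000000000000000000000000000000000000000000000000000000000000000000000000000000000000000000000000000000000000000000000000000000000000000000000000000000000000000000000000000000000000000000000000,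
   0x8000000110000000000000000004000000020000000008000000000000002000001000000080000000040020000000000008000000010000200000000040400000000002000000208000000000001000020000000000000000000000000000000000000000000000000000000000000000000000000000000000000000000000000000000000000000000000000000000000000000000000000000000000000000000000000000000000000000000000000000000000000000000000000000000000000000]

/-- Neighbours, part 22. -/
noncomputable def nbs22 : List (List ℕ) :=
  [[907, 967, 985, 999, 1049, 1081, 1093, 1114, 1188, 1192, 1243, 1297, 1312, 1329, 1394, 1446, 1453, 1462, 1520, 1547, 1560],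
   [904, 939, 955, 966, 977, 1234, 1250, 1261, 1272, 1275, 1287, 1302, 1317, 1321, 1333, 1348, 1363, 1367, 1379, 1394, 1409],
   [925, 959, 970, 984, 1034, 1062, 1086, 1116, 1134, 1165, 1231, 1247, 1282, 1358, 1369, 1393, 1446, 1475, 1515, 1530, 1543],
   [902, 939, 951, 992, 1033, 1060, 1074, 1103, 1111, 1157, 1203, 1252, 1281, 1290, 1336, 1382, 1430, 1459, 1469, 1515, 1561],
   [928, 938, 956, 967, 972, 1101, 1116, 1131, 1137, 1235, 1253, 1264, 1269, 1275, 1290, 1305, 1311, 1452, 1467, 1482, 1488],
   [902, 940, 954, 996, 1038, 1073, 1113, 1161, 1209, 1235, 1247, 1279, 1287, 1326, 1335, 1373, 1383, 1424, 1464, 1512, 1560],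
   [922, 948, 964, 991, 1052, 1077, 1090, 1113, 1149, 1219, 1237, 1296, 1331, 1364, 1381, 1399, 1430, 1490, 1504, 1521, 1543],
   [903, 959, 980, 995, 1037, 1410, 1423, 1433, 1443, 1458, 1469, 1482, 1495, 1499, 1508, 1521, 1534, 1546, 1556, 1569, 1582],
   [903, 940, 955, 997, 1039, 1058, 1071, 1081, 1091, 1102, 1111, 1124, 1137, 1149, 1159, 1172, 1185, 1196, 1207, 1220, 1233],
   [926, 970, 1011, 1019, 1049, 1094, 1139, 1185, 1195, 1228, 1272, 1318, 1364, 1373, 1407, 1412, 1444, 1488, 1534, 1545, 1577],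
   [922, 957, 970, 981, 1038, 1071, 1104, 1155, 1188, 1197, 1214, 1268, 1305, 1336, 1354, 1367, 1420, 1436, 1465, 1517, 1580],
   [904, 938, 954, 965, 976, 1059, 1075, 1086, 1097, 1099, 1111, 1126, 1141, 1276, 1288, 1303, 1318, 1453, 1465, 1480, 1495],
   [894, 961, 1010, 1030, 1032, 1060, 1062, 1122, 1124, 1179, 1181, 1200, 1202, 1241, 1303, 1360, 1381, 1420, 1482, 1539, 1560],
   [917, 957, 976, 986, 1032, 1068, 1113, 1148, 1165, 1228, 1252, 1273, 1275, 1298, 1357, 1397, 1443, 1479, 1514, 1544, 1563],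
   [912, 965, 981, 1048, 1051, 1080, 1105, 1113, 1167, 1184, 1196, 1242, 1251, 1317, 1329, 1390, 1444, 1452, 1528, 1530, 1556],
   [919, 951, 1016, 1025, 1048, 1075, 1090, 1102, 1171, 1209, 1243, 1316, 1333, 1354, 1386, 1428, 1457, 1482, 1498, 1519, 1577],
   [913, 961, 977, 984, 1052, 1085, 1111, 1166, 1187, 1191, 1238, 1253, 1298, 1316, 1329, 1395, 1441, 1458, 1522, 1545, 1557],
   [894, 970, 990, 992, 1041, 1068, 1142, 1163, 1220, 1236, 1238, 1310, 1312, 1331, 1333, 1388, 1390, 1417, 1491, 1512, 1569],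
   [898, 945, 986, 1019, 1024, 1094, 1139, 1185, 1223, 1228, 1246, 1252, 1291, 1337, 1375, 1380, 1437, 1479, 1525, 1563, 1568],
   [901, 968, 1017, 1030, 1039, 1058, 1062, 1066, 1067, 1120, 1124, 1128, 1129, 1177, 1181, 1185, 1186, 1198, 1202, 1206, 1207],
   [933, 954, 987, 1037, 1042, 1063, 1097, 1126, 1177, 1208, 1212, 1263, 1276, 1337, 1342, 1401, 1423, 1455, 1495, 1521, 1546],
   [901, 914, 918, 922, 923, 1197, 1210, 1214, 1218, 1219, 1274, 1283, 1296, 1300, 1304, 1305, 1504, 1517, 1521, 1525, 1526],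
   [898, 974, 990, 996, 1045, 1066, 1140, 1161, 1218, 1235, 1240, 1309, 1314, 1330, 1335, 1387, 1392, 1417, 1491, 1512, 1569],
   [928, 1018, 1036, 1047, 1052, 1191, 1206, 1221, 1227, 1235, 1253, 1264, 1269, 1365, 1380, 1395, 1401, 1542, 1557, 1572, 1578],
   [933, 951, 983, 1017, 1047, 1074, 1103, 1143, 1171, 1190, 1243, 1300, 1353, 1382, 1387, 1429, 1434, 1456, 1515, 1519, 1577],
   [900, 912, 925, 927, 935, 1196, 1208, 1221, 1223, 1231, 1274, 1282, 1294, 1307, 1309, 1317, 1503, 1515, 1528, 1530, 1538],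
   [932, 954, 968, 989, 1041, 1073, 1142, 1168, 1194, 1223, 1238, 1304, 1326, 1353, 1383, 1388, 1427, 1439, 1451, 1512, 1579],
   [913, 972, 1001, 1017, 1024, 1085, 1101, 1156, 1211, 1232, 1238, 1253, 1305, 1343, 1361, 1374, 1441, 1455, 1467, 1503, 1567],
   [919, 951, 1016, 1025, 1048, 1067, 1140, 1157, 1178, 1210, 1252, 1281, 1306, 1322, 1343, 1401, 1427, 1442, 1454, 1523, 1561],
   [932, 949, 1001, 1034, 1048, 1062, 1105, 1132, 1162, 1167, 1218, 1251, 1263, 1291, 1358, 1365, 1425, 1475, 1501, 1530, 1584],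
   [927, 1018, 1032, 1042, 1049, 1095, 1194, 1205, 1218, 1228, 1273, 1372, 1384, 1397, 1407, 1412, 1445, 1544, 1554, 1567, 1577],
   [923, 955, 974, 983, 1032, 1091, 1124, 1159, 1179, 1196, 1211, 1241, 1295, 1328, 1341, 1401, 1426, 1447, 1451, 1539, 1570]]

/-- Masks, part 22. -/
noncomputable def masks22 : List ℕ :=
  [0x1000800000100000000000000402040000000000004000000000000000200010002000000000000080000000000011000000000000000000400002002000000020000000000008002000080000000000000080000000000000000000000000000000000000000000000000000000000000000000000000000000000000000000000000000000000000000000000000000000000000000000000000000000000000000000000000000000000000000000000000000000000000000000000000000000000,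
   0x20004000800880010002002200040008009002004000400000000000000000000000000000000000000000000000000000000000000020040080008000000010000000000000000000000000000000000000000000000000000000000000000000000000000000000000000000000000000000000000000000000000000000000000000000000000000000000000000000000000000000000000000000000000000000000000000000000000000000000,
   0x80040008000000000800000040000000000002000002004000000000000000000400000000800080000000000000002000000040001000000040000040000004000000000001000400800000002000000000000000000000000000000000000000000000000000000000000000000000000000000000000000000000000000000000000000000000000000000000000000000000000000000000000000000000000000000000000000000000000000000000000000000000000000000000000000,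
   0x2000000000008000000000020080000004000000000004000000000010000000000040200000010000000000008000000000020000000000080800000040010000002000000000100000000008008000000004000000000000000000000000000000000000000000000000000000000000000000000000000000000000000000000000000000000000000000000000000000000000000000000000000000000000000000000000000000000000000000000000000000000000000000000000000000000,
   0x1040008001000000000000000000000000000000000008200040008210020000800000000000000000000000208001000200000000000000000000000000000001080100004010000000000000000000000000000000000000000000000000000000000000000000000000000000000000000000000000000000000000000000000000000000000000000000000000000000000000000000000000000000000000000000000000000000000000000000000000000000000000000,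
   0x1000000000001000000000001000000000100000000008020000000008040000000008080000000800800000200000000000200000000000200000000020000000040000000001000000000040010000000004000000000000000000000000000000000000000000000000000000000000000000000000000000000000000000000000000000000000000000000000000000000000000000000000000000000000000000000000000000000000000000000000000000000000000000000000000000000,
   0x80000200010004000000000000004000000080002000100000000800000001000000000000002000080000000000000000200000000200000400200000100000000000000080000010001000000400000000000000000000000000000000000000000000000000000000000000000000000000000000000000000000000000000000000000000000000000000000000000000000000000000000000000000000000000000000000000000000000000000000000000000000000000000000000000,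
   0x400200100400400200100880040020040008020080040000000000000000000000000000000000000000000000000000000000000000000000000000000000000000000020000000000800100000800000000000008000000000000000000000000000000000000000000000000000000000000000000000000000000000000000000000000000000000000000000000000000000000000000000000000000000000000000000000000000000000000000000000000000000000000000000000000000000000,
   0x200100080100200100080200200100080400802008004000080000000002000000000080010000000008000000000000000000000000000000000000000000000000000000000000000000000000000000000000000000000000000000000000000000000000000000000000000000000000000000000000000000000000000000000000000000000000000000000000000000000000000000000,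
   0x20000000200400000000001000000000010000000108000000020100000000000400000000001000000000010000000080200000000000800000000004000000000020000000808000000000400000000004000000000000000000000000000000000000000000000000000000000000000000000000000000000000000000000000000000000000000000000000000000000000000000000000000000000000000000000000000000000000000000000000000000000000000000000000000000000000000,
   0x100000000000000020000000000002000000100010000000000000800400010000000200000000100000000000004000201000000008000000000001000000008000000040000000000000200400200000000400000000000000000000000000000000000000000000000000000000000000000000000000000000000000000000000000000000000000000000000000000000000000000000000000000000000000000000000000000000000000000000000000000000000000000000000000000000000000,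
   0x800100020020000000000000000000000000000000004000800100100000000000000000000000000000000020004000800a0040080008000000000000000000010020040004000000010000000000000000000000000000000000000000000000000000000000000000000000000000000000000000000000000000000000000000000000000000000000000000000000000000000000000000000000000000000000000000000000000000000000000000000000000000000000,
   0x1000008000000000000040000000000000010000000002000010000000000000080000000000000020000000005000028000000000000140000000000000050000001400004000000000002000000000000000040000000000000000000000000000000000000000000000000000000000000000000000000000000000000000000000000000000000000000000000000000000000000000000000000000000000000000000000000000000000000000000000000000000000000000000000000000000,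
   0x800010000000400000000800000000800000000002000000000200000000000000400000a000010000010000000000000002000100000000200000000001000000001000000000004010000200000000020000000000000000000000000000000000000000000000000000000000000000000000000000000000000000000000000000000000000000000000000000000000000000000000000000000000000000000000000000000000000000000000000000000000000000000000000000000000000,
   0x100000050000000000000000001010000000000000400000000000000200200000000000000008040000000000100100008000000000000202000001000000090000000000000000200020000000000001000000000000000000000000000000000000000000000000000000000000000000000000000000000000000000000000000000000000000000000000000000000000000000000000000000000000000000000000000000000000000000000000000000000000000000000000000000000000,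
   0x20000000000000080000400040000020000001000000000040000000400002000100000000000000000080000000200000000080000000000000000400400080000010000020100000000000000008000000080000000000000000000000000000000000000000000000000000000000000000000000000000000000000000000000000000000000000000000000000000000000000000000000000000000000000000000000000000000000000000000000000000000000000000000000000000000000000,
   0x200200000400000000000000040002000000000008000000000000000200100004000000000020004000000000008800004000000000000080000020000000100000000000000001020002000000000002000000000000000000000000000000000000000000000000000000000000000000000000000000000000000000000000000000000000000000000000000000000000000000000000000000000000000000000000000000000000000000000000000000000000000000000000000000000000,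
   0x200000000000001000008000000000000000002000000500000000000002800014000000000000000005000100000000000000800004000000000000000001000000200000000000140000400000000000000000040000000000000000000000000000000000000000000000000000000000000000000000000000000000000000000000000000000000000000000000000000000000000000000000000000000000000000000000000000000000000000000000000000000000000000000000000000000,
   0x108000000002000000000008000000000200000000000001080000000020000000000080000000010400010800000000200000000000800000000004000000000000000010800000004000000000200000000000400000000000000000000000000000000000000000000000000000000000000000000000000000000000000000000000000000000000000000000000000000000000000000000000000000000000000000000000000000000000000000000000000000000000000000000000000000000,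
   0xc4400622000000000003110000000000000c44000080400200000000000100000000000000002000000000000000000000000000000000000000000000000000000000000000000000000000000000000000000000000000000000000000000000000000000000000000000000000000000000000000000000000000000000000000000000000000000000000000000000000000000000,
   0x400000200000080000000008000000080000200000000000000420000000000000010008000000000001100000002000000000000400000020000000080000420000000000008000000040000200000000000000000000000000000000000000000000000000000000000000000000000000000000000000000000000000000000000000000000000000000000000000000000000000000000000000000000000000000000000000000000000000000000000000000000000000000000000000000,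
   0x62200100000000000000000000000000000000000000000000000003110008040000000000000c4400200000000000000000000000000000000000000000000000000000000000000000000c44002000000000000000000000000000000000000000000000000000000000000000000000000000000000000000000000000000000000000000000000000000000000000000000000000000000000000000000000000000000000000000000000000000000000000000000000000000000000,
   0x200000000000001000008000000000000000002000001080000000000008400042000000000000000010800040000000000000200001000000000000000000400002000000000001040004000000000000000000400000000000000000000000000000000000000000000000000000000000000000000000000000000000000000000000000000000000000000000000000000000000000000000000000000000000000000000000000000000000000000000000000000000000000000000000000000000,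
   0x41000200040000000000000000000000000000000000208001000200000000000000000000000210020000808200040008000000000000000000000000000000000108010000400000000000000000000010000000000000000000000000000000000000000000000000000000000000000000000000000000000000000000000000000000000000000000000000000000000000000000000000000000000000000000000000000000000000000000000000000000000000000000000000000000000000000,
   0x20000000000000088000000000000010000042000000000084000000200000000000010000000000000080000000000004000080000008000000000800000040000008000000200000000800000008000200000000000000000000000000000000000000000000000000000000000000000000000000000000000000000000000000000000000000000000000000000000000000000000000000000000000000000000000000000000000000000000000000000000000000000000000000000000000000000,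
   0x4050008008000000000000000000000000000000000000000000000202800400404000000000080a0010010000000000000000000000000000000000000000000000000000000000000000080a001001000000000000000000000000000000000000000000000000000000000000000000000000000000000000000000000000000000000000000000000000000000000000000000000000000000000000000000000000000000000000000000000000000000000000000000000000000000000,
   0x80000000000000001000000000000000800800800000000108000000200000040000100000000000000004000800000040000010000004000000000000000020000000200000000000020000100040000100000000000000000000000000000000000000000000000000000000000000000000000000000000000000000000000000000000000000000000000000000000000000000000000000000000000000000000000000000000000000000000000000000000000000000000000000000000000000000,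
   0x80000000000000008000000008008002000000000000000040020000800000000200000000000020004100000800000000000010000000000000200020000000000000010200020000001000000000000002000000000000000000000000000000000000000000000000000000000000000000000000000000000000000000000000000000000000000000000000000000000000000000000000000000000000000000000000000000000000000000000000000000000000000000000000000000000000,
   0x2000000000800000000000000004004000800000200000000000000800004000400000200000010000000000400000004000020001000000000000000000800010000020100000000000000008000000080000000000000000000000000000000000000000000000000000000000000000000000000000000000000000000000000000000000000000000000000000000000000000000000000000000000000000000000000000000000000000000000000000000000000000000000000000000000000,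
   0x1000000000000040000002000000800000000000200000000000000204000000000000000080000008008000000040000000000008400000010000002000000000040010004000000020000000000002000100000000000000000000000000000000000000000000000000000000000000000000000000000000000000000000000000000000000000000000000000000000000000000000000000000000000000000000000000000000000000000000000000000000000000000000000000000000000000000,
   0x20080040100000000000000000000000020000000108020010010000000000000000000000002000000000010040020040000000000000000000000008000000000020401000400000000000000000000008000000000000000000000000000000000000000000000000000000000000000000000000000000000000000000000000000000000000000000000000000000000000000000000000000000000000000000000000000000000000000000000000000000000000000000000000000000000000000,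
   0x400000008000000000000000000000880000400000200000000000000200100000000800000000000020000000800100008000080000000100000000800000000000001000000000000804000080000000800000000000000000000000000000000000000000000000000000000000000000000000000000000000000000000000000000000000000000000000000000000000000000000000000000000000000000000000000000000000000000000000000000000000000000000000000000000000000]

/-- Neighbours, part 23. -/
noncomputable def nbs23 : List (List ℕ) :=
  [[904, 979, 995, 1006, 1017, 1410, 1426, 1437, 1448, 1453, 1465, 1480, 1495, 1496, 1508, 1523, 1538, 1542, 1554, 1569, 1584],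
   [922, 948, 964, 991, 1052, 1061, 1120, 1155, 1188, 1205, 1223, 1254, 1314, 1328, 1345, 1367, 1429, 1442, 1465, 1501, 1571],
   [925, 974, 982, 1006, 1031, 1074, 1101, 1186, 1193, 1217, 1255, 1266, 1299, 1337, 1355, 1372, 1416, 1470, 1485, 1517, 1579],
   [901, 1018, 1022, 1026, 1027, 1097, 1222, 1226, 1230, 1231, 1246, 1255, 1374, 1378, 1382, 1383, 1440, 1562, 1566, 1570, 1571],
   [928, 978, 996, 1007, 1012, 1145, 1160, 1175, 1181, 1322, 1337, 1352, 1358, 1411, 1429, 1440, 1445, 1496, 1511, 1526, 1532],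
   [901, 978, 982, 986, 987, 1070, 1079, 1153, 1157, 1161, 1162, 1264, 1341, 1345, 1349, 1350, 1449, 1529, 1533, 1537, 1538],
   [930, 955, 962, 998, 1024, 1069, 1095, 1115, 1168, 1222, 1261, 1317, 1321, 1355, 1379, 1387, 1423, 1454, 1504, 1537, 1572],
   [921, 943, 968, 998, 1049, 1092, 1114, 1145, 1193, 1221, 1243, 1296, 1330, 1361, 1378, 1425, 1447, 1462, 1494, 1520, 1546],
   [900, 948, 989, 1019, 1027, 1070, 1078, 1118, 1164, 1199, 1207, 1263, 1306, 1352, 1387, 1395, 1448, 1494, 1540, 1575, 1583],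
   [897, 973, 990, 995, 1044, 1058, 1061, 1065, 1069, 1132, 1135, 1139, 1143, 1153, 1156, 1160, 1164, 1210, 1213, 1217, 1221],
   [904, 1018, 1034, 1045, 1056, 1190, 1202, 1217, 1232, 1367, 1379, 1394, 1409, 1411, 1427, 1438, 1449, 1541, 1553, 1568, 1583],
   [907, 974, 1001, 1013, 1027, 1065, 1079, 1123, 1188, 1198, 1265, 1281, 1294, 1323, 1394, 1439, 1453, 1462, 1511, 1563, 1578],
   [930, 949, 975, 1005, 1031, 1078, 1123, 1145, 1179, 1197, 1230, 1240, 1308, 1334, 1342, 1396, 1427, 1434, 1467, 1538, 1544],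
   [935, 943, 1001, 1036, 1044, 1073, 1110, 1126, 1151, 1178, 1226, 1241, 1283, 1308, 1332, 1397, 1429, 1435, 1470, 1537, 1541],
   [919, 945, 968, 991, 1056, 1076, 1135, 1150, 1175, 1191, 1212, 1251, 1266, 1295, 1323, 1392, 1419, 1472, 1537, 1554, 1575],
   [918, 953, 973, 1016, 1024, 1076, 1129, 1145, 1167, 1199, 1227, 1265, 1278, 1328, 1349, 1384, 1421, 1438, 1491, 1508, 1562],
   [921, 953, 975, 1012, 1027, 1063, 1088, 1110, 1142, 1159, 1210, 1254, 1299, 1321, 1375, 1406, 1441, 1456, 1500, 1528, 1554],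
   [914, 962, 979, 1000, 1041, 1085, 1128, 1150, 1171, 1217, 1263, 1307, 1328, 1350, 1396, 1412, 1435, 1477, 1500, 1520, 1566],
   [899, 978, 983, 984, 988, 1095, 1177, 1182, 1183, 1187, 1246, 1253, 1329, 1334, 1335, 1339, 1438, 1517, 1522, 1523, 1527],
   [927, 978, 992, 1002, 1009, 1097, 1151, 1163, 1176, 1186, 1236, 1269, 1323, 1333, 1346, 1356, 1447, 1501, 1512, 1525, 1535],
   [909, 963, 987, 1046, 1051, 1080, 1103, 1119, 1181, 1194, 1239, 1255, 1314, 1329, 1396, 1400, 1448, 1452, 1525, 1530, 1553],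
   [936, 951, 986, 1013, 1043, 1061, 1110, 1127, 1177, 1209, 1211, 1255, 1258, 1282, 1333, 1404, 1428, 1457, 1489, 1526, 1542],
   [905, 946, 1010, 1047, 1055, 1088, 1094, 1124, 1164, 1189, 1200, 1258, 1317, 1323, 1330, 1381, 1420, 1455, 1460, 1523, 1579],
   [909, 976, 1000, 1023, 1039, 1083, 1100, 1148, 1164, 1228, 1243, 1304, 1309, 1357, 1374, 1438, 1443, 1463, 1501, 1572, 1576],
   [922, 941, 998, 1037, 1050, 1071, 1110, 1143, 1152, 1169, 1194, 1268, 1291, 1309, 1322, 1395, 1420, 1436, 1472, 1535, 1555],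
   [900, 976, 990, 998, 1047, 1059, 1067, 1133, 1141, 1154, 1162, 1211, 1219, 1244, 1318, 1339, 1396, 1421, 1495, 1516, 1573],
   [933, 947, 997, 1002, 1034, 1071, 1124, 1149, 1193, 1233, 1239, 1273, 1308, 1339, 1343, 1392, 1439, 1468, 1473, 1532, 1542],
   [899, 926, 931, 932, 936, 1195, 1222, 1227, 1228, 1232, 1274, 1281, 1308, 1313, 1314, 1318, 1502, 1529, 1534, 1535, 1539],
   [898, 909, 922, 927, 932, 1149, 1160, 1173, 1178, 1183, 1370, 1381, 1394, 1399, 1404, 1450, 1456, 1467, 1480, 1485, 1490],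
   [895, 949, 980, 983, 1026, 1070, 1073, 1119, 1155, 1158, 1206, 1258, 1307, 1343, 1346, 1394, 1443, 1495, 1531, 1534, 1582],
   [933, 967, 991, 1023, 1057, 1067, 1116, 1121, 1169, 1222, 1253, 1258, 1311, 1325, 1384, 1388, 1426, 1452, 1500, 1540, 1568],
   [897, 902, 905, 909, 913, 1193, 1198, 1201, 1205, 1209, 1274, 1279, 1284, 1287, 1291, 1295, 1500, 1505, 1508, 1512, 1516]]

/-- Masks, part 23. -/
noncomputable def masks23 : List ℕ :=
  [0x1000200040044000800100180010002002100200400040000000000000000000000000000000000000000000000000000000000000000000000000000000000000000000000000200400800080000000000000000010000000000000000000000000000000000000000000000000000000000000000000000000000000000000000000000000000000000000000000000000000000000000000000000000000000000000000000000000000000000000000000000000000000000000000000000000000000000,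
   0x800000000000000002000000002000004002000000000000000800002000100040000000000000040000000800020001000000008000000010000000000000020100000000000000080000010001000000400000000000000000000000000000000000000000000000000000000000000000000000000000000000000000000000000000000000000000000000000000000000000000000000000000000000000000000000000000000000000000000000000000000000000000000000000000000000000,
   0x80000000000000020000000200040000000000001000000000010000800020000000008000000040080000000020000020400000000000000000000200000040000000000800000400000404000000000002000000000000000000000000000000000000000000000000000000000000000000000000000000000000000000000000000000000000000000000000000000000000000000000000000000000000000000000000000000000000000000000000000000000000000000000000000000000000000,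
   0xc4400000000000000000000000000000100000000000000c4400000000000000000000000000000804000c44000000000000000000000000000000200000000000000000c4400000000000000000000000000002000000000000000000000000000000000000000000000000000000000000000000000000000000000000000000000000000000000000000000000000000000000000000000000000000000000000000000000000000000000000000000000000000000000000000000000000000000000,
   0x104000800100000000000021002000080000000000004100020004000000000000000000000000000000000020800100020000000000000000000000000000000010801000040000000000010000000000000000000000000000000000000000000000000000000000000000000000000000000000000000000000000000000000000000000000000000000000000000000000000000000000000000000000000000000000000000000000000000000000000000000000000000000000000000,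
   0x622000000000000000000020000000000000000000000006220000000000000000001000000000000000000000000062200000000000000000080400000000000000000000c440000000000000000002000000000000000000000000000000000000000000000000000000000000000000000000000000000000000000000000000000000000000000000000000000000000000000000000000000000000000000000000000000000000000000000000000000000000000000000000000000000,
   0x1000000002000000010000000000004000000080000000080800000800000002200000000000002000000000400000000000010000000000000800008000002000000000010000004000000004080000040000000000000000000000000000000000000000000000000000000000000000000000000000000000000000000000000000000000000000000000000000000000000000000000000000000000000000000000000000000000000000000000000000000000000000000000000000000000000000,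
   0x400000100000040000000400080000200000000000400020000000400000001000000000000080000200000020000000000020000000400001000000000020000000000004000000100000080000200000000000000000000000000000000000000000000000000000000000000000000000000000000000000000000000000000000000000000000000000000000000000000000000000000000000000000000000000000000000000000000000000000000000000000000000000000000000000,
   0x808000000010000000000040000000000100000000000008080000000100000000000400000000008000000000000080800000001000000000004000000000404000000000080800000020000000001000000000001000000000000000000000000000000000000000000000000000000000000000000000000000000000000000000000000000000000000000000000000000000000000000000000000000000000000000000000000000000000000000000000000000000000000000000000000000000000,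
   0x222400000000001112008890000000000000002224001000000000000840002000000000000000000200000000000000000000000000000000000000000000000000000000000000000000000000000000000000000000000000000000000000000000000000000000000000000000000000000000000000000000000000000000000000000000000000000000000000000000000000000000,
   0x8001000200200000000000000000000002004008000a0004000800800000000000000000000000000000000100020004004000000000000000000000000000000001002004000400000000000000000000000000010000000000000000000000000000000000000000000000000000000000000000000000000000000000000000000000000000000000000000000000000000000000000000000000000000000000000000000000000000000000000000000000000000000000000000000000000000000000,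
   0x40008000000000000800000000000402000800000000004000000000000000008000000400200020000000000000000401000000000000000080000000000800200000000080020020000004000000000000000080000000000000000000000000000000000000000000000000000000000000000000000000000000000000000000000000000000000000000000000000000000000000000000000000000000000000000000000000000000000000000000000000000000000000000000000000000000000,
   0x104000000000000000008000000040800000010000000000000404000001000000000000000010040000000200008000000020000080000000000400000000000800000200000008000002000040000000000000000000000000000000000000000000000000000000000000000000000000000000000000000000000000000000000000000000000000000000000000000000000000000000000000000000000000000000000000000000000000000000000000000000000000000000000000000,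
   0x22000000000000000040000000082000000020000000000000001000001000000800000000020004000000000004000000800000400040000000020000001010000000020000000000000080800000000000000000000000000000000000000000000000000000000000000000000000000000000000000000000000000000000000000000000000000000000000000000000000000000000000000000000000000000000000000000000000000000000000000000000000000000000000000000,
   0x8000040002000000000000000100000000000008000001000000000000000008000000800000040008000000001000008000800000400080000000000000100001000000000000000080000100000200000080000000000000000000000000000000000000000000000000000000000000000000000000000000000000000000000000000000000000000000000000000000000000000000000000000000000000000000000000000000000000000000000000000000000000000000000000000000000000,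
   0x4000000000000100008000000000000400020000000010000000020000100000000000040020000000008000000800000008000020002000000000000100000000000010100000000002000020000000040000000000000000000000000000000000000000000000000000000000000000000000000000000000000000000000000000000000000000000000000000000000000000000000000000000000000000000000000000000000000000000000000000000000000000000000000000000000000,
   0x40000010000001000000000010002000000004000000080000000000002000008000000000040000000000400000000000080004000000040000100000080000000080010000000008000020000000200000000000000000000000000000000000000000000000000000000000000000000000000000000000000000000000000000000000000000000000000000000000000000000000000000000000000000000000000000000000000000000000000000000000000000000000000000000000000,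
   0x40000000000100001000002000000000080000100010000000000040000100000800000000008000000000020000000000080000400001000000000020000000000200000000010000080004000000000004000000000000000000000000000000000000000000000000000000000000000000000000000000000000000000000000000000000000000000000000000000000000000000000000000000000000000000000000000000000000000000000000000000000000000000000000000000000000,
   0x8c2000000000000000000040000000000000000000000008c2000000000000000000204000000000000008c2000000000000000000008000000000000000000000000011840000000000000000000800000000000000000000000000000000000000000000000000000000000000000000000000000000000000000000000000000000000000000000000000000000000000000000000000000000000000000000000000000000000000000000000000000000000000000000000000000000,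
   0x802001002000000000000080000000000000000000001004002008000000000000200000001000000000000401000800800000000000020000000000000000000002040100040000000000008000000000000000000000000000000000000000000000000000000000000000000000000000000000000000000000000000000000000000000000000000000000000000000000000000000000000000000000000000000000000000000000000000000000000000000000000000000000000000,
   0x20000042000000000000000001100000000000110000000000000000200040000000000000080008000000000040020000000000000008000800001000000084000000000000008000008000000000000200000000000000000000000000000000000000000000000000000000000000000000000000000000000000000000000000000000000000000000000000000000000000000000000000000000000000000000000000000000000000000000000000000000000000000000000000000000000,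
   0x40004000000002000000020000001000001000000000000000002000000000000400000480000000000a00000002000000000000800040000000000020000800000020000004000000008001000000000000000000000000000000000000000000000000000000000000000000000000000000000000000000000000000000000000000000000000000000000000000000000000000000000000000000000000000000000000000000000000000000000000000000000000000000000000000000,
   0x80000000000000800000000000000108000000010000000002000000000000408200000000000000400000000000001002000001000000000100000004100000000808000000004000000000000000400000000020000000000000000000000000000000000000000000000000000000000000000000000000000000000000000000000000000000000000000000000000000000000000000000000000000000000000000000000000000000000000000000000000000000000000000000000000000000000,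
   0x11000000000000000002000000000800008400000000000000040002000000000002100000000000000080010000000000000001000100000000000100008000000000080008000010000010000000000000000200000000000000000000000000000000000000000000000000000000000000000000000000000000000000000000000000000000000000000000000000000000000000000000000000000000000000000000000000000000000000000000000000000000000000000000000000000000000,
   0x80000800000000000000100000000100010000008000000000000000004002000080000100000000000000000040000020001008000000040000000008000040020000000004000000000000020000400000000000000000000000000000000000000000000000000000000000000000000000000000000000000000000000000000000000000000000000000000000000000000000000000000000000000000000000000000000000000000000000000000000000000000000000000000000000000,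
   0x2000000000000010000080000000000000000020000010000000000000080000400000000000000000100000080800000000000404002020000000000000000808008000000000004040010000000000000000001000000000000000000000000000000000000000000000000000000000000000000000000000000000000000000000000000000000000000000000000000000000000000000000000000000000000000000000000000000000000000000000000000000000000000000000000000000000,
   0x40100000000000000210000000800000000001000000000000880000001000000002000000008200000000020000000000200000100000000000008000000004000000042000000000000800200000000000000000000000000000000000000000000000000000000000000000000000000000000000000000000000000000000000000000000000000000000000000000000000000000000000000000000000000000000000000000000000000000000000000000000000000000000000000000,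
   0x8c20000004000000000000000000000000000000000000000000000461000000204000000000118400000080000000000000000000000000000000000000000000000000000000000000001184000000800000000000000000000000000000000000000000000000000000000000000000000000000000000000000000000000000000000000000000000000000000000000000000000000000000000000000000000000000000000000000000000000000000000000000000000000000000000,
   0x4210008010400000000001084002004000000000000000000000000000000000000000000000084200100200000000000000000000000000000000000000000000000000000108400200400000000000000000000000000000000000000000000000000000000000000000000000000000000000000000000000000000000000000000000000000000000000000000000000000000000000000000000000000000000000000000000000000000000000000000000000000000000,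
   0x400000000000480000000080000000000008000000000004000000000004800000000800000000000400000000000040000000000048000000008000000000024000000000040000000000900000002000000000000080000000000000000000000000000000000000000000000000000000000000000000000000000000000000000000000000000000000000000000000000000000000000000000000000000000000000000000000000000000000000000000000000000000000000000000000000000000,
   0x100000010000000001000000000001000000400000000110000000000000020008000000000000420000000400000000000020000000000021000000000000802000000008000000080000080000000200000000000000000000000000000000000000000000000000000000000000000000000000000000000000000000000000000000000000000000000000000000000000000000000000000000000000000000000000000000000000000000000000000000000000000000000000000000000000000,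
   0x11121000000000000000000000000000000000000000000000000000889084000000000000000222420000000000000000000000000000000000000000000000000000000000000000000002224200000000000000000000000000000000000000000000000000000000000000000000000000000000000000000000000000000000000000000000000000000000000000000000000000000000000000000000000000000000000000000000000000000000000000000000000000000000]

/-- Neighbours, part 24. -/
noncomputable def nbs24 : List (List ℕ) :=
  [[898, 946, 979, 984, 1025, 1070, 1076, 1116, 1154, 1159, 1205, 1261, 1304, 1342, 1347, 1393, 1446, 1492, 1530, 1535, 1581],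
   [902, 939, 951, 992, 1033, 1076, 1105, 1114, 1160, 1206, 1254, 1283, 1293, 1339, 1385, 1412, 1426, 1455, 1463, 1509, 1555],
   [905, 967, 975, 986, 1050, 1082, 1115, 1186, 1192, 1199, 1244, 1313, 1324, 1329, 1392, 1440, 1446, 1451, 1462, 1521, 1561],
   [896, 939, 941, 982, 1023, 1092, 1133, 1135, 1181, 1227, 1246, 1250, 1285, 1287, 1333, 1379, 1435, 1473, 1475, 1521, 1567],
   [908, 962, 982, 1044, 1056, 1083, 1097, 1118, 1185, 1189, 1245, 1311, 1326, 1329, 1393, 1442, 1456, 1461, 1526, 1531, 1555],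
   [921, 972, 987, 1033, 1055, 1078, 1100, 1154, 1185, 1213, 1265, 1279, 1307, 1333, 1370, 1415, 1440, 1466, 1517, 1552, 1584],
   [899, 975, 990, 997, 1046, 1410, 1415, 1416, 1420, 1484, 1489, 1490, 1494, 1505, 1510, 1511, 1515, 1562, 1567, 1568, 1572],
   [908, 964, 976, 1002, 1022, 1069, 1127, 1180, 1195, 1198, 1266, 1289, 1325, 1330, 1395, 1400, 1435, 1449, 1451, 1515, 1582],
   [900, 950, 958, 1007, 1056, 1069, 1119, 1176, 1233, 1235, 1243, 1285, 1293, 1342, 1350, 1399, 1407, 1420, 1470, 1527, 1584],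
   [926, 976, 980, 1012, 1054, 1091, 1143, 1182, 1230, 1235, 1265, 1283, 1317, 1324, 1356, 1371, 1404, 1442, 1494, 1533, 1581],
   [921, 958, 1009, 1023, 1048, 1073, 1095, 1123, 1149, 1200, 1232, 1268, 1276, 1324, 1352, 1380, 1419, 1461, 1492, 1509, 1562],
   [905, 962, 988, 1048, 1054, 1066, 1141, 1148, 1153, 1214, 1266, 1278, 1285, 1347, 1385, 1439, 1447, 1467, 1534, 1541, 1552],
   [908, 949, 1010, 1043, 1057, 1082, 1135, 1149, 1154, 1208, 1238, 1281, 1284, 1350, 1355, 1406, 1436, 1448, 1479, 1510, 1541],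
   [896, 963, 1012, 1030, 1034, 1059, 1061, 1121, 1123, 1178, 1180, 1199, 1201, 1238, 1300, 1357, 1378, 1415, 1477, 1534, 1555],
   [895, 950, 953, 1002, 1051, 1066, 1116, 1173, 1230, 1245, 1295, 1352, 1409, 1412, 1415, 1462, 1465, 1519, 1522, 1576, 1579],
   [899, 902, 907, 908, 912, 1150, 1153, 1158, 1159, 1163, 1371, 1374, 1379, 1380, 1384, 1450, 1457, 1460, 1465, 1466, 1470],
   [931, 947, 1005, 1032, 1044, 1080, 1116, 1150, 1187, 1192, 1254, 1285, 1300, 1322, 1355, 1404, 1417, 1449, 1484, 1508, 1573],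
   [902, 953, 979, 991, 1032, 1078, 1119, 1152, 1162, 1208, 1236, 1250, 1289, 1324, 1332, 1378, 1428, 1468, 1502, 1511, 1557],
   [899, 966, 1015, 1030, 1037, 1234, 1239, 1240, 1244, 1296, 1301, 1302, 1306, 1353, 1358, 1359, 1363, 1374, 1379, 1380, 1384],
   [936, 941, 999, 1002, 1036, 1066, 1093, 1132, 1157, 1219, 1259, 1295, 1297, 1359, 1366, 1423, 1462, 1479, 1503, 1547, 1579],
   [916, 979, 999, 1004, 1015, 1058, 1078, 1083, 1094, 1101, 1119, 1125, 1140, 1144, 1162, 1168, 1183, 1190, 1208, 1214, 1229],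
   [916, 1019, 1039, 1044, 1055, 1234, 1254, 1259, 1270, 1276, 1294, 1300, 1315, 1322, 1340, 1346, 1361, 1365, 1383, 1389, 1404],
   [905, 948, 1008, 1014, 1042, 1066, 1103, 1108, 1169, 1231, 1266, 1302, 1340, 1368, 1375, 1439, 1447, 1489, 1496, 1507, 1557],
   [923, 952, 995, 1014, 1023, 1074, 1095, 1128, 1144, 1232, 1267, 1282, 1297, 1345, 1380, 1400, 1417, 1487, 1516, 1549, 1562],
   [912, 946, 955, 1012, 1040, 1061, 1108, 1176, 1178, 1212, 1229, 1264, 1267, 1300, 1335, 1372, 1437, 1493, 1497, 1547, 1555],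
   [918, 949, 966, 996, 1049, 1064, 1120, 1154, 1182, 1208, 1249, 1269, 1315, 1350, 1368, 1448, 1463, 1497, 1519, 1549, 1570],
   [911, 966, 972, 1002, 1025, 1063, 1130, 1167, 1183, 1197, 1198, 1266, 1292, 1327, 1330, 1389, 1437, 1445, 1451, 1509, 1585],
   [899, 914, 919, 920, 924, 1098, 1105, 1120, 1125, 1126, 1130, 1326, 1341, 1346, 1347, 1351, 1547, 1562, 1567, 1568, 1572],
   [911, 945, 1006, 1012, 1042, 1085, 1093, 1143, 1144, 1202, 1239, 1283, 1284, 1351, 1388, 1404, 1442, 1475, 1513, 1548, 1551],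
   [900, 913, 915, 923, 936, 1098, 1106, 1119, 1121, 1129, 1142, 1327, 1340, 1342, 1350, 1363, 1548, 1561, 1563, 1571, 1584],
   [895, 946, 989, 1020, 1023, 1091, 1140, 1188, 1224, 1227, 1246, 1249, 1292, 1340, 1376, 1379, 1434, 1480, 1528, 1564, 1567],
   [893, 904, 905, 920, 935, 1144, 1155, 1156, 1171, 1186, 1365, 1376, 1377, 1392, 1407, 1450, 1451, 1462, 1463, 1478, 1493]]

/-- Masks, part 24. -/
noncomputable def masks24 : List ℕ :=
  [0x200000000000840000000010000000000040000000000002000000000008400000000100000000002000000000000020000000000084000000001000000000104000000000020000000001080000000400000000000400000000000000000000000000000000000000000000000000000000000000000000000000000000000000000000000000000000000000000000000000000000000000000000000000000000000000000000000000000000000000000000000000000000000000000000000000000000,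
   0x80000000000200000000000808000000400100000020000000000080000000000200800000040000000000040000000000100000000000402000000100000000002000000000100000000008008000000004000000000000000000000000000000000000000000000000000000000000000000000000000000000000000000000000000000000000000000000000000000000000000000000000000000000000000000000000000000000000000000000000000000000000000000000000000000000,
   0x2000000000200000000000000400841000000000001000000000000000210020000000000000000100000000000810400000000000000000800000004000000040000000000000004008080000000000000020000000000000000000000000000000000000000000000000000000000000000000000000000000000000000000000000000000000000000000000000000000000000000000000000000000000000000000000000000000000000000000000000000000000000000000000000000000000,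
   0x80000000000200000000000a0000000008000000000000080000000000200000000000a0000000044000080000000000200000000000a0000000001000000000000000008000000000400000000028000000000100000000000000000000000000000000000000000000000000000000000000000000000000000000000000000000000000000000000000000000000000000000000000000000000000000000000000000000000000000000000000000000000000000000000000000000000000000000,
   0x80000084000000000000000210004000000000002000000000000000240008000000000000000200000000000002200000000000000004000020008000001001000000000000000400004000000000000100000000000000000000000000000000000000000000000000000000000000000000000000000000000000000000000000000000000000000000000000000000000000000000000000000000000000000000000000000000000000000000000000000000000000000000000000000000000,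
   0x1000000010000000020000000000004000001000000800000000004000000002000000800000080020000000000002000000200000004000000000000100000400000800002000000000008001000000000000200000000000000000000000000000000000000000000000000000000000000000000000000000000000000000000000000000000000000000000000000000000000000000000000000000000000000000000000000000000000000000000000000000000000000000000000000000000000000,
   0x1184000000000008c20046100000000000000011840000000000000000000000000000000000000000000000000000000000000000000000000000000000000000004000000000002040008000000000000000000800000000000000000000000000000000000000000000000000000000000000000000000000000000000000000000000000000000000000000000000000000000000000000000000000000000000000000000000000000000000000000000000000000000000000000000000000000000,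
   0x400000000000000008000000000000000a00080000000108000000000000000420000000020000040000000000000000480010000000000000800000000000002000000000004000040000010010000000000000100000000000000000000000000000000000000000000000000000000000000000000000000000000000000000000000000000000000000000000000000000000000000000000000000000000000000000000000000000000000000000000000000000000000000000000000000000000000,
   0x1000000000000008000000000000040000000000010008080000000000040400000000000202000000000080a00000000000001000000000000008000000000002001000000000000800000000000404000000000001000000000000000000000000000000000000000000000000000000000000000000000000000000000000000000000000000000000000000000000000000000000000000000000000000000000000000000000000000000000000000000000000000000000000000000000000000000000,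
   0x200000000000200000000040000000000004000000001000000008001000000010200000000800020000000840000000000040000000008000000000000800000000400000000010000000110000000000004000000000000000000000000000000000000000000000000000000000000000000000000000000000000000000000000000000000000000000000000000000000000000000000000000000000000000000000000000000000000000000000000000000000000000000000000000000000000000,
   0x4000000000000200010000000200000000008000000001000000100000010000000000010100000000100000001000000000000200000080000008000020000010000008002000000000000400000000200000000000000000000000000000000000000000000000000000000000000000000000000000000000000000000000000000000000000000000000000000000000000000000000000000000000000000000000000000000000000000000000000000000000000000000000000000000000000,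
   0x10020400000000000000008000080800000000000020000000008000000000000002040040000000000004000000000000002102000000000000000000400410000000000000010000004000000000000020000000000000000000000000000000000000000000000000000000000000000000000000000000000000000000000000000000000000000000000000000000000000000000000000000000000000000000000000000000000000000000000000000000000000000000000000000000000,
   0x20000000400000008000000100100000004000000000000840000000000000001200000000004000000100000000000004200080000000000004000002000800000004000000000000002000000000100000000000000000000000000000000000000000000000000000000000000000000000000000000000000000000000000000000000000000000000000000000000000000000000000000000000000000000000000000000000000000000000000000000000000000000000000000000000,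
   0x800004000000000000020000000000000008000000004000020000000000000100000000000000040000000028000140000000000000a0000000000000028000004400010000000000008000000000000000100000000000000000000000000000000000000000000000000000000000000000000000000000000000000000000000000000000000000000000000000000000000000000000000000000000000000000000000000000000000000000000000000000000000000000000000000000000,
   0x90000000000000480000000000002400000000000920000000000000100000000000000800000000000200040000000000000200000000000001000000000000400080000000000040000000000024000000000000080000000000000000000000000000000000000000000000000000000000000000000000000000000000000000000000000000000000000000000000000000000000000000000000000000000000000000000000000000000000000000000000000000000000000000000000000000000,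
   0x461204000000000000000118480000000000000000000000000000000000000000000000000008c2400000000000000000000000000000000000000000000000000000000001184800000000000000000000000000000000000000000000000000000000000000000000000000000000000000000000000000000000000000000000000000000000000000000000000000000000000000000000000000000000000000000000000000000000000000000000000000000000,
   0x2000000000000000100000100000000200000002001000000000000800000004000010002000000040000000000000010800000000400000001000000001000000001001000000200000000000000800080000000000000000000000000000000000000000000000000000000000000000000000000000000000000000000000000000000000000000000000000000000000000000000000000000000000000000000000000000000000000000000000000000000000000000000000000000000000000000,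
   0x200000000000804000000010000000001000000000000400000000001010000000020000000004001000000100000000000401000000008000000000400000000001000000000080080000020000000000004000000000000000000000000000000000000000000000000000000000000000000000000000000000000000000000000000000000000000000000000000000000000000000000000000000000000000000000000000000000000000000000000000000000000000000000000000000000,
   0x1184008c200000000000461000000000000118400000000000000000000000000000000000000000000000020400080000000000040000000000000000800000000000000000000000000000000000000000000000000000000000000000000000000000000000000000000000000000000000000000000000000000000000000000000000000000000000000000000000000000000000000000000000000000000000000000000000000000000,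
   0x80000000800000000008000008000400000000080000000000000408000000000000002800000000800000000080000000000000020000010000000002000000400000010000000048000000000000021000000000000000000000000000000000000000000000000000000000000000000000000000000000000000000000000000000000000000000000000000000000000000000000000000000000000000000000000000000000000000000000000000000000000000000000000000000000000000000,
   0x20004100004080010400011000208000204008400004000000000080108000080000000000000010000000000000000000000000000000000000000000000000000000000000000000000000000000000000000000000000000000000000000000000000000000000000000000000000000000000000000000000000000000000000000000000000000000000000000000000000000000000000,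
   0x1000208000220004100004080010400010400840000400000000000000000000000000000000000000000000801080000800000000000000000000000010000000000000000000000000000000000000000000000000000000000000000000000000000000000000000000000000000000000000000000000000000000000000000000000000000000000000000000000000000000000000000000000000000000000000000000000000000000000000,
   0x200000000000080102000000000080800000000000000081000000100000000040000000040000000080000000000000020000000000000010800000000400000400000041000000000000001000000000020000000000000000000000000000000000000000000000000000000000000000000000000000000000000000000000000000000000000000000000000000000000000000000000000000000000000000000000000000000000000000000000000000000000000000000000000000000000,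
   0x4002000000010000000800000000000000002000100001000000002000000000002000400080000000100000000000000000000010001000000008000040000000000008040000800000000010000000800000000000000000000000000000000000000000000000000000000000000000000000000000000000000000000000000000000000000000000000000000000000000000000000000000000000000000000000000000000000000000000000000000000000000000000000000000000000000,
   0x80800000000000220000000000000200000000000000010000000008000000010000000090000000020001000000005000000000000000010000000000020000100000010000000000000080400000001000000000000000000000000000000000000000000000000000000000000000000000000000000000000000000000000000000000000000000000000000000000000000000000000000000000000000000000000000000000000000000000000000000000000000000000000000000000000,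
   0x400002000000080000200000000800100000000000000000001000040000000080000000000200002000000000100000040000004000000010000000000000100020000000000001000000040002000000040000000000000000000000000000000000000000000000000000000000000000000000000000000000000000000000000000000000000000000000000000000000000000000000000000000000000000000000000000000000000000000000000000000000000000000000000000000000000,
   0x2000000000000000000200000000000000820200000000000200000000000000480000000100000040000000000000000600080008000000004000000000000000080000000020000040000001040000000000000800000000000000000000000000000000000000000000000000000000000000000000000000000000000000000000000000000000000000000000000000000000000000000000000000000000000000000000000000000000000000000000000000000000000000000000000000000000000,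
   0x118400080000000000000000000000000000000000000000000000008c200040000000000000000000000000000000000000000000000004610002040000000000000000000000000000000000000000001184000800000000000000000000000000000000000000000000000000000000000000000000000000000000000000000000000000000000000000000000000000000000000000000000000000000000000000000000000000000000000000000000000000000000000000000000000000000000,
   0x9000000002000000000800000004000000001000100000000080000000000000001800000000008000000004000000000000018000000000002020000000000400000010400000000000000200000000800000000000000000000000000000000000000000000000000000000000000000000000000000000000000000000000000000000000000000000000000000000000000000000000000000000000000000000000000000000000000000000000000000000000000000000000000000000000,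
   0x100080a00100000000000000000000000000000000000000000000008004050008000000000000000000000000000000000000000000000400202800404000000000000000000000000000000000000000100080a001000000000000000000000000000000000000000000000000000000000000000000000000000000000000000000000000000000000000000000000000000000000000000000000000000000000000000000000000000000000000000000000000000000000000000000000000000000000,
   0x90000000010000000000010000000000040000000000000900000000100000000000100000000002400009000000001000000000001000000000000800000000000000009000000020000000000400000000000080000000000000000000000000000000000000000000000000000000000000000000000000000000000000000000000000000000000000000000000000000000000000000000000000000000000000000000000000000000000000000000000000000000000000000000000000000000,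
   0x20004000c00c00000000008001000300200000000000000000000000000000000000000000000400080018010000000000000000000000000000000000000000000000000000800100030020000000000000000000000000000000000000000000000000000000000000000000000000000000000000000000000000000000000000000000000000000000000000000000000000000000000000000000000000000000000000000000000000000000000000000000000000000000]

/-- Neighbours, part 25. -/
noncomputable def nbs25 : List (List ℕ) :=
  [[931, 952, 964, 987, 1045, 1078, 1138, 1154, 1169, 1191, 1224, 1241, 1273, 1307, 1353, 1377, 1432, 1454, 1513, 1547, 1584],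
   [915, 966, 1008, 1020, 1044, 1410, 1425, 1432, 1442, 1456, 1468, 1478, 1491, 1503, 1516, 1526, 1539, 1544, 1555, 1565, 1578],
   [905, 970, 1007, 1015, 1026, 1068, 1126, 1182, 1193, 1198, 1264, 1270, 1295, 1320, 1331, 1390, 1434, 1454, 1461, 1512, 1583],
   [935, 961, 996, 1004, 1023, 1065, 1111, 1176, 1197, 1222, 1253, 1259, 1316, 1320, 1384, 1425, 1458, 1485, 1533, 1552, 1568],
   [930, 951, 989, 1015, 1045, 1075, 1082, 1102, 1160, 1231, 1254, 1283, 1316, 1344, 1366, 1400, 1416, 1482, 1529, 1555, 1563],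
   [896, 943, 979, 981, 1022, 1070, 1074, 1113, 1154, 1156, 1202, 1259, 1301, 1342, 1344, 1390, 1444, 1489, 1530, 1532, 1578],
   [899, 950, 957, 1006, 1055, 1058, 1063, 1064, 1068, 1108, 1113, 1114, 1118, 1165, 1170, 1171, 1175, 1222, 1227, 1228, 1232],
   [914, 961, 1002, 1019, 1040, 1060, 1083, 1124, 1170, 1193, 1213, 1261, 1303, 1349, 1371, 1392, 1439, 1482, 1528, 1549, 1571],
   [897, 938, 941, 945, 949, 1070, 1075, 1108, 1111, 1115, 1119, 1260, 1296, 1299, 1303, 1307, 1445, 1484, 1487, 1491, 1495],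
   [922, 957, 970, 981, 1038, 1092, 1129, 1160, 1178, 1191, 1244, 1260, 1289, 1341, 1404, 1423, 1456, 1507, 1540, 1549, 1566],
   [911, 970, 1005, 1013, 1023, 1082, 1106, 1109, 1157, 1212, 1228, 1241, 1299, 1364, 1373, 1374, 1438, 1444, 1468, 1496, 1572],
   [896, 903, 905, 918, 931, 1098, 1102, 1109, 1111, 1124, 1137, 1323, 1330, 1332, 1345, 1358, 1544, 1551, 1553, 1566, 1579],
   [900, 903, 911, 924, 937, 1151, 1154, 1162, 1175, 1188, 1372, 1375, 1383, 1396, 1409, 1450, 1458, 1461, 1469, 1482, 1495],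
   [895, 904, 907, 922, 937, 1098, 1101, 1110, 1113, 1128, 1143, 1322, 1331, 1334, 1349, 1364, 1543, 1552, 1555, 1570, 1585],
   [930, 944, 995, 1002, 1038, 1085, 1113, 1121, 1186, 1190, 1224, 1247, 1306, 1323, 1373, 1406, 1421, 1447, 1484, 1512, 1565],
   [899, 938, 943, 944, 948, 1095, 1132, 1137, 1138, 1142, 1246, 1253, 1284, 1289, 1290, 1294, 1438, 1472, 1477, 1478, 1482],
   [893, 950, 951, 1000, 1049, 1060, 1061, 1110, 1111, 1167, 1168, 1224, 1225, 1240, 1290, 1347, 1404, 1419, 1469, 1526, 1583],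
   [919, 955, 970, 987, 1036, 1065, 1088, 1119, 1165, 1225, 1247, 1278, 1361, 1371, 1396, 1448, 1478, 1509, 1530, 1543, 1564],
   [925, 954, 999, 1010, 1024, 1071, 1103, 1127, 1151, 1227, 1270, 1277, 1344, 1384, 1399, 1414, 1438, 1493, 1513, 1531, 1562],
   [915, 968, 980, 1004, 1046, 1234, 1249, 1256, 1266, 1282, 1295, 1305, 1318, 1323, 1334, 1344, 1357, 1370, 1382, 1392, 1405],
   [928, 979, 997, 1008, 1013, 1234, 1252, 1263, 1268, 1277, 1292, 1307, 1313, 1320, 1335, 1350, 1356, 1366, 1381, 1396, 1402],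
   [920, 952, 999, 1012, 1029, 1062, 1110, 1141, 1161, 1195, 1210, 1254, 1269, 1301, 1320, 1405, 1443, 1456, 1473, 1527, 1553],
   [906, 974, 1000, 1029, 1037, 1064, 1125, 1133, 1187, 1198, 1260, 1267, 1293, 1323, 1393, 1439, 1452, 1462, 1504, 1513, 1577],
   [915, 1018, 1033, 1040, 1050, 1088, 1196, 1209, 1219, 1232, 1236, 1260, 1368, 1379, 1389, 1402, 1438, 1546, 1558, 1568, 1581],
   [906, 967, 984, 1044, 1051, 1094, 1100, 1110, 1170, 1178, 1207, 1256, 1283, 1292, 1363, 1368, 1421, 1429, 1487, 1505, 1569],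
   [920, 949, 992, 1039, 1052, 1078, 1093, 1139, 1170, 1189, 1267, 1287, 1325, 1342, 1396, 1414, 1457, 1472, 1507, 1538, 1558],
   [937, 952, 968, 984, 1043, 1080, 1106, 1158, 1193, 1229, 1252, 1311, 1330, 1351, 1367, 1414, 1447, 1462, 1480, 1529, 1559],
   [937, 963, 992, 1008, 1024, 1062, 1095, 1117, 1155, 1173, 1222, 1256, 1279, 1315, 1327, 1379, 1428, 1453, 1532, 1551, 1572],
   [924, 954, 1009, 1026, 1044, 1061, 1109, 1143, 1160, 1179, 1210, 1249, 1273, 1302, 1327, 1402, 1446, 1452, 1502, 1522, 1559],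
   [900, 939, 947, 988, 1029, 1070, 1078, 1109, 1117, 1163, 1209, 1263, 1297, 1305, 1351, 1397, 1448, 1485, 1493, 1539, 1585],
   [897, 1018, 1021, 1025, 1029, 1093, 1222, 1225, 1229, 1233, 1246, 1251, 1374, 1377, 1381, 1385, 1436, 1562, 1565, 1569, 1573],
   [926, 974, 1016, 1020, 1052, 1059, 1089, 1105, 1138, 1152, 1186, 1193, 1225, 1266, 1315, 1363, 1402, 1443, 1492, 1540, 1579]]

/-- Masks, part 25. -/
noncomputable def masks25 : List ℕ :=
  [0x1000000000800000002000000000000004000010000000000000200000200000000000800000002000000020001000000008000020004000400000000000000400000002000000000000008000010010000080000000000000000000000000000000000000000000000000000000000000000000000000000000000000000000000000000000000000000000000000000000000000000000000000000000000000000000000000000000000000000000000000000000000000000000000000000000000000000,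
   0x40020080108004010008008004010010004010200040000000000000000000000000000000000000000000000000000000000000000000000000000000000000000001000001001000000000040000000000008000000000000000000000000000000000000000000000000000000000000000000000000000000000000000000000000000000000000000000000000000000000000000000000000000000000000000000000000000000000000000000000000000000000000000000000000000000000000,
   0x800000000000000001000000000000204000040000000000400000000000000801000000800000410000000000000000420040000000000000400000000000001000000000040080800000000400000000000000020000000000000000000000000000000000000000000000000000000000000000000000000000000000000000000000000000000000000000000000000000000000000000000000000000000000000000000000000000000000000000000000000000000000000000000000000000000000,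
   0x100010000200000000000200000040000000200000000010000000000000001100000000000000820000000400000200001000000000000000080000000000200000000008000101000000002000000800000000000000000000000000000000000000000000000000000000000000000000000000000000000000000000000000000000000000000000000000000000000000000000000000000000000000000000000000000000000000000000000000000000000000000000000000000000000000000,
   0x8080000020000000000040000000000000001000100000000400001000000100000000800000040000080000000000000000100000000000000400004080000002000000080000020000000008000040000000000000000000000000000000000000000000000000000000000000000000000000000000000000000000000000000000000000000000000000000000000000000000000000000000000000000000000000000000000000000000000000000000000000000000000000000000000000000,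
   0x40000000000140000000002000000000010000000000000400000000001400000000020000000000800000000000004000000000014000000000200000000044000000000004000000000280000000080000000000100000000000000000000000000000000000000000000000000000000000000000000000000000000000000000000000000000000000000000000000000000000000000000000000000000000000000000000000000000000000000000000000000000000000000000000000000000000,
   0x1184000000000008c2000000000004610000000001184800000000000400000000000204000000000000800000000000000000000000000000000000000000000000000000000000000000000000000000000000000000000000000000000000000000000000000000000000000000000000000000000000000000000000000000000000000000000000000000000000000000000000000000000,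
   0x800002000010000000000040000000000800000000001000008000020000000000080000000002000000000002000020000040000000000100000000008000010000100000800040000000002000000000004000000000000000000000000000000000000000000000000000000000000000000000000000000000000000000000000000000000000000000000000000000000000000000000000000000000000000000000000000000000000000000000000000000000000000000000000000000000000,
   0x88900000000020000000000000000000000000000000000889000000001000000000000000000000000000000000008890000000084000000000000000000000000000002224000000000200000000000000000000000000000000000000000000000000000000000000000000000000000000000000000000000000000000000000000000000000000000000000000000000000000000000000000000000000000000000000000000000000000000000000000000000000000000,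
   0x40002010000000080000000000010000000080001000000000000000200000000000020000001000100000000000008004000100000002000000001000000000000040000000000000200400200000000400000000000000000000000000000000000000000000000000000000000000000000000000000000000000000000000000000000000000000000000000000000000000000000000000000000000000000000000000000000000000000000000000000000000000000000000000000000000000,
   0x1000000000000000000100000010000010400000000000000060100000000000000008000000000000020010001000000000000020000000000024000004000000000000008020200000000400000000000000800000000000000000000000000000000000000000000000000000000000000000000000000000000000000000000000000000000000000000000000000000000000000000000000000000000000000000000000000000000000000000000000000000000000000000000000000000000000,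
   0x800400281000000000000000000000000000000000000000000000040020014080000000000000000000000000000000000000000000002001000a0440000000000000000000000000000000000000000080040028100000000000000000000000000000000000000000000000000000000000000000000000000000000000000000000000000000000000000000000000000000000000000000000000000000000000000000000000000000000000000000000000000000000000000000000000000000000,
   0x80040020240400000000020010008090000000000000000000000000000000000000000000001000800404800000000000000000000000000000000000000000000000000002001000809000000000000000000000000000000000000000000000000000000000000000000000000000000000000000000000000000000000000000000000000000000000000000000000000000000000000000000000000000000000000000000000000000000000000000000000000000000000,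
   0x2000400090080000000000000000000000000000000000000000000100020004804000000000000000000000000000000000000000000008001000240240000000000000000000000000000000000000002000400090080000000000000000000000000000000000000000000000000000000000000000000000000000000000000000000000000000000000000000000000000000000000000000000000000000000000000000000000000000000000000000000000000000000000000000000000000000000,
   0x20000000000001000000100000000080000020004000000020000000000008000400000000000000800001000000004400000000000000020200000020000000000040000000040800000000000100040000000000000000000000000000000000000000000000000000000000000000000000000000000000000000000000000000000000000000000000000000000000000000000000000000000000000000000000000000000000000000000000000000000000000000000000000000000000000000,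
   0x46100000000400000000000000000000000000000000000461000000020400000000000000000000000004610000000008000000000000000000000000000000000001184000000000800000000000000000000000000000000000000000000000000000000000000000000000000000000000000000000000000000000000000000000000000000000000000000000000000000000000000000000000000000000000000000000000000000000000000000000000000000000,
   0x8000000000000040000000000000200000000000080010000000000000080000000000000400000000000100030000000000000180000000000000c000000000003002000000000001000000000000c000000000000020000000000000000000000000000000000000000000000000000000000000000000000000000000000000000000000000000000000000000000000000000000000000000000000000000000000000000000000000000000000000000000000000000000000000000000000000000000,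
   0x10000080040000200000004000000100000000000010000008020000000000000000000040000000800002000000000000002000000000008000000100000200000010000000000008000400080000000080000000000000000000000000000000000000000000000000000000000000000000000000000000000000000000000000000000000000000000000000000000000000000000000000000000000000000000000000000000000000000000000000000000000000000000000000000000000000,
   0x4000000080002000020000000000000400000400080010000000001000000000000000020400000000008000000000000000000800000800000800000008000000000010004008000000000040000002000000000000000000000000000000000000000000000000000000000000000000000000000000000000000000000000000000000000000000000000000000000000000000000000000000000000000000000000000000000000000000000000000000000000000000000000000000000000000,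
   0x2001004004002001004008400200800400040102000400000000000000000000000000000000000000000000004000000000100000100100000000000008000000000000000000000000000000000000000000000000000000000000000000000000000000000000000000000000000000000000000000000000000000000000000000000000000000000000000000000000000000000000000000000000000000000000000000000000000000000000,
   0x410002000401040008001020800100020108010000400000000000000000000000000000000000000000000000000000021002000080000000000010000000000000000000000000000000000000000000000000000000000000000000000000000000000000000000000000000000000000000000000000000000000000000000000000000000000000000000000000000000000000000000000000000000000000000000000000000000000000000,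
   0x20000008000000000000200010008000000002000000000000000000001000020000000200040000000000400080000000200002000000040000000000040000000200010008000000000010000000100000000000000000000000000000000000000000000000000000000000000000000000000000000000000000000000000000000000000000000000000000000000000000000000000000000000000000000000000000000000000000000000000000000000000000000000000000000000000,
   0x20000000000000002010000000000401000800000000002000000000000000008000000200000081000000000000000400800000000000020200000000000000100000020200000010000004000000000000000040000000000000000000000000000000000000000000000000000000000000000000000000000000000000000000000000000000000000000000000000000000000000000000000000000000000000000000000000000000000000000000000000000000000000000000000000000000000,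
   0x200100400400000000000000000000000000400000000400200801000000000000000000000000001000001100080200100000000000000000000000000100000000040102000400000000000000000000000008000000000000000000000000000000000000000000000000000000000000000000000000000000000000000000000000000000000000000000000000000000000000000000000000000000000000000000000000000000000000000000000000000000000000000000000000000000000000,
   0x200000000000000020000800000000000002020000000000001080000000000000000100800000100000000000080000004040000000000000040104000000000081000000000000001000080000000000000040000000000000000000000000000000000000000000000000000000000000000000000000000000000000000000000000000000000000000000000000000000000000000000000000000000000000000000000000000000000000000000000000000000000000000000000000000000000,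
   0x400004000000080000000100020000000000400010000000000000400020000000008000080000000000000000002000040000000800000000002000400000100080000000000100000000002000000100000000000000000000000000000000000000000000000000000000000000000000000000000000000000000000000000000000000000000000000000000000000000000000000000000000000000000000000000000000000000000000000000000000000000000000000000000000000000,
   0x800000020000000000010000400080000000400000000000800080000400008000000000000010000020000000020000000040000000000004000001000000000800000000000001000100010002000000000000000000000000000000000000000000000000000000000000000000000000000000000000000000000000000000000000000000000000000000000000000000000000000000000000000000000000000000000000000000000000000000000000000000000000000000000000000000,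
   0x1000008000100000000000000000002000001000000000000800000000000080080000000080000100000000400000000000200008000000002000008000000040000000010001000100000008000002000000000000000000000000000000000000000000000000000000000000000000000000000000000000000000000000000000000000000000000000000000000000000000000000000000000000000000000000000000000000000000000000000000000000000000000000000000000000000000,
   0x800000000400004000000000001040000000000400000000000000000080000040000002000002000000000400000008000100008000000020000000000020001000040002000000000000040000001000000000000000000000000000000000000000000000000000000000000000000000000000000000000000000000000000000000000000000000000000000000000000000000000000000000000000000000000000000000000000000000000000000000000000000000000000000000000000,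
   0x2000000000008000000000020200000000100000000000020000000000080000000000202000000008000000000000200000000000800000000002020000000404000000000200000000010000000000808000000001000000000000000000000000000000000000000000000000000000000000000000000000000000000000000000000000000000000000000000000000000000000000000000000000000000000000000000000000000000000000000000000000000000000000000000000000000000000,
   0x2224000000000000000000000000000000100000000000022240000000000000000000000000000008400222400000000000000000000000000000002000000000000000222400000000000000000000000000000200000000000000000000000000000000000000000000000000000000000000000000000000000000000000000000000000000000000000000000000000000000000000000000000000000000000000000000000000000000000000000000000000000000000000000000000000000000,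
   0x80000000010000000000010000000000008000000000400000000080000000000080000000000040000000002000000020400000001000400000002000200000008100000001100000000004000000000004000000000000000000000000000000000000000000000000000000000000000000000000000000000000000000000000000000000000000000000000000000000000000000000000000000000000000000000000000000000000000000000000000000000000000000000000000000000000000]

/-- Neighbours, part 26. -/
noncomputable def nbs26 : List (List ℕ) :=
  [[893, 944, 987, 1020, 1021, 1070, 1071, 1114, 1162, 1200, 1201, 1256, 1302, 1350, 1388, 1389, 1441, 1490, 1538, 1576, 1577],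
   [913, 944, 1012, 1041, 1057, 1089, 1125, 1148, 1160, 1196, 1261, 1297, 1318, 1322, 1377, 1414, 1429, 1460, 1526, 1564, 1582],
   [916, 938, 958, 963, 974, 1100, 1118, 1124, 1139, 1277, 1295, 1301, 1316, 1411, 1431, 1436, 1447, 1451, 1469, 1475, 1490],
   [916, 1018, 1038, 1043, 1054, 1059, 1079, 1084, 1095, 1189, 1207, 1213, 1228, 1366, 1384, 1390, 1405, 1543, 1561, 1567, 1582],
   [922, 972, 988, 1004, 1031, 1061, 1115, 1133, 1165, 1200, 1233, 1254, 1277, 1359, 1373, 1390, 1429, 1442, 1481, 1510, 1546],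
   [926, 971, 979, 1009, 1050, 1060, 1092, 1137, 1148, 1180, 1226, 1270, 1316, 1326, 1359, 1405, 1448, 1495, 1504, 1538, 1584],
   [906, 964, 971, 1007, 1024, 1080, 1102, 1152, 1161, 1232, 1245, 1253, 1303, 1356, 1374, 1446, 1469, 1497, 1507, 1567, 1575],
   [928, 939, 957, 968, 973, 1410, 1428, 1439, 1444, 1451, 1466, 1481, 1487, 1497, 1512, 1527, 1533, 1543, 1558, 1573, 1579],
   [906, 949, 957, 1014, 1040, 1084, 1091, 1127, 1162, 1192, 1263, 1311, 1321, 1331, 1373, 1382, 1416, 1460, 1522, 1530, 1584],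
   [925, 951, 1014, 1022, 1046, 1064, 1137, 1163, 1178, 1210, 1250, 1279, 1303, 1322, 1407, 1431, 1442, 1458, 1520, 1558, 1576],
   [903, 1018, 1031, 1041, 1051, 1060, 1075, 1192, 1201, 1214, 1227, 1253, 1370, 1380, 1393, 1406, 1431, 1548, 1559, 1572, 1585],
   [924, 974, 981, 1033, 1057, 1066, 1084, 1117, 1165, 1226, 1250, 1276, 1330, 1364, 1392, 1441, 1457, 1477, 1512, 1531, 1548],
   [900, 967, 1016, 1030, 1038, 1068, 1130, 1187, 1208, 1245, 1307, 1364, 1385, 1411, 1419, 1473, 1481, 1530, 1538, 1551, 1559],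
   [903, 938, 951, 961, 971, 1079, 1106, 1117, 1130, 1143, 1236, 1251, 1278, 1287, 1300, 1313, 1429, 1456, 1466, 1479, 1492],
   [912, 968, 971, 1005, 1021, 1066, 1075, 1124, 1186, 1198, 1268, 1290, 1321, 1397, 1399, 1432, 1458, 1502, 1510, 1564, 1581],
   [893, 947, 980, 981, 1024, 1089, 1141, 1179, 1180, 1228, 1246, 1247, 1293, 1331, 1332, 1380, 1432, 1481, 1519, 1520, 1568],
   [922, 958, 997, 1010, 1021, 1068, 1084, 1138, 1158, 1210, 1247, 1283, 1300, 1325, 1376, 1409, 1444, 1453, 1526, 1557, 1575],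
   [907, 961, 973, 987, 1054, 1089, 1102, 1173, 1195, 1208, 1263, 1290, 1342, 1357, 1367, 1376, 1417, 1431, 1495, 1505, 1565],
   [934, 960, 994, 1028, 1053, 1087, 1107, 1136, 1146, 1204, 1248, 1262, 1280, 1362, 1391, 1413, 1471, 1474, 1506, 1524, 1574],
   [917, 956, 977, 1011, 1028, 1077, 1096, 1099, 1122, 1172, 1203, 1242, 1312, 1338, 1369, 1386, 1424, 1483, 1499, 1518, 1580],
   [932, 953, 982, 1035, 1047, 1069, 1123, 1150, 1177, 1205, 1257, 1280, 1309, 1338, 1343, 1403, 1426, 1440, 1494, 1525, 1541],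
   [918, 969, 989, 1006, 1036, 1096, 1107, 1128, 1156, 1190, 1212, 1240, 1294, 1341, 1375, 1403, 1425, 1445, 1454, 1536, 1571],
   [898, 910, 915, 920, 933, 1194, 1206, 1211, 1216, 1229, 1274, 1280, 1292, 1297, 1302, 1315, 1501, 1513, 1518, 1523, 1536],
   [916, 978, 998, 1003, 1014, 1146, 1164, 1170, 1185, 1235, 1255, 1260, 1271, 1320, 1338, 1344, 1359, 1497, 1515, 1521, 1536],
   [924, 969, 986, 1004, 1034, 1073, 1097, 1106, 1181, 1216, 1270, 1281, 1301, 1338, 1366, 1413, 1467, 1486, 1517, 1551, 1585],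
   [929, 959, 965, 993, 1028, 1066, 1112, 1174, 1193, 1222, 1257, 1319, 1323, 1354, 1380, 1430, 1438, 1451, 1486, 1536, 1567],
   [930, 958, 984, 1035, 1042, 1071, 1107, 1140, 1175, 1192, 1245, 1271, 1299, 1353, 1381, 1437, 1452, 1486, 1510, 1518, 1583],
   [897, 964, 1013, 1030, 1035, 1410, 1413, 1417, 1421, 1472, 1475, 1479, 1483, 1529, 1532, 1536, 1540, 1550, 1553, 1557, 1561],
   [910, 969, 1003, 1028, 1035, 1081, 1095, 1104, 1162, 1227, 1237, 1307, 1310, 1342, 1360, 1374, 1448, 1459, 1464, 1498, 1568],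
   [910, 941, 1016, 1041, 1055, 1083, 1121, 1139, 1146, 1207, 1244, 1251, 1284, 1347, 1403, 1441, 1483, 1486, 1504, 1509, 1546],
   [913, 969, 1005, 1022, 1037, 1092, 1103, 1115, 1146, 1219, 1257, 1273, 1282, 1332, 1388, 1406, 1416, 1477, 1518, 1539, 1550],
   [935, 945, 997, 1003, 1033, 1063, 1107, 1132, 1163, 1200, 1216, 1257, 1287, 1361, 1372, 1399, 1428, 1436, 1483, 1496, 1578]]

/-- Masks, part 26. -/
noncomputable def masks26 : List ℕ :=
  [0x3000000000400000000000400000000000200000000000030000000004000000000004000000000010000000000000300000000040000000000040000000000c000000000003000000008000000000100000000000020000000000000000000000000000000000000000000000000000000000000000000000000000000000000000000000000000000000000000000000000000000000000000000000000000000000000000000000000000000000000000000000000000000000000000000000000000000,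
   0x400010000000004000000000000000100000002000400000000200000000000004400002000000002000000000000000100000000100100000200000000200000002000200000010000000000000000100000002000000000000000000000000000000000000000000000000000000000000000000000000000000000000000000000000000000000000000000000000000000000000000000000000000000000000000000000000000000000000000000000000000000000000000000000000000000000000,
   0x4000820000880108000080000000000000000000000100020800020000000000000000000000000000000000800104000100000000000000000000000000000004008400004000010000000000000000000000000000000000000000000000000000000000000000000000000000000000000000000000000000000000000000000000000000000000000000000000000000000000000000000000000000000000000000000000000000000000000000000000000000000000000,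
   0x400082000080000000000000000000000000000000002000410000400000000000000000000000000000000010002080002000000000000000000000008010800008400840000400000000000000000000000010000000000000000000000000000000000000000000000000000000000000000000000000000000000000000000000000000000000000000000000000000000000000000000000000000000000000000000000000000000000000000000000000000000000000000000000000000000000000,
   0x400000000400000020000000004002000000000400020008000000000000000000020000040000200000001000000002000000020000800000000000020000000800000100010001000000000000400000000000000000000000000000000000000000000000000000000000000000000000000000000000000000000000000000000000000000000000000000000000000000000000000000000000000000000000000000000000000000000000000000000000000000000000000000000000000,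
   0x1000000000004000000010080000000000100000000002000000000008000000040100000000000400000000004000000000010000000100200000000001000000010040000000002000000080800000000004000000000000000000000000000000000000000000000000000000000000000000000000000000000000000000000000000000000000000000000000000000000000000000000000000000000000000000000000000000000000000000000000000000000000000000000000000000000000000,
   0x8080000000000000080200000020000040000000000000000040001000000000000080000000000020200100000000000000000201000000000000400001000000000000010000800000000810000000000000040000000000000000000000000000000000000000000000000000000000000000000000000000000000000000000000000000000000000000000000000000000000000000000000000000000000000000000000000000000000000000000000000000000000000000000000000000000000,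
   0x82000400080208001000200820004000810801000040000000000000000000000000000000000000000000000000000000000000000000000000000000000000000000000000000000000002100200008010000000000000000000000000000000000000000000000000000000000000000000000000000000000000000000000000000000000000000000000000000000000000000000000000000000000000000000000000000000000000000000000000000000000000000000000000000000000000000,
   0x1000000000000040400000000000000100000000001000000004020000000000802008000000000008000000000000000010000000400000000800000000810000000000100000040000000000000202000000000040000000000000000000000000000000000000000000000000000000000000000000000000000000000000000000000000000000000000000000000000000000000000000000000000000000000000000000000000000000000000000000000000000000000000000000000000000000000,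
   0x10000400000000100000000000000040004008000008000000000000000000004000080000080000004000000000400000004000800000200000000000000000100004000004040000000000000008000002000000000000000000000000000000000000000000000000000000000000000000000000000000000000000000000000000000000000000000000000000000000000000000000000000000000000000000000000000000000000000000000000000000000000000000000000000000000000000,
   0x2001000801000000000000000000000000000008000004002001004000000000000000000000000000020000008004002010000000000000000000000000000080010080200800400000000000000000000000000008000000000000000000000000000000000000000000000000000000000000000000000000000000000000000000000000000000000000000000000000000000000000000000000000000000000000000000000000000000000000000000000000000000000000000000000000000000000,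
   0x1000080001000000002000020002000000000001000000100000000400000000000010000004000004000000000000002000000000002000000010000402000002000000000000204000000000001000000000000000000000000000000000000000000000000000000000000000000000000000000000000000000000000000000000000000000000000000000000000000000000000000000000000000000000000000000000000000000000000000000000000000000000000000000000000000,
   0x808004040000000000020200000000000008080000020000100000000000000800000000000000200000000100000800000000000004000000000000001000000040400100000000000080000000000000001000000000000000000000000000000000000000000000000000000000000000000000000000000000000000000000000000000000000000000000000000000000000000000000000000000000000000000000000000000000000000000000000000000000000000000000000000000000,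
   0x10008004010000002000000000000000000000000000020010008040000008001000000000000000000000008004002004000000800000000000000000000000000802008004000000008000000000000000000000000000000000000000000000000000000000000000000000000000000000000000000000000000000000000000000000000000000000000000000000000000000000000000000000000000000000000000000000000000000000000000000000000000000000,
   0x2000100000000000004040000000000400000100000000a0000000000000000002000000040000100000000000000000400400000000000000100000000000080400000000002000200000000900000000000001000000000000000000000000000000000000000000000000000000000000000000000000000000000000000000000000000000000000000000000000000000000000000000000000000000000000000000000000000000000000000000000000000000000000000000000000000000000000,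
   0x100000000000180000000020000000000010000000000001000000000001800000000200000000000c00010000000000018000000002000000000000200000000000000010000000000300000000800000000000020000000000000000000000000000000000000000000000000000000000000000000000000000000000000000000000000000000000000000000000000000000000000000000000000000000000000000000000000000000000000000000000000000000000000000000000000000000,
   0x8000200000004000000000000000002010000000020000000100000000000020000010000800000000800000000400000000000040000400000000000010001000000000002004002000000000400000000400000000000000000000000000000000000000000000000000000000000000000000000000000000000000000000000000000000000000000000000000000000000000000000000000000000000000000000000000000000000000000000000000000000000000000000000000000000000000,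
   0x20000000000000020080000000000000008002000000000100802000400000000000040000008000000000000100080000200000000000000000400200000000400000000000000008002002000000000000080000000000000000000000000000000000000000000000000000000000000000000000000000000000000000000000000000000000000000000000000000000000000000000000000000000000000000000000000000000000000000000000000000000000000000000000000000000000,
   0x4000000000001000040000000480000000000000200000800000040000000000000000000100004001000000000010000000000000040100000008000080000000200000100000000400000001000000400000000000000000000000000000000000000000000000000000000000000000000000000000000000000000000000000000000000000000000000000000000000000000000000000000000000000000000000000000000000000000000000000000000000000000000000000000000000000000,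
   0x100000000000000040000800080000000000000100000000040002000000040000010000000000000000040000000008000000100000000000040000090000200000000000100008000000020000100000000020000000000000000000000000000000000000000000000000000000000000000000000000000000000000000000000000000000000000000000000000000000000000000000000000000000000000000000000000000000000000000000000000000000000000000000000000000000000000,
   0x20002000000040000000000001000400000800000000000000840000002000000100000200000000000020000002000000400000080000000000002000008008000000000000400000020000100000000000000000000000000000000000000000000000000000000000000000000000000000000000000000000000000000000000000000000000000000000000000000000000000000000000000000000000000000000000000000000000000000000000000000000000000000000000000000,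
   0x800000001000000000000000000004020000200000800000080000000200000000000400000000000010000001000004000000010000001000008010000000000000010000000400020000200000000000040000000000000000000000000000000000000000000000000000000000000000000000000000000000000000000000000000000000000000000000000000000000000000000000000000000000000000000000000000000000000000000000000000000000000000000000000000000000000,
   0x1000842002000000000000000000000000000000000000000000000080042100104000000000020010840040000000000000000000000000000000000000000000000000000000000000000200108400400000000000000000000000000000000000000000000000000000000000000000000000000000000000000000000000000000000000000000000000000000000000000000000000000000000000000000000000000000000000000000000000000000000000000000000000000000000,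
   0x1000208000200000000000000000000000000000000008001040001000000000000801080000800000000000200041000040000000000000000000000000000000040084000040000000000000010000000000000000000000000000000000000000000000000000000000000000000000000000000000000000000000000000000000000000000000000000000000000000000000000000000000000000000000000000000000000000000000000000000000000000000000000000000000000,
   0x2000000008000000020000000400008000000000000200000000000400000040000000020000200400000000000010000000020000000000000000004020000020000000004000000100004000200000000001000000000000000000000000000000000000000000000000000000000000000000000000000000000000000000000000000000000000000000000000000000000000000000000000000000000000000000000000000000000000000000000000000000000000000000000000000000000000000,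
   0x80000001000000000000400000000800404000000000001000000400000008800000000000000200000000400000020000400000000000000100000000000400000000100000000200000020800000020000000000000000000000000000000000000000000000000000000000000000000000000000000000000000000000000000000000000000000000000000000000000000000000000000000000000000000000000000000000000000000000000000000000000000000000000000000000000000,
   0x800000000000000040400000400000001000200000000000002000000200000000000008000000800000200000000000010000800000001000000008000000008000000408000000000001000000400000040000000000000000000000000000000000000000000000000000000000000000000000000000000000000000000000000000000000000000000000000000000000000000000000000000000000000000000000000000000000000000000000000000000000000000000000000000000000000000,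
   0x2224011120000000000088900000000000022240000000000000000000000000000000000000000000000000000000000000000000000000000000000000000000008400020000000000010000000000000000200000000000000000000000000000000000000000000000000000000000000000000000000000000000000000000000000000000000000000000000000000000000000000000000000000000000000000000000000000000000000000000000000000000000000000000000000000000,
   0x100000000000000000400000001080100000000000000000040010000400000004800000000000000002008000000000000000400000000000001008002000000000008100000080000000200000000000000400000000000000000000000000000000000000000000000000000000000000000000000000000000000000000000000000000000000000000000000000000000000000000000000000000000000000000000000000000000000000000000000000000000000000000000000000000000000,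
   0x400000000210000480000000002000000000800000000000008000000000000001000000008100000000080000000000000040800020000000008000000800200000100000000000000000020000000400000000000000000000000000000000000000000000000000000000000000000000000000000000000000000000000000000000000000000000000000000000000000000000000000000000000000000000000000000000000000000000000000000000000000000000000000000000000,
   0x4008000040000000002000000000000001004000100000000000001000000000000402000200000000080000000000000000040000000800801000000000000020004000200000000200000000000002000000000000000000000000000000000000000000000000000000000000000000000000000000000000000000000000000000000000000000000000000000000000000000000000000000000000000000000000000000000000000000000000000000000000000000000000000000000000,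
   0x40000000000000000000100080000000000101000000080000010020000000000000000008000000200000000010001000000000800000010000008000000000080000002000000082000000000000200800000000000000000000000000000000000000000000000000000000000000000000000000000000000000000000000000000000000000000000000000000000000000000000000000000000000000000000000000000000000000000000000000000000000000000000000000000000000000000]

/-- Neighbours, part 27. -/
noncomputable def nbs27 : List (List ℕ) :=
  [[910, 976, 1001, 1015, 1021, 1089, 1107, 1112, 1149, 1221, 1224, 1259, 1277, 1338, 1387, 1405, 1420, 1427, 1478, 1534, 1550],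
   [904, 1019, 1035, 1046, 1057, 1058, 1074, 1085, 1096, 1100, 1112, 1127, 1142, 1146, 1158, 1173, 1188, 1189, 1201, 1216, 1231],
   [909, 966, 971, 1003, 1027, 1096, 1111, 1145, 1218, 1223, 1256, 1280, 1324, 1340, 1402, 1415, 1431, 1482, 1486, 1535, 1550],
   [921, 969, 983, 1008, 1038, 1067, 1112, 1165, 1199, 1230, 1249, 1271, 1280, 1331, 1363, 1389, 1444, 1455, 1483, 1511, 1542],
   [936, 946, 973, 1003, 1031, 1079, 1082, 1112, 1183, 1196, 1252, 1305, 1321, 1371, 1403, 1413, 1484, 1516, 1518, 1552, 1569],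
   [899, 1018, 1023, 1024, 1028, 1086, 1210, 1215, 1216, 1220, 1271, 1398, 1403, 1404, 1408, 1422, 1429, 1550, 1555, 1556, 1560],
   [910, 963, 988, 995, 1049, 1096, 1101, 1171, 1197, 1202, 1257, 1271, 1293, 1358, 1370, 1413, 1473, 1491, 1505, 1573, 1576],
   [893, 894, 895, 896, 897, 898, 899, 900, 901, 902, 903, 904, 905, 906, 907, 908, 909, 910, 911, 912, 913, 914, 915, 916, 917, 918, 919, 920, 921, 922, 923, 924, 925, 926, 927, 928, 929, 930, 931, 932, 933, 934, 935, 936, 937, 938, 939, 940, 941, 942, 943, 944, 945, 946, 947, 948, 949, 950, 951, 952, 953, 954, 955, 956, 957, 958, 959, 960, 961, 962, 963, 964, 965, 966, 967, 968, 969, 970, 971, 972, 973, 974, 975, 976, 977, 978, 979, 980, 981, 982, 983, 984, 985, 986, 987, 988, 989, 990, 991, 992, 993, 994, 995, 996, 997, 998, 999, 1000, 1001, 1002, 1003, 1004, 1005, 1006, 1007, 1008, 1009, 1010, 1011, 1012, 1013, 1014, 1015, 1016, 1017, 1018, 1019, 1020, 1021, 1022, 1023, 1024, 1025, 1026, 1027, 1028, 1029, 1030, 1031, 1032, 1033, 1034, 1035, 1036,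 1037, 1038, 1039, 1040, 1041, 1042, 1043, 1044, 1045, 1046, 1047, 1048, 1049, 1050, 1051, 1052, 1053, 1054, 1055, 1056, 1057, 1058, 1059, 1060, 1061, 1062, 1063, 1064, 1065, 1066, 1067, 1068, 1069, 1070, 1071, 1072, 1073, 1074, 1075, 1076, 1077, 1078, 1079, 1080, 1081, 1082, 1083, 1084, 1085, 1086, 1087, 1088, 1089, 1090, 1091, 1092, 1093, 1094, 1095, 1096, 1097, 1098, 1099, 1100, 1101, 1102, 1103, 1104, 1105, 1106, 1107, 1108, 1109, 1110, 1111, 1112, 1113, 1114, 1115, 1116, 1117, 1118, 1119, 1120, 1121, 1122, 1123, 1124, 1125, 1126, 1127, 1128, 1129, 1130, 1131, 1132, 1133, 1134, 1135, 1136, 1137, 1138, 1139, 1140, 1141, 1142, 1143, 1144, 1145, 1146, 1147, 1148, 1149, 1150, 1151, 1152, 1153, 1154, 1155, 1156, 1157, 1158, 1159, 1160, 1161, 1162, 1163, 1164, 1165, 1166, 1167, 1168, 1169, 1170, 1171, 1172, 1173, 1174, 1175, 1176, 1177, 1178, 1179, 1180, 1181, 1182, 1183, 1184, 1185, 1186, 1187, 1188, 1189, 1190, 1191, 1192, 1193, 1194, 1195, 1196, 1197, 1198, 1199, 1200, 1201, 1202, 1203, 1204, 1205,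 1206, 1207, 1208, 1209, 1210, 1211, 1212, 1213, 1214, 1215, 1216, 1217, 1218, 1219, 1220, 1221, 1222, 1223, 1224, 1225, 1226, 1227, 1228, 1229, 1230, 1231, 1232, 1233, 1234, 1235, 1236, 1237, 1238, 1239, 1240, 1241, 1242, 1243, 1244, 1245, 1246, 1247, 1248, 1249, 1250, 1251, 1252, 1253, 1254, 1255, 1256, 1257, 1258, 1259, 1260, 1261, 1262, 1263, 1264, 1265, 1266, 1267, 1268, 1269, 1270, 1271, 1272, 1273, 1274, 1275, 1276, 1277, 1278, 1279, 1280, 1281, 1282, 1283, 1284, 1285, 1286, 1287, 1288, 1289, 1290, 1291, 1292, 1293, 1294, 1295, 1296, 1297, 1298, 1299, 1300, 1301, 1302, 1303, 1304, 1305, 1306, 1307, 1308, 1309, 1310, 1311, 1312, 1313, 1314, 1315, 1316, 1317, 1318, 1319, 1320, 1321, 1322, 1323, 1324, 1325, 1326, 1327, 1328, 1329, 1330, 1331, 1332, 1333, 1334, 1335, 1336, 1337, 1338, 1339, 1340, 1341, 1342, 1343, 1344, 1345, 1346, 1347, 1348, 1349, 1350, 1351, 1352, 1353, 1354, 1355, 1356, 1357, 1358, 1359, 1360, 1361, 1362, 1363, 1364, 1365, 1366, 1367, 1368, 1369, 1370, 1371, 1372, 1373, 1374,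 1375, 1376, 1377, 1378, 1379, 1380, 1381, 1382, 1383, 1384, 1385, 1386, 1387, 1388, 1389, 1390, 1391, 1392, 1393, 1394, 1395, 1396, 1397, 1398, 1399, 1400, 1401, 1402, 1403, 1404, 1405, 1406, 1407, 1408, 1409, 1410, 1411, 1412, 1413, 1414, 1415, 1416, 1417, 1418, 1419, 1420, 1421, 1422, 1423, 1424, 1425, 1426, 1427, 1428, 1429, 1430, 1431, 1432, 1433, 1434, 1435, 1436, 1437, 1438, 1439, 1440, 1441, 1442, 1443, 1444, 1445, 1446, 1447, 1448, 1449, 1450, 1451, 1452, 1453, 1454, 1455, 1456, 1457, 1458, 1459, 1460, 1461, 1462, 1463, 1464, 1465, 1466, 1467, 1468, 1469, 1470, 1471, 1472, 1473, 1474, 1475, 1476, 1477, 1478, 1479, 1480, 1481, 1482, 1483, 1484, 1485, 1486, 1487, 1488, 1489, 1490, 1491, 1492, 1493, 1494, 1495, 1496, 1497, 1498, 1499, 1500, 1501, 1502, 1503, 1504, 1505, 1506, 1507, 1508, 1509, 1510, 1511, 1512, 1513, 1514, 1515, 1516, 1517, 1518, 1519, 1520, 1521, 1522, 1523, 1524, 1525, 1526, 1527, 1528, 1529, 1530, 1531, 1532, 1533, 1534, 1535, 1536, 1537, 1538, 1539, 1540, 1541, 1542, 1543,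 1544, 1545, 1546, 1547, 1548, 1549, 1550, 1551, 1552, 1553, 1554, 1555, 1556, 1557, 1558, 1559, 1560, 1561, 1562, 1563, 1564, 1565, 1566, 1567, 1568, 1569, 1570, 1571, 1572, 1573, 1574, 1575, 1576, 1577, 1578, 1579, 1580, 1581, 1582, 1583, 1584, 1585],
   [910, 948, 955, 1009, 1043, 1096, 1126, 1152, 1157, 1191, 1257, 1271, 1313, 1325, 1383, 1413, 1460, 1528, 1531, 1563, 1581],
   [905, 968, 974, 1002, 1028, 1090, 1119, 1147, 1154, 1216, 1263, 1271, 1275, 1286, 1336, 1403, 1418, 1476, 1538, 1545, 1550],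
   [896, 950, 954, 1003, 1052, 1062, 1112, 1169, 1226, 1239, 1289, 1346, 1403, 1411, 1413, 1461, 1463, 1518, 1520, 1575, 1577],
   [927, 938, 952, 962, 969, 1060, 1093, 1102, 1112, 1125, 1135, 1271, 1280, 1291, 1304, 1314, 1449, 1458, 1470, 1483, 1493],
   [908, 970, 1003, 1017, 1029, 1084, 1096, 1113, 1144, 1217, 1258, 1280, 1285, 1339, 1401, 1414, 1481, 1486, 1537, 1547, 1550],
   [919, 947, 996, 1035, 1050, 1096, 1112, 1133, 1146, 1167, 1216, 1241, 1264, 1296, 1356, 1385, 1423, 1492, 1502, 1527, 1544],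
   [901, 902, 906, 910, 911, 1098, 1107, 1108, 1112, 1116, 1117, 1328, 1329, 1333, 1337, 1338, 1549, 1550, 1554, 1558, 1559],
   [914, 967, 980, 1003, 1045, 1059, 1080, 1107, 1129, 1148, 1168, 1195, 1216, 1257, 1306, 1345, 1393, 1434, 1483, 1522, 1570],
   [907, 969, 1007, 1025, 1039, 1094, 1105, 1118, 1146, 1155, 1213, 1257, 1269, 1278, 1335, 1409, 1419, 1480, 1518, 1533, 1550],
   [895, 910, 925, 928, 931, 1146, 1161, 1176, 1179, 1182, 1367, 1382, 1397, 1400, 1403, 1450, 1453, 1468, 1483, 1486, 1489],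
   [910, 969, 1003, 1028, 1035, 1061, 1131, 1134, 1166, 1184, 1198, 1272, 1283, 1288, 1322, 1392, 1433, 1447, 1456, 1514, 1579],
   [912, 972, 1000, 1026, 1035, 1088, 1091, 1114, 1151, 1214, 1261, 1276, 1326, 1334, 1407, 1413, 1483, 1485, 1519, 1536, 1550],
   [923, 943, 992, 1035, 1054, 1065, 1107, 1120, 1180, 1209, 1250, 1271, 1318, 1349, 1365, 1443, 1466, 1486, 1503, 1518, 1566],
   [894, 940, 942, 985, 1028, 1070, 1072, 1110, 1112, 1160, 1208, 1257, 1298, 1300, 1348, 1396, 1442, 1486, 1488, 1536, 1584],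
   [893, 969, 990, 991, 1040, 1064, 1138, 1159, 1216, 1243, 1317, 1338, 1395, 1412, 1413, 1486, 1487, 1507, 1508, 1564, 1565],
   [937, 944, 1003, 1032, 1048, 1076, 1109, 1130, 1146, 1225, 1238, 1271, 1308, 1338, 1376, 1394, 1432, 1465, 1500, 1536, 1548],
   [910, 961, 975, 981, 1056, 1068, 1075, 1137, 1153, 1216, 1265, 1280, 1352, 1355, 1373, 1378, 1435, 1469, 1518, 1536, 1543],
   [926, 939, 969, 1010, 1051, 1096, 1107, 1141, 1187, 1233, 1236, 1268, 1279, 1311, 1357, 1403, 1446, 1457, 1490, 1536, 1582],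
   [903, 957, 999, 1020, 1035, 1234, 1247, 1257, 1267, 1280, 1290, 1303, 1316, 1327, 1338, 1351, 1364, 1368, 1377, 1390, 1403],
   [900, 949, 979, 987, 1028, 1096, 1143, 1178, 1186, 1232, 1246, 1254, 1295, 1330, 1338, 1384, 1439, 1483, 1518, 1526, 1572],
   [922, 951, 1012, 1028, 1044, 1078, 1107, 1124, 1146, 1228, 1253, 1266, 1280, 1350, 1379, 1413, 1462, 1495, 1512, 1530, 1562]]

/-- Masks, part 27. -/
noncomputable def masks27 : List ℕ :=
  [0x4000400000000000004000000000000810002000080000000000040000000000000020000800000001200000000000000000200000000108000200000000000000002080020000010000000000000000400000000000000000000000000000000000000000000000000000000000000000000000000000000000000000000000000000000000000000000000000000000000000000000000000000000000000000000000000000000000000000000000000000000000000000000000000000000000,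
   0x80010002003000200040044000800100110020040006004008000800000000000000000000000000010000000000000000000000000000000000000000000000000000000000000000000000000000000000000000000000000000000000000000000000000000000000000000000000000000000000000000000000000000000000000000000000000000000000000000000000000000000000,
   0x4000800000000000440000000000008000800400000000000000100010000000000100000100000000840000000000000000020000000080010000000000000000080000080000000840000000000000200000000000000000000000000000000000000000000000000000000000000000000000000000000000000000000000000000000000000000000000000000000000000000000000000000000000000000000000000000000000000000000000000000000000000000000000000000000000,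
   0x40000000800000080000008010000000000000200000080000000800000000000100800002000040000000800000002000000000000100000000000800000040000001000000800200000000000200000000000000000000000000000000000000000000000000000000000000000000000000000000000000000000000000000000000000000000000000000000000000000000000000000000000000000000000000000000000000000000000000000000000000000000000000000000000000,
   0x200010000000050000000100000000000000000200800000008000000000002000200000000000010000000000000100080000000000000000100000004800000000000800000080000002000000401000000000000000000000000000000000000000000000000000000000000000000000000000000000000000000000000000000000000000000000000000000000000000000000000000000000000000000000000000000000000000000000000000000000000000000000000000000000000000000,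
   0x1184000000000000000000000000000002040011840000000000000000000000000000000800000000000118400000000000000000000000000000040000000000000118400000000000000000000000000000800000000000000000000000000000000000000000000000000000000000000000000000000000000000000000000000000000000000000000000000000000000000000000000000000000000000000000000000000000000000000000000000000000000000000000000000000000000,
   0x12000000000000000020008000200000000000000200000000004004000000000000000200000800200000000000004200000080000000000000000210000000000020000000000000810000008000000000000400000000000000000000000000000000000000000000000000000000000000000000000000000000000000000000000000000000000000000000000000000000000000000000000000000000000000000000000000000000000000000000000000000000000000000000000000000000000,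
   0x3ffffffffffffffffffffffffffffffffffffffffffffffffffffffffffffffffffffffffffffffffffffffffffffffffffffffffffffffffffffffffffffffffffffffffffffffffffffffffffffffffffffffffffffe0000000000000000000000000000000000000000000000000000000000000000000000000000000000000000000000000000000000000000000000000000000000000000000000000000000000000000000000000000000000000000000000000000000000000000000000000000000,
   0x200008000000090000000000000000100000000000200000008000000000000020020000000000800200000000000000008000000021000000400000010000000000000800000002000000000000081000000000400000000000000000000000000000000000000000000000000000000000000000000000000000000000000000000000000000000000000000000000000000000000000000000000000000000000000000000000000000000000000000000000000000000000000000000000000000000000,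
   0x4204000000000000001000000000000004000800000000000000010000000000004008808000000000010000000000000004080000008000000400000000000000100000040000004100000000000000020000000000000000000000000000000000000000000000000000000000000000000000000000000000000000000000000000000000000000000000000000000000000000000000000000000000000000000000000000000000000000000000000000000000000000000000000000000000,
   0x28000000000000140000000000000a00000000000280800000000000004000000000000020000000000008004000000000000020000000000000100000000000040100000000000080000000000044000000000000100000000000000000000000000000000000000000000000000000000000000000000000000000000000000000000000000000000000000000000000000000000000000000000000000000000000000000000000000000000000000000000000000000000000000000000000000000000,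
   0x20080040040200000000000000000000000000000000040100080100800000000000000000000000000000000080200100402000000010000000000000000000000204010004008000000000000000000000000000000000000000000000000000000000000000000000000000000000000000000000000000000000000000000000000000000000000000000000000000000000000000000000000000000000000000000000000000000000000000000000000000000000000000,
   0x4802000000000000420000000000000000400200000000000000080000000000002100000400000000020000000000000000010000000200010010000000000000200200080000000400000000000000100000000000000000000000000000000000000000000000000000000000000000000000000000000000000000000000000000000000000000000000000000000000000000000000000000000000000000000000000000000000000000000000000000000000000000000000000000000000,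
   0x100008000004010000000000000000080000000020000001000000000000001000000010000020000010000000000008000040020000100010000000000040008000000001000000000000800000080000000000000000000000000000000000000000000000000000000000000000000000000000000000000000000000000000000000000000000000000000000000000000000000000000000000000000000000000000000000000000000000000000000000000000000000000000000000000,
   0xc46000000000000000000000000000000000000000000000000000062300000000000000000000000000000000000000000000000000003118040000000000000000000000000000000000000000000000c46000000000000000000000000000000000000000000000000000000000000000000000000000000000000000000000000000000000000000000000000000000000000000000000000000000000000000000000000000000000000000000000000000000000000000000000000000000000,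
   0x400000000000400000000080000000000040000000002000000000002000000000400000000000200000000010000080000010000100002000008000001000008002000000000080000100080000000000004000000000000000000000000000000000000000000000000000000000000000000000000000000000000000000000000000000000000000000000000000000000000000000000000000000000000000000000000000000000000000000000000000000000000000000000000000000000000,
   0x4000200040000000010000000000000008020000000000000000008000000000000040200200000000002000000000000008040000004002004000000000000080020000800000000200000000000000080000000000000000000000000000000000000000000000000000000000000000000000000000000000000000000000000000000000000000000000000000000000000000000000000000000000000000000000000000000000000000000000000000000000000000000000000000000000,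
   0x2480010002400000000000920004000800000000000000000000000000000000000000000000049000200040000000000000000000000000000000000000000000000000000092000400080000000000000000000000000000000000000000000000000000000000000000000000000000000000000000000000000000000000000000000000000000000000000000000000000000000000000000000000000000000000000000000000000000000000000000000000000000000,
   0x80000000000000004000000000000010080020000000001000000000000000004000000010801000000000000000000400100004000000048000000000000000020000008100000080000000200000000000000400000000000000000000000000000000000000000000000000000000000000000000000000000000000000000000000000000000000000000000000000000000000000000000000000000000000000000000000000000000000000000000000000000000000000000000000000000000000,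
   0x4001000080000000280000000000000000208000000000000000004040000000000010002000000000004000000000000000800000000400000900000000000008040000010000001000000000000001000000000000000000000000000000000000000000000000000000000000000000000000000000000000000000000000000000000000000000000000000000000000000000000000000000000000000000000000000000000000000000000000000000000000000000000000000000000000,
   0x40000000000040008000400004000008000000000000000000200020000000400000000000800004000000000200000010000000000000010008000000000200400008000000000100000000000080000800000000000000000000000000000000000000000000000000000000000000000000000000000000000000000000000000000000000000000000000000000000000000000000000000000000000000000000000000000000000000000000000000000000000000000000000000000000000000,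
   0x1000000000001000000000001400000000004000000000010000000000010000000000014000000000200000000000100000000000100000000000140000000014000000000100000000002000000000050000000000040000000000000000000000000000000000000000000000000000000000000000000000000000000000000000000000000000000000000000000000000000000000000000000000000000000000000000000000000000000000000000000000000000000000000000000000000000000,
   0x30000000000000180000c000000000000000003000080000000000000400002000000000000000000800000100000000000000800004000000000000000001000001000000000000c0000200000000000000000020000000000000000000000000000000000000000000000000000000000000000000000000000000000000000000000000000000000000000000000000000000000000000000000000000000000000000000000000000000000000000000000000000000000000000000000000000000,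
   0x1001000000001000000002000000010000000004000100000000040000001000000000800000004002000000000000000000040004000020000000100000010001000000080000000000000102000000000000000000000000000000000000000000000000000000000000000000000000000000000000000000000000000000000000000000000000000000000000000000000000000000000000000000000000000000000000000000000000000000000000000000000000000000000000000000,
   0x81000040000000000020000000080000000000000420000900000000000000000100020000000000010000000000000002000200000000000000081001000000000000000000208002000000000000400000000000000000000000000000000000000000000000000000000000000000000000000000000000000000000000000000000000000000000000000000000000000000000000000000000000000000000000000000000000000000000000000000000000000000000000000000000000,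
   0x400000000001000000000004000000020040000000000800000000002000000000008000000080100000001200000000000800000000002000000008010000000000080000000004000000000200000008004000000000000000000000000000000000000000000000000000000000000000000000000000000000000000000000000000000000000000000000000000000000000000000000000000000000000000000000000000000000000000000000000000000000000000000000000000000000000000,
   0x800400201100080040080100080040100080200800400000000000000000000000000000000000000000000000008001000008000000000200000000000008000000000000000000000000000000000000000000000000000000000000000000000000000000000000000000000000000000000000000000000000000000000000000000000000000000000000000000000000000000000000000000000000000000000000000000000000000000000,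
   0x1000000000004040000000080000000000800000000000010000000000040400000000800000000040400100000000000404000000008000000000010000000000000000100000000008080000002000000000001000000000000000000000000000000000000000000000000000000000000000000000000000000000000000000000000000000000000000000000000000000000000000000000000000000000000000000000000000000000000000000000000000000000000000000000000000000000,
   0x4000000040001000080000000400000000000200000000800000040000000000000000100040020000010000000000000000000040000100008000000400000001000100010000000000000008000000400000000000000000000000000000000000000000000000000000000000000000000000000000000000000000000000000000000000000000000000000000000000000000000000000000000000000000000000000000000000000000000000000000000000000000000000000000000000000]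

/-- The certificate. -/
noncomputable def data : PSUData 2 1 1 6 where
  mats := mats
  matsT := matsT
  cols := cols
  colsT := colsT
  imgs := imgs
  imgsT := imgsT
  us := us
  lefts := lefts
  rights := rights
  dL := 893
  dR := 693
  w := 11
  tab := tab
  fx := [0, 871]
  Bl := [871, 0, 1, 872, 873, 874, 875, 876, 877, 878, 879, 880, 881, 882, 883, 884, 885, 886, 887, 888, 889, 890, 891, 892]
  combos := [[0, -1, 1, 0, 0, 0, 0, 0, 0, 0, 0, 0, 0, 0, 0, 0, 0, 0, 0, 0, 0, 0, 0, 0], [0, 1, 1, 0, 0, 0, 0, 0, 0, 0, 0, 0, 0, 0, 0, 0, 0, 0, 0, 0, 0, 0, 0, 0], [-2, -1, 1, 2, 0, 0, 0, 0, 0, 0, 0, 0, 0, 0, 0, 0, 0, 0, 0, 0, 0, 0, 0, 0], [-2, -1, 1, 0, 2, 0, 0, 0, 0, 0, 0, 0, 0, 0, 0, 0, 0, 0, 0, 0, 0, 0, 0, 0], [-2, -1, 1, 0, 0, 2, 0, 0, 0, 0, 0, 0, 0, 0, 0, 0, 0, 0, 0, 0, 0, 0, 0, 0], [-2, -1, 1, 0, 0, 0, 2, 0, 0, 0, 0, 0, 0, 0, 0, 0, 0, 0, 0, 0, 0, 0, 0, 0], [-2, -1, 1, 0, 0, 0, 0, 2, 0, 0, 0, 0, 0, 0, 0, 0, 0, 0, 0, 0, 0, 0, 0, 0], [-2, -1, 1, 0, 0, 0, 0, 0, 2, 0, 0, 0, 0, 0, 0, 0, 0, 0, 0, 0, 0, 0,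 0, 0], [-2, -1, 1, 0, 0, 0, 0, 0, 0, 2, 0, 0, 0, 0, 0, 0, 0, 0, 0, 0, 0, 0, 0, 0], [-2, -1, 1, 0, 0, 0, 0, 0, 0, 0, 2, 0, 0, 0, 0, 0, 0, 0, 0, 0, 0, 0, 0, 0], [-2, -1, 1, 0, 0, 0, 0, 0, 0, 0, 0, 2, 0, 0, 0, 0, 0, 0, 0, 0, 0, 0, 0, 0], [-2, -1, 1, 0, 0, 0, 0, 0, 0, 0, 0, 0, 2, 0, 0, 0, 0, 0, 0, 0, 0, 0, 0, 0], [-2, -1, 1, 0, 0, 0, 0, 0, 0, 0, 0, 0, 0, 2, 0, 0, 0, 0, 0, 0, 0, 0, 0, 0], [-2, -1, 1, 0, 0, 0, 0, 0, 0, 0, 0, 0, 0, 0, 2, 0, 0, 0, 0, 0, 0, 0, 0, 0], [-2, -1, 1, 0, 0, 0, 0, 0, 0, 0, 0, 0, 0, 0, 0, 2, 0, 0, 0, 0, 0, 0, 0, 0], [-2, -1, 1, 0, 0, 0, 0, 0, 0, 0, 0, 0, 0, 0, 0, 0, 2, 0, 0, 0, 0, 0, 0, 0], [-2, -1, 1, 0, 0, 0, 0, 0, 0, 0, 0, 0, 0, 0, 0, 0, 0, 2, 0, 0, 0, 0, 0, 0], [-2, -1, 1, 0, 0, 0, 0, 0, 0, 0, 0, 0, 0, 0, 0, 0, 0, 0, 2, 0, 0, 0, 0, 0], [-2, -1, 1, 0, 0, 0, 0, 0, 0, 0, 0, 0, 0, 0, 0, 0, 0, 0, 0, 2, 0, 0, 0, 0], [-2, -1, 1, 0, 0, 0, 0, 0, 0, 0, 0, 0, 0, 0, 0, 0, 0, 0, 0, 0, 2, 0, 0, 0], [-2, -1, 1, 0, 0, 0, 0, 0, 0, 0, 0, 0, 0, 0, 0, 0, 0, 0, 0, 0, 0, 2, 0, 0], [-2, -1, 1, 0, 0,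 0, 0, 0, 0, 0, 0, 0, 0, 0, 0, 0, 0, 0, 0, 0, 0, 0, 2, 0], [-2, -1, 1, 0, 0, 0, 0, 0, 0, 0, 0, 0, 0, 0, 0, 0, 0, 0, 0, 0, 0, 0, 0, 2], [2, 1, -1, 0, 0, 0, 0, 0, 0, 0, 0, 0, 0, 0, 0, 0, 0, 0, 0, 0, 0, 0, 0, 0]]
  den := 1
  Br := [1318, 893, 1193, 961, 1128, 1366, 1299]
  winv := [[0, 0, 2, 1, 2, 3], [0, 1, 1, 2, 1, 3], [1, 1, 2, 2, 0, 2], [3, 3, 2, 2, 0, 1], [3, 3, 1, 3, 3, 0], [1, 1, 0, 2, 0, 1]]
  chain := [lev0, lev1, lev2, lev3, lev4]
  nbs := [nbs0, nbs1, nbs2, nbs3, nbs4, nbs5, nbs6, nbs7, nbs8, nbs9, nbs10, nbs11, nbs12, nbs13, nbs14, nbs15, nbs16, nbs17, nbs18, nbs19, nbs20, nbs21, nbs22, nbs23, nbs24, nbs25, nbs26, nbs27]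
  masks := [masks0, masks1, masks2, masks3, masks4, masks5, masks6, masks7, masks8, masks9, masks10, masks11, masks12, masks13, masks14, masks15, masks16, masks17, masks18, masks19, masks20, masks21, masks22, masks23, masks24, masks25, masks26, masks27]

end Cfsg.Agent.Leech.PSU62
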